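import Mathlib
import Groth.Agent.Lib.Helper63.CompletionNoeth

/-! An algebra map inducing bijections on all truncations induces an isomorphism of adic
completions (helper9). -/

set_option autoImplicit false

namespace Groth.Agent.Lib.Helper9.AdicComplEquiv

open AdicCompletion Groth.Agent.Lib.Helper63.CompletionNoeth

variable {R A B : Type*} [CommRing R] [CommRing A] [CommRing B] [Algebra R A] [Algebra R B]

lemma pow_le_comap (J : Ideal A) (I : Ideal B) (Φ : A →ₐ[R] B) (hΦ : J ≤ I.comap Φ) (n : ℕ) :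
    J ^ n ≤ (I ^ n).comap Φ := by
  rw [← Ideal.map_le_iff_le_comap, Ideal.map_pow]
  exact Ideal.pow_right_mono (Ideal.map_le_iff_le_comap.2 hΦ) n

/-- The induced map on truncations. -/
noncomputable def trunc (J : Ideal A) (I : Ideal B) (Φ : A →ₐ[R] B) (hΦ : J ≤ I.comap Φ) (n : ℕ) :
    (A ⧸ J ^ n) →ₐ[R] (B ⧸ I ^ n) :=
  Ideal.quotientMapₐ (I ^ n) Φ (pow_le_comap J I Φ hΦ n)

lemma trunc_mk (J : Ideal A) (I : Ideal B) (Φ : A →ₐ[R] B) (hΦ : J ≤ I.comap Φ) (n : ℕ) (a : A) :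
    trunc J I Φ hΦ n (Ideal.Quotient.mk _ a) = Ideal.Quotient.mk _ (Φ a) := rfl

lemma trunc_bijective (J : Ideal A) (I : Ideal B) (Φ : A →ₐ[R] B) (hΦ : J ≤ I.comap Φ)
    (hinj : ∀ n a, Φ a ∈ I ^ n → a ∈ J ^ n)
    (hsurj : ∀ n b, ∃ a, b - Φ a ∈ I ^ n) (n : ℕ) :
    Function.Bijective (trunc J I Φ hΦ n) := by
  constructor
  · rw [injective_iff_map_eq_zero]
    intro x hx
    obtain ⟨a, rfl⟩ := Ideal.Quotient.mk_surjective x
    rw [trunc_mk, Ideal.Quotient.eq_zero_iff_mem] at hx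
    exact Ideal.Quotient.eq_zero_iff_mem.2 (hinj n a hx)
  · intro y
    obtain ⟨b, rfl⟩ := Ideal.Quotient.mk_surjective y
    obtain ⟨a, ha⟩ := hsurj n b
    refine ⟨Ideal.Quotient.mk _ a, ?_⟩
    rw [trunc_mk]
    exact (Ideal.Quotient.mk_eq_mk_iff_sub_mem _ _).2 (by
      have : Φ a - b = -(b - Φ a) := by ring
      rw [this]; exact (I ^ n).neg_mem ha)

theorem exists_algEquiv (J : Ideal A) (I : Ideal B) (Φ : A →ₐ[R] B) (hΦ : J ≤ I.comap Φ)
    (hinj : ∀ n a, Φ a ∈ I ^ n → a ∈ J ^ n)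
    (hsurj : ∀ n b, ∃ a, b - Φ a ∈ I ^ n) :
    Nonempty (AdicCompletion J A ≃ₐ[R] AdicCompletion I B) := by
  have hbij := trunc_bijective J I Φ hΦ hinj hsurj
  let ε : ∀ n, (A ⧸ J ^ n) ≃ₐ[R] (B ⧸ I ^ n) := fun n =>
    AlgEquiv.ofBijective (trunc J I Φ hΦ n) (hbij n)
  have hε : ∀ n x, ε n x = trunc J I Φ hΦ n x := fun n x => rfl
  have hcompat : ∀ {m n : ℕ} (hle : m ≤ n) (x : A ⧸ J ^ n),
      Ideal.Quotient.factorₐ R (Ideal.pow_le_pow_right hle) (trunc J I Φ hΦ n x) =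
        trunc J I Φ hΦ m (Ideal.Quotient.factorₐ R (Ideal.pow_le_pow_right hle) x) := by
    intro m n hle x
    obtain ⟨a, rfl⟩ := Ideal.Quotient.mk_surjective x
    rfl
  have hcompat' : ∀ {m n : ℕ} (hle : m ≤ n) (y : B ⧸ I ^ n),
      Ideal.Quotient.factorₐ R (Ideal.pow_le_pow_right hle) ((ε n).symm y) =
        (ε m).symm (Ideal.Quotient.factorₐ R (Ideal.pow_le_pow_right hle) y) := by
    intro m n hle y
    obtain ⟨x, rfl⟩ := (ε n).surjective y
    rw [AlgEquiv.symm_apply_apply, hε, hcompat hle, ← hε m, AlgEquiv.symm_apply_apply]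
  have hevA : ∀ {m n : ℕ} (hle : m ≤ n) (x : AdicCompletion J A),
      Ideal.Quotient.factorₐ R (Ideal.pow_le_pow_right hle) (evalₐ J n x) = evalₐ J m x :=
    fun hle x => evalₐ_factorPow J hle x
  have hevB : ∀ {m n : ℕ} (hle : m ≤ n) (x : AdicCompletion I B),
      Ideal.Quotient.factorₐ R (Ideal.pow_le_pow_right hle) (evalₐ I n x) = evalₐ I m x :=
    fun hle x => evalₐ_factorPow I hle x
  let F : AdicCompletion J A →ₐ[R] AdicCompletion I B :=
    AdicCompletion.liftAlgHom I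
      (fun n => (trunc J I Φ hΦ n).comp ((evalₐ J n).restrictScalars R))
      (by
        intro m n hle
        ext x
        simp only [AlgHom.comp_apply, AlgHom.restrictScalars_apply]
        rw [hcompat hle, hevA hle])
  let G : AdicCompletion I B →ₐ[R] AdicCompletion J A :=
    AdicCompletion.liftAlgHom J
      (fun n => ((ε n).symm : (B ⧸ I ^ n) →ₐ[R] (A ⧸ J ^ n)).comp ((evalₐ I n).restrictScalars R))
      (by
        intro m n hle
        ext x
        simp only [AlgHom.comp_apply, AlgHom.restrictScalars_apply, AlgEquiv.coe_algHom]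
        rw [hcompat' hle, hevB hle])
  have hF : ∀ n x, evalₐ I n (F x) = trunc J I Φ hΦ n (evalₐ J n x) := by
    intro n x
    simp only [F]
    rw [AdicCompletion.evalₐ_liftAlgHom]
    rfl
  have hG : ∀ n y, evalₐ J n (G y) = (ε n).symm (evalₐ I n y) := by
    intro n y
    simp only [G]
    rw [AdicCompletion.evalₐ_liftAlgHom]
    rfl
  refine ⟨AlgEquiv.ofAlgHom F G ?_ ?_⟩
  · refine AlgHom.ext (fun y => ?_)
    refine AdicCompletion.ext_evalₐ (fun n => ?_)
    simp only [AlgHom.comp_apply, AlgHom.id_apply]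
    rw [hF, hG, ← hε, AlgEquiv.apply_symm_apply]
  · refine AlgHom.ext (fun x => ?_)
    refine AdicCompletion.ext_evalₐ (fun n => ?_)
    simp only [AlgHom.comp_apply, AlgHom.id_apply]
    rw [hG, hF, ← hε, AlgEquiv.symm_apply_apply]

end Groth.Agent.Lib.Helper9.AdicComplEquiv
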