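/-
Helper library (helper9): Steinitz exchange for generating lists of an ideal in a local ring, for
an abstract predicate on lists invariant under permutations, unit multiples of the head and adding
elements of the ideal of the tail to the head.
-/
import Mathlib

set_option autoImplicit false
set_option linter.style.haveILetI false
universe u

namespace Groth.Agent.Lib.Helper9.KoszulExch

variable {R : Type u} [CommRing R]

/-- the ideal generated by a list -/
def sp (l : List R) : Ideal R := Ideal.span {z | z ∈ l}

theorem mem_sp {l : List R} {a : R} (h : a ∈ l) : a ∈ sp l := Ideal.subset_span h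

theorem sp_le_iff {l : List R} {J : Ideal R} : sp l ≤ J ↔ ∀ a ∈ l, a ∈ J := by
  unfold sp
  rw [Ideal.span_le]
  rfl

theorem sp_nil : sp ([] : List R) = ⊥ := by
  rw [eq_bot_iff, sp_le_iff]
  intro a ha
  cases ha

theorem sp_mono {l l' : List R} (h : ∀ a ∈ l, a ∈ l') : sp l ≤ sp l' :=
  sp_le_iff.mpr fun a ha => mem_sp (h a ha)

theorem sp_cons (a : R) (l : List R) : sp (a :: l) = Ideal.span (insert a {z | z ∈ l}) := by
  unfold sp
  congr 1
  ext z
  simp

theorem sp_append (l l' : List R) : sp (l ++ l') = sp l ⊔ sp l' := by
  unfold sp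
  rw [← Ideal.span_union]
  congr 1
  ext z
  simp

theorem sp_perm {l l' : List R} (h : l.Perm l') : sp l = sp l' := by
  unfold sp
  congr 1
  ext z
  exact h.mem_iff

section exchange

variable [IsLocalRing R] (Q : List R → Prop)

theorem exists_pivot (I : Ideal R) (p : List R) : ∀ (m : List R), (∀ y ∈ m, y ∈ I) → ∀ x : R,
    x ∈ sp (p ++ m) → x ∉ sp p ⊔ IsLocalRing.maximalIdeal R • I →
    ∃ (m1 : List R) (y : R) (m2 : List R) (e : Rˣ), m = m1 ++ y :: m2 ∧
      x - e * y ∈ sp (p ++ (m1 ++ m2)) := by
  intro m
  induction m with
  | nil =>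
    intro _ x hx hx'
    rw [List.append_nil] at hx
    exact absurd (Ideal.mem_sup_left hx) hx'
  | cons y m' ih =>
    intro hm x hx hx'
    have hperm : (p ++ y :: m').Perm (y :: (p ++ m')) := List.perm_middle
    rw [sp_perm hperm, sp_cons, Ideal.mem_span_insert] at hx
    obtain ⟨e, z, hz, rfl⟩ := hx
    by_cases he : IsUnit e
    · refine ⟨[], y, m', he.unit, rfl, ?_⟩
      rw [IsUnit.unit_spec, List.nil_append]
      have : e * y + z - e * y = z := by ring
      rw [this]
      exact hz
    · have hey : e * y ∈ IsLocalRing.maximalIdeal R • I := by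
        rw [smul_eq_mul]
        exact Ideal.mul_mem_mul ((IsLocalRing.mem_maximalIdeal e).mpr he) (hm y (List.mem_cons_self))
      have hz' : z ∉ sp p ⊔ IsLocalRing.maximalIdeal R • I := by
        intro hz'
        exact hx' (add_mem (Ideal.mem_sup_right hey) hz')
      obtain ⟨m1, y', m2, e', rfl, h'⟩ :=
        ih (fun y hy => hm y (List.mem_cons_of_mem _ hy)) z hz hz'
      refine ⟨y :: m1, y', m2, e', rfl, ?_⟩
      have : e * y + z - e' * y' = e * y + (z - e' * y') := by ring
      rw [this]
      refine add_mem (Ideal.mul_mem_left _ _ (mem_sp ?_)) (sp_mono ?_ h')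
      · simp
      · intro a ha
        simp only [List.mem_append, List.mem_cons] at ha ⊢
        tauto

variable {Q}
  (hperm : ∀ {l l' : List R}, l.Perm l' → (Q l ↔ Q l'))
  (hunit : ∀ (u : Rˣ) (a : R) (l : List R), Q (((u : R) * a) :: l) ↔ Q (a :: l))
  (hadd : ∀ (l : List R) (t : R), t ∈ sp l → ∀ a : R, Q (a :: l) ↔ Q ((a + t) :: l))

include hperm hunit hadd

theorem exchange_aux (I : Ideal R) (r : ℕ)
    (hmin : ∀ h : List R, sp h = I → r ≤ h.length) :
    ∀ (s p m : List R), p.length + s.length = r → m.length = s.length → sp (p ++ s) = I →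
      sp (p ++ m) = I → (Q (p ++ m) ↔ Q (p ++ s)) := by
  intro s
  induction s with
  | nil =>
    intro p m _ hm _ _
    rw [List.length_nil, List.length_eq_zero_iff] at hm
    rw [hm]
  | cons x s' ih =>
    intro p m hlen hm hs hpm
    have hxI : x ∈ I := by
      rw [← hs]
      exact mem_sp (by simp)
    have hmI : ∀ y ∈ m, y ∈ I := fun y hy => by
      rw [← hpm]
      exact mem_sp (by simp [hy])
    have hx' : x ∉ sp p ⊔ IsLocalRing.maximalIdeal R • I := by
      intro hx
      have hle : I ≤ sp (p ++ s') ⊔ IsLocalRing.maximalIdeal R • I := by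
        conv_lhs => rw [← hs]
        rw [sp_le_iff]
        intro a ha
        simp only [List.mem_append, List.mem_cons] at ha
        rcases ha with ha | rfl | ha
        · exact Ideal.mem_sup_left (mem_sp (by simp [ha]))
        · have hmono : sp p ≤ sp (p ++ s') := sp_mono (by intro b hb; simp [hb])
          exact (sup_le_sup_right hmono (IsLocalRing.maximalIdeal R • I)) hx
        · exact Ideal.mem_sup_left (mem_sp (by simp [ha]))
      have hfg : I.FG := by
        rw [← hs]
        exact Submodule.fg_span (List.finite_toSet _)
      have h1 : I ≤ sp (p ++ s') :=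
        Submodule.le_of_le_smul_of_le_jacobson_bot hfg
          (IsLocalRing.jacobson_eq_maximalIdeal ⊥ bot_ne_top).ge hle
      have h2 : sp (p ++ s') ≤ I := by
        rw [← hs]
        exact sp_mono (by intro a ha; simp only [List.mem_append, List.mem_cons] at ha ⊢; tauto)
      have := hmin _ (le_antisymm h2 h1)
      rw [List.length_append] at this
      rw [List.length_cons] at hlen
      omega
    obtain ⟨m1, y, m2, e, rfl, hxy⟩ := exists_pivot I p m hmI x (by rw [hpm]; exact hxI) hx'
    have e1 : Q (p ++ (m1 ++ y :: m2)) ↔ Q (y :: (p ++ (m1 ++ m2))) := by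
      apply hperm
      rw [← List.append_assoc, ← List.append_assoc]
      exact List.perm_middle
    have e2 : Q (y :: (p ++ (m1 ++ m2))) ↔ Q (((e : R) * y) :: (p ++ (m1 ++ m2))) :=
      (hunit e y _).symm
    have e3 : Q (((e : R) * y) :: (p ++ (m1 ++ m2))) ↔ Q (x :: (p ++ (m1 ++ m2))) := by
      have := hadd (p ++ (m1 ++ m2)) (x - e * y) hxy (e * y)
      rwa [add_sub_cancel] at this
    have e4 : Q (x :: (p ++ (m1 ++ m2))) ↔ Q ((p ++ [x]) ++ (m1 ++ m2)) := by
      apply hperm
      rw [List.append_assoc, List.singleton_append]
      exact List.perm_middle.symm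
    have hs' : sp ((p ++ [x]) ++ s') = I := by
      rw [List.append_assoc, List.singleton_append]
      exact hs
    have hm' : sp ((p ++ [x]) ++ (m1 ++ m2)) = I := by
      apply le_antisymm
      · rw [sp_le_iff]
        intro a ha
        simp only [List.mem_append, List.mem_cons, List.not_mem_nil, or_false] at ha
        rcases ha with (ha | rfl) | ha | ha
        · rw [← hpm]; exact mem_sp (by simp [ha])
        · exact hxI
        · exact hmI a (by simp [ha])
        · exact hmI a (by simp [ha])
      · conv_lhs => rw [← hpm]
        rw [sp_le_iff]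
        intro a ha
        simp only [List.mem_append, List.mem_cons] at ha
        have hsub : sp (p ++ (m1 ++ m2)) ≤ sp ((p ++ [x]) ++ (m1 ++ m2)) :=
          sp_mono (by intro b hb; simp only [List.mem_append, List.mem_cons] at hb ⊢; tauto)
        rcases ha with ha | ha | rfl | ha
        · exact mem_sp (by simp [ha])
        · exact mem_sp (by simp [ha])
        · have hx1 : x ∈ sp ((p ++ [x]) ++ (m1 ++ m2)) := mem_sp (by simp)
          have : a = ((e⁻¹ : Rˣ) : R) * (x - (x - e * a)) := by
            have : x - (x - (e : R) * a) = e * a := by ring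
            rw [this, ← mul_assoc, Units.inv_mul, one_mul]
          rw [this]
          exact Ideal.mul_mem_left _ _ (sub_mem hx1 (hsub hxy))
        · exact mem_sp (by simp [ha])
    have hlen' : (p ++ [x]).length + s'.length = r := by
      rw [List.length_append, List.length_singleton]
      rw [List.length_cons] at hlen
      omega
    have hmlen : (m1 ++ m2).length = s'.length := by
      rw [List.length_append] at hm ⊢
      rw [List.length_cons] at hm
      rw [List.length_cons] at hm
      omega
    have e5 := ih (p ++ [x]) (m1 ++ m2) hlen' hmlen hs' hm'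
    rw [e1, e2, e3, e4, e5, List.append_assoc, List.singleton_append]

theorem exchange (I : Ideal R) (l l' : List R) (hl : sp l = I) (hl' : sp l' = I)
    (hlen : l.length = l'.length)
    (hmin : ∀ h : List R, sp h = I → l'.length ≤ h.length) : Q l ↔ Q l' := by
  have := exchange_aux hperm hunit hadd I l'.length hmin l' [] l (by simp) hlen
    (by simpa using hl') (by simpa using hl)
  simpa using this

end exchange

end Groth.Agent.Lib.Helper9.KoszulExch
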