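/-
Helper library (helper9): Koszul-regular sequences (cone model) under flat base change,
faithfully flat descent, and localisation at primes.
-/
import Mathlib
import Groth.Agent.Lib.Helper33.KoszulBC
import Groth.Agent.Lib.Helper87.KzBasic
import Groth.Prelude.Def_LCI2

set_option autoImplicit false
set_option linter.style.haveILetI false
universe u
open CategoryTheory CategoryTheory.Limits CochainComplex HomologicalComplex MonoidalCategory

namespace Groth.Agent.Lib.Helper9.KoszulLoc

open Groth.Agent.Lib.Helper94.KoszulReg Groth.Agent.Lib.Helper87.KzLES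
  Groth.Agent.Lib.Helper87.KzMod Groth.Agent.Lib.Helper87.KzBridge Groth.Agent.Lib.Helper33.KoszulBC

variable {A : Type u} [CommRing A]

theorem exactAt_iff_of_iso {K L : CochainComplex (ModuleCat.{u} A) ℤ} (e : K ≅ L) (i : ℤ) :
    K.ExactAt i ↔ L.ExactAt i := ⟨fun h => h.of_iso e, fun h => h.of_iso e.symm⟩

/-- tensoring a complex with a flat module: exactness at a spot in terms of the homology -/
theorem exactAt_tensorCx_iff (K : CochainComplex (ModuleCat.{u} A) ℤ) (M : Type u)
    [AddCommGroup M] [Module A M] [Module.Flat A M] (i : ℤ) :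
    (DRing.tensorCx K (ModuleCat.of A M)).ExactAt i ↔
      Subsingleton (TensorProduct A (K.homology i : ModuleCat.{u} A) M) := by
  haveI : Module.Flat A (ModuleCat.of A M) := ‹_›
  rw [exactAt_iff_isZero_homology]
  let e : (DRing.tensorCx K (ModuleCat.of A M)).homology i ≅
      (tensorRight (ModuleCat.of A M)).obj (K.homology i) :=
    (K.sc i).mapHomologyIso (tensorRight (ModuleCat.of A M))
  constructor
  · intro h
    exact ModuleCat.subsingleton_of_isZero (h.of_iso e.symm)
  · intro h
    haveI : Subsingleton ((tensorRight (ModuleCat.of A M)).obj (K.homology i) : ModuleCat.{u} A) := h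
    exact (ModuleCat.isZero_of_subsingleton _).of_iso e

variable (B : Type u) [CommRing B] [Algebra A B]

theorem exactAt_baseChange_iff [Module.Flat A B] (l : List A) (i : ℤ) :
    (Koszul.koszul B (l.map (algebraMap A B))).ExactAt i ↔
      Subsingleton (TensorProduct A ((Koszul.koszul A l).homology i : ModuleCat.{u} A) B) := by
  rw [← exactAt_tensorCx_iff, exactAt_iff_of_iso (bridge B l)]
  let e0 : (Ψ (algebraMap A B)).obj (sg B (ModuleCat.of B B)) ≅ sg A (ModuleCat.of A B) :=
    (HomologicalComplex.singleMapHomologicalComplex (ModuleCat.restrictScalars.{u} (algebraMap A B))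
      (ComplexShape.up ℤ) 0).app (ModuleCat.of B B) ≪≫
      (HomologicalComplex.single (ModuleCat.{u} A) (ComplexShape.up ℤ) 0).mapIso
        (restrictSelfIso B)
  rw [← exactAt_iff_of_iso (kzIso e0 l), ← exactAt_iff_of_iso (restrictKz (algebraMap A B) _ l),
    exactAt_iff_of_iso (eqToIso (koszul_eq (l.map (algebraMap A B))))]
  constructor
  · intro h
    exact exactAt_map (ModuleCat.restrictScalars.{u} (algebraMap A B)) _ _ i h
  · intro h
    exact exactAt_of_map (ModuleCat.restrictScalars.{u} (algebraMap A B)) _ _ i h

theorem isKoszulRegularSeq_iff_exactAt (l : List A) :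
    LCI.IsKoszulRegularSeq A l ↔ ∀ i : ℤ, i ≠ 0 → (Koszul.koszul A l).ExactAt i := by
  unfold LCI.IsKoszulRegularSeq
  simp only [exactAt_iff_isZero_homology]

/-- flat base change of Koszul-regular sequences -/
theorem isKoszulRegularSeq_map_of_flat [Module.Flat A B] (l : List A)
    (h : LCI.IsKoszulRegularSeq A l) :
    LCI.IsKoszulRegularSeq B (l.map (algebraMap A B)) := by
  rw [isKoszulRegularSeq_iff_exactAt]
  intro i hi
  rw [exactAt_baseChange_iff]
  haveI : Subsingleton ((Koszul.koszul A l).homology i : ModuleCat.{u} A) :=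
    ModuleCat.subsingleton_of_isZero (h i hi)
  infer_instance

/-- faithfully flat descent of Koszul-regular sequences -/
theorem isKoszulRegularSeq_of_faithfullyFlat [Module.FaithfullyFlat A B] (l : List A)
    (h : LCI.IsKoszulRegularSeq B (l.map (algebraMap A B))) :
    LCI.IsKoszulRegularSeq A l := by
  intro i hi
  have h1 := (exactAt_baseChange_iff B l i).mp ((isKoszulRegularSeq_iff_exactAt _).mp h i hi)
  haveI := Module.FaithfullyFlat.rTensor_reflects_triviality A B
    ((Koszul.koszul A l).homology i : ModuleCat.{u} A)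
  exact ModuleCat.isZero_of_subsingleton _

theorem nilOn_homology (l : List A) (c : A) (hc : c ∈ l) (i : ℤ) :
    Groth.Agent.Lib.Helper87.KzBasic.NilOn c ((Koszul.koszul A l).homology i : ModuleCat.{u} A) := by
  have key : ∀ K : CochainComplex (ModuleCat.{u} A) ℤ, K = kz (sg A (ModuleCat.of A A)) l →
      Groth.Agent.Lib.Helper87.KzBasic.NilOn c (K.homology i : ModuleCat.{u} A) := by
    rintro K rfl
    exact Groth.Agent.Lib.Helper87.KzBasic.KH_nilOn A l c hc i
  exact key _ (koszul_eq l)

/-- Koszul-regularity can be checked at the primes containing the sequence -/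
theorem isKoszulRegularSeq_of_localization (l : List A)
    (h : ∀ (p : Ideal A) [p.IsPrime], (∀ c ∈ l, c ∈ p) →
      LCI.IsKoszulRegularSeq (Localization.AtPrime p)
        (l.map (algebraMap A (Localization.AtPrime p)))) :
    LCI.IsKoszulRegularSeq A l := by
  intro i hi
  set H : ModuleCat.{u} A := (Koszul.koszul A l).homology i with hH
  suffices hs : Subsingleton H from ModuleCat.isZero_of_subsingleton _
  rw [← Module.support_eq_empty_iff (R := A), Set.eq_empty_iff_forall_notMem]
  intro p
  by_cases hp : ∀ c ∈ l, c ∈ p.asIdeal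
  · rw [Module.notMem_support_iff]
    have h1 := (exactAt_baseChange_iff (Localization.AtPrime p.asIdeal) l i).mp
      ((isKoszulRegularSeq_iff_exactAt _).mp (h p.asIdeal hp) i hi)
    exact ((IsLocalizedModule.isBaseChange p.asIdeal.primeCompl (Localization.AtPrime p.asIdeal)
      (LocalizedModule.mkLinearMap p.asIdeal.primeCompl H)).equiv.toEquiv.symm.trans
        (TensorProduct.comm A _ _).toEquiv).subsingleton
  · push Not at hp
    obtain ⟨c, hc, hcp⟩ := hp
    rw [Module.notMem_support_iff']
    obtain ⟨k, hk⟩ := nilOn_homology l c hc i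
    intro m
    exact ⟨c ^ k, fun h' => hcp (Ideal.IsPrime.mem_of_pow_mem inferInstance k h'), hk m⟩

end Groth.Agent.Lib.Helper9.KoszulLoc
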