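/-
Helper library (helper9): the cone-model Koszul complex under change of generators:
isomorphisms of double cones (swap, transvection, unit scaling) and the resulting invariance of
Koszul-regularity of a list under permutations, unit multiples and adding elements of the ideal
generated by the tail to the head.
-/
import Mathlib
import Groth.Agent.Lib.Helper94.KoszulReg
import Groth.Agent.Lib.Helper87.KzLES
import Groth.Agent.Lib.Helper87.KzBridge
import Groth.Agent.Lib.Helper33.KoszulBC
import Groth.Prelude.Def_LCI2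

set_option autoImplicit false
set_option linter.style.haveILetI false
universe u
open CategoryTheory CategoryTheory.Limits CochainComplex HomologicalComplex

namespace Groth.Agent.Lib.Helper9.KoszulSwap

open Groth.Agent.Lib.Helper94.KoszulReg

variable {A : Type u} [CommRing A]

section cone

variable {F G : CochainComplex (ModuleCat.{u} A) ℤ} (φ : F ⟶ G) (n : ℤ)

theorem coneEquiv_d_fst (x : (mappingCone φ).X n) :
    (coneEquiv φ (n + 1) (((mappingCone φ).d n (n + 1)).hom x)).1 =
      -(F.d (n + 1) (n + 1 + 1)).hom (coneEquiv φ n x).1 := by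
  have h := congrArg (fun k => k.hom x) (mappingCone.d_fst_v φ n (n + 1) (n + 1 + 1) rfl rfl)
  simp only [ModuleCat.hom_comp, LinearMap.comp_apply, ModuleCat.hom_neg, LinearMap.neg_apply] at h
  rw [coneEquiv_fst, coneEquiv_fst]
  exact h

theorem coneEquiv_d_snd (x : (mappingCone φ).X n) :
    (coneEquiv φ (n + 1) (((mappingCone φ).d n (n + 1)).hom x)).2 =
      (φ.f (n + 1)).hom (coneEquiv φ n x).1 + (G.d n (n + 1)).hom (coneEquiv φ n x).2 := by
  have h := congrArg (fun k => k.hom x) (mappingCone.d_snd_v φ n (n + 1) rfl)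
  simp only [ModuleCat.hom_comp, LinearMap.comp_apply, ModuleCat.hom_add, LinearMap.add_apply] at h
  rw [coneEquiv_fst, coneEquiv_snd, coneEquiv_snd]
  exact h

/-- the differential of a cone in coordinates -/
def D : (F.X (n + 1) × G.X n) → (F.X (n + 1 + 1) × G.X (n + 1)) := fun p =>
  (-(F.d (n + 1) (n + 1 + 1)).hom p.1, (φ.f (n + 1)).hom p.1 + (G.d n (n + 1)).hom p.2)

theorem coneEquiv_d (x : (mappingCone φ).X n) :
    coneEquiv φ (n + 1) (((mappingCone φ).d n (n + 1)).hom x) = D φ n (coneEquiv φ n x) :=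
  Prod.ext (coneEquiv_d_fst φ n x) (coneEquiv_d_snd φ n x)

end cone

section mk

variable {F G F' G' : CochainComplex (ModuleCat.{u} A) ℤ} (φ : F ⟶ G) (φ' : F' ⟶ G')

/-- an isomorphism of cones from a degreewise linear equivalence in coordinates -/
noncomputable def coneIsoMk (e : ∀ n : ℤ, (F.X (n + 1) × G.X n) ≃ₗ[A] (F'.X (n + 1) × G'.X n))
    (comm : ∀ n p, e (n + 1) (D φ n p) = D φ' n (e n p)) : mappingCone φ ≅ mappingCone φ' :=
  HomologicalComplex.Hom.isoOfComponents
    (fun n => ((coneEquiv φ n).trans ((e n).trans (coneEquiv φ' n).symm)).toModuleIso) (by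
      rintro i j rfl
      apply ModuleCat.hom_ext
      apply LinearMap.ext
      intro x
      apply (coneEquiv φ' (i + 1)).injective
      simp only [ModuleCat.hom_comp, LinearMap.comp_apply]
      rw [coneEquiv_d]
      simp only [LinearEquiv.toModuleIso_hom, ModuleCat.hom_ofHom, LinearEquiv.coe_coe,
        LinearEquiv.trans_apply, LinearEquiv.apply_symm_apply]
      rw [coneEquiv_d, comm])

end mk

section double

variable (X : CochainComplex (ModuleCat.{u} A) ℤ)

/-- the cone of multiplication by `a` -/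
noncomputable abbrev C (a : A) (X : CochainComplex (ModuleCat.{u} A) ℤ) :
    CochainComplex (ModuleCat.{u} A) ℤ := mappingCone (a • 𝟙 X)

theorem smul_id_f_apply (a : A) (m : ℤ) (x : X.X m) : ((a • 𝟙 X : X ⟶ X).f m).hom x = a • x := by
  rw [HomologicalComplex.smul_f_apply, HomologicalComplex.id_f]
  exact smul_id_hom_apply a (X.X m) x

/-- coordinates in a double cone -/
abbrev Quad (n : ℤ) : Type u := (X.X (n + 1 + 1) × X.X (n + 1)) × (X.X (n + 1) × X.X n)

/-- coordinates in a double cone -/
noncomputable def quadE (b : A) (n : ℤ) :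
    ((C b X).X (n + 1) × (C b X).X n) ≃ₗ[A] Quad X n :=
  LinearEquiv.prodCongr (coneEquiv (b • 𝟙 X) (n + 1)) (coneEquiv (b • 𝟙 X) n)

/-- the differential of a double cone in coordinates -/
def DD (a b : A) (n : ℤ) : Quad X n → Quad X (n + 1) := fun w =>
  (((X.d (n + 1 + 1) (n + 1 + 1 + 1)).hom w.1.1,
      -(b • w.1.1) - (X.d (n + 1) (n + 1 + 1)).hom w.1.2),
    (a • w.1.1 - (X.d (n + 1) (n + 1 + 1)).hom w.2.1,
      a • w.1.2 + b • w.2.1 + (X.d n (n + 1)).hom w.2.2))

theorem quadE_D (a b : A) (n : ℤ) (z : (C b X).X (n + 1) × (C b X).X n) :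
    quadE X b (n + 1) (D (a • 𝟙 (C b X)) n z) = DD X a b n (quadE X b n z) := by
  obtain ⟨u, v⟩ := z
  simp only [quadE, D, DD, LinearEquiv.prodCongr_apply, Prod.map_apply, smul_id_f_apply, map_neg,
    map_add, map_smul, coneEquiv_d]
  refine Prod.ext (Prod.ext ?_ ?_) (Prod.ext ?_ ?_)
  · simp [D]
  · simp [D, smul_id_f_apply]; abel
  · simp [D]; abel
  · simp [D, smul_id_f_apply]; abel

/-- an isomorphism of double cones from a degreewise linear equivalence in coordinates -/
noncomputable def dblIso (a b a' b' : A) (E : ∀ n : ℤ, Quad X n ≃ₗ[A] Quad X n)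
    (hE : ∀ n w, E (n + 1) (DD X a b n w) = DD X a' b' n (E n w)) :
    C a (C b X) ≅ C a' (C b' X) :=
  coneIsoMk (a • 𝟙 (C b X)) (a' • 𝟙 (C b' X))
    (fun n => (quadE X b n).trans ((E n).trans (quadE X b' n).symm)) (by
      intro n z
      apply (quadE X b' (n + 1)).injective
      rw [quadE_D]
      simp only [LinearEquiv.trans_apply, LinearEquiv.apply_symm_apply]
      rw [quadE_D, hE])

/-- the coordinate swap -/
def sw (n : ℤ) : Quad X n ≃ₗ[A] Quad X n where
  toFun w := ((-w.1.1, w.2.1), (w.1.2, w.2.2))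
  invFun w := ((-w.1.1, w.2.1), (w.1.2, w.2.2))
  map_add' w w' := by
    refine Prod.ext (Prod.ext ?_ ?_) (Prod.ext ?_ ?_) <;> simp [add_comm]
  map_smul' c w := by
    refine Prod.ext (Prod.ext ?_ ?_) (Prod.ext ?_ ?_) <;> simp
  left_inv w := by
    refine Prod.ext (Prod.ext ?_ ?_) (Prod.ext ?_ ?_) <;> simp
  right_inv w := by
    refine Prod.ext (Prod.ext ?_ ?_) (Prod.ext ?_ ?_) <;> simp

/-- swapping the two scalars of a double cone -/
noncomputable def swapIso (a b : A) : C a (C b X) ≅ C b (C a X) :=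
  dblIso X a b b a (sw X) (by
    intro n w
    refine Prod.ext (Prod.ext ?_ ?_) (Prod.ext ?_ ?_)
    · simp [sw, DD]
    · simp [sw, DD]
    · simp [sw, DD]
    · simp [sw, DD, add_comm])

/-- the coordinate transvection -/
def tv (c : A) (n : ℤ) : Quad X n ≃ₗ[A] Quad X n where
  toFun w := (w.1, (w.2.1 - c • w.1.2, w.2.2))
  invFun w := (w.1, (w.2.1 + c • w.1.2, w.2.2))
  map_add' w w' := by
    refine Prod.ext (Prod.ext ?_ ?_) (Prod.ext ?_ ?_) <;> simp [smul_add]; abel
  map_smul' d w := by
    refine Prod.ext (Prod.ext ?_ ?_) (Prod.ext ?_ ?_) <;> simp [smul_sub, smul_comm c d]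
  left_inv w := by
    refine Prod.ext (Prod.ext ?_ ?_) (Prod.ext ?_ ?_) <;> simp
  right_inv w := by
    refine Prod.ext (Prod.ext ?_ ?_) (Prod.ext ?_ ?_) <;> simp

/-- adding a multiple of the inner scalar to the outer one -/
noncomputable def transIso (a b c : A) : C a (C b X) ≅ C (a + c * b) (C b X) :=
  dblIso X a b (a + c * b) b (tv X c) (by
    intro n w
    refine Prod.ext (Prod.ext ?_ ?_) (Prod.ext ?_ ?_)
    · simp [tv, DD]
    · simp [tv, DD]
    · simp only [tv, DD, LinearEquiv.coe_mk, LinearMap.coe_mk, AddHom.coe_mk, map_sub, map_smul,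
        smul_sub, smul_neg, add_smul, mul_smul]
      abel
    · simp only [tv, DD, LinearEquiv.coe_mk, LinearMap.coe_mk, AddHom.coe_mk, smul_sub, add_smul,
        mul_smul, smul_comm b c]
      abel)

/-- scaling the scalar by a unit -/
noncomputable def unitIso (u : Aˣ) (a : A) : C ((u : A) * a) X ≅ C a X :=
  Groth.Agent.Lib.Helper87.KzBridge.coneMapIso _ _
    { hom := (u : A) • 𝟙 X
      inv := ((u⁻¹ : Aˣ) : A) • 𝟙 X
      hom_inv_id := by
        rw [Linear.smul_comp, Linear.comp_smul, Category.id_comp, smul_smul, Units.mul_inv,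
          one_smul]
      inv_hom_id := by
        rw [Linear.smul_comp, Linear.comp_smul, Category.id_comp, smul_smul, Units.inv_mul,
          one_smul] }
    (Iso.refl X) (by
      simp only [Iso.refl_hom, Category.comp_id, Linear.smul_comp, Linear.comp_smul,
        Category.id_comp, smul_smul, mul_comm])

end double

section lists

open Groth.Agent.Lib.Helper87.KzLES Groth.Agent.Lib.Helper33.KoszulBC

variable (X : CochainComplex (ModuleCat.{u} A) ℤ)

theorem nonempty_iso_of_perm {l l' : List A} (h : l.Perm l') : Nonempty (kz X l ≅ kz X l') := by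
  induction h with
  | nil => exact ⟨Iso.refl _⟩
  | cons a _ ih =>
    obtain ⟨e⟩ := ih
    exact ⟨Groth.Agent.Lib.Helper87.KzBridge.coneMapIso _ _ e e (by
      rw [Linear.smul_comp, Linear.comp_smul, Category.id_comp, Category.comp_id])⟩
  | swap a b l => exact ⟨swapIso (kz X l) b a⟩
  | trans _ _ ih1 ih2 =>
    obtain ⟨e1⟩ := ih1
    obtain ⟨e2⟩ := ih2
    exact ⟨e1 ≪≫ e2⟩

/-- acyclicity outside degree zero -/
def Acyc (K : CochainComplex (ModuleCat.{u} A) ℤ) : Prop :=
  ∀ i : ℤ, i ≠ 0 → IsZero (K.homology i)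

theorem Acyc.of_iso {K K' : CochainComplex (ModuleCat.{u} A) ℤ} (h : Acyc K) (e : K ≅ K') :
    Acyc K' := fun i hi =>
  (h i hi).of_iso ((HomologicalComplex.homologyFunctor _ _ i).mapIso e.symm)

theorem acyc_iff_of_iso {K K' : CochainComplex (ModuleCat.{u} A) ℤ} (e : K ≅ K') :
    Acyc K ↔ Acyc K' := ⟨fun h => h.of_iso e, fun h => h.of_iso e.symm⟩

theorem isKoszulRegularSeq_iff (l : List A) :
    LCI.IsKoszulRegularSeq A l ↔ Acyc (kz (sg A (ModuleCat.of A A)) l) := by
  change Acyc (Koszul.koszul A l) ↔ _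
  exact acyc_iff_of_iso (eqToIso (koszul_eq l))

theorem isKoszulRegularSeq_perm {l l' : List A} (h : l.Perm l') :
    LCI.IsKoszulRegularSeq A l ↔ LCI.IsKoszulRegularSeq A l' := by
  rw [isKoszulRegularSeq_iff, isKoszulRegularSeq_iff]
  obtain ⟨e⟩ := nonempty_iso_of_perm (sg A (ModuleCat.of A A)) h
  exact acyc_iff_of_iso e

theorem isKoszulRegularSeq_unit (u : Aˣ) (a : A) (l : List A) :
    LCI.IsKoszulRegularSeq A (((u : A) * a) :: l) ↔ LCI.IsKoszulRegularSeq A (a :: l) := by
  rw [isKoszulRegularSeq_iff, isKoszulRegularSeq_iff]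
  exact acyc_iff_of_iso (unitIso (kz (sg A (ModuleCat.of A A)) l) u a)

theorem isKoszulRegularSeq_trans (a b c : A) (l : List A) :
    LCI.IsKoszulRegularSeq A (a :: b :: l) ↔ LCI.IsKoszulRegularSeq A ((a + c * b) :: b :: l) := by
  rw [isKoszulRegularSeq_iff, isKoszulRegularSeq_iff]
  exact acyc_iff_of_iso (transIso (kz (sg A (ModuleCat.of A A)) l) a b c)

theorem isKoszulRegularSeq_add_mul_of_mem (a b c : A) (l : List A) (hb : b ∈ l) :
    LCI.IsKoszulRegularSeq A (a :: l) ↔ LCI.IsKoszulRegularSeq A ((a + c * b) :: l) := by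
  obtain ⟨s, t, rfl⟩ := List.append_of_mem hb
  have hl' : (s ++ b :: t).Perm (b :: (s ++ t)) := List.perm_middle
  set l' := s ++ t
  rw [isKoszulRegularSeq_perm (List.Perm.cons a hl'),
    isKoszulRegularSeq_perm (List.Perm.cons (a + c * b) hl')]
  exact isKoszulRegularSeq_trans a b c l'

theorem isKoszulRegularSeq_add_of_mem_span (l : List A) (t : A)
    (ht : t ∈ Ideal.span {x | x ∈ l}) (a : A) :
    LCI.IsKoszulRegularSeq A (a :: l) ↔ LCI.IsKoszulRegularSeq A ((a + t) :: l) := by
  have key : ∀ t ∈ Ideal.span {x | x ∈ l}, ∀ (c a : A),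
      LCI.IsKoszulRegularSeq A (a :: l) ↔ LCI.IsKoszulRegularSeq A ((a + c * t) :: l) := by
    intro t ht
    induction ht using Submodule.span_induction with
    | mem b hb => exact fun c a => isKoszulRegularSeq_add_mul_of_mem a b c l hb
    | zero => intro c a; rw [mul_zero, add_zero]
    | add x y _ _ hx hy =>
      intro c a
      rw [hx c a, hy c (a + c * x), mul_add, add_assoc]
    | smul r x _ hx =>
      intro c a
      rw [hx (c * r) a, smul_eq_mul, mul_assoc]
  have := key t ht 1 a
  rwa [one_mul] at this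

end lists

end Groth.Agent.Lib.Helper9.KoszulSwap
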