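/-
Helper library (helper9): Koszul-regular generating lists of an ideal: minimality of the length,
and Koszul-regularity of any generating list of the same length (via exchange in the local rings).
-/
import Mathlib
import Groth.Agent.Lib.Helper9.KoszulSwap
import Groth.Agent.Lib.Helper9.KoszulExch
import Groth.Agent.Lib.Helper9.KoszulLoc
import Groth.Agent.S18939

set_option autoImplicit false
set_option linter.style.haveILetI false
universe u

namespace Groth.Agent.Lib.Helper9.KoszulGen

open Groth.Agent.Lib.Helper9

variable {R : Type u} [CommRing R]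

/-- a Koszul-regular generating list of a proper ideal has minimal length -/
theorem length_le_of_isKoszulRegularSeq {I : Ideal R} (hI : I ≠ ⊤) (f : List R)
    (hf : LCI.IsKoszulRegularSeq R f) (hfI : Ideal.ofList f = I) (h : List R)
    (hh : Ideal.ofList h = I) : f.length ≤ h.length := by
  have hfmem : ∀ i : Fin f.length, f.get i ∈ I := fun i => by
    rw [← hfI]; exact Ideal.subset_span (List.get_mem f i)
  have hhmem : ∀ j : Fin h.length, h.get j ∈ I := fun j => by
    rw [← hh]; exact Ideal.subset_span (List.get_mem h j)
  obtain ⟨b, -⟩ := Groth.Agent.S18939.result hI f.length (fun i => ⟨f.get i, hfmem i⟩)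
    (by simpa using hf) (by
      refine Eq.trans ?_ hfI
      change Ideal.span (Set.range fun i : Fin f.length => f.get i) = Ideal.span {r | r ∈ f}
      congr 1
      ext z
      simp [List.mem_iff_get])
  haveI : Nontrivial (R ⧸ I) := Ideal.Quotient.nontrivial_iff.mpr hI
  let v : Fin h.length → I.Cotangent := fun j => I.toCotangent ⟨h.get j, hhmem j⟩
  have hv : Submodule.span (R ⧸ I) (Set.range v) = ⊤ := by
    rw [eq_top_iff]
    rintro x -
    obtain ⟨⟨y, hy⟩, rfl⟩ := I.toCotangent_surjective x
    have hy' : y ∈ Ideal.span {r | r ∈ h} := by rw [show Ideal.span {r | r ∈ h} = I from hh]; exact hy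
    refine Submodule.span_induction (p := fun y _ => ∀ hy : y ∈ I,
      I.toCotangent ⟨y, hy⟩ ∈ Submodule.span (R ⧸ I) (Set.range v)) ?_ ?_ ?_ ?_ hy' hy
    · intro z hz _
      obtain ⟨j, rfl⟩ := List.mem_iff_get.mp hz
      exact Submodule.subset_span ⟨j, rfl⟩
    · intro _
      have : I.toCotangent ⟨0, I.zero_mem⟩ = 0 := map_zero _
      rw [this]; exact zero_mem _
    · intro x y hx hy ihx ihy _
      have hxI : x ∈ I := by rw [← hh]; exact hx
      have hyI : y ∈ I := by rw [← hh]; exact hy
      have : I.toCotangent ⟨x + y, add_mem hxI hyI⟩ =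
          I.toCotangent ⟨x, hxI⟩ + I.toCotangent ⟨y, hyI⟩ := by
        rw [← map_add]; rfl
      rw [this]
      exact add_mem (ihx hxI) (ihy hyI)
    · intro r x hx ihx _
      have hxI : x ∈ I := by rw [← hh]; exact hx
      have : I.toCotangent ⟨r • x, I.smul_mem r hxI⟩ =
          Ideal.Quotient.mk I r • I.toCotangent ⟨x, hxI⟩ := by
        have : (⟨r • x, I.smul_mem r hxI⟩ : I) = r • ⟨x, hxI⟩ := rfl
        rw [this, map_smul]
        rfl
      rw [this]
      exact Submodule.smul_mem _ _ (ihx hxI)
  have h1 : Module.finrank (R ⧸ I) I.Cotangent = f.length := by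
    rw [Module.finrank_eq_card_basis b, Fintype.card_fin]
  have h2 := finrank_range_le_card (R := R ⧸ I) v
  rw [Set.finrank, hv, finrank_top, h1, Fintype.card_fin] at h2
  exact h2

/-- in a local ring, a generating list of the same length as a Koszul-regular generating list
of a proper ideal is Koszul-regular -/
theorem isKoszulRegularSeq_of_local [IsLocalRing R] {I : Ideal R} (hI : I ≠ ⊤) (g f : List R)
    (hg : LCI.IsKoszulRegularSeq R g) (hgI : Ideal.ofList g = I) (hfI : Ideal.ofList f = I)
    (hlen : f.length = g.length) : LCI.IsKoszulRegularSeq R f := by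
  refine (KoszulExch.exchange (Q := LCI.IsKoszulRegularSeq R) ?_ ?_ ?_ I f g hfI hgI hlen ?_).mpr hg
  · intro l l' h; exact KoszulSwap.isKoszulRegularSeq_perm h
  · intro u a l; exact KoszulSwap.isKoszulRegularSeq_unit u a l
  · intro l t ht a; exact KoszulSwap.isKoszulRegularSeq_add_of_mem_span l t ht a
  · intro h hh; exact length_le_of_isKoszulRegularSeq hI g hg hgI h hh

/-- a generating list of the same length as a Koszul-regular generating list of an ideal is
Koszul-regular -/
theorem isKoszulRegularSeq_of_length_eq {I : Ideal R} (g f : List R)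
    (hg : LCI.IsKoszulRegularSeq R g) (hgI : Ideal.ofList g = I) (hfI : Ideal.ofList f = I)
    (hlen : f.length = g.length) : LCI.IsKoszulRegularSeq R f := by
  apply KoszulLoc.isKoszulRegularSeq_of_localization
  intro p _ hp
  have hIp : I ≤ p := by rw [← hfI]; exact Ideal.span_le.mpr hp
  have hI' : I.map (algebraMap R (Localization.AtPrime p)) ≠ ⊤ := by
    intro h
    have h1 : I.map (algebraMap R (Localization.AtPrime p)) ≤
        IsLocalRing.maximalIdeal (Localization.AtPrime p) := by
      rw [← Localization.AtPrime.map_eq_maximalIdeal]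
      exact Ideal.map_mono hIp
    rw [h, top_le_iff] at h1
    exact Ideal.IsPrime.ne_top' h1
  exact isKoszulRegularSeq_of_local hI' (g.map _) (f.map _)
    (KoszulLoc.isKoszulRegularSeq_map_of_flat (Localization.AtPrime p) g hg)
    (by rw [← Ideal.map_ofList, hgI]) (by rw [← Ideal.map_ofList, hfI])
    (by rw [List.length_map, List.length_map, hlen])

end Groth.Agent.Lib.Helper9.KoszulGen
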