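import Mathlib
import Groth.Prelude.Def_PP16
import Groth.Prelude.Def_CAlgX
import Groth.Agent.Lib.Helper13.SymGrA
import Groth.Agent.Lib.Helper13.SymGrB
import Groth.Agent.Lib.Helper13.SymPow

/-!
# Faithfully flat descent for the conormal module and the canonical maps
`Sym^n(J/J²) → J^n/J^(n+1)` (helper9)

For a faithfully flat ring map `R → R'` and an ideal `J` of `R` with extension `J' = J R'`:
* `hom` : `R' ⊗[R] J/J² ≃ J'/J'²` (base change of the conormal module);
* `finite_projective_cotangent` : if `J'/J'²` is finite projective over `R'/J'` then so is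
  `J/J²` over `R/J`;
* `canon_injective_descent` : if moreover the canonical maps for `J'` are injective, so are those
  for `J`.
-/

set_option autoImplicit false
set_option linter.style.haveILetI false

namespace Groth.Agent.Lib.Helper9.QRegDescent

open TensorProduct

universe u

section abstract

variable (C T : Type*) [CommRing C] [CommRing T] [Algebra C T] [Module.FaithfullyFlat C T]
variable (N : Type*) [AddCommGroup N] [Module C N]

theorem finitePresentation_of_tensorProduct [Module.FinitePresentation T (T ⊗[C] N)] :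
    Module.FinitePresentation C N := by
  haveI : Module.Finite C N := Module.Finite.of_finite_tensorProduct_of_faithfullyFlat T
  obtain ⟨n, f, hf⟩ := Module.Finite.exists_fin' C N
  have hTsurj : Function.Surjective (f.baseChange T) := LinearMap.lTensor_surjective _ hf
  have hker : (LinearMap.ker (f.baseChange T)).FG :=
    Module.FinitePresentation.fg_ker _ hTsurj
  have hexact : Function.Exact (LinearMap.ker f).subtype f := LinearMap.exact_subtype_ker_map f
  have hTexact : Function.Exact ((LinearMap.ker f).subtype.baseChange T) (f.baseChange T) :=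
    lTensor_exact T hexact hf
  have hTinj : Function.Injective ((LinearMap.ker f).subtype.baseChange T) :=
    Module.Flat.lTensor_preserves_injective_linearMap _ (Submodule.injective_subtype _)
  have hrange : LinearMap.range ((LinearMap.ker f).subtype.baseChange T) =
      LinearMap.ker (f.baseChange T) := (LinearMap.exact_iff.mp hTexact).symm
  haveI : Module.Finite T (T ⊗[C] (LinearMap.ker f)) := by
    refine ⟨?_⟩
    have := hker
    rw [← hrange, LinearMap.range_eq_map] at this
    exact Submodule.fg_of_fg_map_injective _ hTinj this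
  haveI : Module.Finite C (LinearMap.ker f) :=
    Module.Finite.of_finite_tensorProduct_of_faithfullyFlat T
  exact Module.finitePresentation_of_free_of_surjective f hf (Module.Finite.iff_fg.mp inferInstance)

theorem projective_of_tensorProduct [Module.Finite T (T ⊗[C] N)]
    [Module.Projective T (T ⊗[C] N)] :
    Module.Finite C N ∧ Module.Projective C N := by
  haveI : Module.FinitePresentation T (T ⊗[C] N) := Module.finitePresentation_of_projective _ _
  haveI := finitePresentation_of_tensorProduct C T N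
  haveI : Module.Flat C N := Module.Flat.of_flat_tensorProduct C N T
  exact ⟨inferInstance, Module.Flat.projective_of_finitePresentation⟩

end abstract

section cot

variable {R R' : Type u} [CommRing R] [CommRing R'] [Algebra R R'] (J : Ideal R)

variable (R') in
/-- extended ideal -/
abbrev Je : Ideal R' := J.map (algebraMap R R')

theorem le_comap_Je : J ≤ (Je R' J).comap (Algebra.ofId R R') := fun _ hx =>
  Ideal.mem_map_of_mem _ hx

variable (R') in
/-- the natural map `J/J² → J'/J'²` -/
noncomputable def kap : J.Cotangent →ₗ[R] (Je R' J).Cotangent :=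
  Ideal.mapCotangent J (Je R' J) (Algebra.ofId R R') (le_comap_Je J)

theorem kap_toCotangent (x : J) :
    kap R' J (J.toCotangent x) =
      (Je R' J).toCotangent ⟨algebraMap R R' x, Ideal.mem_map_of_mem _ x.2⟩ := rfl

variable (R') in
/-- the base change map -/
noncomputable def hom : R' ⊗[R] J.Cotangent →ₗ[R'] (Je R' J).Cotangent :=
  LinearMap.liftBaseChange R' (kap R' J)

theorem hom_tmul (t : R') (n : J.Cotangent) : hom R' J (t ⊗ₜ n) = t • kap R' J n := by
  simp [hom]

theorem hom_surjective : Function.Surjective (hom R' J) := by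
  intro y
  obtain ⟨⟨x, hx⟩, rfl⟩ := Ideal.toCotangent_surjective _ y
  have key : ∀ (x : R') (hx : x ∈ Je R' J), ∃ z, hom R' J z = (Je R' J).toCotangent ⟨x, hx⟩ := by
    intro x hx
    refine Submodule.span_induction (p := fun x hx => ∃ z, hom R' J z =
      (Je R' J).toCotangent ⟨x, hx⟩) ?_ ?_ ?_ ?_ hx
    · rintro _ ⟨a, ha, rfl⟩
      exact ⟨1 ⊗ₜ J.toCotangent ⟨a, ha⟩, by rw [hom_tmul, one_smul, kap_toCotangent]⟩
    · exact ⟨0, by rw [map_zero]; exact (map_zero _).symm⟩
    · rintro a b ha hb ⟨za, hza⟩ ⟨zb, hzb⟩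
      refine ⟨za + zb, ?_⟩
      rw [map_add, hza, hzb, ← map_add]
      rfl
    · rintro t a ha ⟨za, hza⟩
      refine ⟨t • za, ?_⟩
      rw [map_smul, hza, ← map_smul]
      rfl
  exact key x hx

theorem hom_injective [Module.Flat R R'] : Function.Injective (hom R' J) := by
  let f : (Je R' J).Cotangent →ₗ[R'] R' ⧸ (Je R' J) ^ 2 := (Je R' J).cotangentToQuotientSquare
  suffices h : Function.Injective (f ∘ₗ hom R' J) from .of_comp h
  let g : R' ⊗[R] J.Cotangent →ₗ[R'] R' ⊗[R] (R ⧸ J ^ 2) :=
    AlgebraTensorModule.lTensor R' R' J.cotangentToQuotientSquare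
  let hₐ : R' ⊗[R] (R ⧸ J ^ 2) ≃ₐ[R'] R' ⧸ (Je R' J) ^ 2 :=
    (Algebra.TensorProduct.quotIdealMapEquivTensorQuot (A := R) R' (J ^ 2)).symm.trans
      (Ideal.quotientEquivAlgOfEq R' (Ideal.map_pow _ _ _))
  have : f ∘ₗ hom R' J = hₐ.toLinearMap ∘ₗ g := by
    refine LinearMap.ext fun z => ?_
    induction z using TensorProduct.induction_on with
    | zero => simp
    | add a b ha hb => rw [map_add, map_add, ha, hb]
    | tmul t x =>
      obtain ⟨x, rfl⟩ := J.toCotangent_surjective x
      rw [LinearMap.comp_apply, LinearMap.comp_apply, hom_tmul, map_smul, kap_toCotangent]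
      change t • (Je R' J).cotangentToQuotientSquare _ = hₐ (t ⊗ₜ J.cotangentToQuotientSquare _)
      rw [Ideal.toCotangent_to_quotient_square, Ideal.toCotangent_to_quotient_square]
      simp [hₐ]
      rw [Algebra.smul_def, Algebra.smul_def, IsScalarTower.algebraMap_apply R R' (R' ⧸ Je R' J ^ 2),
        Ideal.Quotient.algebraMap_eq, ← map_mul, mul_comm]
  rw [this, LinearMap.coe_comp]
  apply hₐ.injective.comp
  exact Module.Flat.lTensor_preserves_injective_linearMap (M := R')
      (J.cotangentToQuotientSquare) J.cotangentToQuotientSquare_injective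

end cot

section proj

variable {R R' : Type u} [CommRing R] [CommRing R'] [Algebra R R'] (J : Ideal R)

theorem faithfullyFlat_quot [Module.FaithfullyFlat R R'] :
    Module.FaithfullyFlat (R ⧸ J) (R' ⧸ Je R' J) :=
  Module.FaithfullyFlat.of_linearEquiv (R ⧸ J) ((R ⧸ J) ⊗[R] R')
    (Algebra.TensorProduct.quotIdealMapEquivQuotTensor R' J).toLinearEquiv

variable (R') in
/-- the `R ⧸ J`-module structure on the conormal module of the extended ideal -/
@[instance_reducible]
noncomputable def modC : Module (R ⧸ J) (Je R' J).Cotangent :=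
  Module.compHom (Je R' J).Cotangent (algebraMap (R ⧸ J) (R' ⧸ Je R' J))

attribute [local instance] modC

instance towerC : IsScalarTower (R ⧸ J) (R' ⧸ Je R' J) (Je R' J).Cotangent :=
  IsScalarTower.of_algebraMap_smul fun _ => congrFun rfl

theorem mk_smul_cot (r : R) (y : (Je R' J).Cotangent) :
    (Ideal.Quotient.mk J r) • y = r • y := by
  change algebraMap (R ⧸ J) (R' ⧸ Je R' J) (Ideal.Quotient.mk J r) • y = r • y
  rw [Ideal.Quotient.algebraMap_quotient_map_quotient]
  rw [← algebraMap_smul R' r y]
  exact algebraMap_smul (R' ⧸ Je R' J) (algebraMap R R' r) y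

variable (R') in
/-- `kap` as an `R ⧸ J`-linear map -/
noncomputable def kapC : J.Cotangent →ₗ[R ⧸ J] (Je R' J).Cotangent where
  toFun := kap R' J
  map_add' := map_add _
  map_smul' := by
    intro c n
    obtain ⟨r, rfl⟩ := Ideal.Quotient.mk_surjective c
    rw [RingHom.id_apply, mk_smul_cot, ← map_smul]
    congr 1

variable (R') in
/-- the base change map over the quotient rings -/
noncomputable def theta : (R' ⧸ Je R' J) ⊗[R ⧸ J] J.Cotangent →ₗ[R' ⧸ Je R' J] (Je R' J).Cotangent :=
  LinearMap.liftBaseChange (R' ⧸ Je R' J) (kapC R' J)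

theorem theta_tmul (c : R' ⧸ Je R' J) (n : J.Cotangent) :
    theta R' J (c ⊗ₜ n) = c • kap R' J n := by
  simp [theta, kapC]

variable (R') in
/-- comparison of the two tensor products -/
noncomputable def pp : R' ⊗[R] J.Cotangent →+ (R' ⧸ Je R' J) ⊗[R ⧸ J] J.Cotangent :=
  TensorProduct.liftAddHom
    { toFun := fun t => ((TensorProduct.mk (R ⧸ J) (R' ⧸ Je R' J) J.Cotangent)
        (Ideal.Quotient.mk _ t)).toAddMonoidHom
      map_zero' := by ext; simp
      map_add' := by intros; ext; simp }
    (by
      intro r t n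
      simp only [AddMonoidHom.coe_mk, ZeroHom.coe_mk, LinearMap.toAddMonoidHom_coe, mk_apply]
      have h1 : Ideal.Quotient.mk (Je R' J) (r • t) =
          (Ideal.Quotient.mk J r) • Ideal.Quotient.mk (Je R' J) t := by
        rw [Algebra.smul_def, Algebra.smul_def, map_mul]
        rfl
      rw [h1, smul_tmul]
      congr 1)

theorem pp_tmul (t : R') (n : J.Cotangent) :
    pp R' J (t ⊗ₜ n) = (Ideal.Quotient.mk (Je R' J) t) ⊗ₜ n := rfl

theorem pp_surjective : Function.Surjective (pp R' J) := by
  intro z
  induction z using TensorProduct.induction_on with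
  | zero => exact ⟨0, map_zero _⟩
  | add a b ha hb =>
    obtain ⟨a', rfl⟩ := ha
    obtain ⟨b', rfl⟩ := hb
    exact ⟨a' + b', map_add _ _ _⟩
  | tmul c n =>
    obtain ⟨t, rfl⟩ := Ideal.Quotient.mk_surjective c
    exact ⟨t ⊗ₜ n, pp_tmul J t n⟩

theorem theta_pp (z : R' ⊗[R] J.Cotangent) : theta R' J (pp R' J z) = hom R' J z := by
  induction z using TensorProduct.induction_on with
  | zero => simp
  | add a b ha hb => rw [map_add, map_add, map_add, ha, hb]
  | tmul t n =>
    rw [pp_tmul, theta_tmul, hom_tmul]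
    exact algebraMap_smul (R' ⧸ Je R' J) t (kap R' J n)

theorem theta_bijective [Module.Flat R R'] : Function.Bijective (theta R' J) := by
  constructor
  · intro a b hab
    obtain ⟨a', rfl⟩ := pp_surjective J a
    obtain ⟨b', rfl⟩ := pp_surjective J b
    rw [theta_pp, theta_pp] at hab
    rw [hom_injective J hab]
  · intro y
    obtain ⟨z, rfl⟩ := hom_surjective J y
    exact ⟨pp R' J z, theta_pp J z⟩

theorem finite_projective_cotangent [Module.FaithfullyFlat R R']
    [Module.Finite (R' ⧸ Je R' J) (Je R' J).Cotangent]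
    [Module.Projective (R' ⧸ Je R' J) (Je R' J).Cotangent] :
    Module.Finite (R ⧸ J) J.Cotangent ∧ Module.Projective (R ⧸ J) J.Cotangent := by
  haveI := faithfullyFlat_quot (R' := R') J
  let e : (R' ⧸ Je R' J) ⊗[R ⧸ J] J.Cotangent ≃ₗ[R' ⧸ Je R' J] (Je R' J).Cotangent :=
    LinearEquiv.ofBijective (theta R' J) (theta_bijective J)
  haveI : Module.Finite (R' ⧸ Je R' J) ((R' ⧸ Je R' J) ⊗[R ⧸ J] J.Cotangent) :=
    Module.Finite.equiv e.symm
  haveI : Module.Projective (R' ⧸ Je R' J) ((R' ⧸ Je R' J) ⊗[R ⧸ J] J.Cotangent) :=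
    Module.Projective.of_equiv e.symm
  exact projective_of_tensorProduct (R ⧸ J) (R' ⧸ Je R' J) J.Cotangent

end proj

open PP16 Groth.Agent.Lib.Helper13 Groth.Agent.Lib.Helper13.SymGrA Groth.Agent.Lib.Helper13.SymGrB

section lists

variable {R : Type u} [CommRing R] (J : Ideal R) (ι : Type u) [Fintype ι]

/-- the symmetric tensor attached to a list of (coefficient, family of elements of `J`) -/
noncomputable def rep (l : List (R × (ι → J))) : SymmetricPower R ι J.Cotangent :=
  (l.map (fun p => p.1 • SymmetricPower.tprod R (fun i => J.toCotangent (p.2 i)))).sum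

/-- the element `Σ c ∏ x_i` of `J ^ n` attached to a list -/
noncomputable def valJ (l : List (R × (ι → J))) : ↥(J ^ Fintype.card ι) :=
  (l.map (fun p => p.1 • (⟨∏ i, ((p.2 i : J) : R),
    SymGrA.prod_mem_pow J _ (fun i => (p.2 i).2)⟩ : ↥(J ^ Fintype.card ι)))).sum

/-- the element `Σ c ∏ x_i` of `R` attached to a list -/
def val (l : List (R × (ι → J))) : R := (l.map (fun p => p.1 * ∏ i, ((p.2 i : J) : R))).sum

theorem rep_nil : rep J ι [] = 0 := rfl

theorem rep_cons (p : R × (ι → J)) (l : List (R × (ι → J))) :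
    rep J ι (p :: l) =
      p.1 • SymmetricPower.tprod R (fun i => J.toCotangent (p.2 i)) + rep J ι l := by
  rw [rep, List.map_cons, List.sum_cons]; rfl

theorem rep_append (l₁ l₂ : List (R × (ι → J))) :
    rep J ι (l₁ ++ l₂) = rep J ι l₁ + rep J ι l₂ := by
  rw [rep, List.map_append, List.sum_append]; rfl

theorem exists_rep (z : SymmetricPower R ι J.Cotangent) : ∃ l, z = rep J ι l := by
  induction z using SymPow.induction_on with
  | tprod m =>
    refine ⟨[(1, fun i => sec J (m i))], ?_⟩
    rw [rep_cons, rep_nil, add_zero, one_smul]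
    congr 1
    funext i
    exact (toCotangent_sec J (m i)).symm
  | zero => exact ⟨[], rfl⟩
  | add x y hx hy =>
    obtain ⟨l₁, rfl⟩ := hx
    obtain ⟨l₂, rfl⟩ := hy
    exact ⟨l₁ ++ l₂, (rep_append J ι l₁ l₂).symm⟩
  | smul r x hx =>
    obtain ⟨l, rfl⟩ := hx
    refine ⟨l.map (fun p => (r * p.1, p.2)), ?_⟩
    induction l with
    | nil => simp [rep]
    | cons p l ih =>
      rw [List.map_cons, rep_cons, rep_cons, smul_add, ih, mul_smul]

theorem valJ_cons (p : R × (ι → J)) (l : List (R × (ι → J))) :
    valJ J ι (p :: l) = p.1 • (⟨∏ i, ((p.2 i : J) : R),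
      SymGrA.prod_mem_pow J _ (fun i => (p.2 i).2)⟩ : ↥(J ^ Fintype.card ι)) + valJ J ι l := by
  rw [valJ, List.map_cons, List.sum_cons]; rfl

theorem val_cons (p : R × (ι → J)) (l : List (R × (ι → J))) :
    val J ι (p :: l) = p.1 * ∏ i, ((p.2 i : J) : R) + val J ι l := by
  rw [val, List.map_cons, List.sum_cons]; rfl

theorem canon_rep (l : List (R × (ι → J))) :
    canon J ι (rep J ι l) =
      Submodule.mkQ (Submodule.comap (J ^ Fintype.card ι).subtype (J ^ (Fintype.card ι + 1)))
        (valJ J ι l) := by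
  induction l with
  | nil => simp [rep, valJ]
  | cons p l ih =>
    rw [rep_cons, map_add, map_smul, ih, canon_tprod, valJ_cons, map_add, map_smul]
    rfl

theorem coe_valJ (l : List (R × (ι → J))) : ((valJ J ι l : ↥(J ^ Fintype.card ι)) : R) = val J ι l := by
  induction l with
  | nil => simp [valJ, val]
  | cons p l ih =>
    rw [valJ_cons, val_cons, Submodule.coe_add, Submodule.coe_smul, smul_eq_mul, ih]

theorem canon_rep_eq_zero_iff (l : List (R × (ι → J))) :
    canon J ι (rep J ι l) = 0 ↔ val J ι l ∈ J ^ (Fintype.card ι + 1) := by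
  rw [canon_rep, Submodule.mkQ_apply, Submodule.Quotient.mk_eq_zero, Submodule.mem_comap,
    Submodule.subtype_apply, coe_valJ]

end lists

section descent

variable {R R' : Type u} [CommRing R] [CommRing R'] [Algebra R R'] (J : Ideal R)
variable (ι : Type u) [Fintype ι]

variable (R') in
/-- push a list forward along `R → R'` -/
def pushL (l : List (R × (ι → J))) : List (R' × (ι → Je R' J)) :=
  l.map (fun p => (algebraMap R R' p.1,
    fun i => ⟨algebraMap R R' (p.2 i), Ideal.mem_map_of_mem _ (p.2 i).2⟩))

theorem val_pushL (l : List (R × (ι → J))) :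
    val (Je R' J) ι (pushL R' J ι l) = algebraMap R R' (val J ι l) := by
  induction l with
  | nil => simp [pushL, val]
  | cons p l ih =>
    rw [pushL, List.map_cons, val_cons, val_cons, map_add, map_mul, map_prod]
    congr 1

variable (R') in
/-- coefficient extension of polynomials, as an `R`-linear map -/
noncomputable def Mℓ : MvPolynomial J.Cotangent (R ⧸ J) →ₗ[R]
    MvPolynomial J.Cotangent (R' ⧸ Je R' J) :=
  (MvPolynomial.mapAlgHom (IsScalarTower.toAlgHom R (R ⧸ J) (R' ⧸ Je R' J))).toLinearMap

theorem Mℓ_apply (f : MvPolynomial J.Cotangent (R ⧸ J)) :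
    Mℓ R' J f = MvPolynomial.map (algebraMap (R ⧸ J) (R' ⧸ Je R' J)) f := rfl

variable (ℓ : J.Cotangent →ₗ[R ⧸ J] MvPolynomial J.Cotangent (R ⧸ J))

variable (R') in
/-- the extended linear forms -/
noncomputable def ell' [Module.Flat R R'] :
    (Je R' J).Cotangent →ₗ[R'] MvPolynomial J.Cotangent (R' ⧸ Je R' J) :=
  (LinearMap.liftBaseChange R' (Mℓ R' J ∘ₗ ℓ.restrictScalars R)) ∘ₗ
    (LinearEquiv.ofBijective (hom R' J) ⟨hom_injective J, hom_surjective J⟩).symm.toLinearMap

theorem ell'_kap [Module.Flat R R'] (n : J.Cotangent) :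
    ell' R' J ℓ (kap R' J n) = Mℓ R' J (ℓ n) := by
  have h : (LinearEquiv.ofBijective (hom R' J) ⟨hom_injective J, hom_surjective J⟩).symm
      (kap R' J n) = 1 ⊗ₜ n := by
    rw [LinearEquiv.symm_apply_eq]
    change kap R' J n = hom R' J (1 ⊗ₜ n)
    rw [hom_tmul, one_smul]
  rw [ell', LinearMap.comp_apply, LinearEquiv.coe_coe, h, LinearMap.liftBaseChange_tmul, one_smul]
  rfl

variable (R') in
/-- the polynomial attached to a symmetric tensor over `R'` -/
noncomputable def beta' [Module.Flat R R'] :
    SymmetricPower R' ι (Je R' J).Cotangent →ₗ[R'] MvPolynomial J.Cotangent (R' ⧸ Je R' J) :=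
  SymPow.lift ((MultilinearMap.mkPiAlgebra R' ι (MvPolynomial J.Cotangent (R' ⧸ Je R' J))).compLinearMap
    (fun _ => ell' R' J ℓ)) (fun e m => by
      simp only [MultilinearMap.compLinearMap_apply, MultilinearMap.mkPiAlgebra_apply]
      exact Equiv.prod_comp e (fun i => ell' R' J ℓ (m i)))

theorem beta'_tprod [Module.Flat R R'] (m : ι → (Je R' J).Cotangent) :
    beta' R' J ι ℓ (SymmetricPower.tprod R' m) = ∏ i, ell' R' J ℓ (m i) := by
  rw [beta', SymPow.lift_tprod]
  simp

theorem beta'_rep_pushL [Module.Flat R R'] [Nonempty ι] (l : List (R × (ι → J))) :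
    beta' R' J ι ℓ (rep (Je R' J) ι (pushL R' J ι l)) = Mℓ R' J (beta ι ℓ (rep J ι l)) := by
  induction l with
  | nil => simp [pushL, rep]
  | cons p l ih =>
    have hc : pushL R' J ι (p :: l) = (algebraMap R R' p.1,
        fun i => ⟨algebraMap R R' (p.2 i), Ideal.mem_map_of_mem _ (p.2 i).2⟩) :: pushL R' J ι l := by
      rw [pushL, List.map_cons]; rfl
    have key : Mℓ R' J (∏ i, ℓ (J.toCotangent (p.2 i))) =
        ∏ i, ell' R' J ℓ ((Je R' J).toCotangent
          ⟨algebraMap R R' (p.2 i), Ideal.mem_map_of_mem _ (p.2 i).2⟩) := by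
      rw [Mℓ_apply, map_prod]
      apply Finset.prod_congr rfl
      intro i _
      rw [← Mℓ_apply, ← ell'_kap, kap_toCotangent]
    rw [hc, rep_cons, rep_cons, map_add, map_add, map_add, ih, map_smul, map_smul, map_smul,
      beta'_tprod, beta_tprod, key, algebraMap_smul]

theorem canon_injective_descent [Module.FaithfullyFlat R R']
    [Module.Projective (R ⧸ J) J.Cotangent]
    (hinj' : ∀ (ι : Type u) [Fintype ι] [Nonempty ι], Function.Injective (canon (Je R' J) ι)) :
    ∀ (ι : Type u) [Fintype ι] [Nonempty ι], Function.Injective (canon J ι) := by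
  intro ι _ _
  rw [injective_iff_map_eq_zero]
  intro z hz
  obtain ⟨ℓ, -, hℓ⟩ := exists_linear_forms (R := R) (J := J) (P := J.Cotangent)
  apply hℓ ι z
  suffices h : beta ι ℓ z = 0 by rw [h]; exact zero_mem _
  obtain ⟨l, rfl⟩ := exists_rep J ι z
  have h1 : val J ι l ∈ J ^ (Fintype.card ι + 1) := (canon_rep_eq_zero_iff J ι l).mp hz
  have h2 : val (Je R' J) ι (pushL R' J ι l) ∈ (Je R' J) ^ (Fintype.card ι + 1) := by
    rw [val_pushL, Je, ← Ideal.map_pow]
    exact Ideal.mem_map_of_mem _ h1
  have h3 : rep (Je R' J) ι (pushL R' J ι l) = 0 :=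
    hinj' ι (by rw [(canon_rep_eq_zero_iff _ ι _).mpr h2, map_zero])
  have h4 := beta'_rep_pushL (R' := R') J ι ℓ l
  rw [h3, map_zero] at h4
  haveI := faithfullyFlat_quot (R' := R') J
  have hinjC : Function.Injective (algebraMap (R ⧸ J) (R' ⧸ Je R' J)) :=
    FaithfulSMul.algebraMap_injective _ _
  have := MvPolynomial.map_injective (σ := J.Cotangent) _ hinjC
  apply this
  rw [map_zero, ← Mℓ_apply, ← h4]

end descent

end Groth.Agent.Lib.Helper9.QRegDescent
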