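import Mathlib
import Groth.Prelude.Def_PP16
import Groth.Prelude.Def_CAlgX
import Groth.Agent.Lib.Helper13.SymGrA
import Groth.Agent.Lib.Helper13.SymGrB
import Groth.Agent.Lib.Helper13.SymPow
import Groth.Agent.Lib.Helper77.QuasiReg
import Groth.Agent.Lib.Helper77.QuasiRegGen
import Groth.Agent.Lib.Helper77.QuasiRegCot

/-!
# Locally quasi-regular ideals, part A (EGA IV 16.9.3 ⇒) (helper9)

A locally quasi-regular ideal is finitely generated, its conormal module is projective and the
canonical maps `Sym^n(J/J²) → J^n/J^(n+1)` are injective.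
-/

set_option autoImplicit false
set_option linter.style.haveILetI false

namespace Groth.Agent.Lib.Helper9.QRegLocalA

open PP16 Groth.Agent.Lib.Helper13 Groth.Agent.Lib.Helper13.SymGrA Groth.Agent.Lib.Helper13.SymGrB
open Groth.Agent.Lib.Helper77.QuasiReg

universe u

section loc

variable {R : Type u} [CommRing R] (J : Ideal R) (g : R)

/-- elements of `J_g` with numerator bookkeeping: `a/1 ∈ J_g` iff `g^k a ∈ J` for some `k`. -/
theorem exists_pow_mul_mem_of_algebraMap_mem (a : R)
    (h : algebraMap R (Localization.Away g) a ∈ J.map (algebraMap R (Localization.Away g))) :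
    ∃ k : ℕ, g ^ k * a ∈ J := by
  obtain ⟨⟨⟨j, hj⟩, ⟨m, hm⟩⟩, h1⟩ :=
    (IsLocalization.mem_map_algebraMap_iff (Submonoid.powers g) (Localization.Away g)).mp h
  rw [← map_mul] at h1
  obtain ⟨⟨c, hc⟩, h2⟩ := (IsLocalization.eq_iff_exists (Submonoid.powers g) _).mp h1
  obtain ⟨k1, rfl⟩ := hm
  obtain ⟨k2, rfl⟩ := hc
  refine ⟨k2 + k1, ?_⟩
  have : g ^ (k2 + k1) * a = g ^ k2 * j := by
    rw [pow_add]; simp only at h2; rw [← h2]; ring
  rw [this]
  exact J.mul_mem_left _ hj

theorem algebraMap_mem_of_pow_mul_mem (a : R) (k : ℕ) (h : g ^ k * a ∈ J) :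
    algebraMap R (Localization.Away g) a ∈ J.map (algebraMap R (Localization.Away g)) := by
  have hu : IsUnit (algebraMap R (Localization.Away g) (g ^ k)) :=
    IsLocalization.map_units _ (⟨g ^ k, k, rfl⟩ : Submonoid.powers g)
  have h1 := Ideal.mem_map_of_mem (algebraMap R (Localization.Away g)) h
  rw [map_mul] at h1
  exact (Ideal.unit_mul_mem_iff_mem _ hu).mp h1

/-- replace a generating quasi-regular sequence of `J_g` by images of elements of `J`. -/
theorem exists_lift_seq {r : ℕ} (f : Fin r → Localization.Away g) (hq : CAlgX.IsQuasiRegular f)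
    (hs : Ideal.span (Set.range f) = J.map (algebraMap R (Localization.Away g))) :
    ∃ y : Fin r → J,
      CAlgX.IsQuasiRegular (fun i => algebraMap R (Localization.Away g) (y i : R)) ∧
      Ideal.span (Set.range fun i => algebraMap R (Localization.Away g) (y i : R)) =
        J.map (algebraMap R (Localization.Away g)) := by
  have hmem : ∀ i, f i ∈ J.map (algebraMap R (Localization.Away g)) := fun i => by
    rw [← hs]; exact Ideal.subset_span ⟨i, rfl⟩
  have := fun i =>
    (IsLocalization.mem_map_algebraMap_iff (Submonoid.powers g) (Localization.Away g)).mp (hmem i)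
  choose x hx using this
  have hu : ∀ i, IsUnit (algebraMap R (Localization.Away g) ((x i).2 : R)) := fun i =>
    IsLocalization.map_units _ (x i).2
  have hspan : Ideal.span (Set.range fun i => algebraMap R (Localization.Away g) ((x i).1 : R)) =
      Ideal.span (Set.range f) := by
    apply le_antisymm
    · rw [Ideal.span_le]
      rintro _ ⟨i, rfl⟩
      change algebraMap R (Localization.Away g) ((x i).1 : R) ∈ _
      rw [← hx i]
      exact Ideal.mul_mem_right _ _ (Ideal.subset_span ⟨i, rfl⟩)
    · rw [Ideal.span_le]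
      rintro _ ⟨i, rfl⟩
      have h1 : algebraMap R (Localization.Away g) ((x i).1 : R) ∈
          Ideal.span (Set.range fun i => algebraMap R (Localization.Away g) ((x i).1 : R)) :=
        Ideal.subset_span ⟨i, rfl⟩
      rw [← hx i] at h1
      exact (Ideal.mul_unit_mem_iff_mem _ (hu i)).mp h1
  exact ⟨fun i => (x i).1, isQuasiRegular_of_span_eq f _ hq hspan, hspan.trans hs⟩

/-- every element of `J` is, up to a power of `g`, a combination of the `y i`. -/
theorem exists_pow_mul_eq_sum {r : ℕ} (y : Fin r → J)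
    (hs : Ideal.span (Set.range fun i => algebraMap R (Localization.Away g) (y i : R)) =
      J.map (algebraMap R (Localization.Away g))) (x : R) (hx : x ∈ J) :
    ∃ (E : ℕ) (β : Fin r → R), g ^ E * x = ∑ i, β i * (y i : R) := by
  have h1 : algebraMap R (Localization.Away g) x ∈
      Ideal.span (Set.range fun i => algebraMap R (Localization.Away g) (y i : R)) := by
    rw [hs]; exact Ideal.mem_map_of_mem _ hx
  obtain ⟨c, hc⟩ := Ideal.mem_span_range_iff_exists_fun.mp h1
  obtain ⟨⟨b, hb⟩, hb'⟩ := IsLocalization.exist_integer_multiples (Submonoid.powers g)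
    (Finset.univ : Finset (Fin r)) c
  choose a ha using fun i => hb' i (Finset.mem_univ i)
  obtain ⟨s, rfl⟩ := hb
  have h2 : algebraMap R (Localization.Away g) (g ^ s * x) =
      algebraMap R (Localization.Away g) (∑ i, a i * (y i : R)) := by
    rw [map_mul, ← hc, Finset.mul_sum, map_sum]
    apply Finset.sum_congr rfl
    intro i _
    rw [map_mul, ha i, Algebra.smul_def]
    ring
  obtain ⟨⟨c', hc'⟩, h3⟩ := (IsLocalization.eq_iff_exists (Submonoid.powers g) _).mp h2
  obtain ⟨t, rfl⟩ := hc'
  refine ⟨t + s, fun i => g ^ t * a i, ?_⟩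
  simp only at h3
  rw [pow_add, mul_assoc, h3, Finset.mul_sum]
  apply Finset.sum_congr rfl
  intro i _
  ring

end loc

section repr

variable {R : Type u} [CommRing R] (J : Ideal R) (g : R) (ι : Type u) [Fintype ι] [DecidableEq ι]
variable {r : ℕ} (y : Fin r → J)

/-- the monomial in the classes of the `y i` attached to `φ : ι → Fin r`. -/
noncomputable def mon (φ : ι → Fin r) : SymmetricPower R ι J.Cotangent :=
  SymmetricPower.tprod R (fun k => J.toCotangent (y (φ k)))

theorem exists_repr
    (hs : Ideal.span (Set.range fun i => algebraMap R (Localization.Away g) (y i : R)) =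
      J.map (algebraMap R (Localization.Away g))) (w : SymmetricPower R ι J.Cotangent) :
    ∃ (E : ℕ) (c : (ι → Fin r) → R), g ^ E • w = ∑ φ, c φ • mon J ι y φ := by
  induction w using SymPow.induction_on with
  | tprod m =>
    have := fun k => exists_pow_mul_eq_sum J g y hs (sec J (m k) : R) (sec J (m k)).2
    choose E β hβ using this
    have h1 : ∀ k, g ^ E k • m k = ∑ i, β k i • J.toCotangent (y i) := by
      intro k
      have e1 : g ^ E k • sec J (m k) = ∑ i, β k i • y i := by
        apply Subtype.ext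
        rw [Submodule.coe_smul, Submodule.coe_sum, smul_eq_mul, hβ k]
        apply Finset.sum_congr rfl
        intro i _
        rw [Submodule.coe_smul, smul_eq_mul]
      have e2 := congrArg J.toCotangent e1
      rw [map_smul, toCotangent_sec, map_sum] at e2
      rw [e2]
      apply Finset.sum_congr rfl
      intro i _
      rw [map_smul]
    refine ⟨∑ k, E k, fun φ => ∏ k, β k (φ k), ?_⟩
    rw [← Finset.prod_pow_eq_pow_sum, ← MultilinearMap.map_smul_univ]
    simp only [h1]
    rw [MultilinearMap.map_sum]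
    apply Finset.sum_congr rfl
    intro φ _
    rw [mon, ← MultilinearMap.map_smul_univ]
  | zero => exact ⟨0, fun _ => 0, by simp⟩
  | add w₁ w₂ h₁ h₂ =>
    obtain ⟨E₁, c₁, e₁⟩ := h₁
    obtain ⟨E₂, c₂, e₂⟩ := h₂
    refine ⟨E₁ + E₂, fun φ => g ^ E₂ * c₁ φ + g ^ E₁ * c₂ φ, ?_⟩
    have : g ^ (E₁ + E₂) • (w₁ + w₂) = g ^ E₂ • (g ^ E₁ • w₁) + g ^ E₁ • (g ^ E₂ • w₂) := by
      rw [smul_add, smul_smul, smul_smul, pow_add, mul_comm (g ^ E₂)]
    rw [this, e₁, e₂, Finset.smul_sum, Finset.smul_sum, ← Finset.sum_add_distrib]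
    apply Finset.sum_congr rfl
    intro φ _
    rw [smul_smul, smul_smul, add_smul]
  | smul a w h =>
    obtain ⟨E, c, e⟩ := h
    refine ⟨E, fun φ => a * c φ, ?_⟩
    rw [smul_comm, e, Finset.smul_sum]
    apply Finset.sum_congr rfl
    intro φ _
    rw [smul_smul]

end repr

section inj

theorem dOf_prod' {S : Type*} [CommMonoid S] {I κ : Type*} [Fintype κ] (a : I → S) (f : κ → I) :
    (dOf f).prod (fun i n => a i ^ n) = ∏ k, a (f k) := by
  classical
  rw [dOf, ← Finsupp.prod_finsetSum_index (fun i => pow_zero _) (fun i m n => pow_add _ _ _)]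
  apply Finset.prod_congr rfl
  intro k _
  rw [Finsupp.prod_single_index (h := fun i n => a i ^ n) (pow_zero _), pow_one]

variable {R : Type u} [CommRing R] (J : Ideal R) (g : R) (ι : Type u) [Fintype ι] [DecidableEq ι]
variable {r : ℕ} (y : Fin r → J)

omit [DecidableEq ι] in
theorem mon_congr (φ φ' : ι → Fin r) (h : dOf φ = dOf φ') : mon J ι y φ = mon J ι y φ' := by
  obtain ⟨e, he⟩ := exists_perm_of_dOf_eq φ φ' h
  rw [mon, mon, ← SymmetricPower.tprod_equiv e (fun k => J.toCotangent (y (φ k)))]
  congr 1; funext k; rw [he]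

/-- the homogeneous polynomial attached to a coefficient family. -/
noncomputable def polyOf (c : (ι → Fin r) → R) : MvPolynomial (Fin r) R :=
  ∑ φ, MvPolynomial.monomial (dOf φ) (c φ)

theorem polyOf_isHomogeneous (c : (ι → Fin r) → R) :
    (polyOf ι c).IsHomogeneous (Fintype.card ι) := by
  apply MvPolynomial.IsHomogeneous.sum
  intro φ _
  exact MvPolynomial.isHomogeneous_monomial _ (degree_dOf φ)

theorem eval_polyOf (c : (ι → Fin r) → R) (a : Fin r → R) :
    MvPolynomial.eval a (polyOf ι c) = ∑ φ, c φ * ∏ k, a (φ k) := by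
  rw [polyOf, map_sum]
  apply Finset.sum_congr rfl
  intro φ _
  rw [MvPolynomial.eval_monomial, dOf_prod']

theorem coeff_polyOf (c : (ι → Fin r) → R) (d : Fin r →₀ ℕ) :
    MvPolynomial.coeff d (polyOf ι c) = ∑ φ with dOf φ = d, c φ := by
  rw [polyOf, MvPolynomial.coeff_sum, Finset.sum_filter]
  apply Finset.sum_congr rfl
  intro φ _
  rw [MvPolynomial.coeff_monomial]

theorem canon_sum_mon (c : (ι → Fin r) → R)
    (h : canon J ι (∑ φ, c φ • mon J ι y φ) = 0) :
    MvPolynomial.eval (fun i => (y i : R)) (polyOf ι c) ∈ J ^ (Fintype.card ι + 1) := by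
  rw [eval_polyOf]
  have hmem : ∀ φ : ι → Fin r, ∏ k, ((y (φ k) : J) : R) ∈ J ^ Fintype.card ι := fun φ =>
    prod_mem_pow J (fun k => ((y (φ k) : J) : R)) (fun k => (y (φ k)).2)
  let v : ↥(J ^ Fintype.card ι) := ∑ φ, c φ • ⟨∏ k, ((y (φ k) : J) : R), hmem φ⟩
  have h1 : canon J ι (∑ φ, c φ • mon J ι y φ) =
      Submodule.mkQ (Submodule.comap (J ^ Fintype.card ι).subtype (J ^ (Fintype.card ι + 1))) v := by
    rw [map_sum, map_sum]
    apply Finset.sum_congr rfl
    intro φ _
    rw [map_smul, map_smul, mon, canon_tprod]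
    rfl
  rw [h1, Submodule.mkQ_apply, Submodule.Quotient.mk_eq_zero, Submodule.mem_comap] at h
  convert h using 1
  simp only [v, Submodule.subtype_apply, Submodule.coe_sum, Submodule.coe_smul, smul_eq_mul]

theorem exists_pow_smul_eq_zero [Nonempty ι]
    (hq : CAlgX.IsQuasiRegular (fun i => algebraMap R (Localization.Away g) (y i : R)))
    (hs : Ideal.span (Set.range fun i => algebraMap R (Localization.Away g) (y i : R)) =
      J.map (algebraMap R (Localization.Away g)))
    (w : SymmetricPower R ι J.Cotangent) (hw : canon J ι w = 0) : ∃ k : ℕ, g ^ k • w = 0 := by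
  obtain ⟨E, c, e⟩ := exists_repr J g ι y hs w
  have h0 : canon J ι (∑ φ, c φ • mon J ι y φ) = 0 := by
    rw [← e, map_smul, hw, smul_zero]
  have h1 := canon_sum_mon J ι y c h0
  -- pass to the localization
  have h2 : MvPolynomial.eval (fun i => algebraMap R (Localization.Away g) (y i : R))
      (MvPolynomial.map (algebraMap R (Localization.Away g)) (polyOf ι c)) ∈
      Ideal.span (Set.range fun i => algebraMap R (Localization.Away g) (y i : R)) ^
        (Fintype.card ι + 1) := by
    rw [hs, ← Ideal.map_pow, MvPolynomial.eval_map]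
    have : MvPolynomial.eval₂ (algebraMap R (Localization.Away g))
        (fun i => algebraMap R (Localization.Away g) (y i : R)) (polyOf ι c) =
        algebraMap R (Localization.Away g)
          (MvPolynomial.eval (fun i => (y i : R)) (polyOf ι c)) := by
      rw [MvPolynomial.eval, MvPolynomial.coe_eval₂Hom, MvPolynomial.eval₂_comp_left]
      rfl
    rw [this]
    exact Ideal.mem_map_of_mem _ h1
  have h3 := hq (Fintype.card ι) _ ((polyOf_isHomogeneous ι c).map _) h2
  have h4 : ∀ d : Fin r →₀ ℕ, ∃ k : ℕ, g ^ k * MvPolynomial.coeff d (polyOf ι c) ∈ J := by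
    intro d
    apply exists_pow_mul_mem_of_algebraMap_mem
    rw [← hs, ← MvPolynomial.coeff_map]
    exact h3 d
  choose kd hkd using h4
  let S : Finset (Fin r →₀ ℕ) := (Finset.univ : Finset (ι → Fin r)).image dOf
  let K : ℕ := ∑ d ∈ S, kd d
  have hK : ∀ d ∈ S, g ^ K * MvPolynomial.coeff d (polyOf ι c) ∈ J := by
    intro d hd
    have hle : kd d ≤ K := Finset.single_le_sum (f := kd) (fun _ _ => Nat.zero_le _) hd
    obtain ⟨t, ht⟩ := Nat.exists_eq_add_of_le hle
    rw [ht, pow_add, mul_comm (g ^ kd d), mul_assoc]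
    exact J.mul_mem_left _ (hkd d)
  refine ⟨K + E, ?_⟩
  rw [pow_add, mul_smul, e, Finset.smul_sum,
    ← Finset.sum_fiberwise_of_maps_to (t := S) (g := dOf)
      (fun φ hφ => Finset.mem_image_of_mem _ hφ)]
  apply Finset.sum_eq_zero
  intro d hd
  obtain ⟨φ₀, -, rfl⟩ := Finset.mem_image.mp hd
  have hcl : ∀ φ ∈ (Finset.univ : Finset (ι → Fin r)).filter (fun φ => dOf φ = dOf φ₀),
      g ^ K • c φ • mon J ι y φ = (g ^ K * c φ) • mon J ι y φ₀ := by
    intro φ hφ
    rw [mon_congr J ι y φ φ₀ (Finset.mem_filter.mp hφ).2, smul_smul]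
  rw [Finset.sum_congr rfl hcl, ← Finset.sum_smul, ← Finset.mul_sum, ← coeff_polyOf]
  exact SymPow.smul_eq_zero_of_forall
    (fun m => Ideal.Cotangent.smul_eq_zero_of_mem (hK _ hd) m) _

end inj

section global

variable {R : Type u} [CommRing R] (J : Ideal R)

/-- the elements `g` such that `J_g` is the unit ideal or generated by a quasi-regular sequence
coming from `J`. -/
def good : Set R :=
  {g | g ∈ J ∨ ∃ (r : ℕ) (y : Fin r → J),
    CAlgX.IsQuasiRegular (fun i => algebraMap R (Localization.Away g) (y i : R)) ∧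
    Ideal.span (Set.range fun i => algebraMap R (Localization.Away g) (y i : R)) =
      J.map (algebraMap R (Localization.Away g))}

theorem exists_good_not_mem (h : IsLocallyQuasiRegular R J) (P : Ideal R) [P.IsPrime] :
    ∃ g ∈ good J, g ∉ P := by
  by_cases hJ : J ≤ P
  · obtain ⟨g, hg, r, f, hq, hs⟩ := h P hJ
    obtain ⟨y, hy1, hy2⟩ := exists_lift_seq J g f hq hs
    exact ⟨g, Or.inr ⟨r, y, hy1, hy2⟩, hg⟩
  · obtain ⟨x, hxJ, hx⟩ := SetLike.not_le_iff_exists.mp hJ
    exact ⟨x, Or.inl hxJ, hx⟩

theorem span_good (h : IsLocallyQuasiRegular R J) : Ideal.span (good J) = ⊤ := by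
  by_contra hne
  obtain ⟨𝔪, hmax, hle⟩ := Ideal.exists_le_maximal _ hne
  haveI := hmax.isPrime
  obtain ⟨g, hg, hg'⟩ := exists_good_not_mem J h 𝔪
  exact hg' (hle (Ideal.subset_span hg))

theorem fg_of_locallyQuasiRegular (h : IsLocallyQuasiRegular R J) : J.FG := by
  apply Ideal.fg_of_localizationSpan (good J) (span_good J h)
  rintro ⟨g, hg⟩
  rcases hg with hg | ⟨r, y, hq, hs⟩
  · have : J.map (algebraMap R (Localization.Away g)) = ⊤ :=
      Ideal.eq_top_of_isUnit_mem _ (Ideal.mem_map_of_mem _ hg)
        (IsLocalization.Away.algebraMap_isUnit g)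
    change (J.map (algebraMap R (Localization.Away g))).FG
    rw [this]
    exact ⟨{1}, by simp⟩
  · change (J.map (algebraMap R (Localization.Away g))).FG
    rw [← hs]
    exact Submodule.fg_span (Set.finite_range _)

theorem canon_injective_of_locallyQuasiRegular (h : IsLocallyQuasiRegular R J)
    (ι : Type u) [Fintype ι] [Nonempty ι] : Function.Injective (canon J ι) := by
  classical
  rw [injective_iff_map_eq_zero]
  intro w hw
  have hann : LinearMap.ker (LinearMap.toSpanSingleton R _ w) = (⊤ : Ideal R) := by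
    by_contra hne
    obtain ⟨𝔪, hmax, hle⟩ := Ideal.exists_le_maximal _ hne
    haveI := hmax.isPrime
    obtain ⟨g, hg, hg'⟩ := exists_good_not_mem J h 𝔪
    rcases hg with hg | ⟨r, y, hq, hs⟩
    · apply hg'
      apply hle
      rw [LinearMap.mem_ker, LinearMap.toSpanSingleton_apply]
      exact SymPow.smul_eq_zero_of_forall
        (fun m => Ideal.Cotangent.smul_eq_zero_of_mem hg m) w
    · obtain ⟨k, hk⟩ := exists_pow_smul_eq_zero J g ι y hq hs w hw
      apply hg'
      apply hmax.isPrime.mem_of_pow_mem k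
      apply hle
      rw [LinearMap.mem_ker, LinearMap.toSpanSingleton_apply]
      exact hk
  have h1 : (1 : R) ∈ LinearMap.ker (LinearMap.toSpanSingleton R _ w) := by
    rw [hann]; trivial
  rw [LinearMap.mem_ker, LinearMap.toSpanSingleton_apply, one_smul] at h1
  exact h1

end global

section proj

variable {R : Type u} [CommRing R] (J : Ideal R) (g : R)
variable {r : ℕ} (y : Fin r → J)

local notation "gb" => (Ideal.Quotient.mk J g)

theorem mk_smul_cot (a : R) (n : J.Cotangent) : (Ideal.Quotient.mk J a) • n = a • n :=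
  IsScalarTower.algebraMap_smul (R ⧸ J) a n

/-- the candidate basis of the localized conormal module. -/
noncomputable def vv (i : Fin r) : LocalizedModule.Away gb J.Cotangent :=
  LocalizedModule.mkLinearMap (Submonoid.powers gb) J.Cotangent (J.toCotangent (y i))

theorem isUnit_gb_pow (k : ℕ) :
    IsUnit (algebraMap (R ⧸ J) (Localization.Away gb) (gb ^ k)) :=
  IsLocalization.map_units _ (⟨gb ^ k, k, rfl⟩ : Submonoid.powers gb)

theorem span_vv
    (hs : Ideal.span (Set.range fun i => algebraMap R (Localization.Away g) (y i : R)) =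
      J.map (algebraMap R (Localization.Away g))) :
    ⊤ ≤ Submodule.span (Localization.Away gb) (Set.range (vv J g y)) := by
  set V := Submodule.span (Localization.Away gb) (Set.range (vv J g y)) with hV
  have h1 : ∀ n : J.Cotangent,
      LocalizedModule.mkLinearMap (Submonoid.powers gb) J.Cotangent n ∈ V := by
    intro n
    obtain ⟨⟨x, hx⟩, rfl⟩ := Ideal.toCotangent_surjective J n
    obtain ⟨E, β, hβ⟩ := exists_pow_mul_eq_sum J g y hs x hx
    have e1 : g ^ E • (⟨x, hx⟩ : J) = ∑ i, β i • y i := by
      apply Subtype.ext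
      rw [Submodule.coe_smul, Submodule.coe_sum, smul_eq_mul, hβ]
      apply Finset.sum_congr rfl
      intro i _
      rw [Submodule.coe_smul, smul_eq_mul]
    have e2 : (gb ^ E) • J.toCotangent ⟨x, hx⟩ =
        ∑ i, (Ideal.Quotient.mk J (β i)) • J.toCotangent (y i) := by
      rw [← map_pow, mk_smul_cot, ← map_smul, e1, map_sum]
      apply Finset.sum_congr rfl
      intro i _
      rw [map_smul, mk_smul_cot]
    have e3 := congrArg (LocalizedModule.mkLinearMap (Submonoid.powers gb) J.Cotangent) e2
    rw [map_smul, map_sum] at e3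
    have e4 : (gb ^ E) • LocalizedModule.mkLinearMap (Submonoid.powers gb) J.Cotangent
        (J.toCotangent ⟨x, hx⟩) ∈ V := by
      rw [e3]
      apply Submodule.sum_mem
      intro i _
      rw [map_smul, ← algebraMap_smul (Localization.Away gb)]
      exact Submodule.smul_mem _ _ (Submodule.subset_span ⟨i, rfl⟩)
    rw [← algebraMap_smul (Localization.Away gb)] at e4
    exact (Submodule.smul_mem_iff_of_isUnit _ (isUnit_gb_pow J g E)).mp e4
  rintro z -
  obtain ⟨⟨n, ⟨s, k, rfl⟩⟩, hz⟩ := IsLocalizedModule.surj (Submonoid.powers gb)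
    (LocalizedModule.mkLinearMap (Submonoid.powers gb) J.Cotangent) z
  have e5 : (gb ^ k) • z ∈ V := by
    have : (gb ^ k) • z = LocalizedModule.mkLinearMap (Submonoid.powers gb) J.Cotangent n := hz
    rw [this]; exact h1 n
  rw [← algebraMap_smul (Localization.Away gb)] at e5
  exact (Submodule.smul_mem_iff_of_isUnit _ (isUnit_gb_pow J g k)).mp e5

theorem linearIndependent_vv
    (hq : CAlgX.IsQuasiRegular (fun i => algebraMap R (Localization.Away g) (y i : R)))
    (hs : Ideal.span (Set.range fun i => algebraMap R (Localization.Away g) (y i : R)) =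
      J.map (algebraMap R (Localization.Away g))) :
    LinearIndependent (Localization.Away gb) (vv J g y) := by
  rw [Fintype.linearIndependent_iff]
  intro c hc i
  obtain ⟨⟨b, kb, rfl⟩, hb'⟩ := IsLocalization.exist_integer_multiples (Submonoid.powers gb)
    (Finset.univ : Finset (Fin r)) c
  choose a ha using fun i => hb' i (Finset.mem_univ i)
  simp only at ha
  -- lift the numerators to `R`
  have hlift : ∀ i, ∃ α : R, Ideal.Quotient.mk J α = a i := fun i => Ideal.Quotient.mk_surjective _
  choose α hα using hlift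
  -- the relation in the localized module
  have h1 : LocalizedModule.mkLinearMap (Submonoid.powers gb) J.Cotangent
      (∑ i, a i • J.toCotangent (y i)) = 0 := by
    rw [map_sum]
    have : ∀ i, LocalizedModule.mkLinearMap (Submonoid.powers gb) J.Cotangent
        (a i • J.toCotangent (y i)) = (gb ^ kb) • (c i • vv J g y i) := by
      intro i
      rw [map_smul, ← algebraMap_smul (Localization.Away gb) (a i), ha i, smul_assoc]
      rfl
    rw [Finset.sum_congr rfl (fun i _ => this i), ← Finset.smul_sum, hc, smul_zero]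
  obtain ⟨⟨s, t, rfl⟩, h2⟩ := (IsLocalizedModule.eq_zero_iff (Submonoid.powers gb)
    (LocalizedModule.mkLinearMap (Submonoid.powers gb) J.Cotangent)).mp h1
  -- back in `R`
  have h3 : J.toCotangent (g ^ t • ∑ i, α i • y i) = 0 := by
    rw [map_smul, map_sum]
    have : (gb ^ t) • ∑ i, a i • J.toCotangent (y i) = 0 := h2
    rw [← map_pow, mk_smul_cot] at this
    rw [← this]
    congr 1
    apply Finset.sum_congr rfl
    intro i _
    rw [map_smul, ← hα i, mk_smul_cot]
  rw [Ideal.toCotangent_eq_zero] at h3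
  have h4 : algebraMap R (Localization.Away g) (g ^ t) *
      ∑ i, algebraMap R (Localization.Away g) (α i) * algebraMap R (Localization.Away g) (y i : R) ∈
      Ideal.span (Set.range fun i => algebraMap R (Localization.Away g) (y i : R)) ^ 2 := by
    rw [hs, ← Ideal.map_pow]
    have := Ideal.mem_map_of_mem (algebraMap R (Localization.Away g)) h3
    convert this using 1
    rw [Submodule.coe_smul, Submodule.coe_sum, smul_eq_mul, map_mul, map_sum]
    congr 1
    apply Finset.sum_congr rfl
    intro i _
    rw [Submodule.coe_smul, smul_eq_mul, map_mul]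
  have hu : IsUnit (algebraMap R (Localization.Away g) (g ^ t)) :=
    IsLocalization.map_units _ (⟨g ^ t, t, rfl⟩ : Submonoid.powers g)
  have h5 := (Ideal.unit_mul_mem_iff_mem _ hu).mp h4
  have h6 := mem_of_sum_mul_mem_sq _ hq (fun i => algebraMap R (Localization.Away g) (α i)) h5 i
  rw [hs] at h6
  obtain ⟨k, hk⟩ := exists_pow_mul_mem_of_algebraMap_mem J g (α i) h6
  -- conclude
  have h7 : (gb ^ k) * a i = 0 := by
    rw [← hα i, ← map_pow, ← map_mul]
    exact Ideal.Quotient.eq_zero_iff_mem.mpr hk
  have h8 : algebraMap (R ⧸ J) (Localization.Away gb) (a i) = 0 := by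
    rw [IsLocalization.map_eq_zero_iff (Submonoid.powers gb)]
    exact ⟨⟨gb ^ k, k, rfl⟩, h7⟩
  have h9 : (gb ^ kb) • c i = 0 := by rw [← ha i, h8]
  rw [← algebraMap_smul (Localization.Away gb), smul_eq_mul] at h9
  exact (isUnit_gb_pow J g kb).mul_right_eq_zero.mp h9

end proj

section projglobal

variable {R : Type u} [CommRing R] (J : Ideal R)

/-- the elements of `R ⧸ J` coming from good localizers of the quasi-regular type. -/
def goodQ : Set (R ⧸ J) :=
  {gb | ∃ g : R, gb = Ideal.Quotient.mk J g ∧ ∃ (r : ℕ) (y : Fin r → J),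
    CAlgX.IsQuasiRegular (fun i => algebraMap R (Localization.Away g) (y i : R)) ∧
    Ideal.span (Set.range fun i => algebraMap R (Localization.Away g) (y i : R)) =
      J.map (algebraMap R (Localization.Away g))}

theorem span_goodQ (h : IsLocallyQuasiRegular R J) : Ideal.span (goodQ J) = ⊤ := by
  by_contra hne
  obtain ⟨𝔪, hmax, hle⟩ := Ideal.exists_le_maximal _ hne
  haveI := hmax.isPrime
  haveI : (𝔪.comap (Ideal.Quotient.mk J)).IsPrime := Ideal.comap_isPrime _ _
  have hJP : J ≤ 𝔪.comap (Ideal.Quotient.mk J) := fun x hx => by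
    rw [Ideal.mem_comap, Ideal.Quotient.eq_zero_iff_mem.mpr hx]; exact 𝔪.zero_mem
  obtain ⟨g, hg, r, f, hq, hsf⟩ := h _ hJP
  obtain ⟨y, hy1, hy2⟩ := exists_lift_seq J g f hq hsf
  exact hg (hle (Ideal.subset_span ⟨g, rfl, r, y, hy1, hy2⟩))

theorem free_localized (gb : goodQ J) :
    Module.Free (Localization.Away gb.1) (LocalizedModule.Away gb.1 J.Cotangent) ∧
      Module.Finite (Localization.Away gb.1) (LocalizedModule.Away gb.1 J.Cotangent) := by
  obtain ⟨_, g, rfl, r, y, hq, hsy⟩ := gb
  let b := Module.Basis.mk (linearIndependent_vv J g y hq hsy) (span_vv J g y hsy)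
  exact ⟨Module.Free.of_basis b, Module.Finite.of_basis b⟩

theorem projective_of_locallyQuasiRegular (h : IsLocallyQuasiRegular R J) :
    Module.Projective (R ⧸ J) J.Cotangent := by
  have hs := span_goodQ J h
  haveI : Module.FinitePresentation (R ⧸ J) J.Cotangent := by
    apply Module.FinitePresentation.of_localizationSpan (goodQ J) hs
    intro gb
    haveI := (free_localized J gb).1
    haveI := (free_localized J gb).2
    exact Module.finitePresentation_of_projective _ _
  haveI : Module.Flat (R ⧸ J) J.Cotangent := by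
    apply Module.flat_of_localized_span (R ⧸ J) J.Cotangent (goodQ J) hs
    intro gb
    haveI := (free_localized J gb).1
    haveI : Module.Flat (R ⧸ J) (Localization.Away gb.1) :=
      IsLocalization.flat _ (Submonoid.powers gb.1)
    exact Module.Flat.trans (R ⧸ J) (Localization.Away gb.1) _
  exact Module.Flat.projective_of_finitePresentation

end projglobal

end Groth.Agent.Lib.Helper9.QRegLocalA
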