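import Mathlib
import Groth.Prelude.Def_PP16
import Groth.Prelude.Def_CAlgX
import Groth.Agent.Lib.Helper9.QRegLocalA

/-!
# Locally quasi-regular ideals, part B (EGA IV 16.9.3 ⇐) (helper9)

A finitely generated ideal with projective conormal module and injective canonical maps
`Sym^n(J/J²) → J^n/J^(n+1)` is locally generated by a quasi-regular sequence.
-/

set_option autoImplicit false
set_option linter.style.haveILetI false

namespace Groth.Agent.Lib.Helper9.QRegLocalB

open PP16 Groth.Agent.Lib.Helper13 Groth.Agent.Lib.Helper13.SymGrA Groth.Agent.Lib.Helper13.SymGrB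
open Groth.Agent.Lib.Helper77.QuasiReg Groth.Agent.Lib.Helper9.QRegLocalA

universe u

section beta

variable {R : Type u} [CommRing R] (J : Ideal R) (g : R)
variable {r : ℕ} (y : Fin r → J)

/-- the localization of `R ⧸ J` away from the class of `g`. -/
abbrev Lg : Type u := Localization.Away (Ideal.Quotient.mk J g)

/-- the localization of the conormal module away from the class of `g`. -/
abbrev NL : Type u := LocalizedModule.Away (Ideal.Quotient.mk J g) J.Cotangent

/-- the localization map of the conormal module. -/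
noncomputable abbrev mkL : J.Cotangent →ₗ[R ⧸ J] NL J g :=
  LocalizedModule.mkLinearMap (Submonoid.powers (Ideal.Quotient.mk J g)) J.Cotangent

variable (B : Module.Basis (Fin r) (Lg J g) (NL J g))

/-- the linear form `n ↦ Σ_i (coordinate_i n) X_i`. -/
noncomputable def ell : J.Cotangent →ₗ[R] MvPolynomial (Fin r) (Lg J g) :=
  ((((Finsupp.linearCombination (Lg J g) (fun i => (MvPolynomial.X i : MvPolynomial (Fin r) (Lg J g)))) ∘ₗ
      B.repr.toLinearMap).restrictScalars (R ⧸ J)) ∘ₗ
    (mkL J g)).restrictScalars R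

theorem ell_apply (n : J.Cotangent) :
    ell J g B n = Finsupp.linearCombination (Lg J g)
      (fun i => (MvPolynomial.X i : MvPolynomial (Fin r) (Lg J g)))
      (B.repr (mkL J g n)) := rfl

theorem ell_y (hB : ∀ i, B i = mkL J g
    (J.toCotangent (y i))) (i : Fin r) :
    ell J g B (J.toCotangent (y i)) = MvPolynomial.X i := by
  rw [ell_apply, ← hB i, Module.Basis.repr_self, Finsupp.linearCombination_single, one_smul]

variable (ι : Type u) [Fintype ι]

/-- the polynomial-valued functional on the symmetric power. -/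
noncomputable def beta : SymmetricPower R ι J.Cotangent →ₗ[R] MvPolynomial (Fin r) (Lg J g) :=
  SymPow.lift ((MultilinearMap.mkPiAlgebra R ι (MvPolynomial (Fin r) (Lg J g))).compLinearMap
    (fun _ => ell J g B)) (fun e m => by
      simp only [MultilinearMap.compLinearMap_apply, MultilinearMap.mkPiAlgebra_apply]
      exact Fintype.prod_equiv e _ _ (fun _ => rfl))

theorem beta_tprod (m : ι → J.Cotangent) :
    beta J g B ι (SymmetricPower.tprod R m) = ∏ k, ell J g B (m k) := by
  rw [beta, SymPow.lift_tprod]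
  simp

theorem beta_mon [DecidableEq ι]
    (hB : ∀ i, B i = mkL J g
      (J.toCotangent (y i))) (φ : ι → Fin r) :
    beta J g B ι (mon J ι y φ) = MvPolynomial.monomial (dOf φ) 1 := by
  rw [mon, beta_tprod]
  simp only [ell_y J g y B hB]
  rw [MvPolynomial.monomial_eq, map_one, one_mul, dOf_prod']

theorem beta_sum_mon [DecidableEq ι]
    (hB : ∀ i, B i = mkL J g
      (J.toCotangent (y i))) (c : (ι → Fin r) → R) :
    beta J g B ι (∑ φ, c φ • mon J ι y φ) =
      MvPolynomial.map (algebraMap R (Lg J g)) (polyOf ι c) := by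
  rw [map_sum, polyOf, map_sum]
  apply Finset.sum_congr rfl
  intro φ _
  rw [map_smul, beta_mon J g y B ι hB, MvPolynomial.map_monomial, MvPolynomial.smul_monomial,
    Algebra.smul_def, mul_one]

/-- if a combination of monomials vanishes in the symmetric power, its coefficients are killed by
a power of `g` modulo `J`. -/
theorem exists_pow_mul_coeff_mem [DecidableEq ι]
    (hB : ∀ i, B i = mkL J g
      (J.toCotangent (y i))) (c : (ι → Fin r) → R)
    (h : ∑ φ, c φ • mon J ι y φ = 0) (d : Fin r →₀ ℕ) :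
    ∃ k : ℕ, g ^ k * MvPolynomial.coeff d (polyOf ι c) ∈ J := by
  have h1 := beta_sum_mon J g y B ι hB c
  rw [h, map_zero] at h1
  have h2 := congrArg (MvPolynomial.coeff d) h1
  rw [MvPolynomial.coeff_zero, MvPolynomial.coeff_map] at h2
  have h3 : algebraMap (R ⧸ J) (Lg J g) (Ideal.Quotient.mk J (MvPolynomial.coeff d (polyOf ι c))) = 0 := by
    rw [h2]
    exact (IsScalarTower.algebraMap_apply R (R ⧸ J) (Lg J g) _).symm
  rw [IsLocalization.map_eq_zero_iff (Submonoid.powers (Ideal.Quotient.mk J g))] at h3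
  obtain ⟨⟨_, k, rfl⟩, hk⟩ := h3
  refine ⟨k, ?_⟩
  rw [← Ideal.Quotient.eq_zero_iff_mem, map_mul, map_pow]
  exact hk

end beta

section comb

variable {R : Type u} [CommRing R] (J : Ideal R)
variable {r : ℕ} (y : Fin r → J) (ι : Type u) [Fintype ι] [DecidableEq ι]

theorem canon_sum_mon_eq_zero (c : (ι → Fin r) → R)
    (h : MvPolynomial.eval (fun i => (y i : R)) (polyOf ι c) ∈ J ^ (Fintype.card ι + 1)) :
    canon J ι (∑ φ, c φ • mon J ι y φ) = 0 := by
  rw [eval_polyOf] at h
  have hmem : ∀ φ : ι → Fin r, ∏ k, ((y (φ k) : J) : R) ∈ J ^ Fintype.card ι := fun φ =>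
    prod_mem_pow J (fun k => ((y (φ k) : J) : R)) (fun k => (y (φ k)).2)
  let v : ↥(J ^ Fintype.card ι) := ∑ φ, c φ • ⟨∏ k, ((y (φ k) : J) : R), hmem φ⟩
  have h1 : canon J ι (∑ φ, c φ • mon J ι y φ) =
      Submodule.mkQ (Submodule.comap (J ^ Fintype.card ι).subtype (J ^ (Fintype.card ι + 1))) v := by
    rw [map_sum, map_sum]
    apply Finset.sum_congr rfl
    intro φ _
    rw [map_smul, map_smul, mon, canon_tprod]
    rfl
  rw [h1, Submodule.mkQ_apply, Submodule.Quotient.mk_eq_zero, Submodule.mem_comap]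
  convert h using 1
  simp only [v, Submodule.subtype_apply, Submodule.coe_sum, Submodule.coe_smul, smul_eq_mul]

omit [DecidableEq ι] in
theorem exists_dOf_eq (d : Fin r →₀ ℕ) (hd : d.degree = Fintype.card ι) :
    ∃ φ : ι → Fin r, dOf φ = d := by
  classical
  have hcard : Fintype.card ι = Fintype.card (Σ i : Fin r, Fin (d i)) := by
    rw [Fintype.card_sigma, ← hd, Finsupp.degree_eq_sum]
    simp
  let e : ι ≃ Σ i : Fin r, Fin (d i) := Fintype.equivOfCardEq hcard
  refine ⟨fun k => (e k).1, ?_⟩
  ext i
  rw [dOf_apply]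
  have e1 : {k : ι // (e k).1 = i} ≃ {p : (Σ i : Fin r, Fin (d i)) // p.1 = i} :=
    e.subtypeEquiv (fun _ => Iff.rfl)
  rw [Fintype.card_congr (e1.trans (Equiv.sigmaSubtype i)), Fintype.card_fin]

theorem polyOf_add (c c' : (ι → Fin r) → R) : polyOf ι (c + c') = polyOf ι c + polyOf ι c' := by
  simp only [polyOf, Pi.add_apply, map_add, Finset.sum_add_distrib]

theorem polyOf_zero : polyOf ι (0 : (ι → Fin r) → R) = 0 := by
  simp [polyOf]

theorem polyOf_single (φ : ι → Fin r) (a : R) :
    polyOf ι (Pi.single φ a) = MvPolynomial.monomial (dOf φ) a := by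
  rw [polyOf, Finset.sum_eq_single φ]
  · rw [Pi.single_eq_same]
  · intro ψ _ hψ
    rw [Pi.single_eq_of_ne hψ, MvPolynomial.monomial_zero]
  · intro h; exact absurd (Finset.mem_univ φ) h

theorem exists_polyOf_eq (F : MvPolynomial (Fin r) R) (hF : F.IsHomogeneous (Fintype.card ι)) :
    ∃ c : (ι → Fin r) → R, polyOf ι c = F := by
  have key : ∀ s : Finset (Fin r →₀ ℕ), (∀ d ∈ s, d.degree = Fintype.card ι) →
      ∃ c : (ι → Fin r) → R, polyOf ι c = ∑ d ∈ s, MvPolynomial.monomial d (F.coeff d) := by
    intro s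
    induction s using Finset.induction_on with
    | empty => intro _; exact ⟨0, by rw [polyOf_zero, Finset.sum_empty]⟩
    | insert a s ha ih =>
      intro hs
      obtain ⟨c, hc⟩ := ih (fun d hd => hs d (Finset.mem_insert_of_mem hd))
      obtain ⟨φ, hφ⟩ := exists_dOf_eq ι a (hs a (Finset.mem_insert_self a s))
      refine ⟨Pi.single φ (F.coeff a) + c, ?_⟩
      rw [polyOf_add, polyOf_single, hc, hφ, Finset.sum_insert ha]
  obtain ⟨c, hc⟩ := key F.support (fun d hd => by
    have := hF (MvPolynomial.mem_support_iff.mp hd)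
    rwa [Finsupp.degree_eq_weight_one])
  exact ⟨c, by rw [hc, MvPolynomial.support_sum_monomial_coeff]⟩

end comb

section cleardenom

variable {R : Type u} [CommRing R] (g' : R) {σ : Type*}

theorem exists_clear_denominators (n : ℕ) (F : MvPolynomial σ (Localization.Away g'))
    (hF : F.IsHomogeneous n) :
    ∃ (s : ℕ) (F₀ : MvPolynomial σ R), F₀.IsHomogeneous n ∧
      MvPolynomial.map (algebraMap R (Localization.Away g')) F₀ =
        MvPolynomial.C (algebraMap R (Localization.Away g') (g' ^ s)) * F := by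
  classical
  obtain ⟨⟨_, s, rfl⟩, hb⟩ := IsLocalization.exist_integer_multiples (Submonoid.powers g')
    F.support (fun d => F.coeff d)
  simp only at hb
  let a : (σ →₀ ℕ) → R := fun d => if h : d ∈ F.support then (hb d h).choose else 0
  have ha : ∀ d ∈ F.support, algebraMap R (Localization.Away g') (a d) =
      algebraMap R (Localization.Away g') (g' ^ s) * F.coeff d := by
    intro d hd
    simp only [a, dif_pos hd]
    rw [(hb d hd).choose_spec, Algebra.smul_def]
  refine ⟨s, ∑ d ∈ F.support, MvPolynomial.monomial d (a d), ?_, ?_⟩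
  · apply MvPolynomial.IsHomogeneous.sum
    intro d hd
    apply MvPolynomial.isHomogeneous_monomial
    have := hF (MvPolynomial.mem_support_iff.mp hd)
    rwa [Finsupp.degree_eq_weight_one]
  · rw [map_sum]
    conv_rhs => rw [← MvPolynomial.support_sum_monomial_coeff F, Finset.mul_sum]
    apply Finset.sum_congr rfl
    intro d hd
    rw [MvPolynomial.map_monomial, ha d hd, MvPolynomial.C_mul_monomial]

end cleardenom

section qr

variable {R : Type u} [CommRing R] (J : Ideal R) (g : R)
variable {r : ℕ} (y : Fin r → J)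
variable (B : Module.Basis (Fin r) (Lg J g) (NL J g))

theorem eval_map_algebraMap {S : Type*} [CommRing S] [Algebra R S] (a : Fin r → R)
    (F : MvPolynomial (Fin r) R) :
    MvPolynomial.eval (fun i => algebraMap R S (a i)) (MvPolynomial.map (algebraMap R S) F) =
      algebraMap R S (MvPolynomial.eval a F) := by
  rw [MvPolynomial.eval_map, MvPolynomial.eval, MvPolynomial.coe_eval₂Hom,
    MvPolynomial.eval₂_comp_left]
  rfl

theorem isQuasiRegular_of_basis
    (hB : ∀ i, B i = mkL J g (J.toCotangent (y i)))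
    (hinj : ∀ (ι : Type u) [Fintype ι] [Nonempty ι], Function.Injective (canon J ι))
    (g' : R) (hu : IsUnit (algebraMap R (Localization.Away g') g))
    (hs : Ideal.span (Set.range fun i => algebraMap R (Localization.Away g') (y i : R)) =
      J.map (algebraMap R (Localization.Away g'))) :
    CAlgX.IsQuasiRegular (fun i => algebraMap R (Localization.Away g') (y i : R)) := by
  classical
  rw [isQuasiRegular_iff_eval_eq_zero]
  intro n F hF h0 d
  rcases Nat.eq_zero_or_pos n with hn | hn
  · subst hn
    have h1 : F = MvPolynomial.C (F.coeff 0) :=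
      MvPolynomial.totalDegree_eq_zero_iff_eq_C.mp (Nat.le_zero.mp hF.totalDegree_le)
    rw [h1, MvPolynomial.eval_C] at h0
    rw [h1, h0, map_zero, MvPolynomial.coeff_zero]
    exact zero_mem _
  · obtain ⟨s, F₀, hF₀, hmap⟩ := exists_clear_denominators g' n F hF
    have h1 : algebraMap R (Localization.Away g') (MvPolynomial.eval (fun i => (y i : R)) F₀) = 0 := by
      rw [← eval_map_algebraMap, hmap, map_mul, h0, mul_zero]
    rw [IsLocalization.map_eq_zero_iff (Submonoid.powers g')] at h1
    obtain ⟨⟨_, t, rfl⟩, ht⟩ := h1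
    simp only at ht
    -- the polynomial `F₁`
    set F₁ := MvPolynomial.C (g' ^ t) * F₀ with hF₁def
    have hF₁ : F₁.IsHomogeneous n := hF₀.C_mul _
    have hev : MvPolynomial.eval (fun i => (y i : R)) F₁ = 0 := by
      rw [hF₁def, map_mul, MvPolynomial.eval_C, ht]
    -- the index type
    haveI : Nonempty (ULift.{u} (Fin n)) := ⟨⟨⟨0, hn⟩⟩⟩
    have hcard : Fintype.card (ULift.{u} (Fin n)) = n := by
      rw [Fintype.card_ulift, Fintype.card_fin]
    obtain ⟨c, hc⟩ := exists_polyOf_eq (ULift.{u} (Fin n)) F₁ (by rw [hcard]; exact hF₁)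
    have hcan : canon J (ULift.{u} (Fin n)) (∑ φ, c φ • mon J (ULift.{u} (Fin n)) y φ) = 0 := by
      apply canon_sum_mon_eq_zero
      rw [hc, hev]
      exact zero_mem _
    have hzero := hinj (ULift.{u} (Fin n)) (hcan.trans (map_zero _).symm)
    obtain ⟨k, hk⟩ := exists_pow_mul_coeff_mem J g y B (ULift.{u} (Fin n)) hB c hzero d
    rw [hc, hF₁def, MvPolynomial.coeff_C_mul] at hk
    -- transfer to the localization
    have h2 := Ideal.mem_map_of_mem (algebraMap R (Localization.Away g')) hk
    rw [map_mul, map_mul, map_pow] at h2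
    have h3 : algebraMap R (Localization.Away g') (F₀.coeff d) =
        algebraMap R (Localization.Away g') (g' ^ s) * F.coeff d := by
      rw [← MvPolynomial.coeff_map, hmap, MvPolynomial.coeff_C_mul]
    rw [h3] at h2
    have hu1 : IsUnit (algebraMap R (Localization.Away g') g ^ k) := hu.pow k
    have hu2 : IsUnit (algebraMap R (Localization.Away g') (g' ^ t)) :=
      IsLocalization.map_units _ (⟨g' ^ t, t, rfl⟩ : Submonoid.powers g')
    have hu3 : IsUnit (algebraMap R (Localization.Away g') (g' ^ s)) :=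
      IsLocalization.map_units _ (⟨g' ^ s, s, rfl⟩ : Submonoid.powers g')
    rw [hs]
    exact (Ideal.unit_mul_mem_iff_mem _ hu3).mp ((Ideal.unit_mul_mem_iff_mem _ hu2).mp
      ((Ideal.unit_mul_mem_iff_mem _ hu1).mp h2))

end qr

section basis

variable {R : Type u} [CommRing R] (J : Ideal R)

theorem finite_cotangent (hFG : J.FG) : Module.Finite (R ⧸ J) J.Cotangent := by
  haveI : Module.Finite R J := Module.Finite.iff_fg.mpr hFG
  haveI : Module.Finite R J.Cotangent :=
    Module.Finite.of_surjective J.toCotangent J.toCotangent_surjective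
  exact Module.Finite.of_restrictScalars_finite R (R ⧸ J) J.Cotangent

theorem exists_basis_away (hFG : J.FG) [Module.Projective (R ⧸ J) J.Cotangent]
    (P : Ideal R) [P.IsPrime] (hJP : J ≤ P) :
    ∃ (g : R) (_ : g ∉ P) (r : ℕ) (y : Fin r → J)
      (B : Module.Basis (Fin r) (Lg J g) (NL J g)),
      ∀ i, B i = mkL J g (J.toCotangent (y i)) := by
  classical
  haveI := finite_cotangent J hFG
  haveI : Module.FinitePresentation (R ⧸ J) J.Cotangent :=
    Module.finitePresentation_of_projective _ _
  haveI : (P.map (Ideal.Quotient.mk J)).IsPrime :=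
    Ideal.map_isPrime_of_surjective Ideal.Quotient.mk_surjective (by rw [Ideal.mk_ker]; exact hJP)
  haveI : Module.Free (Localization.AtPrime (P.map (Ideal.Quotient.mk J)))
      (LocalizedModule (P.map (Ideal.Quotient.mk J)).primeCompl J.Cotangent) :=
    Module.free_of_flat_of_isLocalRing
  let b := Module.Free.chooseBasis (Localization.AtPrime (P.map (Ideal.Quotient.mk J)))
    (LocalizedModule (P.map (Ideal.Quotient.mk J)).primeCompl J.Cotangent)
  haveI : Finite (Module.Free.ChooseBasisIndex (Localization.AtPrime (P.map (Ideal.Quotient.mk J)))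
      (LocalizedModule (P.map (Ideal.Quotient.mk J)).primeCompl J.Cotangent)) :=
    Module.Finite.finite_basis b
  obtain ⟨gb, hgb, b', -⟩ := Module.FinitePresentation.exists_basis_localizedModule_powers
    (P.map (Ideal.Quotient.mk J)).primeCompl
    (LocalizedModule.mkLinearMap (P.map (Ideal.Quotient.mk J)).primeCompl J.Cotangent)
    (Localization.AtPrime (P.map (Ideal.Quotient.mk J))) b
  obtain ⟨g, rfl⟩ := Ideal.Quotient.mk_surjective gb
  have hgP : g ∉ P := fun hg => hgb (Ideal.mem_map_of_mem _ hg)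
  have hsurj := fun i => IsLocalizedModule.surj (Submonoid.powers (Ideal.Quotient.mk J g))
    (mkL J g) (b' i)
  choose ns hns using hsurj
  have hunit : ∀ i, IsUnit (algebraMap (R ⧸ J) (Lg J g) ((ns i).2 : R ⧸ J)) := fun i =>
    IsLocalization.map_units _ (ns i).2
  let B' := b'.isUnitSMul hunit
  have hB' : ∀ i, B' i = mkL J g (ns i).1 := by
    intro i
    rw [Module.Basis.isUnitSMul_apply, algebraMap_smul]
    exact hns i
  have hy := fun i => Ideal.toCotangent_surjective J (ns i).1
  choose y hy using hy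
  haveI := Fintype.ofFinite (Module.Free.ChooseBasisIndex
    (Localization.AtPrime (P.map (Ideal.Quotient.mk J)))
    (LocalizedModule (P.map (Ideal.Quotient.mk J)).primeCompl J.Cotangent))
  let e := Fintype.equivFin (Module.Free.ChooseBasisIndex
    (Localization.AtPrime (P.map (Ideal.Quotient.mk J)))
    (LocalizedModule (P.map (Ideal.Quotient.mk J)).primeCompl J.Cotangent))
  refine ⟨g, hgP, _, fun j => y (e.symm j), B'.reindex e, fun j => ?_⟩
  rw [Module.Basis.reindex_apply, hB', hy]

end basis

section gen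

variable {R : Type u} [CommRing R] (J : Ideal R) (g : R)
variable {r : ℕ} (y : Fin r → J)
variable (B : Module.Basis (Fin r) (Lg J g) (NL J g))

/-- every element of `J` is, up to a power of `g` and modulo `J²`, a combination of the `y i`. -/
theorem exists_pow_mul_sub_mem_sq (hB : ∀ i, B i = mkL J g (J.toCotangent (y i)))
    (x : R) (hx : x ∈ J) :
    ∃ (E : ℕ) (ρ : Fin r → R), g ^ E * x - ∑ i, ρ i * (y i : R) ∈ J ^ 2 := by
  obtain ⟨⟨_, k, rfl⟩, hb'⟩ := IsLocalization.exist_integer_multiples
    (Submonoid.powers (Ideal.Quotient.mk J g)) (Finset.univ : Finset (Fin r))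
    (fun i => B.repr (mkL J g (J.toCotangent ⟨x, hx⟩)) i)
  choose a ha using fun i => hb' i (Finset.mem_univ i)
  simp only at ha
  have hlift : ∀ i, ∃ α : R, Ideal.Quotient.mk J α = a i := fun i => Ideal.Quotient.mk_surjective _
  choose α hα using hlift
  have h1 : mkL J g ((Ideal.Quotient.mk J g) ^ k • J.toCotangent ⟨x, hx⟩ -
      ∑ i, a i • J.toCotangent (y i)) = 0 := by
    rw [map_sub, map_smul, map_sum, sub_eq_zero]
    conv_lhs => rw [← B.sum_repr (mkL J g (J.toCotangent ⟨x, hx⟩)), Finset.smul_sum]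
    apply Finset.sum_congr rfl
    intro i _
    rw [map_smul, ← hB i, ← algebraMap_smul (Lg J g) (a i), ha i, smul_assoc]
  obtain ⟨⟨_, t, rfl⟩, h2⟩ := (IsLocalizedModule.eq_zero_iff
    (Submonoid.powers (Ideal.Quotient.mk J g)) (mkL J g)).mp h1
  have h3 : J.toCotangent (g ^ (t + k) • (⟨x, hx⟩ : J) - ∑ i, (g ^ t * α i) • y i) = 0 := by
    have h2' : (Ideal.Quotient.mk J g) ^ t • ((Ideal.Quotient.mk J g) ^ k • J.toCotangent ⟨x, hx⟩ -
        ∑ i, a i • J.toCotangent (y i)) = 0 := h2
    rw [← h2', map_sub, map_smul, map_sum, smul_sub, smul_smul, ← pow_add, ← map_pow, mk_smul_cot,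
      Finset.smul_sum]
    congr 1
    apply Finset.sum_congr rfl
    intro i _
    rw [map_smul, ← hα i, ← map_pow, mk_smul_cot, mk_smul_cot, smul_smul]
  rw [Ideal.toCotangent_eq_zero] at h3
  refine ⟨t + k, fun i => g ^ t * α i, ?_⟩
  convert h3 using 1
  rw [Submodule.coe_sub, Submodule.coe_smul, Submodule.coe_sum, smul_eq_mul]
  congr 1

end gen

section det

variable {R : Type u} [CommRing R] (J : Ideal R) (g : R)
variable {r : ℕ} (y : Fin r → J)

/-- the determinant trick. -/
theorem exists_mul_mem_span {m : ℕ} (x : Fin m → R) (hx : Ideal.span (Set.range x) = J) (E : ℕ)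
    (ρ : Fin m → Fin r → R)
    (h : ∀ l, g ^ E * x l - ∑ i, ρ l i * (y i : R) ∈ J ^ 2) :
    ∃ hh : R, hh - g ^ (E * m) ∈ J ∧
      ∀ z ∈ J, hh * z ∈ Ideal.span (Set.range fun i => (y i : R)) := by
  classical
  -- write the error terms in terms of the generators
  have h1 : ∀ l, ∃ a : Fin m → R, (∀ l', a l' ∈ J) ∧
      g ^ E * x l - ∑ i, ρ l i * (y i : R) = ∑ l', a l' * x l' := by
    intro l
    have h2 := h l
    rw [pow_two] at h2
    nth_rewrite 2 [← hx] at h2
    change _ ∈ J • (Submodule.span R (Set.range x)) at h2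
    obtain ⟨a, ha, hsum⟩ := (Submodule.mem_ideal_smul_span_iff_exists_sum J x _).mp h2
    refine ⟨fun l' => a l', ha, ?_⟩
    rw [← hsum, Finsupp.sum_fintype a (fun i c => c • x i) (fun i => zero_smul _ _)]
    simp only [smul_eq_mul]
  choose A hA hAeq using h1
  let M : Matrix (Fin m) (Fin m) R := (g ^ E) • (1 : Matrix (Fin m) (Fin m) R) - Matrix.of A
  have hMx : ∀ l, M.mulVec x l = ∑ i, ρ l i * (y i : R) := by
    intro l
    have e1 : M.mulVec x l = g ^ E * x l - ∑ l', A l l' * x l' := by
      simp only [M, Matrix.sub_mulVec, Matrix.smul_mulVec, Matrix.one_mulVec, Pi.sub_apply,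
        Pi.smul_apply, smul_eq_mul]
      rfl
    rw [e1, ← hAeq l]; ring
  have hdet : ∀ l, M.det * x l ∈ Ideal.span (Set.range fun i => (y i : R)) := by
    intro l
    have e2 : M.det * x l = (M.adjugate.mulVec (M.mulVec x)) l := by
      rw [Matrix.mulVec_mulVec, Matrix.adjugate_mul, Matrix.smul_mulVec, Matrix.one_mulVec,
        Pi.smul_apply, smul_eq_mul]
    rw [e2, Matrix.mulVec, dotProduct]
    apply Ideal.sum_mem
    intro l' _
    apply Ideal.mul_mem_left
    rw [hMx l']
    apply Ideal.sum_mem
    intro i _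
    exact Ideal.mul_mem_left _ _ (Ideal.subset_span ⟨i, rfl⟩)
  refine ⟨M.det, ?_, ?_⟩
  · rw [← Ideal.Quotient.eq, RingHom.map_det]
    have e3 : (Ideal.Quotient.mk J).mapMatrix M =
        (Ideal.Quotient.mk J (g ^ E)) • (1 : Matrix (Fin m) (Fin m) (R ⧸ J)) := by
      ext l l'
      simp only [M, RingHom.mapMatrix_apply, Matrix.map_apply, Matrix.sub_apply, Matrix.smul_apply,
        Matrix.of_apply, map_sub, smul_eq_mul, map_mul]
      rw [Ideal.Quotient.eq_zero_iff_mem.mpr (hA l l'), sub_zero]
      by_cases hll : l = l'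
      · subst hll; simp
      · simp [Matrix.one_apply_ne hll]
    rw [e3, Matrix.det_smul, Matrix.det_one, mul_one, Fintype.card_fin, ← map_pow, ← pow_mul]
  · intro z hz
    rw [← hx] at hz
    induction hz using Submodule.span_induction with
    | mem z hz => obtain ⟨l, rfl⟩ := hz; exact hdet l
    | zero => rw [mul_zero]; exact zero_mem _
    | add z₁ z₂ _ _ h₁ h₂ => rw [mul_add]; exact add_mem h₁ h₂
    | smul c z _ hz' =>
      rw [smul_eq_mul, mul_left_comm]
      exact Ideal.mul_mem_left _ _ hz'

end det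

section main

variable {R : Type u} [CommRing R] (J : Ideal R)

theorem locallyQuasiRegular_of (hFG : J.FG) (hproj : Module.Projective (R ⧸ J) J.Cotangent)
    (hinj : ∀ (ι : Type u) [Fintype ι] [Nonempty ι], Function.Injective (canon J ι)) :
    IsLocallyQuasiRegular R J := by
  classical
  intro P _ hJP
  obtain ⟨g, hgP, r, y, B, hB⟩ := exists_basis_away J hFG P hJP
  -- generators of `J`
  obtain ⟨s, hs⟩ := hFG
  let e := (Fintype.equivFin ↥s)
  let x : Fin (Fintype.card ↥s) → R := fun l => ((e.symm l : ↥s) : R)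
  have hxJ : Ideal.span (Set.range x) = J := by
    rw [← hs]
    congr 1
    ext z
    constructor
    · rintro ⟨l, rfl⟩; exact (e.symm l).2
    · intro hz; exact ⟨e ⟨z, hz⟩, by simp [x]⟩
  have hxmem : ∀ l, x l ∈ J := fun l => by rw [← hxJ]; exact Ideal.subset_span ⟨l, rfl⟩
  -- uniform exponent
  have h1 := fun l => exists_pow_mul_sub_mem_sq J g y B hB (x l) (hxmem l)
  choose El ρl hl using h1
  let E : ℕ := ∑ l, El l
  have hE : ∀ l, g ^ E * x l - ∑ i, (g ^ (E - El l) * ρl l i) * (y i : R) ∈ J ^ 2 := by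
    intro l
    have hle : El l ≤ E := Finset.single_le_sum (f := El) (fun _ _ => Nat.zero_le _)
      (Finset.mem_univ l)
    have : g ^ E * x l - ∑ i, (g ^ (E - El l) * ρl l i) * (y i : R) =
        g ^ (E - El l) * (g ^ El l * x l - ∑ i, ρl l i * (y i : R)) := by
      rw [mul_sub, ← mul_assoc, ← pow_add, Nat.sub_add_cancel hle, Finset.mul_sum]
      congr 1
      apply Finset.sum_congr rfl
      intro i _
      ring
    rw [this]
    exact Ideal.mul_mem_left _ _ (hl l)
  obtain ⟨hh, hh1, hh2⟩ := exists_mul_mem_span J g y x hxJ E _ hE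
  have hhP : hh ∉ P := by
    intro hmem
    have h2 : g ^ (E * Fintype.card ↥s) ∈ P := by
      have := P.sub_mem hmem (hJP hh1)
      rwa [sub_sub_cancel] at this
    exact hgP (Ideal.IsPrime.mem_of_pow_mem inferInstance _ h2)
  have hg'P : g * hh ∉ P := fun hmem =>
    (Ideal.IsPrime.mem_or_mem inferInstance hmem).elim hgP hhP
  have hunit : IsUnit (algebraMap R (Localization.Away (g * hh)) (g * hh)) :=
    IsLocalization.Away.algebraMap_isUnit (g * hh)
  rw [map_mul] at hunit
  have hug : IsUnit (algebraMap R (Localization.Away (g * hh)) g) :=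
    isUnit_of_mul_isUnit_left hunit
  have huh : IsUnit (algebraMap R (Localization.Away (g * hh)) hh) :=
    isUnit_of_mul_isUnit_right hunit
  have hspan : Ideal.span (Set.range fun i => algebraMap R (Localization.Away (g * hh)) (y i : R)) =
      J.map (algebraMap R (Localization.Away (g * hh))) := by
    apply le_antisymm
    · rw [Ideal.span_le]
      rintro _ ⟨i, rfl⟩
      exact Ideal.mem_map_of_mem _ (y i).2
    · rw [Ideal.map_le_iff_le_comap]
      intro z hz
      rw [Ideal.mem_comap]
      have h3 := Ideal.mem_map_of_mem (algebraMap R (Localization.Away (g * hh))) (hh2 z hz)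
      rw [Ideal.map_span, ← Set.range_comp, map_mul] at h3
      exact (Ideal.unit_mul_mem_iff_mem _ huh).mp h3
  exact ⟨g * hh, hg'P, r, fun i => algebraMap R (Localization.Away (g * hh)) (y i : R),
    isQuasiRegular_of_basis J g y B hB hinj (g * hh) hug hspan, hspan⟩

end main

end Groth.Agent.Lib.Helper9.QRegLocalB
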