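/-
Helper library (helper9): faithfully flat descent of Koszul-regular ideals (cone model), through
descent of local quasi-regularity, minimality of generating lists via conormal bases, and the
change-of-generators invariance of Koszul-regularity.
-/
import Mathlib
import Groth.Agent.Lib.Helper9.KoszulGen
import Groth.Agent.Lib.Helper9.QRegDescent
import Groth.Agent.Lib.Helper22.KoszulH1
import Groth.Agent.S2103
import Groth.Agent.S9252

set_option autoImplicit false
set_option linter.style.haveILetI false
universe u

namespace Groth.Agent.Lib.Helper9.KoszulDesc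

open Groth.Agent.Lib.Helper9 TensorProduct

variable {R : Type u} [CommRing R]

/-- if `I/I²` has a basis of `r` elements over the nonzero ring `R/I`, every generating list of `I`
has at least `r` elements -/
theorem length_le_of_basis {I : Ideal R} (hI : I ≠ ⊤) {r : ℕ}
    (b : Module.Basis (Fin r) (R ⧸ I) I.Cotangent) (h : List R)
    (hh : Ideal.ofList h = I) : r ≤ h.length := by
  have hhmem : ∀ j : Fin h.length, h.get j ∈ I := fun j => by
    rw [← hh]; exact Ideal.subset_span (List.get_mem h j)
  haveI : Nontrivial (R ⧸ I) := Ideal.Quotient.nontrivial_iff.mpr hI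
  let v : Fin h.length → I.Cotangent := fun j => I.toCotangent ⟨h.get j, hhmem j⟩
  have hv : Submodule.span (R ⧸ I) (Set.range v) = ⊤ := by
    rw [eq_top_iff]
    rintro x -
    obtain ⟨⟨y, hy⟩, rfl⟩ := I.toCotangent_surjective x
    have hy' : y ∈ Ideal.span {r | r ∈ h} := by rw [show Ideal.span {r | r ∈ h} = I from hh]; exact hy
    refine Submodule.span_induction (p := fun y _ => ∀ hy : y ∈ I,
      I.toCotangent ⟨y, hy⟩ ∈ Submodule.span (R ⧸ I) (Set.range v)) ?_ ?_ ?_ ?_ hy' hy
    · intro z hz _
      obtain ⟨j, rfl⟩ := List.mem_iff_get.mp hz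
      exact Submodule.subset_span ⟨j, rfl⟩
    · intro _
      have : I.toCotangent ⟨0, I.zero_mem⟩ = 0 := map_zero _
      rw [this]; exact zero_mem _
    · intro x y hx hy ihx ihy _
      have hxI : x ∈ I := by rw [← hh]; exact hx
      have hyI : y ∈ I := by rw [← hh]; exact hy
      have : I.toCotangent ⟨x + y, add_mem hxI hyI⟩ =
          I.toCotangent ⟨x, hxI⟩ + I.toCotangent ⟨y, hyI⟩ := by
        rw [← map_add]; rfl
      rw [this]
      exact add_mem (ihx hxI) (ihy hyI)
    · intro r x hx ihx _
      have hxI : x ∈ I := by rw [← hh]; exact hx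
      have : I.toCotangent ⟨r • x, I.smul_mem r hxI⟩ =
          Ideal.Quotient.mk I r • I.toCotangent ⟨x, hxI⟩ := by
        have : (⟨r • x, I.smul_mem r hxI⟩ : I) = r • ⟨x, hxI⟩ := rfl
        rw [this, map_smul]
        rfl
      rw [this]
      exact Submodule.smul_mem _ _ (ihx hxI)
  have h1 : Module.finrank (R ⧸ I) I.Cotangent = r := by
    rw [Module.finrank_eq_card_basis b, Fintype.card_fin]
  have h2 := finrank_range_le_card (R := R ⧸ I) v
  rw [Set.finrank, hv, finrank_top, h1, Fintype.card_fin] at h2
  exact h2

/-- a quasi-regular sequence gives a basis of the conormal module -/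
theorem exists_basis_of_isQuasiRegular {I : Ideal R} (r : ℕ) (f : Fin r → R)
    (hf : CAlgX.IsQuasiRegular f) (hfI : Ideal.span (Set.range f) = I) :
    Nonempty (Module.Basis (Fin r) (R ⧸ I) I.Cotangent) := by
  have hfmem : ∀ i, f i ∈ I := fun i => hfI ▸ Ideal.subset_span ⟨i, rfl⟩
  have coeff_mem : ∀ a : Fin r → R, ∑ i, a i * f i ∈ I ^ 2 → ∀ k, a k ∈ I := by
    intro a ha k
    classical
    let P : MvPolynomial (Fin r) R := ∑ i, MvPolynomial.C (a i) * MvPolynomial.X i
    have hP : P.IsHomogeneous 1 := by
      apply MvPolynomial.IsHomogeneous.sum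
      intro i _
      have := (MvPolynomial.isHomogeneous_C (Fin r) (a i)).mul (MvPolynomial.isHomogeneous_X R i)
      simpa using this
    have hev : MvPolynomial.eval f P = ∑ i, a i * f i := by
      simp [P]
    have := hf 1 P hP (by rw [hev, hfI]; exact ha) (Finsupp.single k 1)
    rw [hfI] at this
    have hc : P.coeff (Finsupp.single k 1) = a k := by
      simp only [P, MvPolynomial.coeff_sum, MvPolynomial.coeff_C_mul, MvPolynomial.coeff_X]
      rw [Finset.sum_eq_single k]
      · simp
      · intro i _ hik
        rw [if_neg, mul_zero]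
        intro h
        exact hik (Finsupp.single_left_injective one_ne_zero h)
      · intro h; exact absurd (Finset.mem_univ k) h
    rwa [hc] at this
  have hli : LinearIndependent (R ⧸ I) (fun i => I.toCotangent ⟨f i, hfmem i⟩) := by
    rw [Fintype.linearIndependent_iff]
    intro c hc i
    choose a ha using fun i => Ideal.Quotient.mk_surjective (c i)
    have h2 : I.toCotangent (∑ i, a i • (⟨f i, hfmem i⟩ : I)) = 0 := by
      rw [map_sum, ← hc]
      refine Finset.sum_congr rfl (fun i _ => ?_)
      rw [map_smul, ← ha i]
      rfl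
    rw [Ideal.toCotangent_eq_zero] at h2
    have h3 : ∑ i, a i * f i ∈ I ^ 2 := by
      convert h2 using 1
      simp
    have := coeff_mem a h3 i
    rw [← ha i]
    exact Ideal.Quotient.eq_zero_iff_mem.mpr this
  have hsp : ⊤ ≤ Submodule.span (R ⧸ I) (Set.range (fun i => I.toCotangent ⟨f i, hfmem i⟩)) := by
    rintro y -
    obtain ⟨x, rfl⟩ := Ideal.toCotangent_surjective I y
    have hx : (x : R) ∈ Ideal.span (Set.range f) := by rw [hfI]; exact x.2
    rw [Ideal.mem_span_range_iff_exists_fun] at hx
    obtain ⟨a, ha⟩ := hx
    have hx' : x = ∑ i, a i • (⟨f i, hfmem i⟩ : I) := by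
      apply Subtype.ext
      rw [← ha]
      simp
    rw [hx', map_sum]
    refine Submodule.sum_mem _ (fun i _ => ?_)
    rw [map_smul]
    have : a i • I.toCotangent ⟨f i, hfmem i⟩ =
        (Ideal.Quotient.mk I (a i)) • I.toCotangent ⟨f i, hfmem i⟩ := rfl
    rw [this]
    exact Submodule.smul_mem _ _ (Submodule.subset_span ⟨i, rfl⟩)
  exact ⟨Module.Basis.mk hli hsp⟩

/-- base change of a basis of the conormal module along a flat ring map -/
theorem exists_basis_map {R' : Type u} [CommRing R'] [Algebra R R'] [Module.Flat R R']
    {I : Ideal R} {r : ℕ} (b : Module.Basis (Fin r) (R ⧸ I) I.Cotangent) :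
    Nonempty (Module.Basis (Fin r) (R' ⧸ I.map (algebraMap R R'))
      (I.map (algebraMap R R')).Cotangent) :=
  ⟨(b.baseChange (R' ⧸ I.map (algebraMap R R'))).map
    (LinearEquiv.ofBijective (QRegDescent.theta R' I) (QRegDescent.theta_bijective I))⟩

/-- a quasi-regular generating sequence stays of minimal length after flat base change -/
theorem length_le_of_isQuasiRegular_of_flat {R' : Type u} [CommRing R'] [Algebra R R']
    [Module.Flat R R'] {I : Ideal R} (r : ℕ) (f : Fin r → R)
    (hf : CAlgX.IsQuasiRegular f) (hfI : Ideal.span (Set.range f) = I)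
    (hI' : I.map (algebraMap R R') ≠ ⊤) (h : List R')
    (hh : Ideal.ofList h = I.map (algebraMap R R')) : r ≤ h.length := by
  obtain ⟨b⟩ := exists_basis_of_isQuasiRegular r f hf hfI
  obtain ⟨b'⟩ := exists_basis_map (R' := R') b
  exact length_le_of_basis hI' b' h hh

/-- the key step: descent of Koszul-regularity of a generating list of minimal length -/
theorem key {A' B B' : Type u} [CommRing A'] [CommRing B] [CommRing B'] [Algebra A' B']
    [Algebra B B'] [Module.FaithfullyFlat A' B'] [Module.Flat B B']
    (I' : Ideal A') (J : Ideal B)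
    (hIJ : I'.map (algebraMap A' B') = J.map (algebraMap B B'))
    (hJ : LCI.IsKoszulRegularIdeal J) (l : List A') (hl : Ideal.ofList l = I')
    (hmin : ∀ (D : Type u) [CommRing D] [Algebra A' D] [Module.Flat A' D],
      I'.map (algebraMap A' D) ≠ ⊤ → ∀ h : List D,
        Ideal.ofList h = I'.map (algebraMap A' D) → l.length ≤ h.length) :
    LCI.IsKoszulRegularSeq A' l := by
  apply KoszulLoc.isKoszulRegularSeq_of_faithfullyFlat B'
  apply KoszulLoc.isKoszulRegularSeq_of_localization
  intro q' _ hq'
  have hI'q' : I'.map (algebraMap A' B') ≤ q' := by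
    rw [← hl, Ideal.map_ofList]
    exact Ideal.span_le.mpr hq'
  have hJq : J ≤ q'.comap (algebraMap B B') := Ideal.map_le_iff_le_comap.mp (hIJ ▸ hI'q')
  obtain ⟨b, hb, l₀, hl₀, hJl₀⟩ := hJ ⟨q'.comap (algebraMap B B'), inferInstance⟩ hJq
  have hbu : IsUnit (algebraMap B (Localization.AtPrime q') b) := by
    rw [IsScalarTower.algebraMap_apply B B' (Localization.AtPrime q')]
    exact IsLocalization.map_units (Localization.AtPrime q')
      (⟨algebraMap B B' b, hb⟩ : q'.primeCompl)
  letI : Algebra (Localization.Away b) (Localization.AtPrime q') :=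
    (IsLocalization.Away.lift b hbu).toAlgebra
  haveI : IsScalarTower B (Localization.Away b) (Localization.AtPrime q') :=
    IsScalarTower.of_algebraMap_eq (fun x => (IsLocalization.Away.lift_eq b hbu x).symm)
  haveI : Module.Flat B (Localization.AtPrime q') := Module.Flat.trans B B' _
  haveI : Module.Flat (Localization.Away b) (Localization.AtPrime q') :=
    (Module.flat_iff_of_isLocalization (Localization.Away b) (Submonoid.powers b) _).mpr
      inferInstance
  haveI : Module.Flat A' (Localization.AtPrime q') := Module.Flat.trans A' B' _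
  have h1 := KoszulLoc.isKoszulRegularSeq_map_of_flat (Localization.AtPrime q') l₀ hl₀
  have hID : Ideal.ofList (l₀.map (algebraMap (Localization.Away b) (Localization.AtPrime q'))) =
      I'.map (algebraMap A' (Localization.AtPrime q')) := by
    rw [← Ideal.map_ofList, show Ideal.ofList l₀ = _ from hJl₀.symm, Ideal.map_map,
      ← IsScalarTower.algebraMap_eq, IsScalarTower.algebraMap_eq B B' (Localization.AtPrime q'),
      ← Ideal.map_map, ← hIJ, Ideal.map_map, ← IsScalarTower.algebraMap_eq]
  have hne : I'.map (algebraMap A' (Localization.AtPrime q')) ≠ ⊤ := by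
    intro h
    have h2 : I'.map (algebraMap A' (Localization.AtPrime q')) ≤
        IsLocalRing.maximalIdeal (Localization.AtPrime q') := by
      rw [← Localization.AtPrime.map_eq_maximalIdeal,
        IsScalarTower.algebraMap_eq A' B' (Localization.AtPrime q'), ← Ideal.map_map]
      exact Ideal.map_mono hI'q'
    rw [h, top_le_iff] at h2
    exact Ideal.IsPrime.ne_top' h2
  have hlD : Ideal.ofList ((l.map (algebraMap A' B')).map
      (algebraMap B' (Localization.AtPrime q'))) =
      I'.map (algebraMap A' (Localization.AtPrime q')) := by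
    rw [← Ideal.map_ofList, ← Ideal.map_ofList, hl, Ideal.map_map, ← IsScalarTower.algebraMap_eq]
  have hlen1 : l₀.length ≤ l.length := by
    have := KoszulGen.length_le_of_isKoszulRegularSeq hne _ h1 hID _ hlD
    simpa using this
  have hlen2 : l.length ≤ l₀.length := by
    have := hmin (Localization.AtPrime q') hne _ hID
    simpa using this
  exact KoszulGen.isKoszulRegularSeq_of_length_eq _ _ h1 hID hlD
    (by simp only [List.length_map]; omega)

/-- a Koszul-regular ideal is locally quasi-regular -/
theorem locallyQuasiRegular_of_koszul (J : Ideal R) (h : LCI.IsKoszulRegularIdeal J) :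
    PP16.IsLocallyQuasiRegular R J := by
  intro P _ hP
  obtain ⟨g, hg, l, hl, hJl⟩ := h ⟨P, inferInstance⟩ hP
  refine ⟨g, hg, l.length, l.get, ?_, ?_⟩
  · exact Groth.Agent.S2103.result _
      (Groth.Agent.Lib.Helper22.KoszulH1.isH1Regular_of_isKoszulRegularSeq l hl)
  · rw [hJl]
    congr 1
    exact Set.range_list_get l

section right

attribute [local instance] Algebra.TensorProduct.rightAlgebra

/-- flatness over the right factor of a tensor product of algebras -/
theorem flat_right (A A' B : Type u) [CommRing A] [CommRing A'] [CommRing B] [Algebra A A']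
    [Algebra A B] [Module.Flat A A'] : Module.Flat B (A' ⊗[A] B) := by
  let e : B ⊗[A] A' ≃ₗ[B] A' ⊗[A] B :=
    { (Algebra.TensorProduct.comm A B A').toLinearEquiv with
      map_smul' := by
        intro b x
        simp only [AddHom.toFun_eq_coe, LinearMap.coe_toAddHom, LinearEquiv.coe_coe,
          AlgEquiv.toLinearEquiv_apply, RingHom.id_apply]
        induction x using TensorProduct.induction_on with
        | zero => simp
        | add x y hx hy => rw [smul_add, map_add, hx, hy, map_add, smul_add]
        | tmul y z =>
          rw [TensorProduct.smul_tmul', Algebra.TensorProduct.comm_tmul,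
            Algebra.TensorProduct.comm_tmul, smul_eq_mul,
            Algebra.smul_def (R := B) (A := A' ⊗[A] B) b (z ⊗ₜ[A] y),
            Algebra.TensorProduct.right_algebraMap_apply, Algebra.TensorProduct.tmul_mul_tmul,
            one_mul] }
  exact Module.Flat.of_linearEquiv e.symm

/-- **Faithfully flat descent of Koszul-regular ideals.** -/
theorem koszulRegularIdeal_descent (A B : Type u) [CommRing A] [CommRing B] [Algebra A B]
    [Module.FaithfullyFlat A B] (I : Ideal A)
    (h : LCI.IsKoszulRegularIdeal (I.map (algebraMap A B))) : LCI.IsKoszulRegularIdeal I := by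
  have hq : PP16.IsLocallyQuasiRegular A I :=
    Groth.Agent.S9252.result A B I (locallyQuasiRegular_of_koszul _ h)
  intro 𝔭 h𝔭
  obtain ⟨a, ha, r, f, hf, hfI⟩ := hq 𝔭.asIdeal h𝔭
  refine ⟨a, ha, List.ofFn f, ?_, ?_⟩
  · haveI : Module.Flat B (Localization.Away a ⊗[A] B) := flat_right A (Localization.Away a) B
    have hofn : Ideal.ofList (List.ofFn f) = I.map (algebraMap A (Localization.Away a)) := by
      rw [← hfI]
      change Ideal.span {x | x ∈ List.ofFn f} = _
      congr 1
      ext x
      simp [List.mem_ofFn]
    refine key (A' := Localization.Away a) (B := B) (B' := Localization.Away a ⊗[A] B)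
      (I.map (algebraMap A (Localization.Away a))) (I.map (algebraMap A B)) ?_ h (List.ofFn f)
      hofn ?_
    · rw [Ideal.map_map, Ideal.map_map, ← IsScalarTower.algebraMap_eq,
        ← IsScalarTower.algebraMap_eq]
    · intro D _ _ _ hne h' hh
      have := length_le_of_isQuasiRegular_of_flat (R' := D) r f hf hfI hne h' hh
      simpa using this
  · rw [← hfI]
    congr 1
    ext x
    simp [List.mem_ofFn]

end right

end Groth.Agent.Lib.Helper9.KoszulDesc
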