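/-
Helper library (helper9): dividing out a weakly regular prefix of a list:
`isKoszulRegularSeq_append_iff`: for `π : S → S'` surjective with kernel generated by a weakly
regular list `w`, the list `w ++ e` is Koszul-regular in `S` iff `e.map π` is Koszul-regular in `S'`.
-/
import Mathlib
import Groth.Agent.Lib.Helper9.KoszulLoc
import Groth.Agent.Lib.Helper9.KoszulSwap

set_option autoImplicit false
set_option linter.style.haveILetI false
universe u
open CategoryTheory CategoryTheory.Limits CochainComplex HomologicalComplex MonoidalCategory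

namespace Groth.Agent.Lib.Helper9.KoszulAppend

open Groth.Agent.Lib.Helper94.KoszulReg Groth.Agent.Lib.Helper87.KzLES
  Groth.Agent.Lib.Helper87.KzMod Groth.Agent.Lib.Helper87.KzBridge Groth.Agent.Lib.Helper33.KoszulBC
  Groth.Agent.Lib.Helper9

variable {A : Type u} [CommRing A]

/-- restriction of scalars for the Koszul complex with coefficients in an algebra -/
theorem exactAt_algebra_iff (B : Type u) [CommRing B] [Algebra A B] (l : List A) (i : ℤ) :
    (Koszul.koszul B (l.map (algebraMap A B))).ExactAt i ↔
      (kz (sg A (ModuleCat.of A B)) l).ExactAt i := by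
  let e0 : (Ψ (algebraMap A B)).obj (sg B (ModuleCat.of B B)) ≅ sg A (ModuleCat.of A B) :=
    (HomologicalComplex.singleMapHomologicalComplex (ModuleCat.restrictScalars.{u} (algebraMap A B))
      (ComplexShape.up ℤ) 0).app (ModuleCat.of B B) ≪≫
      (HomologicalComplex.single (ModuleCat.{u} A) (ComplexShape.up ℤ) 0).mapIso
        (restrictSelfIso B)
  rw [← KoszulLoc.exactAt_iff_of_iso (kzIso e0 l),
    ← KoszulLoc.exactAt_iff_of_iso (restrictKz (algebraMap A B) _ l),
    KoszulLoc.exactAt_iff_of_iso (eqToIso (koszul_eq (l.map (algebraMap A B))))]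
  constructor
  · intro h
    exact exactAt_map (ModuleCat.restrictScalars.{u} (algebraMap A B)) _ _ i h
  · intro h
    exact exactAt_of_map (ModuleCat.restrictScalars.{u} (algebraMap A B)) _ _ i h

/-- acyclicity outside degree zero with module coefficients -/
def AcycM (M : Type u) [AddCommGroup M] [Module A M] (l : List A) : Prop :=
  ∀ i : ℤ, i ≠ 0 → IsZero ((kz (sg A (ModuleCat.of A M)) l).homology i)

theorem acycM_congr {M N : Type u} [AddCommGroup M] [Module A M] [AddCommGroup N] [Module A N]
    (e : M ≃ₗ[A] N) (l : List A) : AcycM M l ↔ AcycM N l := by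
  constructor
  · intro h i hi
    haveI := ModuleCat.subsingleton_of_isZero (h i hi)
    haveI : Subsingleton (KH l N i) := (KHcongr l e i).symm.toEquiv.subsingleton
    exact ModuleCat.isZero_of_subsingleton _
  · intro h i hi
    haveI := ModuleCat.subsingleton_of_isZero (h i hi)
    haveI : Subsingleton (KH l M i) := (KHcongr l e i).toEquiv.subsingleton
    exact ModuleCat.isZero_of_subsingleton _

open RingTheory.Sequence in
/-- a weakly regular prefix can be divided out -/
theorem acycM_append_iff (w e : List A) : ∀ (M : Type u) [AddCommGroup M] [Module A M],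
    IsWeaklyRegular M w →
      (AcycM M (w ++ e) ↔ AcycM (M ⧸ (Ideal.ofList w • ⊤ : Submodule A M)) e) := by
  induction w with
  | nil =>
    intro M _ _ _
    have h0 : (Ideal.ofList ([] : List A) • ⊤ : Submodule A M) = ⊥ := by
      rw [Ideal.ofList_nil, Submodule.bot_smul]
    rw [List.nil_append]
    exact acycM_congr (Submodule.quotEquivOfEqBot _ h0).symm e
  | cons f fs ih =>
    intro M _ _ h
    rw [isWeaklyRegular_cons_iff] at h
    obtain ⟨hf, hfs⟩ := h
    have hd := degExact_kmap f _ (degExact_single f M hf) (fs ++ e)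
    have hq := hd.quasiIso_desc
    have hiso : ∀ i : ℤ, (kz (sg A (ModuleCat.of A M)) (f :: (fs ++ e))).homology i ≅
        (kz (sg A (ModuleCat.of A (QuotSMulTop f M))) (fs ++ e)).homology i := fun i =>
      _root_.isoOfQuasiIsoAt hd.desc i
    have h1 : AcycM M ((f :: fs) ++ e) ↔ AcycM (QuotSMulTop f M) (fs ++ e) := by
      constructor
      · intro h i hi
        exact IsZero.of_iso (h i hi) (hiso i).symm
      · intro h i hi
        exact IsZero.of_iso (h i hi) (hiso i)
    rw [h1, ih (QuotSMulTop f M) hfs]
    exact acycM_congr (Submodule.quotOfListConsSMulTopEquivQuotSMulTopInner M f fs).symm e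

open RingTheory.Sequence in
/-- **Dividing out a regular prefix.** -/
theorem isKoszulRegularSeq_append_iff {S S' : Type u} [CommRing S] [CommRing S'] (π : S →+* S')
    (hπ : Function.Surjective π) (w : List S) (hker : RingHom.ker π = Ideal.ofList w)
    (hw : IsWeaklyRegular S w) (e : List S) :
    LCI.IsKoszulRegularSeq S (w ++ e) ↔ LCI.IsKoszulRegularSeq S' (e.map π) := by
  letI := π.toAlgebra
  have hsub : (Ideal.ofList w • ⊤ : Submodule S S) = LinearMap.ker (Algebra.linearMap S S') := by
    rw [smul_eq_mul, Ideal.mul_top, ← hker]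
    rfl
  let eq : (S ⧸ (Ideal.ofList w • ⊤ : Submodule S S)) ≃ₗ[S] S' :=
    (Submodule.quotEquivOfEq _ _ hsub).trans
      ((Algebra.linearMap S S').quotKerEquivOfSurjective hπ)
  have h1 : LCI.IsKoszulRegularSeq S (w ++ e) ↔ AcycM S (w ++ e) :=
    KoszulSwap.isKoszulRegularSeq_iff (w ++ e)
  rw [h1, acycM_append_iff w e S hw, acycM_congr eq e, KoszulLoc.isKoszulRegularSeq_iff_exactAt]
  unfold AcycM
  simp only [← exactAt_iff_isZero_homology]
  exact forall₂_congr fun i _ => (exactAt_algebra_iff S' e i).symm

end Groth.Agent.Lib.Helper9.KoszulAppend
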