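/-
Helper library (helper9): partial exchange in a local ring (a list of elements of `I` independent
modulo `𝔪 I` can be completed to a generating list by a sublist of any generating list), the
notion `IndepAt` before localisation, spreading out, kernels of `Localization.awayMap`.
-/
import Mathlib
import Groth.Agent.Lib.Helper9.KoszulExch

set_option autoImplicit false
set_option linter.style.haveILetI false
universe u

namespace Groth.Agent.Lib.Helper9.KoszulIndep

open Groth.Agent.Lib.Helper9 Groth.Agent.Lib.Helper9.KoszulExch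

section loc

variable {S S' : Type u} [CommRing S] [CommRing S']

open RingTheory.Sequence in
theorem isWeaklyRegular_map_of_flat [Algebra S S'] [Module.Flat S S'] (w : List S)
    (hw : IsWeaklyRegular S w) : IsWeaklyRegular S' (w.map (algebraMap S S')) := by
  rw [isWeaklyRegular_map_algebraMap_iff]
  have := hw.isWeaklyRegular_lTensor (M₂ := S')
  exact ((TensorProduct.rid S S').isWeaklyRegular_congr w).mp this

theorem ker_awayMap (π : S →+* S') (a : S) :
    RingHom.ker (Localization.awayMap π a) =
      (RingHom.ker π).map (algebraMap S (Localization.Away a)) := by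
  apply le_antisymm
  · intro x hx
    obtain ⟨⟨t, s⟩, rfl⟩ := IsLocalization.mk'_surjective (Submonoid.powers a) x
    rw [RingHom.mem_ker, Localization.awayMap, IsLocalization.Away.map, IsLocalization.map_mk',
      IsLocalization.mk'_eq_zero_iff] at hx
    obtain ⟨⟨m, j, rfl⟩, hmt⟩ := hx
    rw [IsLocalization.mk'_mem_map_algebraMap_iff]
    refine ⟨a ^ j, ⟨j, rfl⟩, ?_⟩
    rw [RingHom.mem_ker, map_mul, map_pow]
    exact hmt
  · rw [Ideal.map_le_iff_le_comap]
    intro t ht
    rw [Ideal.mem_comap, RingHom.mem_ker, Localization.awayMap, IsLocalization.Away.map,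
      IsLocalization.map_eq, RingHom.mem_ker.mp ht, map_zero]

theorem awayMap_surjective (π : S →+* S') (hπ : Function.Surjective π) (a : S) :
    Function.Surjective (Localization.awayMap π a) := by
  rw [Localization.awayMap_surjective_iff]
  intro b
  obtain ⟨t, rfl⟩ := hπ b
  exact ⟨t, 0, by simp⟩

/-- spreading out generation from a prime to a basic open -/
theorem exists_mul_mem_of_map_le (J N : Ideal S) (hFG : J.FG) (𝔮 : Ideal S) [𝔮.IsPrime]
    (h : J.map (algebraMap S (Localization.AtPrime 𝔮)) ≤
      N.map (algebraMap S (Localization.AtPrime 𝔮))) :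
    ∃ s : S, s ∉ 𝔮 ∧ ∀ x ∈ J, s * x ∈ N := by
  classical
  obtain ⟨T, rfl⟩ := hFG
  have key : ∀ T' : Finset S, (∀ x ∈ T', x ∈ Ideal.span (T : Set S)) →
      ∃ s : S, s ∉ 𝔮 ∧ ∀ x ∈ T', s * x ∈ N := by
    intro T'
    induction T' using Finset.induction_on with
    | empty => exact fun _ => ⟨1, (Ideal.ne_top_iff_one 𝔮).mp Ideal.IsPrime.ne_top', by simp⟩
    | insert y T'' _ ih =>
      intro hT
      obtain ⟨s, hs, hsx⟩ := ih fun x hx => hT x (Finset.mem_insert_of_mem hx)
      have hy : algebraMap S (Localization.AtPrime 𝔮) y ∈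
          N.map (algebraMap S (Localization.AtPrime 𝔮)) :=
        h (Ideal.mem_map_of_mem _ (hT y (Finset.mem_insert_self y T'')))
      rw [IsLocalization.mem_map_algebraMap_iff 𝔮.primeCompl] at hy
      obtain ⟨⟨⟨n, hn⟩, ⟨u, hu⟩⟩, hnu⟩ := hy
      simp only at hnu
      rw [← map_mul] at hnu
      obtain ⟨⟨c, hc⟩, hc'⟩ := (IsLocalization.eq_iff_exists 𝔮.primeCompl _).mp hnu
      simp only at hc'
      refine ⟨s * (c * u), ?_, ?_⟩
      · exact fun hmem => (Ideal.IsPrime.mem_or_mem inferInstance hmem).elim hs
          (fun h' => (Ideal.IsPrime.mem_or_mem inferInstance h').elim hc hu)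
      · intro x hx
        rcases Finset.mem_insert.mp hx with rfl | hx
        · have : s * (c * u) * x = s * (c * (x * u)) := by ring
          rw [this, hc']
          exact Ideal.mul_mem_left _ _ (Ideal.mul_mem_left _ _ hn)
        · have : s * (c * u) * x = (c * u) * (s * x) := by ring
          rw [this]
          exact Ideal.mul_mem_left _ _ (hsx x hx)
  obtain ⟨s, hs, hsx⟩ := key T fun x hx => Ideal.subset_span hx
  refine ⟨s, hs, fun x hx => ?_⟩
  induction hx using Submodule.span_induction with
  | mem y hy => exact hsx y hy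
  | zero => simp
  | add y z _ _ hy hz => rw [mul_add]; exact add_mem hy hz
  | smul r y _ hy =>
    rw [smul_eq_mul, mul_left_comm]
    exact Ideal.mul_mem_left _ _ hy

end loc

section partialExchange

variable {D : Type u} [CommRing D] [IsLocalRing D]

set_option linter.unusedSectionVars false

/-- independence of the elements of a list, one after the other, modulo `𝔪 I` -/
inductive Indep (I : Ideal D) : List D → List D → Prop
  | nil (p : List D) : Indep I p []
  | cons (p : List D) (x : D) (q : List D) :
      x ∉ sp p ⊔ IsLocalRing.maximalIdeal D • I → Indep I (p ++ [x]) q → Indep I p (x :: q)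

theorem sp_exchange (I : Ideal D) (p m1 m2 : List D) (x y : D) (e : Dˣ)
    (hpm : sp (p ++ (m1 ++ y :: m2)) = I) (hxI : x ∈ I)
    (hxy : x - e * y ∈ sp (p ++ (m1 ++ m2))) : sp ((p ++ [x]) ++ (m1 ++ m2)) = I := by
  have hmI : ∀ z ∈ p ++ (m1 ++ y :: m2), z ∈ I := fun z hz => by
    rw [← hpm]; exact mem_sp hz
  apply le_antisymm
  · rw [sp_le_iff]
    intro a ha
    simp only [List.mem_append, List.mem_cons, List.not_mem_nil, or_false] at ha
    rcases ha with (ha | rfl) | ha | ha
    · exact hmI a (by simp [ha])
    · exact hxI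
    · exact hmI a (by simp [ha])
    · exact hmI a (by simp [ha])
  · conv_lhs => rw [← hpm]
    rw [sp_le_iff]
    intro a ha
    simp only [List.mem_append, List.mem_cons] at ha
    have hsub : sp (p ++ (m1 ++ m2)) ≤ sp ((p ++ [x]) ++ (m1 ++ m2)) :=
      sp_mono (by intro b hb; simp only [List.mem_append, List.mem_cons] at hb ⊢; tauto)
    rcases ha with ha | ha | rfl | ha
    · exact mem_sp (by simp [ha])
    · exact mem_sp (by simp [ha])
    · have hx1 : x ∈ sp ((p ++ [x]) ++ (m1 ++ m2)) := mem_sp (by simp)
      have : a = ((e⁻¹ : Dˣ) : D) * (x - (x - e * a)) := by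
        have : x - (x - (e : D) * a) = e * a := by ring
        rw [this, ← mul_assoc, Units.inv_mul, one_mul]
      rw [this]
      exact Ideal.mul_mem_left _ _ (sub_mem hx1 (hsub hxy))
    · exact mem_sp (by simp [ha])

theorem partial_exchange (I : Ideal D) : ∀ (q p m : List D), sp (p ++ m) = I →
    (∀ x ∈ q, x ∈ I) → Indep I p q →
    ∃ m' : List D, (∀ y ∈ m', y ∈ m) ∧ m'.length + q.length = m.length ∧
      sp ((p ++ q) ++ m') = I := by
  intro q
  induction q with
  | nil =>
    intro p m hpm _ _
    exact ⟨m, fun _ h => h, by simp, by simpa using hpm⟩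
  | cons x q ih =>
    intro p m hpm hq hind
    cases hind with
    | cons _ _ _ hx hrest =>
      have hxI : x ∈ I := hq x (by simp)
      have hmI : ∀ y ∈ m, y ∈ I := fun y hy => by
        rw [← hpm]; exact mem_sp (by simp [hy])
      obtain ⟨m1, y, m2, e, rfl, hxy⟩ :=
        exists_pivot I p m hmI x (by rw [hpm]; exact hxI) hx
      have hsp := sp_exchange I p m1 m2 x y e hpm hxI hxy
      obtain ⟨m', hm'sub, hm'len, hm'sp⟩ :=
        ih (p ++ [x]) (m1 ++ m2) hsp (fun z hz => hq z (by simp [hz])) hrest
      refine ⟨m', ?_, ?_, ?_⟩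
      · intro z hz
        have := hm'sub z hz
        simp only [List.mem_append, List.mem_cons] at this ⊢
        tauto
      · simp only [List.length_append, List.length_cons] at hm'len ⊢
        omega
      · rw [← hm'sp]
        congr 1
        simp

end partialExchange

section indepAt

variable {S : Type u} [CommRing S]

/-- the analogous notion before localisation at the prime `𝔮` -/
inductive IndepAt (J 𝔮 : Ideal S) : List S → List S → Prop
  | nil (p : List S) : IndepAt J 𝔮 p []
  | cons (p : List S) (x : S) (q : List S) :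
      (∀ u : S, u ∉ 𝔮 → u * x ∉ Ideal.ofList p ⊔ 𝔮 * J) → IndepAt J 𝔮 (p ++ [x]) q →
      IndepAt J 𝔮 p (x :: q)

theorem IndepAt.map {J 𝔮 : Ideal S} [𝔮.IsPrime] {p q : List S} (h : IndepAt J 𝔮 p q) :
    Indep (J.map (algebraMap S (Localization.AtPrime 𝔮)))
      (p.map (algebraMap S (Localization.AtPrime 𝔮)))
      (q.map (algebraMap S (Localization.AtPrime 𝔮))) := by
  induction h with
  | nil p => exact Indep.nil _
  | cons p x q hx _ ih =>
    rw [List.map_cons]
    refine Indep.cons _ _ _ ?_ (by simpa using ih)
    intro hmem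
    have h1 : sp (p.map (algebraMap S (Localization.AtPrime 𝔮))) ⊔
        IsLocalRing.maximalIdeal (Localization.AtPrime 𝔮) •
          J.map (algebraMap S (Localization.AtPrime 𝔮)) =
        (Ideal.ofList p ⊔ 𝔮 * J).map (algebraMap S (Localization.AtPrime 𝔮)) := by
      rw [Ideal.map_sup, Ideal.map_mul, Localization.AtPrime.map_eq_maximalIdeal, smul_eq_mul,
        Ideal.map_ofList]
      rfl
    rw [h1, IsLocalization.mem_map_algebraMap_iff 𝔮.primeCompl] at hmem
    obtain ⟨⟨⟨n, hn⟩, ⟨u, hu⟩⟩, hnu⟩ := hmem
    simp only at hnu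
    rw [← map_mul] at hnu
    obtain ⟨⟨c, hc⟩, hc'⟩ := (IsLocalization.eq_iff_exists 𝔮.primeCompl _).mp hnu
    simp only at hc'
    refine hx (c * u) ?_ ?_
    · exact fun hmem' => (Ideal.IsPrime.mem_or_mem inferInstance hmem').elim hc hu
    · have : c * u * x = c * (x * u) := by ring
      rw [this, hc']
      exact Ideal.mul_mem_left _ _ hn

end indepAt

end Groth.Agent.Lib.Helper9.KoszulIndep
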