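/-
Helper library (helper9): Koszul-regular ideals and surjections `π : S → S'` whose kernel is
generated by a weakly regular list `w`:
`comap_koszulRegularIdeal` (the preimage of a Koszul-regular ideal is Koszul-regular) and
`quotient_koszulRegularIdeal` (the image of a Koszul-regular ideal `J ⊇ (w)` is Koszul-regular
provided the elements of `w` are independent in `J / 𝔮 J` at every prime `𝔮 ⊇ J`).
-/
import Mathlib
import Groth.Agent.Lib.Helper9.KoszulAppend
import Groth.Agent.Lib.Helper9.KoszulIndep
import Groth.Agent.Lib.Helper9.KoszulGen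

set_option autoImplicit false
set_option linter.style.haveILetI false
universe u

namespace Groth.Agent.Lib.Helper9.KoszulQuot

open Groth.Agent.Lib.Helper9 Groth.Agent.Lib.Helper9.KoszulExch
  Groth.Agent.Lib.Helper9.KoszulIndep Groth.Agent.Lib.Helper9.KoszulAppend

variable {S : Type u} [CommRing S]

/-- two ideals agreeing on a basic open agree in every algebra where the function is a unit -/
theorem map_eq_of_away (J J' : Ideal S) (hle : J' ≤ J) (s : S)
    (h : J.map (algebraMap S (Localization.Away s)) ≤ J'.map (algebraMap S (Localization.Away s)))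
    (T : Type u) [CommRing T] [Algebra S T] (hs : IsUnit (algebraMap S T s)) :
    J.map (algebraMap S T) = J'.map (algebraMap S T) := by
  apply le_antisymm _ (Ideal.map_mono hle)
  rw [Ideal.map_le_iff_le_comap]
  intro x hx
  have h1 : algebraMap S (Localization.Away s) x ∈
      J'.map (algebraMap S (Localization.Away s)) := h (Ideal.mem_map_of_mem _ hx)
  rw [IsLocalization.mem_map_algebraMap_iff (Submonoid.powers s)] at h1
  obtain ⟨⟨⟨n, hn⟩, ⟨u, k, rfl⟩⟩, hnu⟩ := h1
  simp only at hnu
  rw [← map_mul] at hnu
  obtain ⟨⟨c, j, rfl⟩, hc'⟩ := (IsLocalization.eq_iff_exists (Submonoid.powers s) _).mp hnu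
  simp only at hc'
  rw [Ideal.mem_comap]
  have hu : IsUnit (algebraMap S T (s ^ j * s ^ k)) := by
    rw [map_mul, map_pow, map_pow]
    exact (hs.pow j).mul (hs.pow k)
  have h2 : algebraMap S T (s ^ j * s ^ k) * algebraMap S T x ∈ J'.map (algebraMap S T) := by
    rw [← map_mul]
    have : s ^ j * s ^ k * x = s ^ j * (x * s ^ k) := by ring
    rw [this, hc']
    exact Ideal.mem_map_of_mem _ (Ideal.mul_mem_left _ _ hn)
  exact (Ideal.unit_mul_mem_iff_mem _ hu).mp h2

/-- Koszul-regularity on a basic open passes to any flat algebra where the function is a unit -/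
theorem isKoszulRegularSeq_map_of_away (s : S) (l : List S)
    (h : LCI.IsKoszulRegularSeq (Localization.Away s)
      (l.map (algebraMap S (Localization.Away s))))
    (T : Type u) [CommRing T] [Algebra S T] [Module.Flat S T]
    (hs : IsUnit (algebraMap S T s)) :
    LCI.IsKoszulRegularSeq T (l.map (algebraMap S T)) := by
  letI : Algebra (Localization.Away s) T := (IsLocalization.Away.lift s hs).toAlgebra
  haveI : IsScalarTower S (Localization.Away s) T :=
    IsScalarTower.of_algebraMap_eq (fun x => (IsLocalization.Away.lift_eq s hs x).symm)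
  haveI : Module.Flat (Localization.Away s) T :=
    (Module.flat_iff_of_isLocalization (Localization.Away s) (Submonoid.powers s) _).mpr
      inferInstance
  have h1 := KoszulLoc.isKoszulRegularSeq_map_of_flat T _ h
  rw [List.map_map] at h1
  have h2 : (algebraMap (Localization.Away s) T) ∘ (algebraMap S (Localization.Away s)) =
      algebraMap S T := by
    funext x
    exact (IsScalarTower.algebraMap_apply S (Localization.Away s) T x).symm
  rwa [h2] at h1

/-- lifting a Koszul-regular generating list on a basic open to elements of the ideal -/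
theorem exists_lift_list (J : Ideal S) (s : S) (l₀ : List (Localization.Away s))
    (hl : LCI.IsKoszulRegularSeq (Localization.Away s) l₀)
    (hJ : J.map (algebraMap S (Localization.Away s)) = Ideal.span {x | x ∈ l₀}) :
    ∃ l : List S, (∀ a ∈ l, a ∈ J) ∧
      LCI.IsKoszulRegularSeq (Localization.Away s) (l.map (algebraMap S (Localization.Away s))) ∧
      J.map (algebraMap S (Localization.Away s)) =
        Ideal.ofList (l.map (algebraMap S (Localization.Away s))) := by
  classical
  have hex : ∀ x : Localization.Away s, x ∈ l₀ → ∃ n : S, n ∈ J ∧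
      ∃ e : (Localization.Away s)ˣ, algebraMap S (Localization.Away s) n = e * x := by
    intro x hx
    have h1 : x ∈ J.map (algebraMap S (Localization.Away s)) := by
      rw [hJ]; exact Ideal.subset_span hx
    rw [IsLocalization.mem_map_algebraMap_iff (Submonoid.powers s)] at h1
    obtain ⟨⟨⟨n, hn⟩, u⟩, hnu⟩ := h1
    simp only at hnu
    refine ⟨n, hn, (IsLocalization.map_units (Localization.Away s) u).unit, ?_⟩
    rw [← hnu, mul_comm]
    rfl
  let ψ : Localization.Away s → S := fun x => if hx : x ∈ l₀ then (hex x hx).choose else 0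
  have hψJ : ∀ x ∈ l₀, ψ x ∈ J := fun x hx => by
    simp only [ψ, dif_pos hx]; exact (hex x hx).choose_spec.1
  have hψe : ∀ x ∈ l₀, ∃ e : (Localization.Away s)ˣ,
      algebraMap S (Localization.Away s) (ψ x) = e * x := fun x hx => by
    simp only [ψ, dif_pos hx]; exact (hex x hx).choose_spec.2
  have hideal : J.map (algebraMap S (Localization.Away s)) =
      Ideal.ofList ((l₀.map ψ).map (algebraMap S (Localization.Away s))) := by
    rw [hJ]
    apply le_antisymm
    · change sp l₀ ≤ _
      rw [sp_le_iff]
      intro x hx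
      obtain ⟨e, he⟩ := hψe x hx
      have : x = ((e⁻¹ : (Localization.Away s)ˣ) : Localization.Away s) *
          algebraMap S (Localization.Away s) (ψ x) := by
        rw [he, ← mul_assoc, Units.inv_mul, one_mul]
      rw [this]
      refine Ideal.mul_mem_left _ _ (Ideal.subset_span ?_)
      simp only [List.mem_map, Set.mem_ofPred_eq]
      exact ⟨ψ x, ⟨x, hx, rfl⟩, rfl⟩
    · change sp _ ≤ _
      rw [sp_le_iff]
      intro y hy
      simp only [List.mem_map] at hy
      obtain ⟨_, ⟨x, hx, rfl⟩, rfl⟩ := hy
      obtain ⟨e, he⟩ := hψe x hx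
      rw [he]
      exact Ideal.mul_mem_left _ _ (Ideal.subset_span hx)
  refine ⟨l₀.map ψ, ?_, ?_, hideal⟩
  · intro a ha
    simp only [List.mem_map] at ha
    obtain ⟨x, hx, rfl⟩ := ha
    exact hψJ x hx
  · exact KoszulGen.isKoszulRegularSeq_of_length_eq l₀ _ hl hJ.symm hideal.symm (by simp)

theorem fg_ofList (l : List S) : (Ideal.ofList l).FG := by
  classical
  refine ⟨l.toFinset, ?_⟩
  rw [List.coe_toFinset]

open RingTheory.Sequence in
/-- **Quotient of a Koszul-regular ideal by a regular sequence of independent elements.** -/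
theorem quotient_koszulRegularIdeal {S' : Type u} [CommRing S'] (π : S →+* S')
    (hπ : Function.Surjective π) (w : List S) (hker : RingHom.ker π = Ideal.ofList w)
    (hw : IsWeaklyRegular S w) (J : Ideal S) (hwJ : ∀ a ∈ w, a ∈ J)
    (hJ : LCI.IsKoszulRegularIdeal J)
    (hind : ∀ 𝔮 : Ideal S, 𝔮.IsPrime → J ≤ 𝔮 → IndepAt J 𝔮 [] w) :
    LCI.IsKoszulRegularIdeal (J.map π) := by
  classical
  intro 𝔮' h𝔮'
  haveI h𝔮prime : (𝔮'.asIdeal.comap π).IsPrime := inferInstance
  have hJ𝔮 : J ≤ 𝔮'.asIdeal.comap π := Ideal.map_le_iff_le_comap.mp h𝔮'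
  obtain ⟨s, hs, l₀, hl₀, hJl₀⟩ := hJ ⟨𝔮'.asIdeal.comap π, inferInstance⟩ hJ𝔮
  obtain ⟨lam, hlamJ, hlamP, hlamI⟩ := exists_lift_list J s l₀ hl₀ hJl₀
  generalize h𝔮 : 𝔮'.asIdeal.comap π = 𝔮 at *
  have hsD : IsUnit (algebraMap S (Localization.AtPrime 𝔮) s) :=
    IsLocalization.map_units (Localization.AtPrime 𝔮) (⟨s, hs⟩ : 𝔮.primeCompl)
  have hJ' : Ideal.ofList lam ≤ J := Ideal.span_le.mpr hlamJ
  have hle : J.map (algebraMap S (Localization.Away s)) ≤
      (Ideal.ofList lam).map (algebraMap S (Localization.Away s)) := by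
    rw [Ideal.map_ofList, ← hlamI]
  have hJD : sp (lam.map (algebraMap S (Localization.AtPrime 𝔮))) =
      J.map (algebraMap S (Localization.AtPrime 𝔮)) := by
    rw [map_eq_of_away J (Ideal.ofList lam) hJ' s hle _ hsD, Ideal.map_ofList]
    rfl
  have hindD := (hind 𝔮 inferInstance hJ𝔮).map
  obtain ⟨m', hm'sub, hm'len, hm'sp⟩ :=
    partial_exchange (J.map (algebraMap S (Localization.AtPrime 𝔮)))
      (w.map (algebraMap S (Localization.AtPrime 𝔮))) []
      (lam.map (algebraMap S (Localization.AtPrime 𝔮))) (by simpa using hJD)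
      (by
        intro x hx
        simp only [List.mem_map] at hx
        obtain ⟨a, ha, rfl⟩ := hx
        exact Ideal.mem_map_of_mem _ (hwJ a ha))
      (by simpa using hindD)
  have hex : ∀ y ∈ m', ∃ a ∈ lam, algebraMap S (Localization.AtPrime 𝔮) a = y := fun y hy => by
    have := hm'sub y hy
    simpa [List.mem_map] using this
  let φ : Localization.AtPrime 𝔮 → S := fun y => if hy : y ∈ m' then (hex y hy).choose else 0
  have hεmap : (m'.map φ).map (algebraMap S (Localization.AtPrime 𝔮)) = m' := by
    rw [List.map_map]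
    conv_rhs => rw [← List.map_id m']
    apply List.map_congr_left
    intro y hy
    simp only [Function.comp_apply, φ, dif_pos hy, id_eq]
    exact (hex y hy).choose_spec.2
  have hεsub : ∀ a ∈ m'.map φ, a ∈ lam := by
    intro a ha
    simp only [List.mem_map] at ha
    obtain ⟨y, hy, rfl⟩ := ha
    simp only [φ, dif_pos hy]
    exact (hex y hy).choose_spec.1
  have hεlen : (m'.map φ).length + w.length = lam.length := by simpa using hm'len
  generalize m'.map φ = ε at hεmap hεsub hεlen
  have hND : J.map (algebraMap S (Localization.AtPrime 𝔮)) ≤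
      (Ideal.ofList (w ++ ε)).map (algebraMap S (Localization.AtPrime 𝔮)) := by
    rw [Ideal.map_ofList, List.map_append, hεmap]
    have : sp (w.map (algebraMap S (Localization.AtPrime 𝔮)) ++ m') =
        J.map (algebraMap S (Localization.AtPrime 𝔮)) := by simpa using hm'sp
    rw [← this]
    exact le_of_eq rfl
  obtain ⟨s₂, hs₂, hs₂N⟩ := exists_mul_mem_of_map_le (Ideal.ofList lam) (Ideal.ofList (w ++ ε))
    (fg_ofList lam) 𝔮 (le_trans (Ideal.map_mono hJ') hND)
  have hu : IsUnit (algebraMap S (Localization.Away (s * s₂)) (s * s₂)) :=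
    IsLocalization.Away.algebraMap_isUnit (s * s₂)
  rw [map_mul] at hu
  have hsS₁ : IsUnit (algebraMap S (Localization.Away (s * s₂)) s) := isUnit_of_mul_isUnit_left hu
  have hs₂S₁ : IsUnit (algebraMap S (Localization.Away (s * s₂)) s₂) :=
    isUnit_of_mul_isUnit_right hu
  have hP₁ := isKoszulRegularSeq_map_of_away s lam hlamP (Localization.Away (s * s₂)) hsS₁
  have hJ₁ : J.map (algebraMap S (Localization.Away (s * s₂))) =
      Ideal.ofList (lam.map (algebraMap S (Localization.Away (s * s₂)))) := by
    rw [map_eq_of_away J (Ideal.ofList lam) hJ' s hle _ hsS₁, Ideal.map_ofList]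
  have hN₁ : Ideal.ofList ((w ++ ε).map (algebraMap S (Localization.Away (s * s₂)))) =
      J.map (algebraMap S (Localization.Away (s * s₂))) := by
    apply le_antisymm
    · rw [← Ideal.map_ofList]
      apply Ideal.map_mono
      refine Ideal.span_le.mpr ?_
      intro a ha
      rcases List.mem_append.mp ha with ha | ha
      · exact hwJ a ha
      · exact hlamJ a (hεsub a ha)
    · rw [hJ₁]
      change sp _ ≤ _
      rw [sp_le_iff]
      intro y hy
      simp only [List.mem_map] at hy
      obtain ⟨a, ha, rfl⟩ := hy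
      rw [← Ideal.unit_mul_mem_iff_mem _ hs₂S₁, ← map_mul, ← Ideal.map_ofList]
      exact Ideal.mem_map_of_mem _ (hs₂N a (Ideal.subset_span ha))
  have hP₂ := KoszulGen.isKoszulRegularSeq_of_length_eq _
    ((w ++ ε).map (algebraMap S (Localization.Away (s * s₂)))) hP₁ hJ₁.symm hN₁
    (by simp only [List.length_map, List.length_append]; omega)
  have hker₁ : RingHom.ker (Localization.awayMap π (s * s₂)) =
      Ideal.ofList (w.map (algebraMap S (Localization.Away (s * s₂)))) := by
    rw [ker_awayMap, hker, Ideal.map_ofList]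
  have hw₁ := isWeaklyRegular_map_of_flat (S' := Localization.Away (s * s₂)) w hw
  rw [List.map_append] at hP₂
  have hP₃ := (isKoszulRegularSeq_append_iff (Localization.awayMap π (s * s₂))
    (awayMap_surjective π hπ _) _ hker₁ hw₁ _).mp hP₂
  refine ⟨π (s * s₂), ?_, _, hP₃, ?_⟩
  · have hs' : s ∉ 𝔮 := hs
    intro hmem
    have : s * s₂ ∈ 𝔮 := by rw [← h𝔮]; exact hmem
    exact (Ideal.IsPrime.mem_or_mem inferInstance this).elim hs' hs₂
  · rw [Ideal.map_map]
    have hcomm : (algebraMap S' (Localization.Away (π (s * s₂)))).comp π =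
        (Localization.awayMap π (s * s₂)).comp (algebraMap S (Localization.Away (s * s₂))) := by
      ext x
      simp [Localization.awayMap, IsLocalization.Away.map, IsLocalization.map_eq]
    rw [hcomm, ← Ideal.map_map, ← hN₁, Ideal.map_ofList, List.map_append, List.map_append]
    change sp (_ ++ _) = sp _
    rw [sp_append]
    have h0 : sp ((w.map (algebraMap S (Localization.Away (s * s₂)))).map
        (Localization.awayMap π (s * s₂))) = ⊥ := by
      rw [eq_bot_iff, sp_le_iff]
      intro a ha
      simp only [List.mem_map] at ha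
      obtain ⟨_, ⟨b, hb, rfl⟩, rfl⟩ := ha
      have : algebraMap S (Localization.Away (s * s₂)) b ∈
          RingHom.ker (Localization.awayMap π (s * s₂)) := by
        rw [hker₁]
        exact Ideal.subset_span (List.mem_map_of_mem hb)
      exact this
    rw [h0, bot_sup_eq]

theorem awayMap_comp {S' : Type u} [CommRing S'] (π : S →+* S') (g : S) :
    (algebraMap S' (Localization.Away (π g))).comp π =
      (Localization.awayMap π g).comp (algebraMap S (Localization.Away g)) := by
  ext x
  simp [Localization.awayMap, IsLocalization.Away.map, IsLocalization.map_eq]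

theorem sp_map_ker_eq_bot {S' : Type u} [CommRing S'] (π : S →+* S') (w : List S)
    (hker : RingHom.ker π = Ideal.ofList w) : sp (w.map π) = ⊥ := by
  rw [eq_bot_iff, sp_le_iff]
  intro a ha
  simp only [List.mem_map] at ha
  obtain ⟨b, hb, rfl⟩ := ha
  have : b ∈ RingHom.ker π := by
    rw [hker]
    exact Ideal.subset_span hb
  exact this

open RingTheory.Sequence in
/-- **Preimage of a Koszul-regular ideal under a surjection with regular kernel.** -/
theorem comap_koszulRegularIdeal {S' : Type u} [CommRing S'] (π : S →+* S')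
    (hπ : Function.Surjective π) (w : List S) (hker : RingHom.ker π = Ideal.ofList w)
    (hw : IsWeaklyRegular S w) (I : Ideal S') (hI : LCI.IsKoszulRegularIdeal I) :
    LCI.IsKoszulRegularIdeal (I.comap π) := by
  classical
  intro 𝔮 h𝔮
  have hkerq : RingHom.ker π ≤ 𝔮.asIdeal := by
    rw [RingHom.ker_eq_comap_bot]
    exact le_trans (Ideal.comap_mono bot_le) h𝔮
  haveI : (𝔮.asIdeal.map π).IsPrime := Ideal.map_isPrime_of_surjective hπ hkerq
  have hI𝔮 : I ≤ 𝔮.asIdeal.map π := by
    rw [← Ideal.map_comap_of_surjective π hπ I]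
    exact Ideal.map_mono h𝔮
  obtain ⟨g', hg', l', hl', hIl'⟩ := hI ⟨𝔮.asIdeal.map π, inferInstance⟩ hI𝔮
  obtain ⟨g, rfl⟩ := hπ g'
  have hg : g ∉ 𝔮.asIdeal := fun h => hg' (Ideal.mem_map_of_mem π h)
  have hπ₁ := awayMap_surjective π hπ g
  have hε : (l'.map (Function.surjInv hπ₁)).map (Localization.awayMap π g) = l' := by
    rw [List.map_map]
    conv_rhs => rw [← List.map_id l']
    apply List.map_congr_left
    intro y _
    exact Function.surjInv_eq hπ₁ y
  generalize l'.map (Function.surjInv hπ₁) = ε at hε
  have hker₁ : RingHom.ker (Localization.awayMap π g) =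
      Ideal.ofList (w.map (algebraMap S (Localization.Away g))) := by
    rw [ker_awayMap, hker, Ideal.map_ofList]
  have hw₁ := isWeaklyRegular_map_of_flat (S' := Localization.Away g) w hw
  have hP := (isKoszulRegularSeq_append_iff (Localization.awayMap π g) hπ₁ _ hker₁ hw₁ ε).mpr
    (by rw [hε]; exact hl')
  refine ⟨g, hg, _, hP, ?_⟩
  have hA : RingHom.ker (Localization.awayMap π g) ≤
      (I.comap π).map (algebraMap S (Localization.Away g)) := by
    rw [ker_awayMap, RingHom.ker_eq_comap_bot]
    exact Ideal.map_mono (Ideal.comap_mono bot_le)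
  have hB : RingHom.ker (Localization.awayMap π g) ≤
      Ideal.ofList (w.map (algebraMap S (Localization.Away g)) ++ ε) := by
    rw [hker₁]
    exact sp_mono (fun a ha => List.mem_append_left _ ha)
  have hmapA : ((I.comap π).map (algebraMap S (Localization.Away g))).map
      (Localization.awayMap π g) = I.map (algebraMap S' (Localization.Away (π g))) := by
    rw [Ideal.map_map, ← awayMap_comp, ← Ideal.map_map, Ideal.map_comap_of_surjective π hπ]
  have hmapB : (Ideal.ofList (w.map (algebraMap S (Localization.Away g)) ++ ε)).map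
      (Localization.awayMap π g) = I.map (algebraMap S' (Localization.Away (π g))) := by
    rw [Ideal.map_ofList, List.map_append, hε, hIl']
    change sp (_ ++ _) = sp _
    rw [sp_append, sp_map_ker_eq_bot _ _ hker₁, bot_sup_eq]
  change _ = Ideal.ofList _
  have h1 := Ideal.comap_map_of_surjective _ hπ₁
    ((I.comap π).map (algebraMap S (Localization.Away g)))
  have h2 := Ideal.comap_map_of_surjective _ hπ₁
    (Ideal.ofList (w.map (algebraMap S (Localization.Away g)) ++ ε))
  rw [← RingHom.ker_eq_comap_bot, sup_eq_left.mpr hA] at h1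
  rw [← RingHom.ker_eq_comap_bot, sup_eq_left.mpr hB] at h2
  rw [← h1, ← h2, hmapA, hmapB]

end Groth.Agent.Lib.Helper9.KoszulQuot
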