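/-
Helper library (helper9): independence of the presentation for Koszul-regular kernels
(`main`), transport of Koszul-regular ideals along ring isomorphisms, `indepAt_of_split`.
-/
import Mathlib
import Groth.Agent.Lib.Helper9.KoszulQuot
import Groth.Agent.Lib.Helper9.KoszulDesc
import Groth.Agent.Lib.Helper8.LinSeq

set_option autoImplicit false
set_option linter.style.haveILetI false
universe u

namespace Groth.Agent.Lib.Helper9.KoszulPres

open Groth.Agent.Lib.Helper9 Groth.Agent.Lib.Helper9.KoszulExch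
  Groth.Agent.Lib.Helper9.KoszulIndep Groth.Agent.Lib.Helper9.KoszulQuot
  Groth.Agent.Lib.Helper8 MvPolynomial

theorem indepAt_of_split {S : Type u} [CommRing S] (J 𝔮 : Ideal S) (W : List S)
    (h : ∀ (p rest : List S) (x : S), W = p ++ x :: rest →
      ∀ u, u ∉ 𝔮 → u * x ∉ Ideal.ofList p ⊔ 𝔮 * J) :
    IndepAt J 𝔮 [] W := by
  suffices H : ∀ (q p : List S), W = p ++ q → IndepAt J 𝔮 p q from H W [] rfl
  intro q
  induction q with
  | nil => intro p _; exact IndepAt.nil p
  | cons x q ih =>
    intro p hp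
    exact IndepAt.cons p x q (h p q x hp) (ih (p ++ [x]) (by rw [hp]; simp))

/-- transport of a Koszul-regular ideal along a ring isomorphism -/
theorem isKoszulRegularIdeal_of_ringEquiv {T T' : Type u} [CommRing T] [CommRing T']
    (θ : T ≃+* T') (J' : Ideal T') (h : LCI.IsKoszulRegularIdeal (J'.comap θ.toRingHom)) :
    LCI.IsKoszulRegularIdeal J' := by
  letI : Algebra T' T := θ.symm.toRingHom.toAlgebra
  let e : T' ≃ₗ[T'] T := LinearEquiv.ofBijective (Algebra.linearMap T' T) θ.symm.bijective
  haveI : Module.FaithfullyFlat T' T := Module.FaithfullyFlat.of_linearEquiv T' T' e.symm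
  apply KoszulDesc.koszulRegularIdeal_descent T' T
  have : J'.map (algebraMap T' T) = J'.comap θ.toRingHom := by
    have h0 := Ideal.map_comap_of_equiv (I := J') θ.symm
    rw [RingEquiv.symm_symm] at h0
    exact h0
  rw [this]
  exact h

theorem main (A B : Type u) [CommRing A] [CommRing B]
    [Algebra A B] (n m : ℕ) (α : MvPolynomial (Fin n) A →ₐ[A] B) (hα : Function.Surjective α)
    (β : MvPolynomial (Fin m) A →ₐ[A] B) (hβ : Function.Surjective β)
    (h : LCI.IsKoszulRegularIdeal (RingHom.ker α.toRingHom)) :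
    LCI.IsKoszulRegularIdeal (RingHom.ker β.toRingHom) := by
  classical
  choose hh hhh using fun j : Fin m => hα (β (X j))
  choose kk hkk using fun i : Fin n => hβ (α (X i))
  -- step 1
  have h1 : LCI.IsKoszulRegularIdeal
      ((RingHom.ker α.toRingHom).comap (aeval hh :
        MvPolynomial (Fin m) (MvPolynomial (Fin n) A) →ₐ[_] _).toRingHom) := by
    refine comap_koszulRegularIdeal _ ?_ (LinSeq.w hh) (LinSeq.ker_aeval_eq hh)
      (LinSeq.isWeaklyRegular_w hh) _ h
    intro p
    exact ⟨C p, by simp⟩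
  rw [RingHom.comap_ker] at h1
  -- step 3
  have hcomp : (β.toRingHom.comp (aeval kk :
      MvPolynomial (Fin n) (MvPolynomial (Fin m) A) →ₐ[_] _).toRingHom).comp
      (commAlgEquiv A (Fin m) (Fin n)).toRingEquiv.toRingHom =
      α.toRingHom.comp (aeval hh :
        MvPolynomial (Fin m) (MvPolynomial (Fin n) A) →ₐ[_] _).toRingHom := by
    apply MvPolynomial.ringHom_ext
    · intro p
      induction p using MvPolynomial.induction_on with
      | C a => simp
      | add p q hp hq => 
        simp only [map_add] at hp hq ⊢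
        rw [hp, hq]
      | mul_X p i hp =>
        simp only [map_mul] at hp ⊢
        rw [hp]
        congr 1
        simp [commAlgEquiv_C_X, hkk]
    · intro j
      simp [hhh]
  -- step 4
  have h2 : LCI.IsKoszulRegularIdeal (RingHom.ker (β.toRingHom.comp (aeval kk :
      MvPolynomial (Fin n) (MvPolynomial (Fin m) A) →ₐ[_] _).toRingHom)) := by
    apply isKoszulRegularIdeal_of_ringEquiv (commAlgEquiv A (Fin m) (Fin n)).toRingEquiv
    rw [RingHom.comap_ker, hcomp]
    exact h1
  -- step 5
  have hρ₂ : Function.Surjective (aeval kk :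
      MvPolynomial (Fin n) (MvPolynomial (Fin m) A) →ₐ[_] _).toRingHom :=
    fun q => ⟨C q, by simp⟩
  have hwJ : ∀ a ∈ LinSeq.w kk, a ∈ RingHom.ker (β.toRingHom.comp (aeval kk :
      MvPolynomial (Fin n) (MvPolynomial (Fin m) A) →ₐ[_] _).toRingHom) := by
    intro a ha
    have : a ∈ RingHom.ker (aeval kk :
        MvPolynomial (Fin n) (MvPolynomial (Fin m) A) →ₐ[_] _).toRingHom := by
      rw [LinSeq.ker_aeval_eq]
      exact Ideal.subset_span ha
    rw [RingHom.mem_ker] at this ⊢
    rw [RingHom.comp_apply, this, map_zero]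
  have h3 := quotient_koszulRegularIdeal _ hρ₂ (LinSeq.w kk) (LinSeq.ker_aeval_eq kk)
    (LinSeq.isWeaklyRegular_w kk) _ hwJ h2 (fun 𝔮 h𝔮 hJ𝔮 => by
      haveI := h𝔮
      exact indepAt_of_split _ _ _ (fun p rest x hw u hu =>
        LinSeq.mul_notMem kk _ 𝔮 (Ideal.span_le.mpr hwJ) hJ𝔮 p rest x hw u hu))
  rw [← RingHom.comap_ker, Ideal.map_comap_of_surjective _ hρ₂] at h3
  exact h3

end Groth.Agent.Lib.Helper9.KoszulPres
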