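/-
Helper library (helper9): extension of derivations along a formally smooth map for an adic
topology to a complete target, by successive approximation through dual numbers.
-/
import Mathlib
import Groth.Prelude.Def_CAlgX

set_option autoImplicit false
set_option linter.style.haveILetI false

namespace Groth.Agent.Lib.Helper9.DerivExt

universe u

variable {A B : Type u} [CommRing A] [CommRing B] [Algebra A B] (m : Ideal B)
  (D : Derivation ℤ A A)

/-- `d : B → B` is a derivation extending `D` modulo `m ^ n`. -/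
structure Good (n : ℕ) (d : B → B) : Prop where
  add : ∀ x y, d (x + y) - (d x + d y) ∈ m ^ n
  mul : ∀ x y, d (x * y) - (x * d y + y * d x) ∈ m ^ n
  ext : ∀ a : A, d (algebraMap A B a) - algebraMap A B (D a) ∈ m ^ n

theorem good_zero : Good m D 0 (fun _ => 0) :=
  ⟨fun _ _ => by simp, fun _ _ => by simp, fun _ => by simp⟩

namespace Good

variable {m D} {n : ℕ} {d : B → B} (h : Good m D n d)

include h

theorem zero_mem : d 0 ∈ m ^ n := by
  have := h.add 0 0
  rw [add_zero] at this
  have e : d 0 = -(d 0 - (d 0 + d 0)) := by ring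
  rw [e]
  exact neg_mem this

/-- `d` maps `m ^ n * m ^ n` into `m ^ n`. -/
theorem mem_of_mem_sq (x : B) (hx : x ∈ m ^ n * m ^ n) : d x ∈ m ^ n := by
  refine Submodule.mul_induction_on hx ?_ ?_
  · intro y hy z hz
    have := h.mul y z
    have e : d (y * z) = (d (y * z) - (y * d z + z * d y)) + (y * d z + z * d y) := by ring
    rw [e]
    exact add_mem this (add_mem (Ideal.mul_mem_right _ _ hy) (Ideal.mul_mem_right _ _ hz))
  · intro y z hy hz
    have := h.add y z
    have e : d (y + z) = (d (y + z) - (d y + d z)) + (d y + d z) := by ring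
    rw [e]
    exact add_mem this (add_mem hy hz)

end Good

section step

variable (n : ℕ)

/-- the truncation `B ⧸ m ^ (n + 1)` -/
abbrev Rn : Type u := B ⧸ m ^ (n + 1)

/-- dual numbers over the truncation -/
abbrev Cn : Type u := TrivSqZeroExt (Rn m n) (Rn m n)

/-- the twisted structure map `a ↦ (a, D a)` -/
noncomputable def rho : A →+* Cn m n where
  toFun a := TrivSqZeroExt.inl (Ideal.Quotient.mk _ (algebraMap A B a)) +
    TrivSqZeroExt.inr (Ideal.Quotient.mk _ (algebraMap A B (D a)))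
  map_one' := by
    rw [Derivation.map_one_eq_zero, map_one, map_one, map_zero, map_zero, TrivSqZeroExt.inr_zero,
      add_zero, TrivSqZeroExt.inl_one]
  map_mul' a b := by
    apply TrivSqZeroExt.ext
    · simp
    · simp only [Derivation.leibniz, smul_eq_mul, map_add, map_mul, TrivSqZeroExt.snd_add,
        TrivSqZeroExt.snd_inl, TrivSqZeroExt.snd_inr, zero_add, TrivSqZeroExt.snd_mul,
        TrivSqZeroExt.fst_add, TrivSqZeroExt.fst_inl, TrivSqZeroExt.fst_inr, add_zero,
        MulOpposite.smul_eq_mul_unop, MulOpposite.unop_op]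
      ring
  map_zero' := by simp
  map_add' a b := by
    apply TrivSqZeroExt.ext
    · simp
    · simp only [map_add, TrivSqZeroExt.snd_add, TrivSqZeroExt.snd_inl, TrivSqZeroExt.snd_inr,
        zero_add]

theorem fst_rho (a : A) : (rho m D n a).fst = Ideal.Quotient.mk _ (algebraMap A B a) := by
  change (TrivSqZeroExt.inl _ + TrivSqZeroExt.inr _ : Cn m n).fst = _
  rw [TrivSqZeroExt.fst_add, TrivSqZeroExt.fst_inl, TrivSqZeroExt.fst_inr, add_zero]

theorem snd_rho (a : A) : (rho m D n a).snd = Ideal.Quotient.mk _ (algebraMap A B (D a)) := by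
  change (TrivSqZeroExt.inl _ + TrivSqZeroExt.inr _ : Cn m n).snd = _
  rw [TrivSqZeroExt.snd_add, TrivSqZeroExt.snd_inl, TrivSqZeroExt.snd_inr, zero_add]

/-- the square-zero ideal `0 ⊕ m^n/m^(n+1)` -/
def Kn : Ideal (Cn m n) where
  carrier := {c | c.fst = 0 ∧ ∃ b ∈ m ^ n, c.snd = Ideal.Quotient.mk _ b}
  add_mem' := by
    rintro x y ⟨hx, bx, hbx, hx'⟩ ⟨hy, by', hby, hy'⟩
    refine ⟨by rw [TrivSqZeroExt.fst_add, hx, hy, add_zero], bx + by', add_mem hbx hby, ?_⟩
    rw [TrivSqZeroExt.snd_add, hx', hy', map_add]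
  zero_mem' := ⟨rfl, 0, zero_mem _, by simp⟩
  smul_mem' := by
    rintro c x ⟨hx, bx, hbx, hx'⟩
    obtain ⟨c₀, hc₀⟩ := Ideal.Quotient.mk_surjective c.fst
    refine ⟨by rw [smul_eq_mul, TrivSqZeroExt.fst_mul, hx, mul_zero], c₀ * bx,
      Ideal.mul_mem_left _ _ hbx, ?_⟩
    rw [smul_eq_mul, TrivSqZeroExt.snd_mul, hx, hx', MulOpposite.op_zero, zero_smul, add_zero,
      smul_eq_mul, map_mul, hc₀]

theorem mem_Kn {c : Cn m n} :
    c ∈ Kn m n ↔ c.fst = 0 ∧ ∃ b ∈ m ^ n, c.snd = Ideal.Quotient.mk _ b := Iff.rfl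

theorem Kn_sq : Kn m n ^ 2 = ⊥ := by
  rw [eq_bot_iff, sq, Ideal.mul_le]
  rintro x ⟨hx, -⟩ y ⟨hy, -⟩
  rw [Ideal.mem_bot]
  apply TrivSqZeroExt.ext
  · rw [TrivSqZeroExt.fst_mul, hx, zero_mul, TrivSqZeroExt.fst_zero]
  · rw [TrivSqZeroExt.snd_mul, hx, hy, zero_smul, MulOpposite.op_zero, zero_smul, add_zero,
      TrivSqZeroExt.snd_zero]

/-- the pair `(b, e)` as an element of the dual numbers -/
noncomputable def pr (b e : B) : Cn m n :=
  TrivSqZeroExt.inl (Ideal.Quotient.mk _ b) + TrivSqZeroExt.inr (Ideal.Quotient.mk _ e)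

theorem fst_pr (b e : B) : (pr m n b e).fst = Ideal.Quotient.mk _ b := by simp [pr]

theorem snd_pr (b e : B) : (pr m n b e).snd = Ideal.Quotient.mk _ e := by simp [pr]

theorem mk_pr_eq (b e e' : B) (h : e - e' ∈ m ^ n) :
    Ideal.Quotient.mk (Kn m n) (pr m n b e) = Ideal.Quotient.mk (Kn m n) (pr m n b e') := by
  rw [Ideal.Quotient.eq, mem_Kn]
  refine ⟨by rw [TrivSqZeroExt.fst_sub, fst_pr, fst_pr, sub_self], e - e', h, ?_⟩
  rw [TrivSqZeroExt.snd_sub, snd_pr, snd_pr, map_sub]

theorem pr_add (b b' e e' : B) : pr m n (b + b') (e + e') = pr m n b e + pr m n b' e' := by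
  apply TrivSqZeroExt.ext
  · simp [pr]
  · simp [pr]

theorem pr_mul (b b' e e' : B) :
    pr m n (b * b') (b * e' + b' * e) = pr m n b e * pr m n b' e' := by
  apply TrivSqZeroExt.ext
  · simp [pr]
  · simp only [pr, map_add, map_mul, TrivSqZeroExt.snd_add, TrivSqZeroExt.snd_inl,
      TrivSqZeroExt.snd_inr, zero_add, TrivSqZeroExt.snd_mul, TrivSqZeroExt.fst_add,
      TrivSqZeroExt.fst_inl, TrivSqZeroExt.fst_inr, add_zero, smul_eq_mul,
      MulOpposite.smul_eq_mul_unop, MulOpposite.unop_op]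
    ring

/-- the `A`-algebra structure on the dual numbers twisted by `D` -/
@[instance_reducible]
noncomputable def algCn : Algebra A (Cn m n) := (rho m D n).toAlgebra

theorem step_exists (hfs : CAlgX.IsAdicFormallySmooth A B m) (d : B → B) (h : Good m D n d) :
    ∃ d' : B → B, Good m D (n + 1) d' ∧ ∀ x, d' x - d x ∈ m ^ n := by
  letI := algCn m D n
  have h1 : d 1 ∈ m ^ n := by
    have := h.mul 1 1
    rw [mul_one, one_mul] at this
    have e : d 1 = -(d 1 - (d 1 + d 1)) := by ring
    rw [e]; exact neg_mem this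
  -- the map to the quotient
  let ψ : B →ₐ[A] Cn m n ⧸ Kn m n :=
    { toFun := fun b => Ideal.Quotient.mk (Kn m n) (pr m n b (d b))
      map_one' := by
        have : (1 : Cn m n) = pr m n 1 0 := by
          apply TrivSqZeroExt.ext <;> simp [pr]
        rw [← map_one (Ideal.Quotient.mk (Kn m n)), this]
        exact mk_pr_eq m n 1 _ _ (by simpa using h1)
      map_mul' := fun x y => by
        rw [← map_mul, ← pr_mul]
        exact mk_pr_eq m n _ _ _ (h.mul x y)
      map_zero' := by
        have : (0 : Cn m n) = pr m n 0 0 := by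
          apply TrivSqZeroExt.ext <;> simp [pr]
        rw [← map_zero (Ideal.Quotient.mk (Kn m n)), this]
        exact mk_pr_eq m n 0 _ _ (by simpa using h.zero_mem)
      map_add' := fun x y => by
        rw [← map_add, ← pr_add]
        exact mk_pr_eq m n _ _ _ (h.add x y)
      commutes' := fun a => by
        have : algebraMap A (Cn m n ⧸ Kn m n) a = Ideal.Quotient.mk (Kn m n) (rho m D n a) :=
          (Ideal.Quotient.mk_algebraMap A (Kn m n) a).symm
        change Ideal.Quotient.mk (Kn m n) (pr m n _ (d _)) = algebraMap A (Cn m n ⧸ Kn m n) a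
        rw [this]
        have e : rho m D n a = pr m n (algebraMap A B a) (algebraMap A B (D a)) := rfl
        rw [e]
        exact mk_pr_eq m n _ _ _ (h.ext a) }
  have hψ : ∀ b, ψ b = Ideal.Quotient.mk (Kn m n) (pr m n b (d b)) := fun _ => rfl
  have hcont : ∃ k : ℕ, ∀ x ∈ m ^ k, ψ x = 0 := by
    refine ⟨2 * n + 1, fun x hx => ?_⟩
    rw [hψ, Ideal.Quotient.eq_zero_iff_mem, mem_Kn]
    have hx1 : x ∈ m ^ (n + 1) := Ideal.pow_le_pow_right (by omega) hx
    have hx2 : x ∈ m ^ n * m ^ n := by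
      rw [← pow_add]
      exact Ideal.pow_le_pow_right (by omega) hx
    refine ⟨by rw [fst_pr, Ideal.Quotient.eq_zero_iff_mem]; exact hx1, d x,
      h.mem_of_mem_sq x hx2, by rw [snd_pr]⟩
  obtain ⟨χ, hχ⟩ := hfs (Cn m n) (Kn m n) (Kn_sq m n) ψ hcont
  have hχ' : ∀ b, χ b - pr m n b (d b) ∈ Kn m n := by
    intro b
    rw [← Ideal.Quotient.eq, ← hψ, ← hχ]
    rfl
  have hfst : ∀ b, (χ b).fst = Ideal.Quotient.mk _ b := by
    intro b
    have := (hχ' b).1
    rwa [TrivSqZeroExt.fst_sub, fst_pr, sub_eq_zero] at this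
  choose d' hd' using fun b => Ideal.Quotient.mk_surjective (χ b).snd
  refine ⟨d', ⟨?_, ?_, ?_⟩, ?_⟩
  · intro x y
    rw [← Ideal.Quotient.eq_zero_iff_mem, map_sub, map_add, hd', hd', hd', map_add,
      TrivSqZeroExt.snd_add, sub_self]
  · intro x y
    rw [← Ideal.Quotient.eq_zero_iff_mem, map_sub, map_add, map_mul, map_mul, hd', hd', hd',
      map_mul, TrivSqZeroExt.snd_mul, hfst, hfst, smul_eq_mul, MulOpposite.smul_eq_mul_unop,
      MulOpposite.unop_op, sub_eq_zero]
    ring
  · intro a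
    rw [← Ideal.Quotient.eq_zero_iff_mem, map_sub, hd', AlgHom.commutes, sub_eq_zero]
    exact snd_rho m D n a
  · intro x
    obtain ⟨-, b₀, hb₀, hb₀'⟩ := hχ' x
    rw [TrivSqZeroExt.snd_sub, snd_pr, ← hd', ← map_sub, ← sub_eq_zero, ← map_sub,
      Ideal.Quotient.eq_zero_iff_mem] at hb₀'
    have e : d' x - d x = (d' x - d x - b₀) + b₀ := by ring
    rw [e]
    exact add_mem (Ideal.pow_le_pow_right (Nat.le_succ n) hb₀') hb₀

end step

section limit

variable {m D}

theorem Good.congr {n : ℕ} {d d' : B → B} (h : Good m D n d) (hd : ∀ x, d' x - d x ∈ m ^ n) :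
    Good m D n d' := by
  refine ⟨fun x y => ?_, fun x y => ?_, fun a => ?_⟩
  · have e : d' (x + y) - (d' x + d' y) = (d' (x + y) - d (x + y)) + (d (x + y) - (d x + d y)) -
        ((d' x - d x) + (d' y - d y)) := by ring
    rw [e]
    exact sub_mem (add_mem (hd _) (h.add x y)) (add_mem (hd _) (hd _))
  · have e : d' (x * y) - (x * d' y + y * d' x) = (d' (x * y) - d (x * y)) +
        (d (x * y) - (x * d y + y * d x)) - (x * (d' y - d y) + y * (d' x - d x)) := by ring
    rw [e]
    exact sub_mem (add_mem (hd _) (h.mul x y))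
      (add_mem (Ideal.mul_mem_left _ _ (hd _)) (Ideal.mul_mem_left _ _ (hd _)))
  · have e : d' (algebraMap A B a) - algebraMap A B (D a) =
        (d' (algebraMap A B a) - d (algebraMap A B a)) +
        (d (algebraMap A B a) - algebraMap A B (D a)) := by ring
    rw [e]
    exact add_mem (hd _) (h.ext a)

theorem Good.mono {n k : ℕ} (hk : k ≤ n) {d : B → B} (h : Good m D n d) : Good m D k d :=
  ⟨fun x y => Ideal.pow_le_pow_right hk (h.add x y),
    fun x y => Ideal.pow_le_pow_right hk (h.mul x y),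
    fun a => Ideal.pow_le_pow_right hk (h.ext a)⟩

variable (m D)

/-- the successive approximations -/
noncomputable def seq (hfs : CAlgX.IsAdicFormallySmooth A B m) :
    (n : ℕ) → {d : B → B // Good m D n d}
  | 0 => ⟨fun _ => 0, good_zero m D⟩
  | n + 1 => ⟨Classical.choose (step_exists m D n hfs (seq hfs n).1 (seq hfs n).2),
      (Classical.choose_spec (step_exists m D n hfs (seq hfs n).1 (seq hfs n).2)).1⟩

theorem seq_succ_sub (hfs : CAlgX.IsAdicFormallySmooth A B m) (n : ℕ) (x : B) :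
    (seq m D hfs (n + 1)).1 x - (seq m D hfs n).1 x ∈ m ^ n :=
  (Classical.choose_spec (step_exists m D n hfs (seq m D hfs n).1 (seq m D hfs n).2)).2 x

theorem seq_sub (hfs : CAlgX.IsAdicFormallySmooth A B m) {k n : ℕ} (hk : k ≤ n) (x : B) :
    (seq m D hfs n).1 x - (seq m D hfs k).1 x ∈ m ^ k := by
  induction n, hk using Nat.le_induction with
  | base => rw [sub_self]; exact zero_mem _
  | succ n hkn ih =>
    have e : (seq m D hfs (n + 1)).1 x - (seq m D hfs k).1 x =
        ((seq m D hfs (n + 1)).1 x - (seq m D hfs n).1 x) +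
        ((seq m D hfs n).1 x - (seq m D hfs k).1 x) := by ring
    rw [e]
    exact add_mem (Ideal.pow_le_pow_right hkn (seq_succ_sub m D hfs n x)) ih

theorem exists_limit [IsPrecomplete m B] (hfs : CAlgX.IsAdicFormallySmooth A B m) :
    ∃ d : B → B, ∀ n, Good m D n d := by
  have hlim : ∀ x : B, ∃ L : B, ∀ n, L - (seq m D hfs n).1 x ∈ m ^ n := by
    intro x
    obtain ⟨L, hL⟩ := IsPrecomplete.prec' (I := m) (fun n => (seq m D hfs n).1 x) (by
      intro k n hkn
      rw [SModEq.comm, SModEq.sub_mem, smul_eq_mul, Ideal.mul_top]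
      exact seq_sub m D hfs hkn x)
    refine ⟨L, fun n => ?_⟩
    have := hL n
    rwa [SModEq.comm, SModEq.sub_mem, smul_eq_mul, Ideal.mul_top] at this
  choose d hd using hlim
  exact ⟨d, fun n => (seq m D hfs n).2.congr fun x => hd x n⟩

theorem exists_derivation [IsAdicComplete m B] (hfs : CAlgX.IsAdicFormallySmooth A B m) :
    ∃ D' : Derivation ℤ B B, ∀ a : A, D' (algebraMap A B a) = algebraMap A B (D a) := by
  obtain ⟨d, hd⟩ := exists_limit m D hfs
  have haus : ∀ x : B, (∀ n, x ∈ m ^ n) → x = 0 := by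
    intro x hx
    apply IsHausdorff.haus' (I := m) x
    intro n
    rw [SModEq.zero, smul_eq_mul, Ideal.mul_top]
    exact hx n
  have hadd : ∀ x y, d (x + y) = d x + d y := fun x y =>
    sub_eq_zero.mp (haus _ fun n => (hd n).add x y)
  have hmul : ∀ x y, d (x * y) = x * d y + y * d x := fun x y =>
    sub_eq_zero.mp (haus _ fun n => (hd n).mul x y)
  have hext : ∀ a, d (algebraMap A B a) = algebraMap A B (D a) := fun a =>
    sub_eq_zero.mp (haus _ fun n => (hd n).ext a)
  have hzero : d 0 = 0 := haus _ fun n => (hd n).zero_mem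
  let f : B →+ B := { toFun := d, map_zero' := hzero, map_add' := hadd }
  exact ⟨Derivation.mk' f.toIntLinearMap fun a b => hmul a b, hext⟩

end limit

end Groth.Agent.Lib.Helper9.DerivExt
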