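import Mathlib
import Groth.Prelude.Def_CAlgX
import Groth.Agent.Lib.Helper77.QuasiReg

/-!
# Base change of a quasi-regular sequence with flat quotient (helper9)

* `flat_of_exact`: an extension of flat modules is flat.
* `flat_quot_pow`: for a quasi-regular sequence `f` in an `A`-algebra `B` with `B/(f)` flat over
  `A`, all `B/(f)^n` are flat over `A`.
* `isQuasiRegular_baseChange`: under the same hypotheses the sequence `1 ⊗ f` is quasi-regular
  in `A' ⊗[A] B` for every `A`-algebra `A'`.
-/

set_option autoImplicit false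
set_option linter.style.haveILetI false

namespace Groth.Agent.Lib.Helper9.QRegBaseChange

open TensorProduct MvPolynomial
open Groth.Agent.Lib.Helper77.QuasiReg

universe u

section flatext

variable {R : Type*} [CommRing R] {M' M M'' : Type*} [AddCommGroup M'] [AddCommGroup M]
  [AddCommGroup M''] [Module R M'] [Module R M] [Module R M'']

/-- an extension of flat modules is flat -/
theorem flat_of_exact (i : M' →ₗ[R] M) (p : M →ₗ[R] M'') (hi : Function.Injective i)
    (hp : Function.Surjective p) (hex : Function.Exact i p) [Module.Flat R M'] [Module.Flat R M''] :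
    Module.Flat R M := by
  rw [Module.Flat.iff_rTensor_preserves_injective_linearMap]
  intro N N' _ _ _ _ φ hφ
  rw [injective_iff_map_eq_zero]
  intro x hx
  -- push to `N ⊗ M''`
  have h1 : (p.lTensor N) x = 0 := by
    have hinj := Module.Flat.rTensor_preserves_injective_linearMap (M := M'') φ hφ
    apply hinj
    rw [map_zero, ← LinearMap.comp_apply, LinearMap.rTensor_comp_lTensor,
      ← LinearMap.lTensor_comp_rTensor, LinearMap.comp_apply, hx, map_zero]
  obtain ⟨y, rfl⟩ := (lTensor_exact N hex hp x).mp h1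
  have h2 : (φ.rTensor M') y = 0 := by
    have hinj := LinearMap.lTensor_injective_of_exact_of_flat p hp i hi hex N'
    apply hinj
    rw [map_zero, ← LinearMap.comp_apply, LinearMap.lTensor_comp_rTensor,
      ← LinearMap.rTensor_comp_lTensor, LinearMap.comp_apply, hx]
  have hinj := Module.Flat.rTensor_preserves_injective_linearMap (M := M') φ hφ
  rw [hinj (h2.trans (map_zero _).symm), map_zero]

end flatext

section main

variable {A B : Type u} [CommRing A] [CommRing B] [Algebra A B] {r : ℕ} (f : Fin r → B)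

/-- the ideal generated by the sequence -/
abbrev J : Ideal B := Ideal.span (Set.range f)

/-- the monomial `f^d` -/
def fpow (d : Fin r →₀ ℕ) : B := ∏ i, f i ^ d i

theorem eval_monomial_one (d : Fin r →₀ ℕ) : eval f (monomial d (1 : B)) = fpow f d := by
  rw [eval_monomial, one_mul, Finsupp.prod_fintype _ _ (fun i => pow_zero _)]
  rfl

theorem fpow_mem {n : ℕ} (d : Fin r →₀ ℕ) (hd : d.degree = n) : fpow f d ∈ J f ^ n := by
  rw [← eval_monomial_one]
  exact (Ideal.mem_span_pow_iff_exists_isHomogeneous f _).2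
    ⟨monomial d 1, isHomogeneous_monomial _ hd, rfl⟩

variable (r) in
/-- the exponents of degree `n` -/
noncomputable def sN (n : ℕ) : Finset (Fin r →₀ ℕ) :=
  (Finsupp.finite_of_degree_eq (σ := Fin r) n).toFinset

theorem mem_sN {n : ℕ} {d : Fin r →₀ ℕ} : d ∈ sN r n ↔ d.degree = n := by
  simp [sN]

theorem eval_eq_sum {n : ℕ} (P : MvPolynomial (Fin r) B) (hP : P.IsHomogeneous n) :
    eval f P = ∑ d : ↥(sN r n), P.coeff d * fpow f d := by
  rw [eval_eq', Finset.sum_coe_sort (sN r n) (fun d => P.coeff d * fpow f d)]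
  apply Finset.sum_subset
  · intro d hd
    rw [mem_sN]
    by_contra hne
    exact (mem_support_iff.1 hd) (hP.coeff_eq_zero hne)
  · intro d _ hd
    rw [notMem_support_iff.mp hd, zero_mul]

/-- evaluation of a coefficient family -/
noncomputable def ev (n : ℕ) : (↥(sN r n) → B) →ₗ[B] B :=
  ∑ d : ↥(sN r n), (LinearMap.mulRight B (fpow f d)) ∘ₗ (LinearMap.proj d)

theorem ev_apply (n : ℕ) (c : ↥(sN r n) → B) : ev f n c = ∑ d : ↥(sN r n), c d * fpow f d := by
  simp [ev]

theorem ev_mem_pow (n : ℕ) (c : ↥(sN r n) → B) : ev f n c ∈ J f ^ n := by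
  rw [ev_apply]
  exact Ideal.sum_mem _ fun d _ => Ideal.mul_mem_left _ _ (fpow_mem f d (mem_sN.mp d.2))

theorem ev_mem_pow_succ (n : ℕ) (c : ↥(sN r n) → B) (hc : ∀ d, c d ∈ J f) :
    ev f n c ∈ J f ^ (n + 1) := by
  rw [ev_apply, pow_succ']
  exact Ideal.sum_mem _ fun d _ => Ideal.mul_mem_mul (hc d) (fpow_mem f d (mem_sN.mp d.2))

/-- the polynomial of a coefficient family -/
noncomputable def poly (n : ℕ) (c : ↥(sN r n) → B) : MvPolynomial (Fin r) B :=
  ∑ d : ↥(sN r n), monomial (d : Fin r →₀ ℕ) (c d)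

theorem poly_isHomogeneous (n : ℕ) (c : ↥(sN r n) → B) : (poly n c).IsHomogeneous n :=
  IsHomogeneous.sum _ _ _ fun d _ => isHomogeneous_monomial _ (mem_sN.mp d.2)

theorem coeff_poly (n : ℕ) (c : ↥(sN r n) → B) (d : ↥(sN r n)) : (poly n c).coeff d = c d := by
  classical
  rw [poly, coeff_sum, Finset.sum_eq_single d]
  · rw [coeff_monomial, if_pos rfl]
  · intro e _ hne
    rw [coeff_monomial, if_neg]
    exact fun h => hne (Subtype.ext h)
  · intro h; exact absurd (Finset.mem_univ d) h

theorem eval_poly (n : ℕ) (c : ↥(sN r n) → B) : eval f (poly n c) = ev f n c := by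
  rw [poly, map_sum, ev_apply]
  apply Finset.sum_congr rfl
  intro d _
  rw [eval_monomial, Finsupp.prod_fintype _ _ (fun i => pow_zero _)]
  rfl

/-- quasi-regularity: the kernel of `ev` modulo `J^(n+1)` -/
theorem mem_of_ev_mem (hq : CAlgX.IsQuasiRegular f) (n : ℕ) (c : ↥(sN r n) → B)
    (h : ev f n c ∈ J f ^ (n + 1)) (d : ↥(sN r n)) : c d ∈ J f := by
  rw [← coeff_poly n c d]
  exact hq n (poly n c) (poly_isHomogeneous n c) (by rw [eval_poly]; exact h) d

theorem exists_ev_eq (n : ℕ) (b : B) (hb : b ∈ J f ^ n) : ∃ c : ↥(sN r n) → B, ev f n c = b := by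
  obtain ⟨P, hP, rfl⟩ := (Ideal.mem_span_pow_iff_exists_isHomogeneous f b).1 hb
  exact ⟨fun d => P.coeff d, by rw [ev_apply, eval_eq_sum f P hP]⟩

/-- the coordinatewise quotient map -/
noncomputable def piMk (n : ℕ) : (↥(sN r n) → B) →ₗ[B] (↥(sN r n) → B ⧸ J f) :=
  (Submodule.mkQ (J f)).compLeft ↥(sN r n)

theorem piMk_surjective (n : ℕ) : Function.Surjective (piMk f n) := by
  intro y
  choose c hc using fun d => Submodule.mkQ_surjective (J f) (y d)
  exact ⟨c, funext hc⟩

theorem piMk_eq_zero_iff (n : ℕ) (c : ↥(sN r n) → B) : piMk f n c = 0 ↔ ∀ d, c d ∈ J f := by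
  rw [funext_iff]
  refine forall_congr' fun d => ?_
  change Submodule.Quotient.mk (c d) = 0 ↔ _
  rw [Submodule.Quotient.mk_eq_zero]

/-- the map `(B/J)^{monomials of degree n} → B/J^(n+1)` -/
noncomputable def iota (n : ℕ) : (↥(sN r n) → B ⧸ J f) →ₗ[B] B ⧸ J f ^ (n + 1) :=
  ∑ d : ↥(sN r n), (Submodule.liftQ (J f)
    ((Submodule.mkQ (J f ^ (n + 1))) ∘ₗ (LinearMap.mulRight B (fpow f d))) (by
      intro b hb
      rw [LinearMap.mem_ker, LinearMap.comp_apply, LinearMap.mulRight_apply,
        Submodule.mkQ_apply, Submodule.Quotient.mk_eq_zero, pow_succ']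
      exact Ideal.mul_mem_mul hb (fpow_mem f d (mem_sN.mp d.2)))) ∘ₗ (LinearMap.proj d)

theorem iota_piMk (n : ℕ) (c : ↥(sN r n) → B) :
    iota f n (piMk f n c) = Submodule.mkQ (J f ^ (n + 1)) (ev f n c) := by
  rw [iota, LinearMap.sum_apply, ev_apply, map_sum]
  apply Finset.sum_congr rfl
  intro d _
  rfl

theorem iota_injective (hq : CAlgX.IsQuasiRegular f) (n : ℕ) : Function.Injective (iota f n) := by
  rw [injective_iff_map_eq_zero]
  intro y hy
  obtain ⟨c, rfl⟩ := piMk_surjective f n y
  rw [iota_piMk, Submodule.mkQ_apply, Submodule.Quotient.mk_eq_zero] at hy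
  rw [piMk_eq_zero_iff]
  exact mem_of_ev_mem f hq n c hy

/-- the projection `B/J^(n+1) → B/J^n` -/
noncomputable def qq (n : ℕ) : (B ⧸ J f ^ (n + 1)) →ₗ[B] B ⧸ J f ^ n :=
  Submodule.mapQ (J f ^ (n + 1)) (J f ^ n) LinearMap.id (Ideal.pow_le_pow_right (Nat.le_succ n))

theorem qq_mk (n : ℕ) (b : B) :
    qq f n (Submodule.Quotient.mk b) = Submodule.Quotient.mk b := rfl

theorem qq_surjective (n : ℕ) : Function.Surjective (qq f n) := by
  intro y
  obtain ⟨b, rfl⟩ := Submodule.Quotient.mk_surjective _ y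
  exact ⟨Submodule.Quotient.mk b, rfl⟩

theorem exact_iota_qq (n : ℕ) : Function.Exact (iota f n) (qq f n) := by
  intro y
  constructor
  · intro hy
    obtain ⟨b, rfl⟩ := Submodule.Quotient.mk_surjective _ y
    rw [qq_mk, Submodule.Quotient.mk_eq_zero] at hy
    obtain ⟨c, hc⟩ := exists_ev_eq f n b hy
    exact ⟨piMk f n c, by rw [iota_piMk, hc]; rfl⟩
  · rintro ⟨z, rfl⟩
    obtain ⟨c, rfl⟩ := piMk_surjective f n z
    rw [iota_piMk, Submodule.mkQ_apply, qq_mk, Submodule.Quotient.mk_eq_zero]
    exact ev_mem_pow f n c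

theorem flat_pi (n : ℕ) [Module.Flat A (B ⧸ J f)] : Module.Flat A (↥(sN r n) → B ⧸ J f) := by
  classical
  exact Module.Flat.of_linearEquiv
    (DirectSum.linearEquivFunOnFintype A ↥(sN r n) (fun _ => B ⧸ J f)).symm

theorem flat_quot_pow (hq : CAlgX.IsQuasiRegular f) [Module.Flat A (B ⧸ J f)] :
    ∀ n : ℕ, Module.Flat A (B ⧸ J f ^ n) := by
  intro n
  induction n with
  | zero =>
    haveI : Subsingleton (B ⧸ J f ^ 0) := by
      rw [pow_zero, Ideal.one_eq_top]
      exact Ideal.Quotient.subsingleton_iff.mpr rfl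
    infer_instance
  | succ n ih =>
    haveI := ih
    haveI := flat_pi (A := A) f n
    exact flat_of_exact ((iota f n).restrictScalars A) ((qq f n).restrictScalars A)
      (iota_injective f hq n) (qq_surjective f n) (exact_iota_qq f n)

section tensor

variable (A) (A' : Type u) [CommRing A'] [Algebra A A']

/-- the base-changed sequence -/
def fT : Fin r → A' ⊗[A] B := fun i => (1 : A') ⊗ₜ[A] f i

theorem fpow_fT (d : Fin r →₀ ℕ) : fpow (fT A f A') d = (1 : A') ⊗ₜ[A] fpow f d := by
  have h : ∀ b : B, (1 : A') ⊗ₜ[A] b = (Algebra.TensorProduct.includeRight : B →ₐ[A] A' ⊗[A] B) b :=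
    fun _ => rfl
  simp only [fpow, fT, h, map_prod, map_pow]

theorem lTensor_mulRight (b : B) (t : A' ⊗[A] B) :
    ((LinearMap.mulRight B b).restrictScalars A).lTensor A' t = t * ((1 : A') ⊗ₜ[A] b) := by
  induction t using TensorProduct.induction_on with
  | zero => simp
  | add x y hx hy => rw [map_add, add_mul, hx, hy]
  | tmul a c =>
    rw [LinearMap.lTensor_tmul, Algebra.TensorProduct.tmul_mul_tmul, mul_one]
    rfl

theorem tmul_mem_span (a : A') (b : B) (hb : b ∈ J f) :
    a ⊗ₜ[A] b ∈ J (fT A f A') := by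
  refine Submodule.span_induction (p := fun b _ => a ⊗ₜ[A] b ∈ J (fT A f A')) ?_ ?_ ?_ ?_ hb
  · rintro _ ⟨i, rfl⟩
    have : a ⊗ₜ[A] f i = (a ⊗ₜ[A] (1 : B)) * fT A f A' i := by
      rw [fT, Algebra.TensorProduct.tmul_mul_tmul, mul_one, one_mul]
    rw [this]
    exact Ideal.mul_mem_left _ _ (Ideal.subset_span ⟨i, rfl⟩)
  · rw [TensorProduct.tmul_zero]; exact zero_mem _
  · intro x y _ _ hx hy
    rw [TensorProduct.tmul_add]; exact add_mem hx hy
  · intro c x _ hx
    have : a ⊗ₜ[A] (c • x) = ((1 : A') ⊗ₜ[A] c) * (a ⊗ₜ[A] x) := by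
      rw [Algebra.TensorProduct.tmul_mul_tmul, one_mul, smul_eq_mul]
    rw [this]
    exact Ideal.mul_mem_left _ _ hx

theorem mem_span_of_lTensor_mkQ_eq_zero (t : A' ⊗[A] B)
    (ht : ((Submodule.mkQ (J f)).restrictScalars A).lTensor A' t = 0) : t ∈ J (fT A f A') := by
  have hex : Function.Exact ((J f).subtype.restrictScalars A)
      ((Submodule.mkQ (J f)).restrictScalars A) := by
    intro x
    change Submodule.mkQ (J f) x = 0 ↔ x ∈ Set.range (J f).subtype
    rw [Submodule.mkQ_apply, Submodule.Quotient.mk_eq_zero]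
    simp
  obtain ⟨z, rfl⟩ := (lTensor_exact A' hex (Submodule.mkQ_surjective (J f)) t).mp ht
  clear ht
  induction z using TensorProduct.induction_on with
  | zero => rw [map_zero]; exact zero_mem _
  | add x y hx hy => rw [map_add]; exact add_mem hx hy
  | tmul a j =>
    rw [LinearMap.lTensor_tmul]
    exact tmul_mem_span A f A' a j j.2

theorem isQuasiRegular_baseChange [Module.Flat A (B ⧸ J f)] (hq : CAlgX.IsQuasiRegular f) :
    CAlgX.IsQuasiRegular (fT A f A') := by
  classical
  rw [isQuasiRegular_iff_eval_eq_zero]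
  intro n P hP h0 d
  by_cases hd : d.degree = n
  swap
  · rw [hP.coeff_eq_zero hd]; exact zero_mem _
  -- the coefficient family as an element of `A' ⊗ (sN → B)`
  let c : ↥(sN r n) → A' ⊗[A] B := fun e => P.coeff e
  let sg : ↥(sN r n) → (B →ₗ[A] (↥(sN r n) → B)) := fun e =>
    (LinearMap.single B (fun _ : ↥(sN r n) => B) e).restrictScalars A
  let γ : A' ⊗[A] (↥(sN r n) → B) := ∑ e, (sg e).lTensor A' (c e)
  have hproj : ∀ e, ((LinearMap.proj e : (↥(sN r n) → B) →ₗ[B] B).restrictScalars A).lTensor A' γ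
      = c e := by
    intro e
    simp only [γ, map_sum]
    rw [Finset.sum_eq_single e]
    · rw [← LinearMap.comp_apply, ← LinearMap.lTensor_comp]
      have : ((LinearMap.proj e : (↥(sN r n) → B) →ₗ[B] B).restrictScalars A) ∘ₗ sg e =
          LinearMap.id := by
        ext b; simp [sg]
      rw [this, LinearMap.lTensor_id, LinearMap.id_apply]
    · intro e' _ hne
      rw [← LinearMap.comp_apply, ← LinearMap.lTensor_comp]
      have : ((LinearMap.proj e : (↥(sN r n) → B) →ₗ[B] B).restrictScalars A) ∘ₗ sg e' = 0 := by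
        ext b; simp [sg, Pi.single_eq_of_ne' hne]
      rw [this, LinearMap.lTensor_zero, LinearMap.zero_apply]
    · intro h; exact absurd (Finset.mem_univ e) h
  -- evaluation
  have hev : ((ev f n).restrictScalars A).lTensor A' γ = eval (fT A f A') P := by
    rw [eval_eq_sum (fT A f A') P hP]
    simp only [γ, map_sum]
    apply Finset.sum_congr rfl
    intro e _
    rw [← LinearMap.comp_apply, ← LinearMap.lTensor_comp]
    have : ((ev f n).restrictScalars A) ∘ₗ sg e =
        (LinearMap.mulRight B (fpow f e)).restrictScalars A := by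
      ext b
      simp only [sg, LinearMap.coe_comp, LinearMap.coe_restrictScalars, Function.comp_apply,
        LinearMap.coe_single, LinearMap.mulRight_apply]
      rw [ev_apply, Finset.sum_eq_single e]
      · rw [Pi.single_eq_same]
      · intro e' _ hne
        rw [Pi.single_eq_of_ne hne, zero_mul]
      · intro h; exact absurd (Finset.mem_univ e) h
    rw [this, lTensor_mulRight, fpow_fT]
  -- the key vanishing
  haveI := flat_quot_pow (A := A) f hq n
  have hinj : Function.Injective (((iota f n).restrictScalars A).lTensor A') :=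
    LinearMap.lTensor_injective_of_exact_of_flat ((qq f n).restrictScalars A) (qq_surjective f n)
      ((iota f n).restrictScalars A) (iota_injective f hq n) (exact_iota_qq f n) A'
  have hcomp : ((iota f n).restrictScalars A) ∘ₗ ((piMk f n).restrictScalars A) =
      ((Submodule.mkQ (J f ^ (n + 1))).restrictScalars A) ∘ₗ ((ev f n).restrictScalars A) := by
    refine LinearMap.ext fun c' => ?_
    exact iota_piMk f n c'
  have hzero : ((piMk f n).restrictScalars A).lTensor A' γ = 0 := by
    apply hinj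
    rw [map_zero, ← LinearMap.comp_apply, ← LinearMap.lTensor_comp, hcomp, LinearMap.lTensor_comp,
      LinearMap.comp_apply, hev, h0, map_zero]
  -- coordinatewise
  have hd' : d ∈ sN r n := mem_sN.mpr hd
  have hcoord : ((Submodule.mkQ (J f)).restrictScalars A).lTensor A' (c ⟨d, hd'⟩) = 0 := by
    rw [← hproj ⟨d, hd'⟩, ← LinearMap.comp_apply, ← LinearMap.lTensor_comp]
    have : ((Submodule.mkQ (J f)).restrictScalars A) ∘ₗ
        ((LinearMap.proj ⟨d, hd'⟩ : (↥(sN r n) → B) →ₗ[B] B).restrictScalars A) =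
        ((LinearMap.proj ⟨d, hd'⟩ : (↥(sN r n) → B ⧸ J f) →ₗ[B] B ⧸ J f).restrictScalars A) ∘ₗ
          ((piMk f n).restrictScalars A) := by
      refine LinearMap.ext fun c' => ?_
      rfl
    rw [this, LinearMap.lTensor_comp, LinearMap.comp_apply, hzero, map_zero]
  exact mem_span_of_lTensor_mkQ_eq_zero A f A' _ hcoord

end tensor

end main

end Groth.Agent.Lib.Helper9.QRegBaseChange
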