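/-
Helper library (helper9): a Koszul-regular ideal is finitely generated; a local complete
intersection ring map is of finite presentation.
-/
import Mathlib
import Groth.Agent.Lib.Helper9.KoszulQuot

set_option autoImplicit false
set_option linter.style.haveILetI false
universe u

namespace Groth.Agent.Lib.Helper9.LCIFinPres

open Groth.Agent.Lib.Helper9 Groth.Agent.Lib.Helper9.KoszulExch
  Groth.Agent.Lib.Helper9.KoszulQuot

variable {S : Type u} [CommRing S]

theorem exists_pow_mul_mem (J J' : Ideal S) (s : S)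
    (h : J.map (algebraMap S (Localization.Away s)) ≤ J'.map (algebraMap S (Localization.Away s)))
    (x : S) (hx : x ∈ J) : ∃ n : ℕ, s ^ n * x ∈ J' := by
  have h1 : algebraMap S (Localization.Away s) x ∈
      J'.map (algebraMap S (Localization.Away s)) := h (Ideal.mem_map_of_mem _ hx)
  rw [IsLocalization.mem_map_algebraMap_iff (Submonoid.powers s)] at h1
  obtain ⟨⟨⟨n, hn⟩, ⟨u, k, rfl⟩⟩, hnu⟩ := h1
  simp only at hnu
  rw [← map_mul] at hnu
  obtain ⟨⟨c, j, rfl⟩, hc'⟩ := (IsLocalization.eq_iff_exists (Submonoid.powers s) _).mp hnu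
  simp only at hc'
  refine ⟨j + k, ?_⟩
  have : s ^ (j + k) * x = s ^ j * (x * s ^ k) := by ring
  rw [this, hc']
  exact Ideal.mul_mem_left _ _ hn

/-- a Koszul-regular ideal is finitely generated -/
theorem fg_of_isKoszulRegularIdeal (I : Ideal S) (h : LCI.IsKoszulRegularIdeal I) : I.FG := by
  classical
  let t : Set S := {g | ∃ l : List S, (∀ a ∈ l, a ∈ I) ∧
    I.map (algebraMap S (Localization.Away g)) ≤
      (Ideal.ofList l).map (algebraMap S (Localization.Away g))}
  have ht : Ideal.span t = ⊤ := by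
    by_contra hne
    obtain ⟨𝔪, h𝔪, hle⟩ := Ideal.exists_le_maximal _ hne
    haveI := h𝔪.isPrime
    by_cases hI : I ≤ 𝔪
    · obtain ⟨g, hg, l₀, hl₀, hIl₀⟩ := h ⟨𝔪, inferInstance⟩ hI
      obtain ⟨lam, hlamI, -, hlamE⟩ := exists_lift_list I g l₀ hl₀ hIl₀
      exact hg (hle (Ideal.subset_span ⟨lam, hlamI, by rw [Ideal.map_ofList, ← hlamE]⟩))
    · obtain ⟨a, haI, ha𝔪⟩ := SetLike.not_le_iff_exists.mp hI
      refine ha𝔪 (hle (Ideal.subset_span ⟨[a], ?_, ?_⟩))
      · intro b hb
        rw [List.mem_singleton] at hb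
        rw [hb]; exact haI
      · have : (Ideal.ofList [a]).map (algebraMap S (Localization.Away a)) = ⊤ := by
          rw [Ideal.eq_top_iff_one]
          have hu : IsUnit (algebraMap S (Localization.Away a) a) :=
            IsLocalization.Away.algebraMap_isUnit a
          have hmem : algebraMap S (Localization.Away a) a ∈
              (Ideal.ofList [a]).map (algebraMap S (Localization.Away a)) :=
            Ideal.mem_map_of_mem _ (Ideal.subset_span (by simp))
          exact (Ideal.eq_top_of_isUnit_mem _ hmem hu) ▸ Submodule.mem_top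
        rw [this]
        exact le_top
  obtain ⟨t', ht't, ht'⟩ := (Ideal.span_eq_top_iff_finite t).mp ht
  choose! l hlI hlE using fun g (hg : g ∈ t) => hg
  refine ⟨t'.biUnion (fun g => (l g).toFinset), ?_⟩
  apply le_antisymm
  · rw [Ideal.span_le]
    intro a ha
    simp only [Finset.coe_biUnion, Finset.mem_coe, List.coe_toFinset, Set.mem_iUnion,
      Set.mem_ofPred_eq, exists_prop] at ha
    obtain ⟨g, hg, hag⟩ := ha
    exact hlI g (ht't hg) a hag
  · intro x hx
    refine Submodule.mem_of_span_eq_top_of_smul_pow_mem _ (t' : Set S) ht' x (fun r => ?_)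
    obtain ⟨n, hn⟩ := exists_pow_mul_mem I (Ideal.ofList (l r.1)) r.1 (hlE r.1 (ht't r.2)) x hx
    refine ⟨n, ?_⟩
    rw [smul_eq_mul]
    refine Ideal.span_mono ?_ hn
    intro a ha
    simp only [Finset.coe_biUnion, Finset.mem_coe, List.coe_toFinset, Set.mem_iUnion,
      Set.mem_ofPred_eq, exists_prop]
    exact ⟨r.1, r.2, ha⟩

theorem finitePresentation_of_isLCI (A B : Type u) [CommRing A] [CommRing B] [Algebra A B]
    (h : LCI.IsLCI A B) : Algebra.FinitePresentation A B := by
  obtain ⟨_, n, f, hf, hI⟩ := h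
  exact Algebra.FinitePresentation.of_surjective hf (fg_of_isKoszulRegularIdeal _ hI)

end Groth.Agent.Lib.Helper9.LCIFinPres
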