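/-
Helper library (helper9): iterated cones of multiplication maps preserve quasi-isomorphisms
(`quasiIso_kmap`), via the isomorphism `coneSwapIso` between the cone of a map of cones and the
cone of the multiplication on the cone; consequence `isKoszulRegularSeq_append_iff_of_koszul`:
for `π : S → S'` surjective with kernel generated by a Koszul-regular list `w`, the list `w ++ e`
is Koszul-regular in `S` iff `e.map π` is Koszul-regular in `S'`.
-/
import Mathlib
import Groth.Agent.Lib.Helper9.KoszulSwap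
import Groth.Agent.Lib.Helper94.KFlatAbs
import Groth.Agent.Lib.Helper87.KzBridge
import Groth.Agent.Lib.Helper87.KzTop
import Groth.Agent.Lib.Helper87.KoszulTensor
import Groth.Agent.Lib.Helper9.KoszulAppend

set_option autoImplicit false
set_option linter.style.haveILetI false
universe u
open CategoryTheory CategoryTheory.Limits CochainComplex HomologicalComplex

namespace Groth.Agent.Lib.Helper9.KoszulQis

open Groth.Agent.Lib.Helper94.KoszulReg Groth.Agent.Lib.Helper87.KzLES
  Groth.Agent.Lib.Helper87.KzBridge Groth.Agent.Lib.Helper9.KoszulSwap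

variable {A : Type u} [CommRing A]

section swap

variable {X Y : CochainComplex (ModuleCat.{u} A) ℤ} (q : X ⟶ Y) (a : A)

/-- the map of cones of multiplication by `a` induced by `q` -/
noncomputable abbrev coneMapSmul : C a X ⟶ C a Y :=
  mappingCone.map (a • 𝟙 X) (a • 𝟙 Y) q q (by simp [Linear.smul_comp, Linear.comp_smul])

/-- coordinates -/
abbrev QuadL (n : ℤ) : Type u := (X.X (n + 1 + 1) × X.X (n + 1)) × (Y.X (n + 1) × Y.X n)

/-- coordinates -/
abbrev QuadR (n : ℤ) : Type u := (X.X (n + 1 + 1) × Y.X (n + 1)) × (X.X (n + 1) × Y.X n)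

/-- coordinates in the cone of the map of cones -/
noncomputable def quadL (n : ℤ) :
    ((C a X).X (n + 1) × (C a Y).X n) ≃ₗ[A] QuadL (X := X) (Y := Y) n :=
  LinearEquiv.prodCongr (coneEquiv (a • 𝟙 X) (n + 1)) (coneEquiv (a • 𝟙 Y) n)

/-- coordinates in the cone of multiplication on the cone -/
noncomputable def quadR (n : ℤ) :
    ((mappingCone q).X (n + 1) × (mappingCone q).X n) ≃ₗ[A] QuadR (X := X) (Y := Y) n :=
  LinearEquiv.prodCongr (coneEquiv q (n + 1)) (coneEquiv q n)

/-- the differential in coordinates -/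
def DL (n : ℤ) : QuadL (X := X) (Y := Y) n → QuadL (X := X) (Y := Y) (n + 1) := fun w =>
  (((X.d (n + 1 + 1) (n + 1 + 1 + 1)).hom w.1.1,
      -(a • w.1.1) - (X.d (n + 1) (n + 1 + 1)).hom w.1.2),
    ((q.f (n + 1 + 1)).hom w.1.1 - (Y.d (n + 1) (n + 1 + 1)).hom w.2.1,
      (q.f (n + 1)).hom w.1.2 + a • w.2.1 + (Y.d n (n + 1)).hom w.2.2))

/-- the differential in coordinates -/
def DR (n : ℤ) : QuadR (X := X) (Y := Y) n → QuadR (X := X) (Y := Y) (n + 1) := fun w =>
  (((X.d (n + 1 + 1) (n + 1 + 1 + 1)).hom w.1.1,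
      -((q.f (n + 1 + 1)).hom w.1.1) - (Y.d (n + 1) (n + 1 + 1)).hom w.1.2),
    (a • w.1.1 - (X.d (n + 1) (n + 1 + 1)).hom w.2.1,
      a • w.1.2 + (q.f (n + 1)).hom w.2.1 + (Y.d n (n + 1)).hom w.2.2))

theorem quadL_D (n : ℤ) (z : (C a X).X (n + 1) × (C a Y).X n) :
    quadL (X := X) (Y := Y) a (n + 1) (D (coneMapSmul q a) n z) = DL q a n (quadL (X := X) (Y := Y) a n z) := by
  obtain ⟨u, v⟩ := z
  simp only [quadL, D, DL, LinearEquiv.prodCongr_apply, Prod.map_apply, map_neg,
    map_add, coneEquiv_d, coneEquiv_map]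
  refine Prod.ext (Prod.ext ?_ ?_) (Prod.ext ?_ ?_)
  · simp [D]
  · simp [D, smul_id_f_apply]; abel
  · simp [D]; abel
  · simp [D, smul_id_f_apply]; abel

theorem quadR_D (n : ℤ) (z : (mappingCone q).X (n + 1) × (mappingCone q).X n) :
    quadR q (n + 1) (D (a • 𝟙 (mappingCone q)) n z) = DR q a n (quadR q n z) := by
  obtain ⟨u, v⟩ := z
  simp only [quadR, D, DR, LinearEquiv.prodCongr_apply, Prod.map_apply, smul_id_f_apply, map_neg,
    map_add, map_smul, coneEquiv_d]
  refine Prod.ext (Prod.ext ?_ ?_) (Prod.ext ?_ ?_)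
  · simp [D]
  · simp [D]; abel
  · simp [D]; abel
  · simp [D]; abel

/-- the coordinate swap -/
def swLR (n : ℤ) : QuadL (X := X) (Y := Y) n ≃ₗ[A] QuadR (X := X) (Y := Y) n where
  toFun w := ((-w.1.1, w.2.1), (w.1.2, w.2.2))
  invFun w := ((-w.1.1, w.2.1), (w.1.2, w.2.2))
  map_add' w w' := by
    refine Prod.ext (Prod.ext ?_ ?_) (Prod.ext ?_ ?_) <;> simp [add_comm]
  map_smul' c w := by
    refine Prod.ext (Prod.ext ?_ ?_) (Prod.ext ?_ ?_) <;> simp
  left_inv w := by
    refine Prod.ext (Prod.ext ?_ ?_) (Prod.ext ?_ ?_) <;> simp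
  right_inv w := by
    refine Prod.ext (Prod.ext ?_ ?_) (Prod.ext ?_ ?_) <;> simp

/-- the cone of the map of cones is the cone of multiplication on the cone -/
noncomputable def coneSwapIso : mappingCone (coneMapSmul q a) ≅ C a (mappingCone q) :=
  coneIsoMk (coneMapSmul q a) (a • 𝟙 (mappingCone q))
    (fun n => (quadL (X := X) (Y := Y) a n).trans ((swLR n).trans (quadR q n).symm)) (by
      intro n z
      apply (quadR q (n + 1)).injective
      rw [quadR_D]
      simp only [LinearEquiv.trans_apply, LinearEquiv.apply_symm_apply]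
      rw [quadL_D]
      generalize quadL (X := X) (Y := Y) a n z = w
      refine Prod.ext (Prod.ext ?_ ?_) (Prod.ext ?_ ?_)
      · simp [swLR, DL, DR]
      · simp [swLR, DL, DR]
      · simp [swLR, DL, DR]
      · simp [swLR, DL, DR, add_comm])

end swap

section qis

open Groth.Agent.Lib.Helper94

theorem quasiIso_of_acyclic {Z Z' : CochainComplex (ModuleCat.{u} A) ℤ} (f : Z ⟶ Z')
    (h : Z.Acyclic) (h' : Z'.Acyclic) : QuasiIso f := by
  rw [quasiIso_iff]
  intro i
  rw [quasiIsoAt_iff_isIso_homologyMap]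
  have h1 : IsZero (Z.homology i) := (exactAt_iff_isZero_homology _ _).mp (h i)
  have h2 : IsZero (Z'.homology i) := (exactAt_iff_isZero_homology _ _).mp (h' i)
  exact ⟨⟨0, h1.eq_of_src _ _, h2.eq_of_src _ _⟩⟩

theorem acyclic_of_iso {K L : CochainComplex (ModuleCat.{u} A) ℤ} (e : K ≅ L) (h : K.Acyclic) :
    L.Acyclic := fun i => (h i).of_iso e

theorem acyclic_C (a : A) (Z : CochainComplex (ModuleCat.{u} A) ℤ) (h : Z.Acyclic) :
    (C a Z).Acyclic := by
  rw [← KFlatAbs.quasiIso_iff_acyclic_mappingCone]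
  exact quasiIso_of_acyclic _ h h

theorem acyclic_kz (Z : CochainComplex (ModuleCat.{u} A) ℤ) (h : Z.Acyclic) :
    ∀ l : List A, (kz Z l).Acyclic
  | [] => h
  | a :: l => acyclic_C a _ (acyclic_kz Z h l)

/-- `kz` commutes with mapping cones -/
theorem nonempty_kz_cone_iso {X Y : CochainComplex (ModuleCat.{u} A) ℤ} (p : X ⟶ Y) :
    ∀ l : List A, Nonempty (kz (mappingCone p) l ≅ mappingCone (kmap p l))
  | [] => ⟨Iso.refl _⟩
  | a :: l => by
    obtain ⟨e⟩ := nonempty_kz_cone_iso p l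
    exact ⟨coneMapIso (a • 𝟙 (kz (mappingCone p) l)) (a • 𝟙 (mappingCone (kmap p l))) e e
      (by simp [Linear.smul_comp, Linear.comp_smul]) ≪≫ (coneSwapIso (kmap p l) a).symm⟩

/-- **iterated cones of multiplications preserve quasi-isomorphisms** -/
theorem quasiIso_kmap {X Y : CochainComplex (ModuleCat.{u} A) ℤ} (p : X ⟶ Y) (hp : QuasiIso p)
    (l : List A) : QuasiIso (kmap p l) := by
  rw [KFlatAbs.quasiIso_iff_acyclic_mappingCone] at hp ⊢
  obtain ⟨e⟩ := nonempty_kz_cone_iso p l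
  exact acyclic_of_iso e (acyclic_kz _ hp l)

end qis

section pre

open Groth.Agent.Lib.Helper87 Groth.Agent.Lib.Helper87.KzMod Groth.Agent.Lib.Helper9
  Groth.Agent.Lib.Helper9.KoszulAppend

theorem kz_X_subsingleton (X : CochainComplex (ModuleCat.{u} A) ℤ)
    (hX : ∀ i : ℤ, 0 < i → Subsingleton (X.X i)) :
    ∀ (l : List A) (i : ℤ), 0 < i → Subsingleton ((kz X l).X i)
  | [], i, hi => hX i hi
  | a :: l, i, hi => by
    haveI := kz_X_subsingleton X hX l i hi
    haveI := kz_X_subsingleton X hX l (i + 1) (by omega)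
    exact (coneEquiv (a • 𝟙 (kz X l)) i).toEquiv.subsingleton

/-- **Dividing out a Koszul-regular prefix.** -/
theorem isKoszulRegularSeq_append_iff_of_koszul {S S' : Type u} [CommRing S] [CommRing S']
    (π : S →+* S') (hπ : Function.Surjective π) (w : List S)
    (hker : RingHom.ker π = Ideal.ofList w) (hw : LCI.IsKoszulRegularSeq S w) (e : List S) :
    LCI.IsKoszulRegularSeq S (w ++ e) ↔ LCI.IsKoszulRegularSeq S' (e.map π) := by
  rw [KoszulSwap.isKoszulRegularSeq_perm (List.perm_append_comm : (w ++ e).Perm (e ++ w)),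
    KoszulSwap.isKoszulRegularSeq_iff, KoszulTensor.kz_append]
  have hY : Acyc (kz (sg S (ModuleCat.of S S)) w) := (isKoszulRegularSeq_iff w).mp hw
  generalize hYdef : kz (sg S (ModuleCat.of S S)) w = Y at hY
  haveI : Y.IsStrictlyLE 0 := by
    rw [isStrictlyLE_iff]
    intro i hi
    haveI : Subsingleton (Y.X i) := by
      rw [← hYdef]
      exact kz_X_subsingleton _ (fun j hj => sg_subsingleton S j (by omega)) w i hi
    exact ModuleCat.isZero_of_subsingleton _
  haveI : Y.IsGE 0 := by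
    rw [isGE_iff]
    intro i hi
    rw [exactAt_iff_isZero_homology]
    exact hY i (by omega)
  have hq : QuasiIso (Y.πTruncGE 0) := inferInstance
  haveI : (Y.truncGE 0).IsStrictlyLE 0 := by
    rw [isStrictlyLE_iff]
    intro i hi
    exact (Y.isZero_of_isStrictlyLE 0 i hi).of_iso (Y.truncGEXIso 0 i hi)
  obtain ⟨M, ⟨eT⟩⟩ := (Y.truncGE 0).exists_iso_single 0
  haveI hqk := quasiIso_kmap (Y.πTruncGE 0) hq e
  have h1 : Acyc (kz Y e) ↔ Acyc (kz (Y.truncGE 0) e) := by
    constructor <;> intro h i hi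
    · exact (h i hi).of_iso (_root_.isoOfQuasiIsoAt (kmap (Y.πTruncGE 0) e) i).symm
    · exact (h i hi).of_iso (_root_.isoOfQuasiIsoAt (kmap (Y.πTruncGE 0) e) i)
  have h2 : Acyc (kz (Y.truncGE 0) e) ↔ Acyc (kz (sg S M) e) :=
    acyc_iff_of_iso (KoszulTensor.kzIso eT e)
  rw [h1, h2]
  -- identify `M`
  letI := π.toAlgebra
  have hsub : (Ideal.ofList w • ⊤ : Submodule S S) = LinearMap.ker (Algebra.linearMap S S') := by
    rw [smul_eq_mul, Ideal.mul_top, ← hker]
    rfl
  let eq : (S ⧸ (Ideal.ofList w • ⊤ : Submodule S S)) ≃ₗ[S] S' :=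
    (Submodule.quotEquivOfEq _ _ hsub).trans
      ((Algebra.linearMap S S').quotKerEquivOfSurjective hπ)
  obtain ⟨e3⟩ := KzTop.nonempty_top w S
  let e0 : M ≅ (sg S M).homology 0 :=
    (HomologicalComplex.singleObjHomologySelfIso (ComplexShape.up ℤ) 0 M).symm
  let e1 : (sg S M).homology 0 ≅ (Y.truncGE 0).homology 0 :=
    (HomologicalComplex.homologyFunctor _ _ 0).mapIso eT.symm
  let e2 : (Y.truncGE 0).homology 0 ≅ Y.homology 0 :=
    (_root_.isoOfQuasiIsoAt (Y.πTruncGE 0) 0).symm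
  let e2' : Y.homology 0 ≅ (kz (sg S (ModuleCat.of S S)) w).homology 0 :=
    (HomologicalComplex.homologyFunctor _ _ 0).mapIso (eqToIso hYdef.symm)
  let e012 : M ≃ₗ[S] KH w S 0 := (e0 ≪≫ e1 ≪≫ e2 ≪≫ e2').toLinearEquiv
  have h3 : Acyc (kz (sg S M) e) ↔ AcycM S' e :=
    acycM_congr (M := M) ((e012.trans e3).trans eq) e
  rw [h3, KoszulLoc.isKoszulRegularSeq_iff_exactAt]
  unfold AcycM
  simp only [← exactAt_iff_isZero_homology]
  exact forall₂_congr fun i _ => (exactAt_algebra_iff S' e i).symm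

end pre

end Groth.Agent.Lib.Helper9.KoszulQis
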