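/-
Helper library (helper9): flat base change of Koszul-regular ideals
(`map_koszulRegularIdeal_of_flat`), preimage of a Koszul-regular ideal under a surjection whose
kernel is a Koszul-regular ideal (`comap_koszulRegularIdeal_of_koszul`), and the composition of
local complete intersection ring maps (`isLCI_comp`).
-/
import Mathlib
import Groth.Agent.Lib.Helper9.KoszulQis
import Groth.Agent.Lib.Helper9.KoszulQuot
import Groth.Agent.Lib.Helper9.KoszulPres

set_option autoImplicit false
set_option linter.style.haveILetI false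
universe u

namespace Groth.Agent.Lib.Helper9.LCIComp

open Groth.Agent.Lib.Helper9 Groth.Agent.Lib.Helper9.KoszulExch
  Groth.Agent.Lib.Helper9.KoszulIndep Groth.Agent.Lib.Helper9.KoszulQuot
  Groth.Agent.Lib.Helper9.KoszulQis

variable {S : Type u} [CommRing S]

/-- flat base change of Koszul-regular ideals -/
theorem map_koszulRegularIdeal_of_flat (T : Type u) [CommRing T] [Algebra S T] [Module.Flat S T]
    (I : Ideal S) (hI : LCI.IsKoszulRegularIdeal I) :
    LCI.IsKoszulRegularIdeal (I.map (algebraMap S T)) := by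
  intro 𝔮 h𝔮
  have hI𝔭 : I ≤ 𝔮.asIdeal.comap (algebraMap S T) := Ideal.map_le_iff_le_comap.mp h𝔮
  obtain ⟨g₀, hg₀, l₀, hl₀, hIl₀⟩ := hI ⟨𝔮.asIdeal.comap (algebraMap S T), inferInstance⟩ hI𝔭
  obtain ⟨lam, hlamI, hlamP, hlamE⟩ := exists_lift_list I g₀ l₀ hl₀ hIl₀
  have hu : IsUnit (algebraMap S (Localization.Away (algebraMap S T g₀)) g₀) := by
    have h0 := IsLocalization.Away.algebraMap_isUnit
      (S := Localization.Away (algebraMap S T g₀)) (algebraMap S T g₀)
    rwa [← IsScalarTower.algebraMap_apply] at h0
  haveI : Module.Flat S (Localization.Away (algebraMap S T g₀)) := Module.Flat.trans S T _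
  have hmm : (lam.map (algebraMap S T)).map
      (algebraMap T (Localization.Away (algebraMap S T g₀))) =
      lam.map (algebraMap S (Localization.Away (algebraMap S T g₀))) := by
    rw [List.map_map]
    apply List.map_congr_left
    intro x _
    exact (IsScalarTower.algebraMap_apply S T _ x).symm
  refine ⟨algebraMap S T g₀, hg₀, (lam.map (algebraMap S T)).map
    (algebraMap T (Localization.Away (algebraMap S T g₀))), ?_, ?_⟩
  · rw [hmm]
    exact isKoszulRegularSeq_map_of_away g₀ lam hlamP _ hu
  · rw [hmm, Ideal.map_map, ← IsScalarTower.algebraMap_eq]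
    have hle : I.map (algebraMap S (Localization.Away g₀)) ≤
        (Ideal.ofList lam).map (algebraMap S (Localization.Away g₀)) := by
      rw [Ideal.map_ofList, ← hlamE]
    rw [map_eq_of_away I (Ideal.ofList lam) (Ideal.span_le.mpr hlamI) g₀ hle _ hu,
      Ideal.map_ofList]

/-- **Preimage of a Koszul-regular ideal under a surjection with Koszul-regular kernel.** -/
theorem comap_koszulRegularIdeal_of_koszul {S' : Type u} [CommRing S'] (π : S →+* S')
    (hπ : Function.Surjective π) (hker : LCI.IsKoszulRegularIdeal (RingHom.ker π))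
    (I : Ideal S') (hI : LCI.IsKoszulRegularIdeal I) :
    LCI.IsKoszulRegularIdeal (I.comap π) := by
  classical
  intro 𝔮 h𝔮
  have hkerq : RingHom.ker π ≤ 𝔮.asIdeal := by
    rw [RingHom.ker_eq_comap_bot]
    exact le_trans (Ideal.comap_mono bot_le) h𝔮
  haveI : (𝔮.asIdeal.map π).IsPrime := Ideal.map_isPrime_of_surjective hπ hkerq
  have hI𝔮 : I ≤ 𝔮.asIdeal.map π := by
    rw [← Ideal.map_comap_of_surjective π hπ I]
    exact Ideal.map_mono h𝔮
  obtain ⟨s, hs, l₀, hl₀, hKl₀⟩ := hker 𝔮 hkerq
  obtain ⟨lam, hlamK, hlamP, hlamE⟩ := exists_lift_list (RingHom.ker π) s l₀ hl₀ hKl₀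
  obtain ⟨g', hg', l', hl', hIl'⟩ := hI ⟨𝔮.asIdeal.map π, inferInstance⟩ hI𝔮
  obtain ⟨lam', hlam'I, hlam'P, hlam'E⟩ := exists_lift_list I g' l' hl' hIl'
  obtain ⟨g₁, rfl⟩ := hπ g'
  have hg₁ : g₁ ∉ 𝔮.asIdeal := fun h => hg' (Ideal.mem_map_of_mem π h)
  have hε : (lam'.map (Function.surjInv hπ)).map π = lam' := by
    rw [List.map_map]
    conv_rhs => rw [← List.map_id lam']
    apply List.map_congr_left
    intro y _
    exact Function.surjInv_eq hπ y
  generalize lam'.map (Function.surjInv hπ) = ε at hε
  have hg : s * g₁ ∉ 𝔮.asIdeal := fun hmem =>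
    (Ideal.IsPrime.mem_or_mem inferInstance hmem).elim hs hg₁
  have hu : IsUnit (algebraMap S (Localization.Away (s * g₁)) (s * g₁)) :=
    IsLocalization.Away.algebraMap_isUnit (s * g₁)
  rw [map_mul] at hu
  have hsu : IsUnit (algebraMap S (Localization.Away (s * g₁)) s) := isUnit_of_mul_isUnit_left hu
  have hw₁ := isKoszulRegularSeq_map_of_away s lam hlamP (Localization.Away (s * g₁)) hsu
  have hle : (RingHom.ker π).map (algebraMap S (Localization.Away s)) ≤
      (Ideal.ofList lam).map (algebraMap S (Localization.Away s)) := by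
    rw [Ideal.map_ofList, ← hlamE]
  have hker₁ : RingHom.ker (Localization.awayMap π (s * g₁)) =
      Ideal.ofList (lam.map (algebraMap S (Localization.Away (s * g₁)))) := by
    rw [ker_awayMap, map_eq_of_away (RingHom.ker π) (Ideal.ofList lam) (Ideal.span_le.mpr hlamK) s
      hle _ hsu, Ideal.map_ofList]
  have he₁ : (ε.map (algebraMap S (Localization.Away (s * g₁)))).map
      (Localization.awayMap π (s * g₁)) =
      lam'.map (algebraMap S' (Localization.Away (π (s * g₁)))) := by
    rw [List.map_map, ← hε, List.map_map]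
    apply List.map_congr_left
    intro x _
    exact (congrFun (congrArg DFunLike.coe (awayMap_comp π (s * g₁))) x).symm
  have hπg : IsUnit (algebraMap S' (Localization.Away (π (s * g₁))) (π g₁)) := by
    have h0 := IsLocalization.Away.algebraMap_isUnit
      (S := Localization.Away (π (s * g₁))) (π (s * g₁))
    have h1 : algebraMap S' (Localization.Away (π (s * g₁))) (π (s * g₁)) =
        algebraMap S' (Localization.Away (π (s * g₁))) (π s) *
          algebraMap S' (Localization.Away (π (s * g₁))) (π g₁) := by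
      rw [← map_mul, ← map_mul]
    rw [h1] at h0
    exact isUnit_of_mul_isUnit_right h0
  have hP' := isKoszulRegularSeq_map_of_away (π g₁) lam' hlam'P
    (Localization.Away (π (s * g₁))) hπg
  have hP := (isKoszulRegularSeq_append_iff_of_koszul (Localization.awayMap π (s * g₁))
    (awayMap_surjective π hπ _) _ hker₁ hw₁
    (ε.map (algebraMap S (Localization.Away (s * g₁))))).mpr (by rw [he₁]; exact hP')
  refine ⟨s * g₁, hg, _, hP, ?_⟩
  have hA : RingHom.ker (Localization.awayMap π (s * g₁)) ≤
      (I.comap π).map (algebraMap S (Localization.Away (s * g₁))) := by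
    rw [ker_awayMap, RingHom.ker_eq_comap_bot]
    exact Ideal.map_mono (Ideal.comap_mono bot_le)
  have hB : RingHom.ker (Localization.awayMap π (s * g₁)) ≤
      Ideal.ofList (lam.map (algebraMap S (Localization.Away (s * g₁))) ++
        ε.map (algebraMap S (Localization.Away (s * g₁)))) := by
    rw [hker₁]
    exact sp_mono (fun a ha => List.mem_append_left _ ha)
  have hmapA : ((I.comap π).map (algebraMap S (Localization.Away (s * g₁)))).map
      (Localization.awayMap π (s * g₁)) =
      I.map (algebraMap S' (Localization.Away (π (s * g₁)))) := by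
    rw [Ideal.map_map, ← awayMap_comp, ← Ideal.map_map, Ideal.map_comap_of_surjective π hπ]
  have hle' : I.map (algebraMap S' (Localization.Away (π g₁))) ≤
      (Ideal.ofList lam').map (algebraMap S' (Localization.Away (π g₁))) := by
    rw [Ideal.map_ofList, ← hlam'E]
  have hmapB : (Ideal.ofList (lam.map (algebraMap S (Localization.Away (s * g₁))) ++
      ε.map (algebraMap S (Localization.Away (s * g₁))))).map
      (Localization.awayMap π (s * g₁)) =
      I.map (algebraMap S' (Localization.Away (π (s * g₁)))) := by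
    rw [Ideal.map_ofList, List.map_append, he₁,
      map_eq_of_away I (Ideal.ofList lam') (Ideal.span_le.mpr hlam'I) (π g₁) hle' _ hπg,
      Ideal.map_ofList]
    change sp (_ ++ _) = sp _
    rw [sp_append, sp_map_ker_eq_bot _ _ hker₁, bot_sup_eq]
  change _ = Ideal.ofList _
  have h1 := Ideal.comap_map_of_surjective _ (awayMap_surjective π hπ (s * g₁))
    ((I.comap π).map (algebraMap S (Localization.Away (s * g₁))))
  have h2 := Ideal.comap_map_of_surjective _ (awayMap_surjective π hπ (s * g₁))
    (Ideal.ofList (lam.map (algebraMap S (Localization.Away (s * g₁))) ++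
      ε.map (algebraMap S (Localization.Away (s * g₁)))))
  rw [← RingHom.ker_eq_comap_bot, sup_eq_left.mpr hA] at h1
  rw [← RingHom.ker_eq_comap_bot, sup_eq_left.mpr hB] at h2
  rw [← h1, ← h2, hmapA, hmapB]

open MvPolynomial in
/-- **Composition of local complete intersection ring maps.** -/
theorem isLCI_comp (A B C : Type u) [CommRing A] [CommRing B] [CommRing C] [Algebra A B]
    [Algebra B C] [Algebra A C] [IsScalarTower A B C]
    (hAB : LCI.IsLCI A B) (hBC : LCI.IsLCI B C) : LCI.IsLCI A C := by
  obtain ⟨hft1, n, f, hf, hI⟩ := hAB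
  obtain ⟨hft2, m, g, hg, hJ⟩ := hBC
  refine ⟨Algebra.FiniteType.trans hft1 hft2, m + n, ?_⟩
  -- the surjection `F : A[x][y] → B[y]`
  have hF : Function.Surjective (MvPolynomial.map (σ := Fin m) f.toRingHom) :=
    MvPolynomial.map_surjective f.toRingHom hf
  have hkerF : LCI.IsKoszulRegularIdeal (RingHom.ker (MvPolynomial.map (σ := Fin m) f.toRingHom)) := by
    rw [MvPolynomial.ker_map]
    exact map_koszulRegularIdeal_of_flat (MvPolynomial (Fin m) (MvPolynomial (Fin n) A)) _ hI
  have hG := comap_koszulRegularIdeal_of_koszul _ hF hkerF _ hJ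
  rw [RingHom.comap_ker] at hG
  -- transport to `A[z]`
  let Θ : MvPolynomial (Fin (m + n)) A ≃ₐ[A] MvPolynomial (Fin m) (MvPolynomial (Fin n) A) :=
    (renameEquiv A finSumFinEquiv).symm.trans (sumAlgEquiv A (Fin m) (Fin n))
  let h : MvPolynomial (Fin (m + n)) A →ₐ[A] C :=
    { toRingHom := (g.toRingHom.comp (MvPolynomial.map (σ := Fin m) f.toRingHom)).comp
        Θ.toRingEquiv.toRingHom
      commutes' := by
        intro a
        change g (MvPolynomial.map f.toRingHom (Θ (algebraMap A _ a))) = algebraMap A C a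
        rw [AlgEquiv.commutes, MvPolynomial.algebraMap_apply, MvPolynomial.map_C]
        have : f.toRingHom (algebraMap A (MvPolynomial (Fin n) A) a) = algebraMap A B a :=
          f.commutes a
        rw [this, ← MvPolynomial.algebraMap_eq, AlgHom.commutes,
          ← IsScalarTower.algebraMap_apply] }
  refine ⟨h, ?_, ?_⟩
  · intro c
    obtain ⟨t, rfl⟩ := hg c
    obtain ⟨t', rfl⟩ := hF t
    refine ⟨Θ.symm t', ?_⟩
    change g (MvPolynomial.map f.toRingHom (Θ (Θ.symm t'))) = _
    rw [AlgEquiv.apply_symm_apply]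
  · apply KoszulPres.isKoszulRegularIdeal_of_ringEquiv Θ.symm.toRingEquiv
    rw [RingHom.comap_ker]
    have : h.toRingHom.comp Θ.symm.toRingEquiv.toRingHom =
        g.toRingHom.comp (MvPolynomial.map (σ := Fin m) f.toRingHom) := by
      refine RingHom.ext fun t => ?_
      change g (MvPolynomial.map f.toRingHom (Θ (Θ.symm t))) = _
      rw [AlgEquiv.apply_symm_apply]
      rfl
    rw [this]
    exact hG

end Groth.Agent.Lib.Helper9.LCIComp
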