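/-
Helper library (helper9): `isLCI_of_algEquiv`, and `isLCI_of_cover`: gluing compositions of local
complete intersection ring maps over a cover by basic opens (via S9253 and `isLCI_comp`).
-/
import Mathlib
import Groth.Agent.Lib.Helper9.LCIComp
import Groth.Agent.S9253

set_option autoImplicit false
set_option linter.style.haveILetI false
universe u

namespace Groth.Agent.Lib.Helper9.LCICover

open Groth.Agent.Lib.Helper9

theorem isLCI_of_algEquiv {A B B' : Type u} [CommRing A] [CommRing B] [CommRing B'] [Algebra A B]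
    [Algebra A B'] (e : B ≃ₐ[A] B') (h : LCI.IsLCI A B) : LCI.IsLCI A B' := by
  obtain ⟨hft, n, f, hf, hK⟩ := h
  refine ⟨hft.equiv e, n, e.toAlgHom.comp f, e.surjective.comp hf, ?_⟩
  have : RingHom.ker (e.toAlgHom.comp f).toRingHom = RingHom.ker f.toRingHom := by
    ext x
    simp only [RingHom.mem_ker]
    change e (f x) = 0 ↔ f x = 0
    exact e.map_eq_zero_iff
  rw [this]
  exact hK

/-- gluing compositions of local complete intersection maps over a cover by basic opens -/
theorem isLCI_of_cover {R S : Type u} [CommRing R] [CommRing S] (φ : R →+* S) (s : Set S)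
    (hs : Ideal.span s = ⊤)
    (H : ∀ h ∈ s, ∃ (B D : Type u) (_ : CommRing B) (_ : CommRing D)
      (β : R →+* B) (δ : B →+* D) (lam : S →+* D), lam.comp φ = δ.comp β ∧
        @IsLocalization.Away S _ h D _ lam.toAlgebra ∧
        @LCI.IsLCI R _ B _ β.toAlgebra ∧ @LCI.IsLCI B _ D _ δ.toAlgebra) :
    @LCI.IsLCI R _ S _ φ.toAlgebra := by
  classical
  letI := φ.toAlgebra
  obtain ⟨s', hs's, hs'⟩ := (Ideal.span_eq_top_iff_finite s).mp hs
  have hrange : Set.range (fun j : Fin s'.card => ((s'.equivFin.symm j : s') : S)) = ↑s' := by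
    ext x
    constructor
    · rintro ⟨j, rfl⟩
      exact (s'.equivFin.symm j).2
    · intro hx
      exact ⟨s'.equivFin ⟨x, hx⟩, by simp⟩
  refine Groth.Agent.S9253.result R S s'.card (fun j => ((s'.equivFin.symm j : s') : S))
    (by rw [hrange]; exact hs') (fun j => ?_)
  obtain ⟨B, D, _, _, β, δ, lam, hcomm, hloc, hB, hD⟩ :=
    H _ (hs's (s'.equivFin.symm j).2)
  generalize ((s'.equivFin.symm j : s') : S) = h at hloc ⊢
  letI := β.toAlgebra
  letI := δ.toAlgebra
  letI : Algebra R D := (δ.comp β).toAlgebra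
  haveI : IsScalarTower R B D := IsScalarTower.of_algebraMap_eq (fun _ => rfl)
  have hRD : LCI.IsLCI R D := LCIComp.isLCI_comp R B D hB hD
  letI : Algebra S D := lam.toAlgebra
  haveI : IsScalarTower R S D := IsScalarTower.of_algebraMap_eq (fun r => by
    change (δ.comp β) r = lam (φ r)
    rw [← hcomm]
    rfl)
  haveI : IsLocalization.Away h D := hloc
  let e : D ≃ₐ[S] Localization.Away h :=
    IsLocalization.algEquiv (Submonoid.powers h) D (Localization.Away h)
  exact isLCI_of_algEquiv (e.restrictScalars R) hRD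

end Groth.Agent.Lib.Helper9.LCICover
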