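/-
Helper library (helper9): basic permanence of local complete intersection algebras:
`isLCI_iff_ker` (surjective case), `isLCI_baseChange_of_flat` (flat base change),
`isKoszulRegularIdeal_ker_of_etale` (retraction of an étale algebra), `isLCI_cancel_etale`
(cancellation of an étale map), `isKoszulRegularIdeal_ofList`, `isKoszulRegularIdeal_of_idempotent`.
-/
import Mathlib
import Groth.Agent.Lib.Helper9.KoszulPres
import Groth.Agent.Lib.Helper9.LCIComp
import Groth.Agent.Lib.Helper9.LCICover
import Groth.Agent.Lib.Helper9.LCIDescent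

set_option autoImplicit false
set_option linter.style.haveILetI false
universe u

namespace Groth.Agent.Lib.Helper9.SmoothLCI0

open Groth.Agent.Lib.Helper9
open TensorProduct

variable {A : Type u} [CommRing A]

/-- an ideal generated by a Koszul-regular sequence is Koszul-regular -/
theorem isKoszulRegularIdeal_ofList (l : List A) (hl : LCI.IsKoszulRegularSeq A l) :
    LCI.IsKoszulRegularIdeal (Ideal.ofList l) := by
  intro 𝔭 _
  refine ⟨1, (Ideal.ne_top_iff_one 𝔭.asIdeal).mp 𝔭.isPrime.ne_top,
    l.map (algebraMap A (Localization.Away (1 : A))),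
    KoszulLoc.isKoszulRegularSeq_map_of_flat _ l hl, ?_⟩
  rw [Ideal.map_ofList]

/-- an ideal generated by an idempotent is Koszul-regular -/
theorem isKoszulRegularIdeal_of_idempotent (e : A) (he : IsIdempotentElem e) :
    LCI.IsKoszulRegularIdeal (Ideal.span {e}) := by
  intro 𝔭 h𝔭
  have he𝔭 : e ∈ 𝔭.asIdeal := h𝔭 (Ideal.subset_span rfl)
  refine ⟨1 - e, ?_, [], LCIDescent.isKoszulRegularSeq_nil _, ?_⟩
  · intro hmem
    have : (1 : A) ∈ 𝔭.asIdeal := by
      have := 𝔭.asIdeal.add_mem hmem he𝔭
      simpa using this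
    exact 𝔭.isPrime.ne_top ((Ideal.eq_top_iff_one _).mpr this)
  · have : Ideal.span {x : Localization.Away (1 - e) | x ∈ ([] : List _)} = ⊥ := by simp
    rw [this, eq_bot_iff, Ideal.map_le_iff_le_comap, Ideal.span_le]
    rintro x rfl
    change algebraMap A (Localization.Away (1 - x)) x ∈ (⊥ : Ideal _)
    rw [Ideal.mem_bot, IsLocalization.map_eq_zero_iff (Submonoid.powers (1 - x))]
    refine ⟨⟨1 - x, Submonoid.mem_powers _⟩, ?_⟩
    change (1 - x) * x = 0
    rw [sub_mul, one_mul, he.eq, sub_self]

section surj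

variable {C : Type u} [CommRing C] [Algebra A C]

/-- for a surjective algebra, lci means that the kernel is Koszul-regular -/
theorem isLCI_iff_ker (hs : Function.Surjective (algebraMap A C)) :
    LCI.IsLCI A C ↔ LCI.IsKoszulRegularIdeal (RingHom.ker (algebraMap A C)) := by
  let α : MvPolynomial (Fin 0) A →ₐ[A] C :=
    (Algebra.ofId A C).comp (MvPolynomial.isEmptyAlgEquiv A (Fin 0)).toAlgHom
  have hα : Function.Surjective α :=
    hs.comp (MvPolynomial.isEmptyAlgEquiv A (Fin 0)).surjective
  let θ : MvPolynomial (Fin 0) A ≃+* A := (MvPolynomial.isEmptyAlgEquiv A (Fin 0)).toRingEquiv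
  have hker : RingHom.ker α.toRingHom = (RingHom.ker (algebraMap A C)).comap θ.toRingHom := by
    ext x
    simp only [Ideal.mem_comap, RingHom.mem_ker]
    rfl
  constructor
  · rintro ⟨-, n, f, hf, hK⟩
    have h1 := KoszulPres.main A C n 0 f hf α hα hK
    apply KoszulPres.isKoszulRegularIdeal_of_ringEquiv θ
    rw [← hker]
    exact h1
  · intro h
    refine ⟨Algebra.FiniteType.of_surjective α hα, 0, α, hα, ?_⟩
    apply KoszulPres.isKoszulRegularIdeal_of_ringEquiv θ.symm
    have : (RingHom.ker α.toRingHom).comap θ.symm.toRingHom = RingHom.ker (algebraMap A C) := by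
      ext x
      simp only [Ideal.mem_comap, RingHom.mem_ker]
      change algebraMap A C (θ (θ.symm x)) = 0 ↔ _
      rw [θ.apply_symm_apply]
    rw [this]
    exact h

end surj

attribute [local instance] Algebra.TensorProduct.rightAlgebra in
/-- **Flat base change of local complete intersection algebras.** -/
theorem isLCI_baseChange_of_flat (B T : Type u) [CommRing B] [CommRing T]
    [Algebra A B] [Algebra A T] [Module.Flat A T]
    (h : LCI.IsLCI A B) : LCI.IsLCI T (T ⊗[A] B) := by
  obtain ⟨hft, n, f, hf, hK⟩ := h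
  haveI := hft
  haveI : Module.Flat (MvPolynomial (Fin n) A) (T ⊗[A] MvPolynomial (Fin n) A) :=
    Module.Flat.of_linearEquiv (Algebra.TensorProduct.commRight _ _ _).symm.toLinearEquiv
  let fT := Algebra.TensorProduct.map (AlgHom.id T T) f
  have hfT : Function.Surjective fT := Algebra.FiniteType.baseChangeAux_surj T hf
  have hker : (RingHom.ker f.toRingHom).map
      (algebraMap (MvPolynomial (Fin n) A) (T ⊗[A] MvPolynomial (Fin n) A)) = RingHom.ker fT :=
    (Algebra.TensorProduct.lTensor_ker f hf).symm
  have h1 : LCI.IsKoszulRegularIdeal (RingHom.ker fT) := by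
    rw [← hker]
    exact LCIComp.map_koszulRegularIdeal_of_flat _ _ hK
  let θ : MvPolynomial (Fin n) T ≃ₐ[T] T ⊗[A] MvPolynomial (Fin n) A :=
    (MvPolynomial.algebraTensorAlgEquiv A T).symm
  let β : MvPolynomial (Fin n) T →ₐ[T] T ⊗[A] B := fT.comp θ.toAlgHom
  have hβ : Function.Surjective β := hfT.comp θ.surjective
  refine ⟨inferInstance, n, β, hβ, ?_⟩
  apply KoszulPres.isKoszulRegularIdeal_of_ringEquiv θ.toRingEquiv.symm
  have : (RingHom.ker β.toRingHom).comap θ.toRingEquiv.symm.toRingHom = RingHom.ker fT := by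
    ext x
    simp only [Ideal.mem_comap, RingHom.mem_ker]
    change fT (θ (θ.symm x)) = 0 ↔ _
    rw [θ.apply_symm_apply]
  rw [this]
  exact h1


/-- the kernel of a retraction of an étale algebra is Koszul-regular (generated by an idempotent) -/
theorem isKoszulRegularIdeal_ker_of_etale {C E : Type u} [CommRing C] [CommRing E] [Algebra C E]
    [Algebra.Etale C E] (s : E →ₐ[C] C) : LCI.IsKoszulRegularIdeal (RingHom.ker s.toRingHom) := by
  have hs : Function.Surjective s := fun c => ⟨algebraMap C E c, s.commutes c⟩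
  letI : Algebra E C := s.toRingHom.toAlgebra
  haveI : IsScalarTower C E C := .of_algebraMap_eq' (by
    ext c
    exact (s.commutes c).symm)
  obtain ⟨e, he, hfe⟩ :=
    (Ideal.isIdempotentElem_iff_of_fg _ (Algebra.FinitePresentation.ker_fG_of_surjective s hs)).mp
      ((Algebra.FormallyEtale.iff_of_surjective hs).mp (.of_restrictScalars (R := C)))
  have : RingHom.ker s.toRingHom = Ideal.span {e} := hfe
  rw [this]
  exact isKoszulRegularIdeal_of_idempotent e he

attribute [local instance] Algebra.TensorProduct.rightAlgebra in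
/-- **Cancellation of an étale map**: if `A → C` is lci and factors through an étale `A → A'`,
then `A' → C` is lci. -/
theorem isLCI_cancel_etale (A' C : Type u) [CommRing A'] [CommRing C] [Algebra A A'] [Algebra A' C]
    [Algebra A C] [IsScalarTower A A' C] [Algebra.Etale A A'] (h : LCI.IsLCI A C) :
    LCI.IsLCI A' C := by
  haveI : Module.Flat A A' := inferInstance
  have h1 : LCI.IsLCI A' (A' ⊗[A] C) := isLCI_baseChange_of_flat C A' h
  -- the étale `C`-algebra structure
  let e : C ⊗[A] A' ≃ₐ[C] A' ⊗[A] C :=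
    { Algebra.TensorProduct.comm A C A' with
      commutes' := fun c => by
        change Algebra.TensorProduct.comm A C A' (c ⊗ₜ 1) = (1 : A') ⊗ₜ c
        simp }
  haveI : Algebra.Etale C (A' ⊗[A] C) := Algebra.Etale.of_equiv e
  -- the retraction
  let s₀ : A' ⊗[A] C →ₐ[A'] C :=
    Algebra.TensorProduct.lift (Algebra.ofId A' C) (AlgHom.id A C) (fun _ _ => Commute.all _ _)
  let s : A' ⊗[A] C →ₐ[C] C :=
    { s₀.toRingHom with
      commutes' := fun c => by
        change s₀ ((1 : A') ⊗ₜ c) = c
        simp [s₀] }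
  have hK := isKoszulRegularIdeal_ker_of_etale s
  have hs : Function.Surjective s := fun c => ⟨algebraMap C _ c, s.commutes c⟩
  letI : Algebra (A' ⊗[A] C) C := s.toRingHom.toAlgebra
  haveI : IsScalarTower A' (A' ⊗[A] C) C := .of_algebraMap_eq' (by
    ext a
    change algebraMap A' C a = s₀ (a ⊗ₜ 1)
    simp [s₀])
  have h2 : LCI.IsLCI (A' ⊗[A] C) C := (isLCI_iff_ker hs).mpr hK
  exact LCIComp.isLCI_comp A' (A' ⊗[A] C) C h1 h2

end Groth.Agent.Lib.Helper9.SmoothLCI0
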