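/-
Helper library (helper9): faithfully flat descent of local complete intersection algebras:
if `T` is faithfully flat over `A` and `T ⊗[A] B` is a local complete intersection over `T`,
then `B` is a local complete intersection over `A` (`isLCI_of_faithfullyFlat`).
-/
import Mathlib
import Groth.Agent.Lib.Helper9.KoszulPres
import Groth.Agent.Lib.Helper9.KoszulDesc

set_option autoImplicit false
set_option linter.style.haveILetI false
universe u

namespace Groth.Agent.Lib.Helper9.LCIDescent0

open Groth.Agent.Lib.Helper9
open TensorProduct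

attribute [local instance] Algebra.TensorProduct.rightAlgebra in
/-- **Faithfully flat descent of local complete intersection algebras.** -/
theorem isLCI_of_faithfullyFlat (A B T : Type u) [CommRing A] [CommRing B] [CommRing T]
    [Algebra A B] [Algebra A T] [Module.FaithfullyFlat A T]
    (h : LCI.IsLCI T (T ⊗[A] B)) : LCI.IsLCI A B := by
  obtain ⟨hft', n', α, hα, hKα⟩ := h
  haveI := hft'
  have hft : Algebra.FiniteType A B :=
    Algebra.FiniteType.of_finiteType_tensorProduct_of_faithfullyFlat T
  obtain ⟨n, f, hf⟩ := Algebra.FiniteType.iff_quotient_mvPolynomial''.mp hft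
  refine ⟨hft, n, f, hf, ?_⟩
  haveI : Module.FaithfullyFlat (MvPolynomial (Fin n) A) (T ⊗[A] MvPolynomial (Fin n) A) :=
    .of_linearEquiv _ _ (Algebra.TensorProduct.commRight _ _ _).symm.toLinearEquiv
  let fT := Algebra.TensorProduct.map (AlgHom.id T T) f
  have hfT : Function.Surjective fT := Algebra.FiniteType.baseChangeAux_surj T hf
  have hker : (RingHom.ker f.toRingHom).map
      (algebraMap (MvPolynomial (Fin n) A) (T ⊗[A] MvPolynomial (Fin n) A)) = RingHom.ker fT :=
    (Algebra.TensorProduct.lTensor_ker f hf).symm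
  apply KoszulDesc.koszulRegularIdeal_descent (MvPolynomial (Fin n) A)
    (T ⊗[A] MvPolynomial (Fin n) A)
  rw [hker]
  -- a presentation of `T ⊗ B` over `T`
  let θ : MvPolynomial (Fin n) T ≃ₐ[T] T ⊗[A] MvPolynomial (Fin n) A :=
    (MvPolynomial.algebraTensorAlgEquiv A T).symm
  let β : MvPolynomial (Fin n) T →ₐ[T] T ⊗[A] B := fT.comp θ.toAlgHom
  have hβ : Function.Surjective β := hfT.comp θ.surjective
  have hKβ := KoszulPres.main T (T ⊗[A] B) n' n α hα β hβ hKα
  apply KoszulPres.isKoszulRegularIdeal_of_ringEquiv θ.toRingEquiv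
  have : (RingHom.ker fT).comap θ.toRingEquiv.toRingHom = RingHom.ker β.toRingHom := by
    ext x
    simp only [Ideal.mem_comap, RingHom.mem_ker]
    rfl
  rw [this]
  exact hKβ

end Groth.Agent.Lib.Helper9.LCIDescent0
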