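/-
Helper library (helper9): descent of local complete intersection algebras along a finite
jointly faithfully flat family `A → A' j` (`isLCI_descent_family`), via the finite product ring;
a projection from a finite product of rings is a local complete intersection (`isLCI_eval`).
-/
import Mathlib
import Groth.Agent.Lib.Helper9.KoszulPres
import Groth.Agent.Lib.Helper9.LCICover
import Groth.Agent.Lib.Helper94.KoszulReg
import Groth.Agent.Lib.Helper9.LCIDescent0

set_option autoImplicit false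
set_option linter.style.haveILetI false
universe u

namespace Groth.Agent.Lib.Helper9.LCIDescent

open Groth.Agent.Lib.Helper9
open TensorProduct

theorem isKoszulRegularSeq_nil (R : Type u) [CommRing R] : LCI.IsKoszulRegularSeq R [] :=
  (KoszulSwap.isKoszulRegularSeq_iff []).mpr
    (Groth.Agent.Lib.Helper94.KoszulReg.kz_single_of_isWeaklyRegular [] R
      (RingTheory.Sequence.IsWeaklyRegular.nil R R)).1

section pi

variable {n : ℕ} (A' : Fin n → Type u) [∀ j, CommRing (A' j)]

theorem single_one_mul (j : Fin n) (r : ∀ j, A' j) :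
    (Pi.single j (1 : A' j) : ∀ j, A' j) * r = Pi.single j (r j) := by
  ext k
  by_cases hk : k = j
  · subst hk; simp
  · simp [Pi.single_eq_of_ne hk]

/-- the kernel of a projection from a finite product is Koszul-regular -/
theorem isKoszulRegularIdeal_ker_eval (j : Fin n) :
    LCI.IsKoszulRegularIdeal (RingHom.ker (Pi.evalRingHom A' j)) := by
  intro 𝔭 h𝔭
  refine ⟨Pi.single j 1, ?_, [], isKoszulRegularSeq_nil _, ?_⟩
  · intro hmem
    have h1 : (1 - Pi.single j (1 : A' j) : ∀ j, A' j) ∈ 𝔭.asIdeal := by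
      apply h𝔭
      rw [RingHom.mem_ker]
      simp
    have : (1 : ∀ j, A' j) ∈ 𝔭.asIdeal := by
      have := 𝔭.asIdeal.add_mem h1 hmem
      simpa using this
    exact 𝔭.isPrime.ne_top ((Ideal.eq_top_iff_one _).mpr this)
  · have : Ideal.span {x : Localization.Away (Pi.single j (1 : A' j) : ∀ j, A' j) | x ∈ ([] : List _)} = ⊥ := by
      simp
    rw [this, eq_bot_iff, Ideal.map_le_iff_le_comap]
    intro x hx
    rw [Ideal.mem_comap, Ideal.mem_bot,
      IsLocalization.map_eq_zero_iff (Submonoid.powers (Pi.single j (1 : A' j) : ∀ j, A' j))]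
    refine ⟨⟨Pi.single j 1, Submonoid.mem_powers _⟩, ?_⟩
    rw [single_one_mul]
    rw [RingHom.mem_ker] at hx
    change x j = 0 at hx
    rw [hx]
    simp

/-- a projection from a finite product of rings is a local complete intersection -/
theorem isLCI_eval (j : Fin n) :
    @LCI.IsLCI (∀ j, A' j) _ (A' j) _ (Pi.evalRingHom A' j).toAlgebra := by
  letI : Algebra (∀ j, A' j) (A' j) := (Pi.evalRingHom A' j).toAlgebra
  have hsurj : Function.Surjective (algebraMap (∀ j, A' j) (A' j)) := fun a =>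
    ⟨Pi.single j a, by change (Pi.single j a : ∀ j, A' j) j = a; simp⟩
  let α : MvPolynomial (Fin 0) (∀ j, A' j) →ₐ[∀ j, A' j] A' j :=
    (Algebra.ofId (∀ j, A' j) (A' j)).comp
      (MvPolynomial.isEmptyAlgEquiv (∀ j, A' j) (Fin 0)).toAlgHom
  have hα : Function.Surjective α :=
    hsurj.comp (MvPolynomial.isEmptyAlgEquiv (∀ j, A' j) (Fin 0)).surjective
  refine ⟨Algebra.FiniteType.of_surjective α hα, 0, α, hα, ?_⟩
  let θ : MvPolynomial (Fin 0) (∀ j, A' j) ≃+* (∀ j, A' j) :=
    (MvPolynomial.isEmptyAlgEquiv (∀ j, A' j) (Fin 0)).toRingEquiv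
  apply KoszulPres.isKoszulRegularIdeal_of_ringEquiv θ.symm
  have : (RingHom.ker α.toRingHom).comap θ.symm.toRingHom = RingHom.ker (Pi.evalRingHom A' j) := by
    ext x
    simp only [Ideal.mem_comap, RingHom.mem_ker]
    change algebraMap (∀ j, A' j) (A' j) (θ (θ.symm x)) = 0 ↔ _
    rw [θ.apply_symm_apply]
    rfl
  rw [this]
  exact isKoszulRegularIdeal_ker_eval A' j

end pi


section family

variable {A B : Type u} [CommRing A] [CommRing B] [Algebra A B] {n : ℕ}
  (A' : Fin n → Type u) [∀ j, CommRing (A' j)] [∀ j, Algebra A (A' j)]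

/-- the projection `(∏ A') ⊗ B → A' j ⊗ B` -/
noncomputable def lam (j : Fin n) : (∀ j, A' j) ⊗[A] B →ₐ[A] A' j ⊗[A] B :=
  Algebra.TensorProduct.map (Pi.evalAlgHom A A' j) (AlgHom.id A B)

/-- the (non-unital) section of `lam` -/
noncomputable def dd (j : Fin n) : A' j ⊗[A] B →ₗ[A] (∀ j, A' j) ⊗[A] B :=
  TensorProduct.map (LinearMap.single A A' j) LinearMap.id

variable (B) in
theorem dd_lam (j : Fin n) (x : (∀ j, A' j) ⊗[A] B) :
    dd A' j (lam A' j x) = ((Pi.single j (1 : A' j) : ∀ j, A' j) ⊗ₜ[A] (1 : B)) * x := by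
  induction x using TensorProduct.induction_on with
  | zero => simp
  | tmul r b =>
    simp only [lam, dd, Algebra.TensorProduct.map_tmul, TensorProduct.map_tmul,
      Algebra.TensorProduct.tmul_mul_tmul, one_mul, single_one_mul]
    rfl
  | add x y hx hy => rw [map_add, map_add, hx, hy, mul_add]

variable (B) in
theorem lam_surjective (j : Fin n) : Function.Surjective (lam (A := A) (B := B) A' j) := by
  intro y
  induction y using TensorProduct.induction_on with
  | zero => exact ⟨0, map_zero _⟩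
  | tmul a b =>
    refine ⟨(Pi.single j a : ∀ j, A' j) ⊗ₜ b, ?_⟩
    simp [lam]
  | add x y hx hy =>
    obtain ⟨x', rfl⟩ := hx
    obtain ⟨y', rfl⟩ := hy
    exact ⟨x' + y', map_add _ _ _⟩

variable (B) in
theorem isLocalization_lam (j : Fin n) :
    @IsLocalization.Away ((∀ j, A' j) ⊗[A] B) _
      ((Pi.single j (1 : A' j) : ∀ j, A' j) ⊗ₜ[A] (1 : B)) (A' j ⊗[A] B) _
      (lam (A := A) (B := B) A' j).toRingHom.toAlgebra := by
  letI : Algebra ((∀ j, A' j) ⊗[A] B) (A' j ⊗[A] B) :=
    (lam (A := A) (B := B) A' j).toRingHom.toAlgebra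
  have he : IsIdempotentElem ((Pi.single j (1 : A' j) : ∀ j, A' j) ⊗ₜ[A] (1 : B)) := by
    unfold IsIdempotentElem
    rw [Algebra.TensorProduct.tmul_mul_tmul, one_mul, single_one_mul]
    simp
  have hlame : lam (A := A) (B := B) A' j
      ((Pi.single j (1 : A' j) : ∀ j, A' j) ⊗ₜ[A] (1 : B)) = 1 := by
    simp [lam, Algebra.TensorProduct.one_def]
  refine IsLocalization.away_of_isIdempotentElem_of_mul he ?_ (lam_surjective (A := A) B A' j)
  intro x y
  change lam A' j x = lam A' j y ↔ _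
  constructor
  · intro h
    rw [← dd_lam, ← dd_lam, h]
  · intro h
    have := congrArg (lam (A := A) (B := B) A' j) h
    rwa [map_mul, map_mul, hlame, one_mul, one_mul] at this

theorem span_idem :
    Ideal.span (Set.range fun j : Fin n =>
      ((Pi.single j (1 : A' j) : ∀ j, A' j) ⊗ₜ[A] (1 : B))) = ⊤ := by
  rw [Ideal.eq_top_iff_one]
  have h1 : (1 : (∀ j, A' j) ⊗[A] B) =
      ∑ j : Fin n, ((Pi.single j (1 : A' j) : ∀ j, A' j) ⊗ₜ[A] (1 : B)) := by
    rw [← TensorProduct.sum_tmul]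
    have h2 : (∑ j : Fin n, (Pi.single j (1 : A' j) : ∀ j, A' j)) = 1 :=
      Finset.univ_sum_single (1 : ∀ j, A' j)
    rw [h2]
    rfl
  rw [h1]
  exact Ideal.sum_mem _ fun j _ => Ideal.subset_span ⟨j, rfl⟩


theorem flat_pi [∀ j, Module.Flat A (A' j)] : Module.Flat A (∀ j, A' j) :=
  Module.Flat.of_linearEquiv (DirectSum.linearEquivFunOnFintype A (Fin n) A').symm

theorem faithfullyFlat_pi [∀ j, Module.Flat A (A' j)]
    (hsurj : ∀ 𝔭 : PrimeSpectrum A, ∃ j, ∃ 𝔭' : PrimeSpectrum (A' j),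
      PrimeSpectrum.comap (algebraMap A (A' j)) 𝔭' = 𝔭) :
    Module.FaithfullyFlat A (∀ j, A' j) := by
  haveI := flat_pi (A := A) A'
  apply Module.FaithfullyFlat.of_comap_surjective
  intro 𝔭
  obtain ⟨j, 𝔭', h⟩ := hsurj 𝔭
  refine ⟨PrimeSpectrum.comap (Pi.evalRingHom A' j) 𝔭', ?_⟩
  rw [← h]
  rfl

/-- **Descent of local complete intersections along a finite jointly faithfully flat family.** -/
theorem isLCI_descent_family [∀ j, Module.Flat A (A' j)]
    (hsurj : ∀ 𝔭 : PrimeSpectrum A, ∃ j, ∃ 𝔭' : PrimeSpectrum (A' j),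
      PrimeSpectrum.comap (algebraMap A (A' j)) 𝔭' = 𝔭)
    (h : ∀ j, LCI.IsLCI (A' j) (A' j ⊗[A] B)) : LCI.IsLCI A B := by
  haveI := faithfullyFlat_pi A' hsurj
  apply Groth.Agent.Lib.Helper9.LCIDescent0.isLCI_of_faithfullyFlat A B (∀ j, A' j)
  have key := LCICover.isLCI_of_cover
    (algebraMap (∀ j, A' j) ((∀ j, A' j) ⊗[A] B))
    (Set.range fun j : Fin n => ((Pi.single j (1 : A' j) : ∀ j, A' j) ⊗ₜ[A] (1 : B)))
    (span_idem A') ?_
  · convert key
    exact Algebra.algebra_ext _ _ (fun _ => rfl)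
  · rintro _ ⟨j, rfl⟩
    refine ⟨A' j, A' j ⊗[A] B, inferInstance, inferInstance, Pi.evalRingHom A' j,
      algebraMap (A' j) (A' j ⊗[A] B), (lam (A := A) (B := B) A' j).toRingHom, ?_, ?_, ?_, ?_⟩
    · ext r
      simp [lam]
    · exact isLocalization_lam (A := A) B A' j
    · exact isLCI_eval A' j
    · convert h j
      exact Algebra.algebra_ext _ _ (fun _ => rfl)

end family


section cat
open CategoryTheory


/-- descent of lci along a finite jointly faithfully flat family, in `CommRingCat` form -/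
theorem isLCI_descent_family' {A B : CommRingCat.{u}} (φ : A ⟶ B) {n : ℕ}
    (A' B' : Fin n → CommRingCat.{u})
    (a : ∀ j, A ⟶ A' j) (b : ∀ j, B ⟶ B' j) (φ' : ∀ j, A' j ⟶ B' j)
    (hpush : ∀ j, IsPushout (a j) φ (φ' j) (b j))
    (hflat : ∀ j, (a j).hom.Flat)
    (hsurj : ∀ 𝔭 : PrimeSpectrum A, ∃ j, ∃ 𝔭' : PrimeSpectrum (A' j),
      PrimeSpectrum.comap (a j).hom 𝔭' = 𝔭)
    (h : ∀ j, @LCI.IsLCI (A' j) _ (B' j) _ (φ' j).hom.toAlgebra) :
    @LCI.IsLCI A _ B _ φ.hom.toAlgebra := by
  letI : Algebra A B := φ.hom.toAlgebra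
  letI : ∀ j, Algebra A (A' j) := fun j => (a j).hom.toAlgebra
  letI : ∀ j, Algebra (A' j) (B' j) := fun j => (φ' j).hom.toAlgebra
  letI : ∀ j, Algebra B (B' j) := fun j => (b j).hom.toAlgebra
  letI : ∀ j, Algebra A (B' j) := fun j => ((φ' j).hom.comp (a j).hom).toAlgebra
  haveI : ∀ j, IsScalarTower A (A' j) (B' j) := fun j => .of_algebraMap_eq' rfl
  haveI : ∀ j, IsScalarTower A B (B' j) := fun j => .of_algebraMap_eq' (by
    change (φ' j).hom.comp (a j).hom = (b j).hom.comp φ.hom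
    rw [← CommRingCat.hom_comp, ← CommRingCat.hom_comp, (hpush j).w])
  haveI : ∀ j, Module.Flat A (A' j) := hflat
  have hP : ∀ j, Algebra.IsPushout A (A' j) B (B' j) := fun j =>
    CommRingCat.isPushout_iff_isPushout.mp (hpush j)
  apply isLCI_descent_family (fun j => A' j) hsurj
  intro j
  haveI := hP j
  exact LCICover.isLCI_of_algEquiv (Algebra.IsPushout.equiv A (A' j) B (B' j)).symm (h j)


end cat

end Groth.Agent.Lib.Helper9.LCIDescent
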