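import Mathlib
import Groth.Agent.Lib.Helper9.KoszulPres
import Groth.Agent.Lib.Helper9.LCIComp
import Groth.Agent.Lib.Helper9.LCICover
import Groth.Agent.Lib.Helper9.LCIDescent
import Groth.Agent.Lib.Helper8.LCILocal
import Groth.Agent.Lib.Helper9.SmoothLCI0

/-!
# Smooth ring maps are local complete intersections; smooth cancellation for LCI (helper9)

* `isLCI_of_isStandardEtale`, `isLCI_of_isLocalizationAway`, `isLCI_mvPolynomial`, `isLCI_of_smooth`
* `isLCI_cancel_mvPolynomial`, `isLCI_cancel_smooth` : for `R → A'` smooth and `R → A' → C`,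
  `IsLCI R C → IsLCI A' C`.
* `isKoszulRegularIdeal_ker_iff_of_smooth` : kernel form for surjections.
-/


set_option autoImplicit false
set_option linter.style.haveILetI false
universe u

namespace Groth.Agent.Lib.Helper9.SmoothLCI

open Groth.Agent.Lib.Helper9
open Polynomial
open scoped Bivariate

variable {R : Type u} [CommRing R]

theorem isKoszulRegularSeq_singleton {S : Type u} [CommRing S] (z : S) (hz : IsSMulRegular S z) :
    LCI.IsKoszulRegularSeq S [z] :=
  (KoszulSwap.isKoszulRegularSeq_iff [z]).mpr
    (Groth.Agent.Lib.Helper94.KoszulReg.kz_single_of_isWeaklyRegular [z] S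
      ((RingTheory.Sequence.isWeaklyRegular_singleton_iff S z).mpr hz)).1

/-- the two equations of a standard étale algebra form a Koszul-regular sequence -/
theorem isKoszulRegularSeq_biv (f g : R[X]) (hf : f.Monic) :
    LCI.IsKoszulRegularSeq R[X][Y] [C f, Y * C g - 1] := by
  let π : R[X][Y] →+* (AdjoinRoot f)[X] := Polynomial.mapRingHom (AdjoinRoot.mk f)
  have hπ : Function.Surjective π := Polynomial.map_surjective _ AdjoinRoot.mk_surjective
  have hker : RingHom.ker π = Ideal.ofList [C f] := by
    rw [Polynomial.ker_mapRingHom, Ideal.ofList_singleton]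
    have : RingHom.ker (AdjoinRoot.mk f) = Ideal.span {f} := Ideal.mk_ker
    rw [this, Ideal.map_span, Set.image_singleton]
  have hreg : IsSMulRegular R[X][Y] (C f) := by
    have h1 : IsSMulRegular R[X] f := hf.isRegular.left.isSMulRegular
    intro p q hpq
    simp only [smul_eq_mul] at hpq
    ext1 n
    have := congrArg (fun r => r.coeff n) hpq
    simp only [coeff_C_mul] at this
    exact h1 this
  have hw : RingTheory.Sequence.IsWeaklyRegular R[X][Y] [C f] :=
    (RingTheory.Sequence.isWeaklyRegular_singleton_iff _ _).mpr hreg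
  refine (KoszulAppend.isKoszulRegularSeq_append_iff π hπ [C f] hker hw [Y * C g - 1]).mpr ?_
  have : [Y * C g - 1].map π = [C (AdjoinRoot.mk f g) * X - 1] := by
    simp only [List.map_cons, List.map_nil, map_sub, map_mul, map_one]
    have h1 : π Y = X := Polynomial.map_X _
    have h2 : π (C g) = C (AdjoinRoot.mk f g) := Polynomial.map_C _
    rw [h1, h2, mul_comm]
  rw [this]
  exact isKoszulRegularSeq_singleton _ (Groth.Agent.Lib.Helper8.LCILocal.isSMulRegular_z _)


/-- **A standard étale algebra is a local complete intersection.** -/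
theorem isLCI_of_isStandardEtale (S : Type u) [CommRing S] [Algebra R S]
    [Algebra.IsStandardEtale R S] : LCI.IsLCI R S := by
  obtain ⟨P⟩ := Algebra.IsStandardEtale.nonempty_standardEtalePresentation (R := R) (S := S)
  let Pr := P.toPresentation
  let α : MvPolynomial (Fin 2) R →ₐ[R] S := IsScalarTower.toAlgHom R Pr.Ring S
  have hα : Function.Surjective α := Pr.algebraMap_surjective
  refine ⟨Algebra.FiniteType.of_surjective α hα, 2, α, hα, ?_⟩
  have hker : RingHom.ker α.toRingHom =
      Ideal.ofList ([C P.f, Y * C P.g - 1].map (Bivariate.equivMvPolynomial R).toRingEquiv) := by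
    have h1 : RingHom.ker α.toRingHom = Pr.ker := rfl
    rw [h1, ← Pr.span_range_relation_eq_ker]
    congr 1
    ext x
    simp only [List.map_cons, List.map_nil, List.mem_cons, List.not_mem_nil, or_false,
      Set.mem_range, Set.mem_ofPred_eq]
    constructor
    · rintro ⟨i, rfl⟩
      fin_cases i
      · left; rfl
      · right; rfl
    · rintro (rfl | rfl)
      · exact ⟨0, rfl⟩
      · exact ⟨1, rfl⟩
  rw [hker]
  apply Groth.Agent.Lib.Helper9.SmoothLCI0.isKoszulRegularIdeal_ofList
  exact Groth.Agent.Lib.Helper8.LCILocal.isKoszulRegularSeq_map_ringEquiv _ _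
    (isKoszulRegularSeq_biv P.f P.g P.monic_f)


/-- a localization away from an element is a local complete intersection -/
theorem isLCI_of_isLocalizationAway (g : R) (T : Type u) [CommRing T] [Algebra R T]
    [IsLocalization.Away g T] : LCI.IsLCI R T := by
  haveI : Algebra.IsStandardEtale R T := Algebra.IsStandardEtale.of_isLocalizationAway (S := R) g
  exact isLCI_of_isStandardEtale T

/-- a polynomial algebra is a local complete intersection -/
theorem isLCI_mvPolynomial (n : ℕ) : LCI.IsLCI R (MvPolynomial (Fin n) R) := by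
  refine ⟨inferInstance, n, AlgHom.id R _, Function.surjective_id, ?_⟩
  have : RingHom.ker (AlgHom.id R (MvPolynomial (Fin n) R)).toRingHom = Ideal.ofList [] := by
    rw [Ideal.ofList_nil]
    ext x
    simp [RingHom.mem_ker]
  rw [this]
  exact SmoothLCI0.isKoszulRegularIdeal_ofList [] (LCIDescent.isKoszulRegularSeq_nil _)

/-- **A smooth algebra is a local complete intersection.** -/
theorem isLCI_of_smooth (A' : Type u) [CommRing A'] [Algebra R A'] [Algebra.Smooth R A'] :
    LCI.IsLCI R A' := by
  have key := LCICover.isLCI_of_cover (algebraMap R A')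
    {f : A' | ∃ (n : ℕ) (_ : Algebra (MvPolynomial (Fin n) R) (Localization.Away f)),
      IsScalarTower R (MvPolynomial (Fin n) R) (Localization.Away f) ∧
      Algebra.IsStandardEtale (MvPolynomial (Fin n) R) (Localization.Away f)} ?_ ?_
  · convert key
    exact Algebra.algebra_ext _ _ (fun _ => rfl)
  · by_contra hne
    obtain ⟨𝔪, h𝔪, hle⟩ := Ideal.exists_le_maximal _ hne
    haveI : 𝔪.IsPrime := h𝔪.isPrime
    haveI : Algebra.IsSmoothAt R 𝔪 := inferInstance
    obtain ⟨f, hf, n, inst, h1, h2⟩ :=
      Algebra.IsSmoothAt.exists_isStandardEtale_mvPolynomial (R := R) (p := 𝔪)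
    exact hf (hle (Ideal.subset_span ⟨n, inst, h1, h2⟩))
  · rintro h ⟨n, inst, h1, h2⟩
    refine ⟨MvPolynomial (Fin n) R, Localization.Away h, inferInstance, inferInstance,
      algebraMap R (MvPolynomial (Fin n) R),
      algebraMap (MvPolynomial (Fin n) R) (Localization.Away h),
      algebraMap A' (Localization.Away h), ?_, ?_, ?_, ?_⟩
    · rw [← IsScalarTower.algebraMap_eq, ← IsScalarTower.algebraMap_eq]
    · have hloc : IsLocalization.Away h (Localization.Away h) := inferInstance
      convert hloc
      · rfl
      · exact Algebra.algebra_ext (R := A') (A := Localization.Away h) _ _ (fun _ => rfl)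
    · convert isLCI_mvPolynomial (R := R) n
      exact Algebra.algebra_ext _ _ (fun _ => rfl)
    · convert isLCI_of_isStandardEtale (R := MvPolynomial (Fin n) R) (Localization.Away h)
      exact Algebra.algebra_ext _ _ (fun _ => rfl)


/-- **Cancellation of a polynomial algebra**: if `A → E` is lci and factors through `A[t]`, then
`A[t] → E` is lci. -/
theorem isLCI_cancel_mvPolynomial (n : ℕ) (E : Type u) [CommRing E] [Algebra R E]
    [Algebra (MvPolynomial (Fin n) R) E] [IsScalarTower R (MvPolynomial (Fin n) R) E]
    (h : LCI.IsLCI R E) : LCI.IsLCI (MvPolynomial (Fin n) R) E := by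
  obtain ⟨-, m, f, hf, hK⟩ := h
  let β : MvPolynomial (Fin m) (MvPolynomial (Fin n) R) →ₐ[MvPolynomial (Fin n) R] E :=
    MvPolynomial.aeval (fun i => f (MvPolynomial.X i))
  let Θ : MvPolynomial (Fin (m + n)) R ≃ₐ[R] MvPolynomial (Fin m) (MvPolynomial (Fin n) R) :=
    (MvPolynomial.renameEquiv R finSumFinEquiv).symm.trans (MvPolynomial.sumAlgEquiv R (Fin m) (Fin n))
  have hβf : ∀ p : MvPolynomial (Fin m) R,
      β (MvPolynomial.map (algebraMap R (MvPolynomial (Fin n) R)) p) = f p := by
    intro p
    induction p using MvPolynomial.induction_on with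
    | C a =>
      simp only [MvPolynomial.map_C, β, MvPolynomial.aeval_C]
      rw [← IsScalarTower.algebraMap_apply, ← MvPolynomial.algebraMap_eq, f.commutes]
    | add p q hp hq => simp only [map_add, hp, hq]
    | mul_X p i hp => simp only [map_mul, hp, MvPolynomial.map_X, β, MvPolynomial.aeval_X]
  have hβ : Function.Surjective β := fun y => by
    obtain ⟨p, rfl⟩ := hf y
    exact ⟨_, hβf p⟩
  let γ : MvPolynomial (Fin (m + n)) R →ₐ[R] E := (β.restrictScalars R).comp Θ.toAlgHom
  have hγ : Function.Surjective γ := hβ.comp Θ.surjective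
  have h1 := KoszulPres.main R E m (m + n) f hf γ hγ hK
  refine ⟨Algebra.FiniteType.of_surjective β hβ, m, β, hβ, ?_⟩
  apply KoszulPres.isKoszulRegularIdeal_of_ringEquiv Θ.toRingEquiv
  have : (RingHom.ker β.toRingHom).comap Θ.toRingEquiv.toRingHom = RingHom.ker γ.toRingHom := by
    ext x
    simp only [Ideal.mem_comap, RingHom.mem_ker]
    rfl
  rw [this]
  exact h1


/-- **Cancellation of a smooth map**: if `A → C` is lci and factors through a smooth `A → A'`,
then `A' → C` is lci. -/
theorem isLCI_cancel_smooth (A' C : Type u) [CommRing A'] [CommRing C] [Algebra R A']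
    [Algebra A' C] [Algebra R C] [IsScalarTower R A' C] [Algebra.Smooth R A']
    (h : LCI.IsLCI R C) : LCI.IsLCI A' C := by
  have key := LCICover.isLCI_of_cover (algebraMap A' C)
    {c : C | ∃ f : A', algebraMap A' C f = c ∧
      ∃ (n : ℕ) (_ : Algebra (MvPolynomial (Fin n) R) (Localization.Away f)),
      IsScalarTower R (MvPolynomial (Fin n) R) (Localization.Away f) ∧
      Algebra.IsStandardEtale (MvPolynomial (Fin n) R) (Localization.Away f)} ?_ ?_
  · convert key
    exact Algebra.algebra_ext _ _ (fun _ => rfl)
  · by_contra hne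
    obtain ⟨𝔪, h𝔪, hle⟩ := Ideal.exists_le_maximal _ hne
    haveI : 𝔪.IsPrime := h𝔪.isPrime
    haveI : (𝔪.comap (algebraMap A' C)).IsPrime := inferInstance
    haveI : Algebra.IsSmoothAt R (𝔪.comap (algebraMap A' C)) := inferInstance
    obtain ⟨f, hf, n, inst, h1, h2⟩ :=
      Algebra.IsSmoothAt.exists_isStandardEtale_mvPolynomial (R := R)
        (p := 𝔪.comap (algebraMap A' C))
    exact hf (hle (Ideal.subset_span ⟨f, rfl, n, inst, h1, h2⟩))
  · rintro _ ⟨f, rfl, n, inst, h1, h2⟩
    let δ : Localization.Away f →+* Localization.Away (algebraMap A' C f) :=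
      Localization.awayMap (algebraMap A' C) f
    have hδ : δ.comp (algebraMap A' (Localization.Away f)) =
        (algebraMap C (Localization.Away (algebraMap A' C f))).comp (algebraMap A' C) :=
      IsLocalization.map_comp _
    refine ⟨Localization.Away f, Localization.Away (algebraMap A' C f), inferInstance,
      inferInstance, algebraMap A' (Localization.Away f), δ,
      algebraMap C (Localization.Away (algebraMap A' C f)), hδ.symm, ?_, ?_, ?_⟩
    · have hloc : IsLocalization.Away (algebraMap A' C f)
          (Localization.Away (algebraMap A' C f)) := inferInstance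
      convert hloc
      · rfl
      · exact Algebra.algebra_ext (R := C) (A := Localization.Away (algebraMap A' C f)) _ _
          (fun _ => rfl)
    · convert isLCI_of_isLocalizationAway (R := A') f (Localization.Away f)
      exact Algebra.algebra_ext (R := A') (A := Localization.Away f) _ _ (fun _ => rfl)
    · -- étale cancellation over the polynomial ring
      letI : Algebra (Localization.Away f) (Localization.Away (algebraMap A' C f)) := δ.toAlgebra
      letI : Algebra (MvPolynomial (Fin n) R) (Localization.Away (algebraMap A' C f)) :=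
        (δ.comp (algebraMap (MvPolynomial (Fin n) R) (Localization.Away f))).toAlgebra
      haveI : IsScalarTower (MvPolynomial (Fin n) R) (Localization.Away f)
          (Localization.Away (algebraMap A' C f)) := .of_algebraMap_eq' rfl
      haveI : IsScalarTower R (MvPolynomial (Fin n) R) (Localization.Away (algebraMap A' C f)) := by
        refine .of_algebraMap_eq' ?_
        change _ = (δ.comp (algebraMap (MvPolynomial (Fin n) R) (Localization.Away f))).comp _
        rw [RingHom.comp_assoc, ← IsScalarTower.algebraMap_eq R (MvPolynomial (Fin n) R),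
          IsScalarTower.algebraMap_eq R A' (Localization.Away f), ← RingHom.comp_assoc, hδ,
          RingHom.comp_assoc, ← IsScalarTower.algebraMap_eq R A' C,
          ← IsScalarTower.algebraMap_eq R C]
      have h3 : LCI.IsLCI R (Localization.Away (algebraMap A' C f)) :=
        LCIComp.isLCI_comp R C _ h (isLCI_of_isLocalizationAway (algebraMap A' C f) _)
      have h4 : LCI.IsLCI (MvPolynomial (Fin n) R) (Localization.Away (algebraMap A' C f)) :=
        isLCI_cancel_mvPolynomial n _ h3
      exact SmoothLCI0.isLCI_cancel_etale (Localization.Away f) _ h4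

/-- **ring-level cancellation**: for `A → A'` smooth and `A' → C`, `A → C` surjective, the kernel of
`A → C` is Koszul-regular iff the kernel of `A' → C` is. -/
theorem isKoszulRegularIdeal_ker_iff_of_smooth {A A' C : Type u} [CommRing A] [CommRing A']
    [CommRing C] (φ : A →+* A') (ψ : A' →+* C) (hφ : φ.Smooth) (hψ : Function.Surjective ψ)
    (hχ : Function.Surjective (ψ.comp φ)) :
    LCI.IsKoszulRegularIdeal (RingHom.ker (ψ.comp φ)) ↔ LCI.IsKoszulRegularIdeal (RingHom.ker ψ) := by
  letI := φ.toAlgebra
  letI := ψ.toAlgebra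
  letI := (ψ.comp φ).toAlgebra
  haveI : IsScalarTower A A' C := .of_algebraMap_eq' rfl
  haveI : Algebra.Smooth A A' := hφ
  have h1 : LCI.IsLCI A C ↔ LCI.IsKoszulRegularIdeal (RingHom.ker (ψ.comp φ)) :=
    SmoothLCI0.isLCI_iff_ker (A := A) (C := C) hχ
  have h2 : LCI.IsLCI A' C ↔ LCI.IsKoszulRegularIdeal (RingHom.ker ψ) :=
    SmoothLCI0.isLCI_iff_ker (A := A') (C := C) hψ
  rw [← h1, ← h2]
  exact ⟨isLCI_cancel_smooth A' C, fun h => LCIComp.isLCI_comp A A' C (isLCI_of_smooth A') h⟩

end Groth.Agent.Lib.Helper9.SmoothLCI
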