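import Mathlib
import Groth.Prelude.Def_RegImm
import Groth.Agent.Lib.Helper91.KRegIdeal1
import Groth.Agent.Lib.Helper91.ImmRestrict
import Groth.Agent.Lib.Helper9.SmoothLCI

/-!
# Koszul-regular immersions into a smooth scheme over the target (helper9)

* `chart_iff` : on a common affine chart the kernels of `j` and `j ≫ p` are Koszul-regular together
* `exists_common_chart` : common affine charts around a point
* `koszul_iff_of_smooth_comp` : `j ≫ p` Koszul-regular immersion iff `j` is (for `p` smooth)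
-/


set_option autoImplicit false
set_option linter.style.haveILetI false
universe u

open CategoryTheory CategoryTheory.Limits AlgebraicGeometry TopologicalSpace Opposite

namespace Groth.Agent.Lib.Helper9.SmoothImm

open Groth.Agent.Lib.Helper9 Groth.Agent.Lib.Helper91

variable {X V V' : Scheme.{u}}

/-- on a common chart, the kernel ideals of `i` and `j` are Koszul-regular together -/
theorem chart_iff (j : X ⟶ V') (p : V' ⟶ V) [Smooth p]
    (U : V.affineOpens) (U' : V'.affineOpens) (e : U'.1 ≤ p ⁻¹ᵁ U.1)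
    [IsClosedImmersion ((j ≫ p) ∣_ U.1)] [IsClosedImmersion (j ∣_ U'.1)]
    (hW : (j ≫ p) ⁻¹ᵁ U.1 = j ⁻¹ᵁ U'.1) :
    LCI.IsKoszulRegularIdeal (RingHom.ker ((j ≫ p).app U.1).hom) ↔
      LCI.IsKoszulRegularIdeal (RingHom.ker (j.app U'.1).hom) := by
  have hφ : (p.appLE U.1 U'.1 e).hom.Smooth := p.smooth_appLE U.2 U'.2 e
  have hψ : Function.Surjective (j.app U'.1).hom := ImmStalk.app_surjective_of_restrict j U'
  have hi : Function.Surjective ((j ≫ p).app U.1).hom :=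
    ImmStalk.app_surjective_of_restrict (j ≫ p) U
  have hcomp : p.appLE U.1 U'.1 e ≫ j.app U'.1 =
      (j ≫ p).app U.1 ≫ X.presheaf.map (eqToHom hW.symm).op := by
    rw [j.app_eq_appLE, Scheme.Hom.appLE_comp_appLE, Scheme.Hom.appLE]
    rfl
  haveI : IsIso (X.presheaf.map (eqToHom hW.symm).op) := inferInstance
  have hbij : Function.Bijective (X.presheaf.map (eqToHom hW.symm).op).hom :=
    ConcreteCategory.bijective_of_isIso (X.presheaf.map (eqToHom hW.symm).op)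
  have hcomp' : (j.app U'.1).hom.comp (p.appLE U.1 U'.1 e).hom =
      (X.presheaf.map (eqToHom hW.symm).op).hom.comp ((j ≫ p).app U.1).hom := by
    rw [← CommRingCat.hom_comp, ← CommRingCat.hom_comp, hcomp]
  have hχ : Function.Surjective ((j.app U'.1).hom.comp (p.appLE U.1 U'.1 e).hom) := by
    rw [hcomp']
    exact hbij.2.comp hi
  have hker : RingHom.ker ((j.app U'.1).hom.comp (p.appLE U.1 U'.1 e).hom) =
      RingHom.ker ((j ≫ p).app U.1).hom := by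
    rw [hcomp', RingHom.ker_comp_of_injective _ hbij.1]
  rw [← hker]
  exact SmoothLCI.isKoszulRegularIdeal_ker_iff_of_smooth _ _ hφ hψ hχ

/-- a common chart for `j` and `j ≫ p` around a point -/
theorem exists_common_chart (j : X ⟶ V') [IsImmersion j] (p : V' ⟶ V) [IsImmersion (j ≫ p)]
    (z : X) (U : V.affineOpens) (hzU : (j ≫ p) z ∈ U.1) [IsClosedImmersion ((j ≫ p) ∣_ U.1)]
    (W' : V'.Opens) (hzW' : j z ∈ W') :
    ∃ (U₁ : V.affineOpens) (U'₁ : V'.affineOpens), U₁.1 ≤ U.1 ∧ U'₁.1 ≤ W' ∧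
      U'₁.1 ≤ p ⁻¹ᵁ U₁.1 ∧ (j ≫ p) z ∈ U₁.1 ∧ j z ∈ U'₁.1 ∧
      IsClosedImmersion ((j ≫ p) ∣_ U₁.1) ∧ IsClosedImmersion (j ∣_ U'₁.1) ∧
      (j ≫ p) ⁻¹ᵁ U₁.1 = j ⁻¹ᵁ U'₁.1 := by
  have hzU' : j z ∈ p ⁻¹ᵁ U.1 := hzU
  obtain ⟨U'₀, hU'₀, hzU'₀, hle⟩ := exists_isAffineOpen_mem_and_subset (x := j z)
    (U := W' ⊓ p ⁻¹ᵁ U.1 ⊓ j.coborderRange)
    ⟨⟨hzW', hzU'⟩, ImmRestrict.mem_coborderRange j z⟩
  have hle1 : U'₀ ≤ W' := hle.trans (inf_le_left.trans inf_le_left)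
  have hle2 : U'₀ ≤ p ⁻¹ᵁ U.1 := hle.trans (inf_le_left.trans inf_le_right)
  have hle3 : U'₀ ≤ j.coborderRange := hle.trans inf_le_right
  -- the open `j⁻¹ U'₀` is pulled back from `V` along the embedding `j ≫ p`
  obtain ⟨O, hO, hOeq⟩ := ((j ≫ p).isEmbedding.isInducing.isOpen_iff).mp (j ⁻¹ᵁ U'₀).2
  have hzO : (j ≫ p) z ∈ O := by
    have : z ∈ (j ≫ p) ⁻¹' O := by rw [hOeq]; exact hzU'₀
    exact this
  obtain ⟨a, ha, hza⟩ := U.2.exists_basicOpen_le (V := ⟨O, hO⟩) ⟨(j ≫ p) z, hzO⟩ hzU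
  have hpre : (j ≫ p) ⁻¹ᵁ V.basicOpen a ≤ j ⁻¹ᵁ U'₀ := by
    intro x hx
    have h1 : (j ≫ p) x ∈ O := ha hx
    have h2 : x ∈ (j ≫ p) ⁻¹' O := h1
    rw [hOeq] at h2
    exact h2
  obtain ⟨hcl₁, -⟩ := KRegIdeal.chart_basicOpen (j ≫ p) U a
  refine ⟨⟨V.basicOpen a, U.2.basicOpen a⟩,
    ⟨V'.basicOpen (p.appLE U.1 U'₀ hle2 a), hU'₀.basicOpen _⟩, V.basicOpen_le a, ?_, ?_, hza, ?_,
    hcl₁, ?_, ?_⟩
  · exact (V'.basicOpen_le _).trans hle1
  · show V'.basicOpen (p.appLE U.1 U'₀ hle2 a) ≤ _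
    rw [Scheme.basicOpen_appLE]
    exact inf_le_right
  · show j z ∈ V'.basicOpen (p.appLE U.1 U'₀ hle2 a)
    rw [Scheme.basicOpen_appLE]
    exact ⟨hzU'₀, hza⟩
  · exact ImmRestrict.isClosedImmersion_restrict j _ ((V'.basicOpen_le _).trans hle3)
  · show _ = j ⁻¹ᵁ V'.basicOpen (p.appLE U.1 U'₀ hle2 a)
    rw [Scheme.basicOpen_appLE]
    apply le_antisymm
    · intro x hx
      exact ⟨hpre hx, hx⟩
    · intro x hx
      exact hx.2

/-- **Koszul-regular immersions and smooth morphisms**: for immersions `i : X ⟶ V`, `j : X ⟶ V'`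
and `p : V' ⟶ V` smooth with `j ≫ p = i`, `i` is Koszul-regular iff `j` is. -/
theorem koszul_iff_of_smooth_comp (i : X ⟶ V) [IsImmersion i] (j : X ⟶ V') [IsImmersion j]
    (p : V' ⟶ V) [Smooth p] (h : j ≫ p = i) :
    RegImm.IsRegularImmersion .koszul i ↔ RegImm.IsRegularImmersion .koszul j := by
  subst h
  constructor
  · rintro ⟨-, hi⟩
    refine ⟨inferInstance, fun z => ?_⟩
    obtain ⟨U, hzU, hcl, rs, hrs, hker⟩ := hi z
    haveI := hcl
    obtain ⟨U₁, U'₁, hU₁, -, hle, hz₁, hz'₁, hcl₁, hcl'₁, hW⟩ :=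
      exists_common_chart j p z U hzU ⊤ trivial
    haveI := hcl₁
    haveI := hcl'₁
    obtain ⟨-, hseq, hker₁⟩ := KRegComp.shrink (j ≫ p) .koszul U hcl rs hrs hker U₁ hU₁ z hz₁
    have hK : LCI.IsKoszulRegularIdeal (RingHom.ker ((j ≫ p).app U₁.1).hom) := by
      rw [hker₁]
      exact SmoothLCI0.isKoszulRegularIdeal_ofList _ hseq
    exact KRegIdeal.isRegularImmersionAt_of_ideal j U'₁
      ((chart_iff j p U₁ U'₁ hle hW).mp hK) z hz'₁
  · rintro ⟨-, hj⟩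
    refine ⟨inferInstance, fun z => ?_⟩
    obtain ⟨U', hzU', hcl', rs, hrs, hker⟩ := hj z
    obtain ⟨U, hU, hzU, hUle⟩ := exists_isAffineOpen_mem_and_subset (x := (j ≫ p) z)
      (U := (j ≫ p).coborderRange) (ImmRestrict.mem_coborderRange _ z)
    haveI : IsClosedImmersion ((j ≫ p) ∣_ U) :=
      ImmRestrict.isClosedImmersion_restrict _ U hUle
    obtain ⟨U₁, U'₁, -, hU'₁, hle, hz₁, hz'₁, hcl₁, hcl'₁, hW⟩ :=
      exists_common_chart j p z ⟨U, hU⟩ hzU U'.1 hzU'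
    haveI := hcl₁
    haveI := hcl'₁
    obtain ⟨-, hseq, hker₁⟩ := KRegComp.shrink j .koszul U' hcl' rs hrs hker U'₁ hU'₁ z hz'₁
    have hK : LCI.IsKoszulRegularIdeal (RingHom.ker (j.app U'₁.1).hom) := by
      rw [hker₁]
      exact SmoothLCI0.isKoszulRegularIdeal_ofList _ hseq
    exact KRegIdeal.isRegularImmersionAt_of_ideal (j ≫ p) U₁
      ((chart_iff j p U₁ U'₁ hle hW).mpr hK) z hz₁

end Groth.Agent.Lib.Helper9.SmoothImm
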