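import Mathlib
import Groth.Prelude.Def_RegImm
import Groth.Agent.Lib.Helper91.KRegIdeal1
import Groth.Agent.Lib.Helper91.ImmRestrict
import Groth.Agent.Lib.Helper9.SmoothImm

/-!
# Immersions of local complete intersections into smooth schemes are Koszul-regular (helper9)

* `isIso_ι_app`, `isRegularImmersionAt_of_opens` : Koszul-regularity at a point is local on the source
* `koszul_of_lci_into_smooth`
-/


set_option autoImplicit false
set_option linter.style.haveILetI false
universe u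

open CategoryTheory CategoryTheory.Limits AlgebraicGeometry TopologicalSpace Opposite

namespace Groth.Agent.Lib.Helper9.SmoothImm2

open Groth.Agent.Lib.Helper9 Groth.Agent.Lib.Helper91

variable {X Y Z : Scheme.{u}}

theorem isIso_ι_app (U : X.Opens) (V' : X.Opens) (h : V' ≤ U) : IsIso (U.ι.app V') := by
  have e : U.ι ''ᵁ U.ι ⁻¹ᵁ V' = V' := by
    rw [Scheme.Hom.image_preimage_eq_opensRange_inf, Scheme.Opens.opensRange_ι]
    exact inf_eq_right.mpr h
  have h2 : IsIso (X.presheaf.map (eqToHom e).op) := inferInstance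
  exact h2

/-- Koszul-regularity of an immersion at a point can be checked on an open neighbourhood in the
source. -/
theorem isRegularImmersionAt_of_opens (i : X ⟶ Z) [IsImmersion i] (U : X.Opens) (x : U)
    (h : RegImm.IsRegularImmersionAt .koszul (U.ι ≫ i) x) :
    RegImm.IsRegularImmersionAt .koszul i x.1 := by
  obtain ⟨W, hxW, hcl, rs, hrs, hker⟩ := h
  obtain ⟨O, hO, hOeq⟩ := (i.isEmbedding.isInducing.isOpen_iff).mp U.2
  have hxO : i x.1 ∈ O := by
    have : x.1 ∈ i ⁻¹' O := by rw [hOeq]; exact x.2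
    exact this
  have hxW' : i x.1 ∈ W.1 := hxW
  obtain ⟨W₁, hW₁, hxW₁, hle⟩ := exists_isAffineOpen_mem_and_subset (x := i x.1)
    (U := W.1 ⊓ ⟨O, hO⟩ ⊓ i.coborderRange)
    ⟨⟨hxW', hxO⟩, ImmRestrict.mem_coborderRange i x.1⟩
  have hle1 : W₁ ≤ W.1 := hle.trans (inf_le_left.trans inf_le_left)
  have hle2 : W₁ ≤ ⟨O, hO⟩ := hle.trans (inf_le_left.trans inf_le_right)
  have hle3 : W₁ ≤ i.coborderRange := hle.trans inf_le_right
  obtain ⟨-, hseq, hker₁⟩ :=
    KRegComp.shrink (U.ι ≫ i) .koszul W hcl rs hrs hker ⟨W₁, hW₁⟩ hle1 x hxW₁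
  have hpre : i ⁻¹ᵁ W₁ ≤ U := by
    intro y hy
    have h1 : y ∈ i ⁻¹' O := hle2 hy
    rw [hOeq] at h1
    exact h1
  haveI := isIso_ι_app U (i ⁻¹ᵁ W₁) hpre
  have hinj : Function.Injective (U.ι.app (i ⁻¹ᵁ W₁)).hom :=
    (ConcreteCategory.bijective_of_isIso (U.ι.app (i ⁻¹ᵁ W₁))).1
  have hkeq : RingHom.ker (i.app W₁).hom = RingHom.ker ((U.ι ≫ i).app W₁).hom := by
    ext a
    rw [RingHom.mem_ker, RingHom.mem_ker]
    have h2 : ((U.ι ≫ i).app W₁).hom a = (U.ι.app (i ⁻¹ᵁ W₁)).hom ((i.app W₁).hom a) := rfl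
    rw [h2]
    constructor
    · intro h3
      rw [h3]
      exact map_zero _
    · intro h3
      apply hinj
      rw [h3]
      exact (map_zero _).symm
  exact ⟨⟨W₁, hW₁⟩, hxW₁, ImmRestrict.isClosedImmersion_restrict i W₁ hle3, _, hseq,
    hkeq.trans hker₁⟩

/-- an immersion of a local complete intersection (factorisation sense) into a smooth scheme over
the base is Koszul-regular -/
theorem koszul_of_lci_into_smooth (f : X ⟶ Y) (hf : ∀ x : X, Synt.IsKoszulAt f x)
    (p : Z ⟶ Y) [Smooth p] (i : X ⟶ Z) [IsImmersion i] (h : i ≫ p = f) :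
    RegImm.IsRegularImmersion .koszul i := by
  refine ⟨inferInstance, fun x => ?_⟩
  obtain ⟨U, P, i₀, π, hxU, -, hi₀, hπ, hfac⟩ := hf x
  haveI := hπ
  haveI := hi₀.1
  let k : (U : Scheme.{u}) ⟶ pullback π p :=
    pullback.lift i₀ (U.ι ≫ i) (by rw [hfac, Category.assoc, h])
  have hk1 : k ≫ pullback.fst π p = i₀ := pullback.lift_fst _ _ _
  have hk2 : k ≫ pullback.snd π p = U.ι ≫ i := pullback.lift_snd _ _ _
  haveI : IsImmersion (k ≫ pullback.fst π p) := by rw [hk1]; infer_instance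
  haveI : IsImmersion k := IsImmersion.of_comp k (pullback.fst π p)
  have hk : RegImm.IsRegularImmersion .koszul k :=
    (SmoothImm.koszul_iff_of_smooth_comp i₀ k (pullback.fst π p) hk1).mp hi₀
  have hUi : RegImm.IsRegularImmersion .koszul (U.ι ≫ i) :=
    (SmoothImm.koszul_iff_of_smooth_comp (U.ι ≫ i) k (pullback.snd π p) hk2).mpr hk
  exact isRegularImmersionAt_of_opens i U ⟨x, hxU⟩ (hUi.2 ⟨x, hxU⟩)

end Groth.Agent.Lib.Helper9.SmoothImm2
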