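import Mathlib
import Groth.Prelude.Def_RegImm
import Groth.Agent.Lib.Helper9.SmoothImm2

/-!
# Local complete intersection morphisms: factorisation sense vs affine-local ring maps (helper9)

* `ringHomLCI_comp`, `ringHomLCI_of_smooth`, `ringHomLCI_of_surjective` : ring-hom forms
* `exists_affine_isLCI_of_isKoszulAt` : a Koszul point has an affine neighbourhood mapping into any
  given affine open of the target with a local complete intersection ring map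
* `isKoszulAt_of_affine_isLCI` : conversely
* `isKoszulAt_comp` : composition
-/


set_option autoImplicit false
set_option linter.style.haveILetI false
universe u

open CategoryTheory CategoryTheory.Limits AlgebraicGeometry TopologicalSpace Opposite

namespace Groth.Agent.Lib.Helper9.LciMor2

open Groth.Agent.Lib.Helper9 Groth.Agent.Lib.Helper91

section ring

variable {A B C : Type u} [CommRing A] [CommRing B] [CommRing C]

theorem ringHomLCI_comp (φ : A →+* B) (ψ : B →+* C)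
    (hφ : @LCI.IsLCI A _ B _ φ.toAlgebra) (hψ : @LCI.IsLCI B _ C _ ψ.toAlgebra) :
    @LCI.IsLCI A _ C _ (ψ.comp φ).toAlgebra := by
  letI := φ.toAlgebra
  letI := ψ.toAlgebra
  letI := (ψ.comp φ).toAlgebra
  haveI : IsScalarTower A B C := .of_algebraMap_eq' rfl
  exact LCIComp.isLCI_comp A B C hφ hψ

theorem ringHomLCI_of_smooth (φ : A →+* B) (hφ : φ.Smooth) :
    @LCI.IsLCI A _ B _ φ.toAlgebra := by
  letI := φ.toAlgebra
  haveI : Algebra.Smooth A B := hφ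
  exact SmoothLCI.isLCI_of_smooth B

theorem ringHomLCI_of_surjective (ψ : B →+* C) (hψ : Function.Surjective ψ)
    (hK : LCI.IsKoszulRegularIdeal (RingHom.ker ψ)) : @LCI.IsLCI B _ C _ ψ.toAlgebra := by
  letI := ψ.toAlgebra
  exact (SmoothLCI0.isLCI_iff_ker (A := B) (C := C) hψ).mpr hK

end ring

variable {X Y : Scheme.{u}}

theorem appLE_ι_image (f : X ⟶ Y) (U₀ : X.Opens) (W₀ : U₀.toScheme.Opens) (V : Y.Opens)
    (e : U₀.ι ''ᵁ W₀ ≤ f ⁻¹ᵁ V) (e' : W₀ ≤ (U₀.ι ≫ f) ⁻¹ᵁ V) :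
    f.appLE V (U₀.ι ''ᵁ W₀) e = (U₀.ι ≫ f).appLE V W₀ e' := by
  have e'' : W₀ ≤ U₀.ι ⁻¹ᵁ (U₀.ι ''ᵁ W₀) := by
    intro y hy
    exact ⟨y, hy, rfl⟩
  rw [← Scheme.Hom.appLE_comp_appLE U₀.ι f V (U₀.ι ''ᵁ W₀) W₀ e e'']
  rw [Scheme.Opens.ι_appLE]
  have : homOfLE (x := U₀.ι ''ᵁ W₀) (y := U₀.ι ''ᵁ W₀) (Set.image_subset_iff.mpr e'') = 𝟙 _ :=
    Subsingleton.elim _ _
  rw [this]
  have h2 : X.presheaf.map (𝟙 (U₀.ι ''ᵁ W₀)).op = 𝟙 _ := by simp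
  rw [h2]
  exact (Category.comp_id (f.appLE V (U₀.ι ''ᵁ W₀) e)).symm

theorem appLE_congr_hom {Z : Scheme.{u}} (k k' : Z ⟶ Y) (hk : k = k') (V : Y.Opens) (W : Z.Opens)
    (e : W ≤ k ⁻¹ᵁ V) (e' : W ≤ k' ⁻¹ᵁ V) : k.appLE V W e = k'.appLE V W e' := by
  subst hk
  rfl

/-- a Koszul point has, over any affine open of the target, an affine neighbourhood with a
local complete intersection ring map -/
theorem exists_affine_isLCI_of_isKoszulAt (f : X ⟶ Y) (x : X) (h : Synt.IsKoszulAt f x)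
    (V : Y.affineOpens) (hxV : f x ∈ V.1) :
    ∃ (U : X.affineOpens) (e : U.1 ≤ f ⁻¹ᵁ V.1), x ∈ U.1 ∧
      @LCI.IsLCI Γ(Y, V.1) _ Γ(X, U.1) _ (f.appLE V.1 U.1 e).hom.toAlgebra := by
  obtain ⟨U₀, P, i₀, π, hxU₀, -, ⟨himm, hreg⟩, hπ, hfac⟩ := h
  haveI := hπ
  haveI := himm
  obtain ⟨T, hxT, hcl, rs, hrs, hker⟩ := hreg ⟨x, hxU₀⟩
  have hpt : ∀ y : U₀, π (i₀ y) = f y.1 := by
    intro y
    have h1 : (i₀ ≫ π) y = (U₀.ι ≫ f) y := by rw [hfac]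
    exact h1
  obtain ⟨T₁, hT₁, hxT₁, hle⟩ := exists_isAffineOpen_mem_and_subset (x := i₀ ⟨x, hxU₀⟩)
    (U := T.1 ⊓ π ⁻¹ᵁ V.1) ⟨hxT, by
      show π (i₀ ⟨x, hxU₀⟩) ∈ V.1
      rw [hpt]
      exact hxV⟩
  have hle1 : T₁ ≤ T.1 := hle.trans inf_le_left
  have hle2 : T₁ ≤ π ⁻¹ᵁ V.1 := hle.trans inf_le_right
  obtain ⟨hcl₁, hseq, hker₁⟩ :=
    KRegComp.shrink i₀ .koszul T hcl rs hrs hker ⟨T₁, hT₁⟩ hle1 ⟨x, hxU₀⟩ hxT₁
  haveI : IsClosedImmersion (i₀ ∣_ (⟨T₁, hT₁⟩ : P.affineOpens).1) := hcl₁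
  have hW₀ : IsAffineOpen (i₀ ⁻¹ᵁ T₁) :=
    ImmStalk.isAffineOpen_preimage_of_restrict i₀ ⟨T₁, hT₁⟩
  have hsurj : Function.Surjective (i₀.app T₁).hom :=
    ImmStalk.app_surjective_of_restrict i₀ ⟨T₁, hT₁⟩
  have e : U₀.ι ''ᵁ (i₀ ⁻¹ᵁ T₁) ≤ f ⁻¹ᵁ V.1 := by
    rintro _ ⟨y, hy, rfl⟩
    show f (U₀.ι y) ∈ V.1
    have h1 : f (U₀.ι y) = π (i₀ y) := (hpt y).symm
    rw [h1]
    exact hle2 hy
  refine ⟨⟨U₀.ι ''ᵁ (i₀ ⁻¹ᵁ T₁), hW₀.image_of_isOpenImmersion U₀.ι⟩, e,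
    ⟨⟨x, hxU₀⟩, hxT₁, rfl⟩, ?_⟩
  have h1 : @LCI.IsLCI _ _ _ _ (π.appLE V.1 T₁ hle2).hom.toAlgebra :=
    ringHomLCI_of_smooth _ (π.smooth_appLE V.2 hT₁ hle2)
  have h2 : @LCI.IsLCI _ _ _ _ (i₀.app T₁).hom.toAlgebra :=
    ringHomLCI_of_surjective _ hsurj (by
      rw [hker₁]
      exact SmoothLCI0.isKoszulRegularIdeal_ofList _ hseq)
  have h3 := ringHomLCI_comp _ _ h1 h2
  have key : (f.appLE V.1 (U₀.ι ''ᵁ (i₀ ⁻¹ᵁ T₁)) e).hom =
      (i₀.app T₁).hom.comp (π.appLE V.1 T₁ hle2).hom := by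
    have e' : i₀ ⁻¹ᵁ T₁ ≤ (U₀.ι ≫ f) ⁻¹ᵁ V.1 := by
      intro y hy
      show f (U₀.ι y) ∈ V.1
      have h1 : f (U₀.ι y) = π (i₀ y) := (hpt y).symm
      rw [h1]
      exact hle2 hy
    have e'' : i₀ ⁻¹ᵁ T₁ ≤ (i₀ ≫ π) ⁻¹ᵁ V.1 := fun y hy => hle2 hy
    have k1 : f.appLE V.1 (U₀.ι ''ᵁ (i₀ ⁻¹ᵁ T₁)) e = π.appLE V.1 T₁ hle2 ≫ i₀.app T₁ := by
      rw [appLE_ι_image f U₀ (i₀ ⁻¹ᵁ T₁) V.1 e e',
        ← appLE_congr_hom (i₀ ≫ π) (U₀.ι ≫ f) hfac V.1 (i₀ ⁻¹ᵁ T₁) e'' e',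
        i₀.app_eq_appLE, Scheme.Hom.appLE_comp_appLE]
    rw [k1]
    rfl
  rw [key]
  exact h3

theorem koszul_comap_equiv {T T' : Type u} [CommRing T] [CommRing T'] (θ : T' ≃+* T) (I : Ideal T)
    (h : LCI.IsKoszulRegularIdeal I) : LCI.IsKoszulRegularIdeal (I.comap θ.toRingHom) := by
  have h0 : (I.comap θ.toRingHom).comap θ.symm.toRingHom = I := by
    ext a
    rw [Ideal.mem_comap, Ideal.mem_comap]
    show θ (θ.symm a) ∈ I ↔ a ∈ I
    rw [RingEquiv.apply_symm_apply]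
  apply KoszulPres.isKoszulRegularIdeal_of_ringEquiv θ.symm
  rw [h0]
  exact h

/-- a local complete intersection ring map between affine opens gives a Koszul point -/
theorem isKoszulAt_of_affine_isLCI (f : X ⟶ Y) (x : X) (U : X.affineOpens) (V : Y.affineOpens)
    (e : U.1 ≤ f ⁻¹ᵁ V.1) (hx : x ∈ U.1)
    (h : @LCI.IsLCI Γ(Y, V.1) _ Γ(X, U.1) _ (f.appLE V.1 U.1 e).hom.toAlgebra) :
    Synt.IsKoszulAt f x := by
  letI := (f.appLE V.1 U.1 e).hom.toAlgebra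
  obtain ⟨hft, n, φ, hφ, hK⟩ := h
  have hU : IsAffineOpen U.1 := U.2
  have hV : IsAffineOpen V.1 := V.2
  let c : Γ(Y, V.1) ⟶ CommRingCat.of (MvPolynomial (Fin n) Γ(Y, V.1)) :=
    CommRingCat.ofHom (algebraMap Γ(Y, V.1) (MvPolynomial (Fin n) Γ(Y, V.1)))
  let φ' : CommRingCat.of (MvPolynomial (Fin n) Γ(Y, V.1)) ⟶ Γ(X, U.1) :=
    CommRingCat.ofHom φ.toRingHom
  let π : Spec (CommRingCat.of (MvPolynomial (Fin n) Γ(Y, V.1))) ⟶ Y :=
    Spec.map c ≫ hV.fromSpec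
  let i₀ : (U.1 : Scheme.{u}) ⟶ Spec (CommRingCat.of (MvPolynomial (Fin n) Γ(Y, V.1))) :=
    hU.isoSpec.hom ≫ Spec.map φ'
  have hcφ : c ≫ φ' = f.appLE V.1 U.1 e := by
    ext a
    exact φ.commutes a
  have hfac : i₀ ≫ π = U.1.ι ≫ f := by
    simp only [i₀, π, Category.assoc]
    rw [← Spec.map_comp_assoc, hcφ, IsAffineOpen.SpecMap_appLE_fromSpec f hV hU e,
      IsAffineOpen.isoSpec_hom_fromSpec_assoc]
  haveI : Smooth (Spec.map c) := by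
    rw [HasRingHomProperty.Spec_iff (P := @Smooth)]
    show (algebraMap Γ(Y, V.1) (MvPolynomial (Fin n) Γ(Y, V.1))).Smooth
    exact RingHom.smooth_algebraMap.mpr (by constructor <;> infer_instance)
  haveI : Smooth π := inferInstance
  haveI : IsClosedImmersion (Spec.map φ') := IsClosedImmersion.spec_of_surjective φ' hφ
  haveI : IsClosedImmersion i₀ := inferInstance
  refine ⟨U.1, _, i₀, π, hx, ?_, ⟨inferInstance, fun z => ?_⟩, inferInstance, hfac⟩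
  · rw [← hfac]
    infer_instance
  · haveI : IsClosedImmersion (i₀ ∣_ (⟨⊤, isAffineOpen_top _⟩ :
        (Spec (CommRingCat.of (MvPolynomial (Fin n) Γ(Y, V.1)))).affineOpens).1) :=
      IsZariskiLocalAtTarget.restrict ‹IsClosedImmersion i₀› _
    refine KRegIdeal.isRegularImmersionAt_of_ideal i₀ ⟨⊤, isAffineOpen_top _⟩ ?_ z trivial
    let θ : Γ(Spec (CommRingCat.of (MvPolynomial (Fin n) Γ(Y, V.1))), ⊤) ≃+*
        MvPolynomial (Fin n) Γ(Y, V.1) :=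
      (Scheme.ΓSpecIso (CommRingCat.of (MvPolynomial (Fin n) Γ(Y, V.1)))).commRingCatIsoToRingEquiv
    have hker : RingHom.ker (i₀.app ⊤).hom = (RingHom.ker φ.toRingHom).comap θ.toRingHom := by
      ext a
      rw [RingHom.mem_ker, Ideal.mem_comap, RingHom.mem_ker]
      have h1 : (i₀.app ⊤).hom a =
          (hU.isoSpec.hom.app ((Spec.map φ') ⁻¹ᵁ ⊤)).hom (((Spec.map φ').app ⊤).hom a) := rfl
      have hinj1 : Function.Injective (hU.isoSpec.hom.app ((Spec.map φ') ⁻¹ᵁ ⊤)).hom :=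
        (ConcreteCategory.bijective_of_isIso (hU.isoSpec.hom.app ((Spec.map φ') ⁻¹ᵁ ⊤))).1
      have hinj2 : Function.Injective (Scheme.ΓSpecIso Γ(X, U.1)).hom.hom :=
        (ConcreteCategory.bijective_of_isIso (Scheme.ΓSpecIso Γ(X, U.1)).hom).1
      have h2 : (Scheme.ΓSpecIso Γ(X, U.1)).hom.hom (((Spec.map φ').app ⊤).hom a) =
          φ (θ a) := by
        have := congr($(Scheme.ΓSpecIso_naturality φ') a)
        exact this
      rw [h1]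
      constructor
      · intro h3
        have h4 : ((Spec.map φ').app ⊤).hom a = 0 := hinj1 (by rw [h3]; exact (map_zero _).symm)
        have h5 : φ (θ a) = 0 := by rw [← h2, h4]; exact map_zero _
        exact h5
      · intro h3
        have h5 : φ (θ a) = 0 := h3
        have h4 : ((Spec.map φ').app ⊤).hom a = 0 :=
          hinj2 (by rw [h2, h5]; exact (map_zero _).symm)
        rw [h4]
        exact map_zero _
    rw [hker]
    exact koszul_comap_equiv θ _ hK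

/-- **composition of local complete intersection morphisms (factorisation sense)** -/
theorem isKoszulAt_comp {Z : Scheme.{u}} (f : X ⟶ Y) (g : Y ⟶ Z)
    (hf : ∀ x : X, Synt.IsKoszulAt f x) (hg : ∀ y : Y, Synt.IsKoszulAt g y) (x : X) :
    Synt.IsKoszulAt (f ≫ g) x := by
  obtain ⟨W, hW, hzW, -⟩ := exists_isAffineOpen_mem_and_subset (x := g (f x)) (U := ⊤) trivial
  obtain ⟨V, eV, hyV, hLV⟩ :=
    exists_affine_isLCI_of_isKoszulAt g (f x) (hg (f x)) ⟨W, hW⟩ hzW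
  obtain ⟨U, eU, hxU, hLU⟩ := exists_affine_isLCI_of_isKoszulAt f x (hf x) V hyV
  have e : U.1 ≤ (f ≫ g) ⁻¹ᵁ W := fun y hy => eV (eU hy)
  refine isKoszulAt_of_affine_isLCI (f ≫ g) x U ⟨W, hW⟩ e hxU ?_
  have h3 := ringHomLCI_comp _ _ hLV hLU
  have key : ((f ≫ g).appLE W U.1 e).hom =
      (f.appLE V.1 U.1 eU).hom.comp (g.appLE W V.1 eV).hom := by
    rw [← CommRingCat.hom_comp, Scheme.Hom.appLE_comp_appLE]
  rw [key]
  exact h3

end Groth.Agent.Lib.Helper9.LciMor2
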