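import Mathlib
import Groth.Prelude.Def_W4c2gaugesfzipsQuiet
import Groth.Prelude.Def_LCI2
import Groth.Agent.Lib.Helper9.SmoothLCI
import Groth.Agent.Lib.Helper9.LCIComp
import Groth.Agent.Lib.Helper9.LCICover
import Groth.Agent.Lib.Helper9.LciMor2

/-! helper9: a tower of p-th root extractions is flat and a local complete intersection (ring level). -/

set_option autoImplicit false
universe u

namespace Groth.Agent.Lib.Helper9.RootLCI
open Polynomial Groth.Agent.Lib.Helper9

theorem rootRing_flat (p : ℕ) (hp : p ≠ 0) (A : Type u) [CommRing A] (a : A) :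
    Module.Flat A (Quiet.RootRing p A a) := by
  have hm : (X ^ p - C a : A[X]).Monic := monic_X_pow_sub_C a hp
  haveI : Module.Free A (AdjoinRoot (X ^ p - C a : A[X])) := hm.free_adjoinRoot
  infer_instance

theorem adjoinRoot_lci (A : Type u) [CommRing A] (f : A[X]) (hf : f.Monic) :
    LCI.IsLCI A (AdjoinRoot f) := by
  have h1 : @LCI.IsLCI A _ A[X] _ (C : A →+* A[X]).toAlgebra := by
    apply LciMor2.ringHomLCI_of_smooth
    have : (algebraMap A A[X]).Smooth := RingHom.smooth_algebraMap.mpr ⟨inferInstance, inferInstance⟩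
    exact this
  have h2 : @LCI.IsLCI A[X] _ (AdjoinRoot f) _ (AdjoinRoot.mk f).toAlgebra := by
    apply LciMor2.ringHomLCI_of_surjective _ AdjoinRoot.mk_surjective
    have hker : RingHom.ker (AdjoinRoot.mk f) = Ideal.ofList [f] := by
      rw [Ideal.ofList_singleton]
      exact Ideal.mk_ker
    rw [hker]
    apply SmoothLCI0.isKoszulRegularIdeal_ofList
    apply SmoothLCI.isKoszulRegularSeq_singleton
    exact hf.isRegular.left.isSMulRegular
  have h3 := LciMor2.ringHomLCI_comp _ _ h1 h2
  have : ((AdjoinRoot.mk f).comp (C : A →+* A[X])).toAlgebra = (inferInstance : Algebra A (AdjoinRoot f)) := by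
    apply Algebra.algebra_ext
    intro r
    rfl
  rw [this] at h3
  exact h3

theorem flat_lci (p : ℕ) (hp : p ≠ 0) : ∀ (n : ℕ) (A B : Type u) [CommRing A] [CommRing B]
    [Algebra A B], Quiet.IsRootTower p n A B → Module.Flat A B ∧ LCI.IsLCI A B
  | 0, A, B, _, _, _, h => by
    obtain ⟨e⟩ := h
    refine ⟨Module.Flat.of_linearEquiv e.toLinearEquiv, ?_⟩
    exact LCICover.isLCI_of_algEquiv e.symm (SmoothLCI.isLCI_of_smooth A)
  | n + 1, A, B, _, _, _, h => by
    obtain ⟨a, alg, hst, h'⟩ := h
    obtain ⟨hfl, hl⟩ := flat_lci p hp n _ B h'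
    haveI := rootRing_flat p hp A a
    refine ⟨Module.Flat.trans A (Quiet.RootRing p A a) B, ?_⟩
    exact LCIComp.isLCI_comp A (Quiet.RootRing p A a) B
      (adjoinRoot_lci A _ (monic_X_pow_sub_C a hp)) hl

end Groth.Agent.Lib.Helper9.RootLCI
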