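import Mathlib
import Groth.Prelude.Def_W4c2gaugesfzipsQuiet
import Groth.Prelude.Def_LCI2
import Groth.Prelude.Def_RegImm
import Groth.Agent.Lib.Helper9.RootLCI
import Groth.Agent.Lib.Helper9.LciMor2
import Groth.Agent.Lib.Helper8.SyntLCI
import Groth.Agent.S9758

/-! helper9: p-th root morphisms are flat and Koszul everywhere; quasi-etale morphisms are syntomic. -/

set_option autoImplicit false
universe u

namespace Groth.Agent.Lib.Helper9.RootLCI2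
open AlgebraicGeometry CategoryTheory Groth.Agent.Lib.Helper9

theorem isPthRoot_flat_koszul (p : ℕ) (hp : p ≠ 0) {V Y' : Scheme.{u}} (r : V ⟶ Y')
    (hr : Quiet.IsPthRoot p r) : Flat r ∧ ∀ v : V, Synt.IsKoszulAt r v := by
  have key : ∀ v : V, ∃ (U : Y'.affineOpens) (W : V.affineOpens) (e : W.1 ≤ r ⁻¹ᵁ U.1), v ∈ W.1 ∧
      (r.appLE U.1 W.1 e).hom.Flat ∧
      @LCI.IsLCI Γ(Y', U.1) _ Γ(V, W.1) _ (r.appLE U.1 W.1 e).hom.toAlgebra := by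
    intro v
    obtain ⟨U, hxU, hW, n, hn⟩ := hr (r v)
    refine ⟨U, ⟨r ⁻¹ᵁ U.1, hW⟩, le_rfl, hxU, ?_⟩
    have h := @Groth.Agent.Lib.Helper9.RootLCI.flat_lci p hp n _ _ _ _ (r.app U.1).hom.toAlgebra hn
    rw [Scheme.Hom.app_eq_appLE] at h
    exact h
  constructor
  · have hQ : RingHom.StableUnderCompositionWithLocalizationAwaySource RingHom.Flat := by
      intro R S T _ _ _ _ r _ f hf
      refine RingHom.Flat.comp ?_ hf
      rw [RingHom.flat_algebraMap_iff]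
      exact IsLocalization.flat S (Submonoid.powers r)
    rw [HasRingHomProperty.iff_exists_appLE (P := @Flat) hQ]
    intro v
    obtain ⟨U, W, e, hv, hfl, -⟩ := key v
    exact ⟨U, W, hv, e, hfl⟩
  · intro v
    obtain ⟨U, W, e, hv, -, hl⟩ := key v
    exact LciMor2.isKoszulAt_of_affine_isLCI r v W U e hv hl

theorem isKoszulAt_of_smooth {X Y : Scheme.{u}} (g : X ⟶ Y) [Smooth g] (x : X) :
    Synt.IsKoszulAt g x := by
  obtain ⟨V, hV, hxV, -⟩ :=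
    exists_isAffineOpen_mem_and_subset (x := g x) (U := ⊤) trivial
  obtain ⟨U, hU, hxU, hUV⟩ :=
    exists_isAffineOpen_mem_and_subset (x := x) (U := g ⁻¹ᵁ V) hxV
  exact LciMor2.isKoszulAt_of_affine_isLCI g x ⟨U, hU⟩ ⟨V, hV⟩
    hUV hxU (LciMor2.ringHomLCI_of_smooth _ (g.smooth_appLE hV hU hUV))

theorem isSyntomicAt_of_ι {X Y : Scheme.{u}} (f : Y ⟶ X) (V : Y.Opens) (y : V)
    (h : Synt.IsSyntomicAt (V.ι ≫ f) y) : Synt.IsSyntomicAt f y.1 := by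
  obtain ⟨U, W, e, hyU, hsyn⟩ := h
  have e' : V.ι ''ᵁ U.1 ≤ f ⁻¹ᵁ W.1 := by
    rintro _ ⟨z, hz, rfl⟩
    exact e hz
  refine ⟨⟨V.ι ''ᵁ U.1, U.2.image_of_isOpenImmersion V.ι⟩, W, e', ⟨y, hyU, rfl⟩, ?_⟩
  have h0 := LciMor2.appLE_ι_image f V U.1 W.1 e' e
  show @Synt.IsSyntomic Γ(X, W.1) _ Γ(Y, V.ι ''ᵁ U.1) _ (f.appLE W.1 (V.ι ''ᵁ U.1) e').hom.toAlgebra
  rw [h0]
  exact hsyn

theorem isSyntomicMor_of_isQuiet (p : ℕ) (hp : p ≠ 0) {X Y : Scheme.{u}} (f : Y ⟶ X)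
    (hf : Quiet.IsQuiet p f) : Synt.IsSyntomicMor f := by
  intro y
  obtain ⟨V, Y', r, e, hyV, hr, he, hfac⟩ := hf y
  haveI := he
  obtain ⟨hrf, hrk⟩ := isPthRoot_flat_koszul p hp r hr
  haveI := hrf
  have h1 : Flat (r ≫ e) ∧ ∀ v : V, Synt.IsKoszulAt (r ≫ e) v :=
    ⟨inferInstance, fun v => LciMor2.isKoszulAt_comp r e hrk (fun y => isKoszulAt_of_smooth e y) v⟩
  rw [hfac] at h1
  have h2 := (Groth.Agent.S9758.result (V.ι ≫ f)).mp h1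
  exact isSyntomicAt_of_ι f V ⟨y, hyV⟩ (h2 ⟨y, hyV⟩)

end Groth.Agent.Lib.Helper9.RootLCI2
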