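import Mathlib
import Groth.Prelude.Def_RegImm
import Groth.Agent.Lib.Helper9.LciMor2

/-!
# Koszul at every point implies local complete intersection ring maps on all affine pairs (helper9)

* `isLCI_appLE_of_isKoszulAt`
-/


set_option autoImplicit false
set_option linter.style.haveILetI false
universe u

open CategoryTheory CategoryTheory.Limits AlgebraicGeometry TopologicalSpace Opposite

namespace Groth.Agent.Lib.Helper9.LciMor3

open Groth.Agent.Lib.Helper9 Groth.Agent.Lib.Helper91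

variable {X Y : Scheme.{u}}

/-- a morphism which is Koszul at every point induces local complete intersection ring maps on all
pairs of affine opens -/
theorem isLCI_appLE_of_isKoszulAt (f : X ⟶ Y) (hf : ∀ x : X, Synt.IsKoszulAt f x)
    (U : X.Opens) (V : Y.Opens) (hU : IsAffineOpen U) (hV : IsAffineOpen V) (e : U ≤ f ⁻¹ᵁ V) :
    @LCI.IsLCI Γ(Y, V) _ Γ(X, U) _ (f.appLE V U e).hom.toAlgebra := by
  refine LCICover.isLCI_of_cover (f.appLE V U e).hom
    {b : Γ(X, U) | ∃ (U₁ : X.affineOpens) (e₁ : U₁.1 ≤ f ⁻¹ᵁ V) (b' : Γ(X, U₁.1)),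
      X.basicOpen b = X.basicOpen b' ∧
      @LCI.IsLCI Γ(Y, V) _ Γ(X, U₁.1) _ (f.appLE V U₁.1 e₁).hom.toAlgebra} ?_ ?_
  · rw [← hU.self_le_iSup_basicOpen_iff]
    intro x hx
    obtain ⟨U₁, e₁, hx₁, hL⟩ :=
      LciMor2.exists_affine_isLCI_of_isKoszulAt f x (hf x) ⟨V, hV⟩ (e hx)
    obtain ⟨b, b', hbb', hxb⟩ := exists_basicOpen_le_affine_inter hU U₁.2 x ⟨hx, hx₁⟩
    simp only [Opens.mem_iSup]
    exact ⟨⟨b, U₁, e₁, b', hbb', hL⟩, hxb⟩
  · rintro b ⟨U₁, e₁, b', hbb', hL⟩
    have hle₁ : X.basicOpen b' ≤ U₁.1 := X.basicOpen_le b'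
    have hle : X.basicOpen b' ≤ U := hbb' ▸ X.basicOpen_le b
    refine ⟨Γ(X, U₁.1), Γ(X, X.basicOpen b'), inferInstance, inferInstance,
      (f.appLE V U₁.1 e₁).hom, (X.presheaf.map (homOfLE hle₁).op).hom,
      (X.presheaf.map (homOfLE hle).op).hom, ?_, ?_, hL, ?_⟩
    · rw [← CommRingCat.hom_comp, ← CommRingCat.hom_comp, Scheme.Hom.appLE_map,
        Scheme.Hom.appLE_map]
    · exact hU.isLocalization_of_eq_basicOpen b (homOfLE hle) hbb'.symm
    · have hloc : @IsLocalization.Away _ _ b' Γ(X, X.basicOpen b') _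
          (X.presheaf.map (homOfLE hle₁).op).hom.toAlgebra :=
        U₁.2.isLocalization_of_eq_basicOpen b' (homOfLE hle₁) rfl
      letI := (X.presheaf.map (homOfLE hle₁).op).hom.toAlgebra
      exact SmoothLCI.isLCI_of_isLocalizationAway b' _

end Groth.Agent.Lib.Helper9.LciMor3
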