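import Mathlib
import Groth.Prelude.Def_RegImm
import Groth.Agent.Lib.Helper9.SmoothImm2

/-!
# Local complete intersection morphisms (factorisation sense): cancelling a smooth morphism (helper9)

* `isKoszulAt_of_comp_smooth` : `f ≫ g` Koszul at `x`, `g` smooth ⟹ `f` Koszul at `x`
-/


set_option autoImplicit false
set_option linter.style.haveILetI false
universe u

open CategoryTheory CategoryTheory.Limits AlgebraicGeometry TopologicalSpace Opposite

namespace Groth.Agent.Lib.Helper9.LciMor1

open Groth.Agent.Lib.Helper9 Groth.Agent.Lib.Helper91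

variable {X Y S : Scheme.{u}}

/-- if `f ≫ g` is Koszul at `x` and `g` is smooth, then `f` is Koszul at `x` -/
theorem isKoszulAt_of_comp_smooth (f : X ⟶ Y) (g : Y ⟶ S) [Smooth g] (x : X)
    (h : Synt.IsKoszulAt (f ≫ g) x) : Synt.IsKoszulAt f x := by
  obtain ⟨U, P, i₀, π, hxU, hlft, hi₀, hπ, hfac⟩ := h
  haveI := hπ
  haveI := hi₀.1
  haveI := hlft
  let k : (U : Scheme.{u}) ⟶ pullback π g :=
    pullback.lift i₀ (U.ι ≫ f) (by rw [hfac, Category.assoc])
  have hk1 : k ≫ pullback.fst π g = i₀ := pullback.lift_fst _ _ _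
  have hk2 : k ≫ pullback.snd π g = U.ι ≫ f := pullback.lift_snd _ _ _
  haveI : IsImmersion (k ≫ pullback.fst π g) := by rw [hk1]; infer_instance
  haveI : IsImmersion k := IsImmersion.of_comp k (pullback.fst π g)
  have hk : RegImm.IsRegularImmersion .koszul k :=
    (SmoothImm.koszul_iff_of_smooth_comp i₀ k (pullback.fst π g) hk1).mp hi₀
  haveI : LocallyOfFiniteType ((U.ι ≫ f) ≫ g) := by rw [Category.assoc]; exact hlft
  have hlft' : LocallyOfFiniteType (U.ι ≫ f) := locallyOfFiniteType_of_comp (U.ι ≫ f) g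
  exact ⟨U, pullback π g, k, pullback.snd π g, hxU, hlft', hk, inferInstance, hk2⟩

end Groth.Agent.Lib.Helper9.LciMor1
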