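import Groth.Prelude.Def_ArtFun2
import Mathlib.LinearAlgebra.Dual.Lemmas
import Mathlib.Algebra.Module.Torsion.Basic
import Mathlib.RingTheory.Ideal.Quotient.Operations
import Mathlib.RingTheory.LocalRing.ResidueField.Basic
import Mathlib.Tactic.Ring
import Mathlib.RingTheory.Noetherian.Defs
import Mathlib.RingTheory.Ideal.Maps
import Mathlib.Tactic.LinearCombination

/-!
# Tangent vectors of `h_R` from linear forms on the relative cotangent space (helper9)

For an augmented local `Λ`-algebra `R → k` (with `Λ → k` surjective), every element of the maximal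
ideal outside an ideal `I ⊇ m_R² + m_Λ R` is detected by an augmented `Λ`-algebra map `R → k[ε]`
killing `I`.
-/

set_option autoImplicit false
universe u v

namespace Groth.Agent.Lib.Helper9

variable {Λ : Type u} {k : Type u} [CommRing Λ] [Field k] [Algebra Λ k]

/-- An augmented `Λ`-algebra map `R → k[ε]` from a "derivation" `D : R → k`. -/
def dualHomOfDeriv {R : Type u} [CommRing R] [Algebra Λ R] (res : R →ₐ[Λ] k) (D : R → k)
    (hadd : ∀ a b, D (a + b) = D a + D b)
    (hmul : ∀ a b, D (a * b) = res a * D b + D a * res b)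
    (halg : ∀ c : Λ, D (algebraMap Λ R c) = 0) : R →ₐ[Λ] DualNumber k where
  toFun a := (res a, D a)
  map_one' := TrivSqZeroExt.ext (map_one res) (by
    have := halg 1
    rwa [map_one] at this)
  map_mul' a b := TrivSqZeroExt.ext (map_mul res a b) (by
    change D (a * b) = res a • D b + MulOpposite.op (res b) • D a
    rw [hmul, smul_eq_mul, MulOpposite.smul_eq_mul_unop, MulOpposite.unop_op])
  map_zero' := TrivSqZeroExt.ext (map_zero res) (by
    have := halg 0
    rwa [map_zero] at this)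
  map_add' a b := TrivSqZeroExt.ext (map_add res a b) (hadd a b)
  commutes' c := TrivSqZeroExt.ext
    (by
      change res (algebraMap Λ R c) = (algebraMap Λ (DualNumber k) c).fst
      rw [AlgHom.commutes, TrivSqZeroExt.algebraMap_eq_inl', TrivSqZeroExt.fst_inl])
    (by
      change D (algebraMap Λ R c) = (algebraMap Λ (DualNumber k) c).snd
      rw [halg, TrivSqZeroExt.algebraMap_eq_inl', TrivSqZeroExt.snd_inl])

@[simp] lemma dualHomOfDeriv_fst {R : Type u} [CommRing R] [Algebra Λ R] (res : R →ₐ[Λ] k)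
    (D : R → k) (hadd hmul halg) (a : R) :
    (dualHomOfDeriv res D hadd hmul halg a).fst = res a := rfl

@[simp] lemma dualHomOfDeriv_snd {R : Type u} [CommRing R] [Algebra Λ R] (res : R →ₐ[Λ] k)
    (D : R → k) (hadd hmul halg) (a : R) :
    (dualHomOfDeriv res D hadd hmul halg a).snd = D a := rfl

open IsLocalRing in
/-- Elements of the maximal ideal of `R` outside an ideal `I ⊇ m_R² + f(m_{R'}) R` are detected by
tangent vectors `R → k[ε]` killing `I` and trivial on the image of `f : R' → R` (where `R' → k` is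
surjective). -/
theorem exists_tangent_of_not_mem' {R' R : Type u} [CommRing R'] [Algebra Λ R'] [CommRing R]
    [Algebra Λ R] [IsLocalRing R]
    (res : R →ₐ[Λ] k) (hres : Function.Surjective res) (f : R' →ₐ[Λ] R)
    (hf : Function.Surjective (res.comp f))
    (I : Ideal R) (hIm : I ≤ maximalIdeal R) (hI1 : maximalIdeal R ^ 2 ≤ I)
    (hI2 : ∀ c : R', res (f c) = 0 → f c ∈ I)
    (x : R) (hxm : x ∈ maximalIdeal R) (hx : x ∉ I) :
    ∃ ψ : R →ₐ[Λ] DualNumber k, (TrivSqZeroExt.fstHom Λ k k).comp ψ = res ∧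
      (∀ y ∈ I, TrivSqZeroExt.snd (ψ y) = 0) ∧ (∀ c : R', TrivSqZeroExt.snd (ψ (f c)) = 0) ∧
      TrivSqZeroExt.snd (ψ x) ≠ 0 := by
  classical
  set m := maximalIdeal R with hmdef
  have hm : ∀ a : R, a ∈ m ↔ res a = 0 := by
    intro a
    have hmax : (RingHom.ker (res : R →+* k)).IsMaximal :=
      RingHom.ker_isMaximal_of_surjective (res : R →+* k) hres
    rw [hmdef, ← IsLocalRing.eq_maximalIdeal hmax, RingHom.mem_ker]
    rfl
  let N₀ : Submodule R m := Submodule.comap m.subtype I
  have hN₀ : ∀ y : m, y ∈ N₀ ↔ (y : R) ∈ I := fun y => Iff.rfl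
  have htors : Module.IsTorsionBySet R (m ⧸ N₀) (m : Set R) := by
    intro v a
    obtain ⟨y, rfl⟩ := Submodule.Quotient.mk_surjective N₀ v
    rw [← Submodule.Quotient.mk_smul, Submodule.Quotient.mk_eq_zero, hN₀]
    apply hI1
    rw [pow_two]
    exact Ideal.mul_mem_mul a.2 y.2
  let _ : Module (R ⧸ m) (m ⧸ N₀) := htors.module
  let _ : Field (R ⧸ m) := Ideal.Quotient.field m
  have hxbar : (Submodule.Quotient.mk ⟨x, hxm⟩ : m ⧸ N₀) ≠ 0 := by
    rw [Ne, Submodule.Quotient.mk_eq_zero, hN₀]
    exact hx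
  obtain ⟨φ, hφ⟩ : ∃ φ : Module.Dual (R ⧸ m) (m ⧸ N₀),
      φ (Submodule.Quotient.mk ⟨x, hxm⟩) ≠ 0 := by
    by_contra hcon
    push Not at hcon
    exact hxbar ((Module.forall_dual_apply_eq_zero_iff (R ⧸ m) _).1 hcon)
  let ρ : R ⧸ m →+* k := Ideal.Quotient.lift m (res : R →+* k) (fun a ha => (hm a).1 ha)
  have hρ : Function.Injective ρ := RingHom.injective ρ
  have hρmk : ∀ a : R, ρ (Ideal.Quotient.mk m a) = res a := fun a => rfl
  let ℓ : m → k := fun y => ρ (φ (Submodule.Quotient.mk y))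
  have hℓadd : ∀ y z : m, ℓ (y + z) = ℓ y + ℓ z := by
    intro y z
    change ρ (φ (Submodule.Quotient.mk (y + z))) = _
    rw [Submodule.Quotient.mk_add, map_add, map_add]
  have hℓsmul : ∀ (a : R) (y : m), ℓ (a • y) = res a * ℓ y := by
    intro a y
    change ρ (φ (Submodule.Quotient.mk (a • y))) = _
    rw [Submodule.Quotient.mk_smul, ← htors.mk_smul a, map_smul, smul_eq_mul, map_mul, hρmk]
  have hℓI : ∀ y : m, (y : R) ∈ I → ℓ y = 0 := by
    intro y hy
    change ρ (φ (Submodule.Quotient.mk y)) = 0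
    rw [(Submodule.Quotient.mk_eq_zero N₀).2 ((hN₀ y).2 hy), map_zero, map_zero]
  let s : k → R' := Function.surjInv hf
  have hs : ∀ c : k, res (f (s c)) = c := Function.surjInv_eq hf
  have hδmem : ∀ r : R, r - f (s (res r)) ∈ m := by
    intro r
    rw [hm, map_sub, hs, sub_self]
  let δ : R → m := fun r => ⟨r - f (s (res r)), hδmem r⟩
  let D : R → k := fun r => ℓ (δ r)
  have key : ∀ (r : R) (c : R') (y : m), r = f c + y → D r = ℓ y := by
    intro r c y hr
    have hc0 : res (f (c - s (res r))) = 0 := by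
      rw [map_sub, map_sub, hs, hr, map_add, (hm y).1 y.2, add_zero, sub_self]
    have hcI : f (c - s (res r)) ∈ I := hI2 _ hc0
    have hcm : f (c - s (res r)) ∈ m := hIm hcI
    have hδ : δ r = y + ⟨f (c - s (res r)), hcm⟩ := by
      apply Subtype.ext
      change r - f (s (res r)) = (y : R) + f (c - s (res r))
      rw [map_sub, hr]
      ring
    change ℓ (δ r) = ℓ y
    rw [hδ, hℓadd, hℓI ⟨_, hcm⟩ hcI, add_zero]
  have hdecomp : ∀ r : R, r = f (s (res r)) + (δ r : R) := by
    intro r
    change r = f (s (res r)) + (r - f (s (res r)))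
    ring
  have hadd : ∀ a b, D (a + b) = D a + D b := by
    intro a b
    rw [key (a + b) (s (res a) + s (res b)) (δ a + δ b) ?_, hℓadd]
    rw [map_add, Submodule.coe_add]
    nth_rewrite 1 [hdecomp a, hdecomp b]
    ring
  have hmul : ∀ a b, D (a * b) = res a * D b + D a * res b := by
    intro a b
    rw [key (a * b) (s (res a) * s (res b))
      (f (s (res a)) • δ b + f (s (res b)) • δ a + (δ a : R) • δ b) ?_]
    · rw [hℓadd, hℓadd, hℓsmul, hℓsmul, hℓsmul, hs, hs, (hm _).1 (δ a).2]
      change res a * D b + res b * D a + 0 * D b = _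
      ring
    · rw [map_mul]
      simp only [Submodule.coe_add, Submodule.coe_smul, smul_eq_mul]
      nth_rewrite 1 [hdecomp a, hdecomp b]
      ring
  have hDf : ∀ c : R', D (f c) = 0 := by
    intro c
    rw [key (f c) c 0 (by simp)]
    change ρ (φ (Submodule.Quotient.mk 0)) = 0
    rw [Submodule.Quotient.mk_zero, map_zero, map_zero]
  have halg : ∀ c : Λ, D (algebraMap Λ R c) = 0 := by
    intro c
    rw [← AlgHom.commutes f c]
    exact hDf _
  refine ⟨dualHomOfDeriv res D hadd hmul halg, AlgHom.ext fun _ => rfl, ?_, hDf, ?_⟩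
  · intro y hy
    change D y = 0
    rw [key y 0 ⟨y, hIm hy⟩ (by simp)]
    exact hℓI _ hy
  · change D x ≠ 0
    rw [key x 0 ⟨x, hxm⟩ (by simp)]
    change ρ (φ (Submodule.Quotient.mk ⟨x, hxm⟩)) ≠ 0
    rw [Ne, map_eq_zero_iff ρ hρ]
    exact hφ

open IsLocalRing in
/-- Elements of the maximal ideal outside `I ⊇ m_R² + m_Λ R` are detected by tangent vectors
killing `I` (case `Λ → k` surjective). -/
theorem exists_tangent_of_not_mem {R : Type u} [CommRing R] [Algebra Λ R] [IsLocalRing R]
    (res : R →ₐ[Λ] k) (hres : Function.Surjective res)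
    (hk : Function.Surjective (algebraMap Λ k))
    (I : Ideal R) (hIm : I ≤ maximalIdeal R) (hI1 : maximalIdeal R ^ 2 ≤ I)
    (hI2 : ∀ c : Λ, algebraMap Λ k c = 0 → algebraMap Λ R c ∈ I)
    (x : R) (hxm : x ∈ maximalIdeal R) (hx : x ∉ I) :
    ∃ ψ : R →ₐ[Λ] DualNumber k, (TrivSqZeroExt.fstHom Λ k k).comp ψ = res ∧
      (∀ y ∈ I, TrivSqZeroExt.snd (ψ y) = 0) ∧ TrivSqZeroExt.snd (ψ x) ≠ 0 := by
  obtain ⟨ψ, h1, h2, -, h4⟩ := exists_tangent_of_not_mem' res hres (Algebra.ofId Λ R)
    (fun c => by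
      obtain ⟨l, hl⟩ := hk c
      refine ⟨l, ?_⟩
      change res (algebraMap Λ R l) = c
      rw [AlgHom.commutes, hl])
    I hIm hI1
    (fun c hc => hI2 c (by
      have : res (algebraMap Λ R c) = 0 := hc
      rwa [AlgHom.commutes] at this)) x hxm hx
  exact ⟨ψ, h1, h2, h4⟩

/-- A surjective ring endomorphism of a Noetherian ring is injective. -/
theorem injective_of_surjective_ringEnd {R : Type*} [CommRing R] [IsNoetherianRing R]
    (α : R →+* R) (h : Function.Surjective α) : Function.Injective α := by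
  let f : ℕ →o Ideal R := ⟨fun n => RingHom.ker (α ^ n), monotone_nat_of_le_succ fun n x hx => by
    rw [RingHom.mem_ker] at hx ⊢
    rw [pow_succ', RingHom.mul_def, RingHom.comp_apply, hx, map_zero]⟩
  obtain ⟨n, hn⟩ := monotone_stabilizes_iff_noetherian.mpr (inferInstance : IsNoetherian R R) f
  have hsurj : Function.Surjective (α ^ n) := by
    rw [RingHom.coe_pow]
    exact h.iterate n
  rw [injective_iff_map_eq_zero]
  intro x hx
  obtain ⟨y, rfl⟩ := hsurj x
  have hy : y ∈ f (n + 1) := by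
    change y ∈ RingHom.ker (α ^ (n + 1))
    rw [RingHom.mem_ker, pow_succ', RingHom.mul_def, RingHom.comp_apply, hx]
  rw [← hn (n + 1) (Nat.le_succ n)] at hy
  exact hy

end Groth.Agent.Lib.Helper9
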