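import Groth.Prelude.Def_ArtFun2
import Groth.Agent.Lib.Helper65.ArtFunBasic
import Mathlib.Tactic.Ring
import Mathlib.Tactic.LinearCombination

/-!
# Functors of Artin rings: small extensions and the tangent direction (helper9)

* `exists_toDual_of_isSmallExt`: for a small extension `p : B → A` with kernel `(t)` and a
  realisation `P` of `B ×_A B`, the map `g : P → k[ε]`, `z ↦ (res z, c)` with `p₂ z - p₁ z = c t`,
  and the fact that `(p₁, g)` realises `P` as `B ×_k k[ε]`.
-/

set_option autoImplicit false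
universe u v w
open CategoryTheory

namespace Groth.Agent.Lib.Helper9

open ArtFun ArtFun.Art

variable {Λ : Type u} {k : Type u} [CommRing Λ] [Field k] [Algebra Λ k]

/-- The kernel of a morphism lies in the maximal ideal. -/
lemma art_ker_le_maximalIdeal {A B : Art Λ k} (f : B ⟶ A) :
    RingHom.ker f.toAlgHom ≤ IsLocalRing.maximalIdeal B := by
  intro a ha
  rw [Art.mem_maximalIdeal_iff, ← Art.res_app f a]
  have : f.toAlgHom a = 0 := ha
  change A.res (f.toAlgHom a) = 0
  rw [this, map_zero]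

/-- In a small extension with kernel `(t)`, the maximal ideal kills `t`. -/
lemma smallExt_mul_eq_zero {A B : Art Λ k} {p : B ⟶ A} (hp : IsSemismallExt p) {t : B}
    (ht : p t = 0) {b : B} (hb : B.res b = 0) : b * t = 0 := by
  have h1 : b ∈ IsLocalRing.maximalIdeal B := (Art.mem_maximalIdeal_iff B b).2 hb
  have h2 : t ∈ RingHom.ker p.toAlgHom := ht
  have := Ideal.mul_mem_mul h1 h2
  rw [hp.2] at this
  exact this

/-- In a small extension with kernel `(t)`, `b t = b' t` forces `res b = res b'`. -/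
lemma smallExt_res_eq {A B : Art Λ k} {p : B ⟶ A} (hp : IsSmallExt p) {t : B}
    (ht : RingHom.ker p.toAlgHom = Ideal.span {t}) {b b' : B} (h : b * t = b' * t) :
    B.res b = B.res b' := by
  by_contra hne
  have hu : IsUnit (b - b') := by
    by_contra hnu
    have : b - b' ∈ IsLocalRing.maximalIdeal B := (IsLocalRing.mem_maximalIdeal _).2 hnu
    rw [Art.mem_maximalIdeal_iff, map_sub, sub_eq_zero] at this
    exact hne this
  have h0 : (b - b') * t = 0 := by rw [sub_mul, h, sub_self]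
  have ht0 : t = 0 := by
    obtain ⟨u, hu⟩ := hu
    rw [← hu] at h0
    exact (Units.mul_right_eq_zero u).1 h0
  apply hp.2.1
  rw [ht, ht0, Ideal.span_singleton_eq_bot]

/-- For a small extension `p : B → A` with kernel `(t)` and a realisation `P` of `B ×_A B`, there is
a morphism `g : P → k[ε]` with `snd (g z) = res b` whenever `p₂ z - p₁ z = b t`, and `(p₁, g)`
realises `P` as the fibre product `B ×_k k[ε]`. -/
theorem exists_toDual_of_isSmallExt {B A P : Art Λ k} (p : B ⟶ A) (hp : IsSmallExt p)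
    (t : B) (ht : RingHom.ker p.toAlgHom = Ideal.span {t})
    (p₁ p₂ : P ⟶ B) (hP : IsFibreProd p₁ p₂ p p) :
    ∃ g : P ⟶ dual Λ k,
      (∀ (z : P) (b : B), p₂ z - p₁ z = b * t → TrivSqZeroExt.snd (g z) = B.res b) ∧
      IsFibreProd p₁ g (toBase B) (toBase (dual Λ k)) := by
  have htker : p t = 0 := by
    have : t ∈ RingHom.ker p.toAlgHom := by rw [ht]; exact Ideal.mem_span_singleton_self t
    exact this
  have hex : ∀ z : P, ∃ b : B, p₂ z - p₁ z = b * t := by
    intro z
    have hmem : p₂ z - p₁ z ∈ RingHom.ker p.toAlgHom := by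
      rw [RingHom.mem_ker, map_sub, sub_eq_zero]
      exact (hP.w_apply z).symm
    rw [ht, Ideal.mem_span_singleton'] at hmem
    obtain ⟨b, hb⟩ := hmem
    exact ⟨b, hb.symm⟩
  choose c hc using hex
  have hwd : ∀ (z : P) (b : B), p₂ z - p₁ z = b * t → B.res (c z) = B.res b := by
    intro z b hb
    exact smallExt_res_eq hp ht ((hc z).symm.trans hb)
  have hres1 : ∀ z : P, B.res (p₁ z) = P.res z := fun z => Art.res_app p₁ z
  have hres2 : ∀ z : P, B.res (p₂ z) = P.res z := fun z => Art.res_app p₂ z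
  let gA : P →ₐ[Λ] DualNumber k :=
    { toFun := fun z => (P.res z, B.res (c z))
      map_one' := by
        refine TrivSqZeroExt.ext (map_one _) ?_
        change B.res (c 1) = 0
        rw [hwd 1 0 (by simp), map_zero]
      map_mul' := fun z w => by
        refine TrivSqZeroExt.ext (map_mul _ _ _) ?_
        change B.res (c (z * w)) = P.res z • B.res (c w) + MulOpposite.op (P.res w) • B.res (c z)
        rw [hwd (z * w) (p₂ z * c w + c z * p₁ w) ?_]
        · rw [map_add, map_mul, map_mul, hres2, hres1, smul_eq_mul, MulOpposite.smul_eq_mul_unop,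
            MulOpposite.unop_op]
        · have e1 := hc z
          have e2 := hc w
          have hz : p₂ (z * w) = p₂ z * p₂ w := map_mul p₂.toAlgHom z w
          have hw : p₁ (z * w) = p₁ z * p₁ w := map_mul p₁.toAlgHom z w
          rw [hz, hw]
          linear_combination p₂ z * e2 + p₁ w * e1
      map_zero' := by
        refine TrivSqZeroExt.ext (map_zero _) ?_
        change B.res (c 0) = 0
        rw [hwd 0 0 (by simp), map_zero]
      map_add' := fun z w => by
        refine TrivSqZeroExt.ext (map_add _ _ _) ?_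
        change B.res (c (z + w)) = B.res (c z) + B.res (c w)
        rw [hwd (z + w) (c z + c w) ?_, map_add]
        have e1 := hc z
        have e2 := hc w
        have hz : p₂ (z + w) = p₂ z + p₂ w := map_add p₂.toAlgHom z w
        have hw : p₁ (z + w) = p₁ z + p₁ w := map_add p₁.toAlgHom z w
        rw [hz, hw]
        linear_combination e1 + e2
      commutes' := fun r => by
        refine TrivSqZeroExt.ext ?_ ?_
        · change P.res (algebraMap Λ P r) = (algebraMap Λ (DualNumber k) r).fst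
          rw [AlgHom.commutes, TrivSqZeroExt.algebraMap_eq_inl', TrivSqZeroExt.fst_inl]
        · change B.res (c (algebraMap Λ P r)) = (algebraMap Λ (DualNumber k) r).snd
          rw [TrivSqZeroExt.algebraMap_eq_inl', TrivSqZeroExt.snd_inl]
          rw [hwd (algebraMap Λ P r) 0 ?_, map_zero]
          have h1 : p₂ (algebraMap Λ P r) = algebraMap Λ B r := AlgHom.commutes p₂.toAlgHom r
          have h2 : p₁ (algebraMap Λ P r) = algebraMap Λ B r := AlgHom.commutes p₁.toAlgHom r
          rw [h1, h2, sub_self, zero_mul] }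
  let g : P ⟶ dual Λ k := ⟨gA, AlgHom.ext fun _ => rfl⟩
  have hgsnd : ∀ z : P, TrivSqZeroExt.snd (g z) = B.res (c z) := fun _ => rfl
  have hgfst : ∀ z : P, TrivSqZeroExt.fst (g z) = P.res z := fun _ => rfl
  refine ⟨g, fun z b hb => (hgsnd z).trans (hwd z b hb), ?_⟩
  refine ⟨?_, ?_, ?_⟩
  · rw [eq_toBase (p₁ ≫ toBase B), eq_toBase (g ≫ toBase _)]
  · intro z z' h1 h2
    apply hP.inj z z' h1
    have hs : B.res (c z) = B.res (c z') := by
      rw [← hgsnd, ← hgsnd, h2]
    have e1 := hc z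
    have e2 := hc z'
    have hsub : (c z - c z') * t = 0 :=
      smallExt_mul_eq_zero hp.isSemismallExt htker (by rw [map_sub, hs, sub_self])
    linear_combination e1 - e2 + h1 + hsub
  · intro y d hyd
    obtain ⟨b, hb⟩ := B.res_surjective (TrivSqZeroExt.snd d)
    have hpy : p y = p (y + b * t) := by
      have : p (y + b * t) = p y + p b * p t := by
        rw [map_add, map_mul]
      rw [this, htker, mul_zero, add_zero]
    obtain ⟨z, hz1, hz2⟩ := hP.surj y (y + b * t) hpy
    refine ⟨z, hz1, ?_⟩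
    have hfst : B.res y = TrivSqZeroExt.fst d := hyd
    refine TrivSqZeroExt.ext ?_ ?_
    · rw [hgfst, ← hres1, hz1, hfst]
    · rw [hgsnd, hwd z b (by rw [hz1, hz2]; ring), hb]

/-- The diagonal `B → B ×_A B` followed by the tangent direction `g` is the zero tangent vector. -/
lemma diag_comp_toDual {B P : Art Λ k} (t : B)
    (p₁ p₂ : P ⟶ B) (g : P ⟶ dual Λ k)
    (hg : ∀ (z : P) (b : B), p₂ z - p₁ z = b * t → TrivSqZeroExt.snd (g z) = B.res b)
    (δ : B ⟶ P) (hδ1 : δ ≫ p₁ = 𝟙 B) (hδ2 : δ ≫ p₂ = 𝟙 B) :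
    δ ≫ g = toBase B ≫ baseToDual := by
  apply hom_ext
  apply AlgHom.ext
  intro b
  have h1 : p₁ (δ b) = b := by
    change (δ ≫ p₁) b = b
    rw [hδ1]; rfl
  have h2 : p₂ (δ b) = b := by
    change (δ ≫ p₂) b = b
    rw [hδ2]; rfl
  refine TrivSqZeroExt.ext ?_ ?_
  · change TrivSqZeroExt.fst (g (δ b)) = B.res b
    have := Art.res_app g (δ b)
    change TrivSqZeroExt.fst (g (δ b)) = P.res (δ b) at this
    rw [this, Art.res_app δ b]
  · change TrivSqZeroExt.snd (g (δ b)) = 0
    rw [hg (δ b) 0 (by rw [h1, h2, sub_self, zero_mul]), map_zero]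

/-- Relative injectivity along a small extension: if `ψ : G ⟶ H` is injective on tangent spaces,
`G` satisfies (S1) and (H_ε), and the comparison maps of `H` are injective for squares with a
surjective leg, then two elements of `G(B)` with the same image in `H(B)` and in `G(A)` coincide
(when the fibre product `B ×_A B` is realised in `Art`). -/
theorem smallExt_rel_injective' {G H : Art Λ k ⥤ Type v} (ψ : G ⟶ H)
    (hGS1 : Hbar G) (hGeps : Heps G)
    (hH : ∀ ⦃B A A' A'' : Art Λ k⦄ (p' : B ⟶ A') (p'' : B ⟶ A'') (f' : A' ⟶ A) (f'' : A'' ⟶ A)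
      (h : IsFibreProd p' p'' f' f''), Function.Surjective f'' → Function.Injective (cmp H h))
    (hψ : Function.Injective (TangentSpace.map ψ))
    {B A : Art Λ k} (p : B ⟶ A) (hp : IsSmallExt p)
    (hfp : ∃ (P : Art Λ k) (p₁ p₂ : P ⟶ B), IsFibreProd p₁ p₂ p p)
    (y₁ y₂ : G.obj B) (h1 : ψ.app B y₁ = ψ.app B y₂) (h2 : G.map p y₁ = G.map p y₂) :
    y₁ = y₂ := by
  obtain ⟨P, p₁, p₂, hP⟩ := hfp
  obtain ⟨t, ht⟩ := hp.2.2.1
  obtain ⟨g, hg, hPg⟩ := exists_toDual_of_isSmallExt p hp t ht p₁ p₂ hP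
  obtain ⟨δ, hδ1, hδ2⟩ := Groth.Agent.Lib.Helper65.isFibreProd_exists_lift hP (𝟙 B) (𝟙 B) rfl
  have hδg := diag_comp_toDual t p₁ p₂ g hg δ hδ1 hδ2
  obtain ⟨w, hw⟩ := hGS1 p₁ p₂ p p hP hp ⟨(y₁, y₂), h2⟩
  have hw1 : G.map p₁ w = y₁ := congrArg (fun z : FibProd G p p => z.1.1) hw
  have hw2 : G.map p₂ w = y₂ := congrArg (fun z : FibProd G p p => z.1.2) hw
  have hψw : ψ.app P w = H.map δ (ψ.app B y₁) := by
    apply hH p₁ p₂ p p hP hp.1
    apply FibProd.ext
    · change H.map p₁ (ψ.app P w) = H.map p₁ (H.map δ (ψ.app B y₁))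
      rw [← NatTrans.naturality_apply, hw1, ← Functor.map_comp_apply, hδ1,
        Functor.map_id_apply]
    · change H.map p₂ (ψ.app P w) = H.map p₂ (H.map δ (ψ.app B y₁))
      rw [← NatTrans.naturality_apply, hw2, ← Functor.map_comp_apply, hδ2,
        Functor.map_id_apply, h1]
  have htan : G.map g w = G.map g (G.map δ y₁) := by
    apply hψ
    change ψ.app _ (G.map g w) = ψ.app _ (G.map g (G.map δ y₁))
    rw [NatTrans.naturality_apply, NatTrans.naturality_apply, NatTrans.naturality_apply, hψw]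
  have hwδ : w = G.map δ y₁ := by
    apply (hGeps p₁ g hPg).1
    apply FibProd.ext
    · change G.map p₁ w = G.map p₁ (G.map δ y₁)
      rw [hw1, ← Functor.map_comp_apply, hδ1, Functor.map_id_apply]
    · exact htan
  rw [← hw2, hwδ, ← Functor.map_comp_apply, hδ2, Functor.map_id_apply]

section DualPure

variable (Λ k)

/-- The kernel of `k[ε] → k` is generated by `ε`. -/
lemma dualNumber_ker_fstHom :
    RingHom.ker (TrivSqZeroExt.fstHom Λ k k : DualNumber k →ₐ[Λ] k) =
      Ideal.span {(TrivSqZeroExt.inr 1 : DualNumber k)} := by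
  apply le_antisymm
  · intro x hx
    have hx' : TrivSqZeroExt.fst x = 0 := hx
    rw [Ideal.mem_span_singleton']
    refine ⟨TrivSqZeroExt.inl (TrivSqZeroExt.snd x), ?_⟩
    refine TrivSqZeroExt.ext ?_ ?_
    · rw [TrivSqZeroExt.fst_mul, TrivSqZeroExt.fst_inr, mul_zero, hx']
    · rw [TrivSqZeroExt.snd_mul, TrivSqZeroExt.fst_inl, TrivSqZeroExt.snd_inl,
        TrivSqZeroExt.snd_inr, TrivSqZeroExt.fst_inr]
      simp
  · rw [Ideal.span_le, Set.singleton_subset_iff]
    exact TrivSqZeroExt.fst_inr k (1 : k)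

lemma dualNumber_ker_fstHom_ne_bot :
    RingHom.ker (TrivSqZeroExt.fstHom Λ k k : DualNumber k →ₐ[Λ] k) ≠ ⊥ := by
  intro h
  have hmem : (TrivSqZeroExt.inr 1 : DualNumber k) ∈
      RingHom.ker (TrivSqZeroExt.fstHom Λ k k : DualNumber k →ₐ[Λ] k) := by
    rw [dualNumber_ker_fstHom]; exact Ideal.mem_span_singleton_self _
  rw [h, Ideal.mem_bot] at hmem
  have := congrArg TrivSqZeroExt.snd hmem
  rw [TrivSqZeroExt.snd_inr, TrivSqZeroExt.snd_zero] at this
  exact one_ne_zero this

lemma dualNumber_mul_eq_zero (x y : DualNumber k) (hx : TrivSqZeroExt.fst x = 0)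
    (hy : TrivSqZeroExt.fst y = 0) : x * y = 0 := by
  refine TrivSqZeroExt.ext ?_ ?_
  · rw [TrivSqZeroExt.fst_mul, hx, zero_mul, TrivSqZeroExt.fst_zero]
  · rw [TrivSqZeroExt.snd_mul, hx, hy, TrivSqZeroExt.snd_zero]
    simp

end DualPure

/-- Version of `smallExt_rel_injective'` assuming (S1). -/
theorem smallExt_rel_injective {G H : Art Λ k ⥤ Type v} (ψ : G ⟶ H)
    (hGS1 : S1 G) (hGeps : Heps G)
    (hH : ∀ ⦃B A A' A'' : Art Λ k⦄ (p' : B ⟶ A') (p'' : B ⟶ A'') (f' : A' ⟶ A) (f'' : A'' ⟶ A)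
      (h : IsFibreProd p' p'' f' f''), Function.Surjective f'' → Function.Injective (cmp H h))
    (hψ : Function.Injective (TangentSpace.map ψ))
    {B A : Art Λ k} (p : B ⟶ A) (hp : IsSmallExt p)
    (hfp : ∃ (P : Art Λ k) (p₁ p₂ : P ⟶ B), IsFibreProd p₁ p₂ p p)
    (y₁ y₂ : G.obj B) (h1 : ψ.app B y₁ = ψ.app B y₂) (h2 : G.map p y₁ = G.map p y₂) :
    y₁ = y₂ :=
  smallExt_rel_injective' ψ (fun _ _ _ _ p' p'' f' f'' h hs => hGS1 p' p'' f' f'' h hs.1) hGeps hH hψ
    p hp hfp y₁ y₂ h1 h2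

/-- The augmentation `k[ε] → k` is a small extension. -/
theorem isSmallExt_toBase_dual : IsSmallExt (toBase (dual Λ k)) := by
  refine ⟨(dual Λ k).res_surjective, dualNumber_ker_fstHom_ne_bot Λ k,
    ⟨⟨_, dualNumber_ker_fstHom Λ k⟩⟩, ?_⟩
  rw [eq_bot_iff, Ideal.mul_le]
  intro x hx y hy
  rw [Art.mem_maximalIdeal_iff] at hx
  rw [Ideal.mem_bot]
  exact dualNumber_mul_eq_zero k x y hx hy

/-- Adjusting a lift along a small extension by a tangent vector (version for a natural family of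
maps `φ_A : F(A) → G(A)` between functors with values in possibly different universes): if `φ` is
surjective on tangent spaces, `x ∈ F(A)` lifts to some `w ∈ F(B)` and `y ∈ G(B)` lies over `φ x`,
then `x` has a lift `w'` with `φ w' = y`. -/
theorem exists_lift_compatible_of_tangent_surjective'
    {F : Art Λ k ⥤ Type w} {G : Art Λ k ⥤ Type v}
    (φ : ∀ A : Art Λ k, F.obj A → G.obj A)
    (hφ : ∀ {A B : Art Λ k} (f : A ⟶ B) (x : F.obj A), φ B (F.map f x) = G.map f (φ A x))
    (hF0 : H0 F) (hFs : S1 F) (hGs : S1 G)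
    (hGi : ∀ ⦃B A' : Art Λ k⦄ (p' : B ⟶ A') (p'' : B ⟶ dual Λ k)
      (h : IsFibreProd p' p'' (toBase A') (toBase (dual Λ k))), Function.Injective (cmp G h))
    (hd : Function.Surjective (φ (dual Λ k)))
    {B A : Art Λ k} (μ : B ⟶ A) (hμ : IsSmallExt μ)
    (hfp : ∃ (P : Art Λ k) (p₁ p₂ : P ⟶ B), IsFibreProd p₁ p₂ μ μ)
    (x : F.obj A) (y : G.obj B) (hxy : φ A x = G.map μ y) (w : F.obj B) (hw : F.map μ w = x) :
    ∃ w' : F.obj B, F.map μ w' = x ∧ φ B w' = y := by
  obtain ⟨P, p₁, p₂, hP⟩ := hfp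
  obtain ⟨t, ht⟩ := hμ.2.2.1
  obtain ⟨g, -, hPg⟩ := exists_toDual_of_isSmallExt μ hμ t ht p₁ p₂ hP
  obtain ⟨v, hv⟩ := hGs p₁ p₂ μ μ hP hμ.1 ⟨(φ B w, y), by
    change G.map μ (φ B w) = G.map μ y
    rw [← hφ, hw, hxy]⟩
  have hv1 : G.map p₁ v = φ B w := congrArg (fun z : FibProd G μ μ => z.1.1) hv
  have hv2 : G.map p₂ v = y := congrArg (fun z : FibProd G μ μ => z.1.2) hv
  obtain ⟨τ, hτ⟩ := hd (G.map g v)
  obtain ⟨u, hu⟩ := hFs p₁ g (toBase B) (toBase (dual Λ k)) hPg (dual Λ k).res_surjective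
    ⟨(w, τ), @Subsingleton.elim _ hF0.2 _ _⟩
  have hu1 : F.map p₁ u = w :=
    congrArg (fun z : FibProd F (toBase B) (toBase (dual Λ k)) => z.1.1) hu
  have hu2 : F.map g u = τ :=
    congrArg (fun z : FibProd F (toBase B) (toBase (dual Λ k)) => z.1.2) hu
  have hφu : φ P u = v := by
    apply hGi p₁ g hPg
    apply FibProd.ext
    · change G.map p₁ (φ P u) = G.map p₁ v
      rw [← hφ, hu1, hv1]
    · change G.map g (φ P u) = G.map g v
      rw [← hφ, hu2, hτ]
  refine ⟨F.map p₂ u, ?_, ?_⟩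
  · rw [← Functor.map_comp_apply, ← hP.w, Functor.map_comp_apply, hu1, hw]
  · rw [hφ, hφu, hv2]

/-- Adjusting a lift along a small extension by a tangent vector: if `φ : F ⟶ G` is surjective on
tangent spaces, `x ∈ F(A)` lifts to some `w ∈ F(B)` and `y ∈ G(B)` lies over `φ x`, then `x` has a
lift `w'` with `φ w' = y`.  Needs (S1) for `F` and `G`, `F(k)` a point, and injectivity of the
comparison maps of `G` for squares `B ×_k k[ε]`. -/
theorem exists_lift_compatible_of_tangent_surjective {F G : Art Λ k ⥤ Type v} (φ : F ⟶ G)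
    (hF0 : H0 F) (hFs : S1 F) (hGs : S1 G)
    (hGi : ∀ ⦃B A' : Art Λ k⦄ (p' : B ⟶ A') (p'' : B ⟶ dual Λ k)
      (h : IsFibreProd p' p'' (toBase A') (toBase (dual Λ k))), Function.Injective (cmp G h))
    (hd : Function.Surjective (TangentSpace.map φ))
    {B A : Art Λ k} (μ : B ⟶ A) (hμ : IsSmallExt μ)
    (hfp : ∃ (P : Art Λ k) (p₁ p₂ : P ⟶ B), IsFibreProd p₁ p₂ μ μ)
    (x : F.obj A) (y : G.obj B) (hxy : φ.app A x = G.map μ y) (w : F.obj B) (hw : F.map μ w = x) :
    ∃ w' : F.obj B, F.map μ w' = x ∧ φ.app B w' = y :=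
  exists_lift_compatible_of_tangent_surjective' (fun A => φ.app A)
    (fun f x => NatTrans.naturality_apply φ f x) hF0 hFs hGs hGi hd μ hμ hfp x y hxy w hw

/-- A morphism killing the kernel of a surjection factors through it. -/
theorem exists_descend {A B C : Art Λ k} (f : B ⟶ A) (hf : Function.Surjective f) (g : B ⟶ C)
    (hfg : RingHom.ker f.toAlgHom ≤ RingHom.ker g.toAlgHom) : ∃ s : A ⟶ C, f ≫ s = g := by
  let s₀ : A →+* C := (f.toAlgHom : B →+* A).liftOfSurjective hf ⟨(g.toAlgHom : B →+* C), hfg⟩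
  have hs₀ : ∀ b : B, s₀ (f b) = g b := fun b =>
    RingHom.liftOfSurjective_comp_apply (f.toAlgHom : B →+* A) hf ⟨(g.toAlgHom : B →+* C), hfg⟩ b
  let s₁ : A →ₐ[Λ] C :=
    { s₀ with
      commutes' := fun r => by
        have h1 : f (algebraMap Λ B r) = algebraMap Λ A r := AlgHom.commutes f.toAlgHom r
        have h2 : g (algebraMap Λ B r) = algebraMap Λ C r := AlgHom.commutes g.toAlgHom r
        change s₀ (algebraMap Λ A r) = algebraMap Λ C r
        rw [← h1, hs₀, h2] }
  have hs₁ : ∀ b : B, s₁ (f b) = g b := hs₀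
  refine ⟨⟨s₁, ?_⟩, ?_⟩
  · apply AlgHom.ext
    intro a
    obtain ⟨b, rfl⟩ := hf a
    change C.res (s₁ (f b)) = A.res (f b)
    rw [hs₁, Art.res_app, Art.res_app]
  · apply hom_ext
    apply AlgHom.ext
    intro b
    exact hs₁ b

end Groth.Agent.Lib.Helper9
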