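import Groth.Prelude.Def_ArtFun2
import Groth.Agent.Lib.Helper65.ArtFunBasic
import Groth.Agent.S12707
import Groth.Agent.S12710
import Groth.Agent.S12711
import Groth.Agent.Lib.Helper9.ArtFun

/-!
# Pasting of fibre-product squares in `Art Λ k`, and reduction of (S1)/(RS) to small extensions
(helper9)
-/

set_option autoImplicit false
universe u v
open CategoryTheory

namespace Groth.Agent.Lib.Helper9

open ArtFun ArtFun.Art

variable {Λ : Type u} {k : Type u} [CommRing Λ] [Field k] [Algebra Λ k]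

/-- Pasting: if `B = A' ×_A C` along `C → M → A` and `B₁ = A' ×_A M`, then `B = B₁ ×_M C`. -/
theorem isFibreProd_paste {B A A' C M B₁ : Art Λ k} {p' : B ⟶ A'} {p'' : B ⟶ C} {f' : A' ⟶ A}
    {p : C ⟶ M} {q : M ⟶ A} (h : IsFibreProd p' p'' f' (p ≫ q))
    {q' : B₁ ⟶ A'} {q'' : B₁ ⟶ M} (h₁ : IsFibreProd q' q'' f' q) :
    ∃ r : B ⟶ B₁, r ≫ q' = p' ∧ r ≫ q'' = p'' ≫ p ∧ IsFibreProd r p'' q'' p := by
  obtain ⟨r, hr1, hr2⟩ := Groth.Agent.Lib.Helper65.isFibreProd_exists_lift h₁ p' (p'' ≫ p)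
    (by rw [h.w, Category.assoc])
  have hr1' : ∀ b : B, q' (r b) = p' b := fun b => by
    change (r ≫ q') b = p' b
    rw [hr1]
  have hr2' : ∀ b : B, q'' (r b) = p (p'' b) := fun b => by
    change (r ≫ q'') b = (p'' ≫ p) b
    rw [hr2]
  refine ⟨r, hr1, hr2, hr2, ?_, ?_⟩
  · intro b₁ b₂ e1 e2
    apply h.inj b₁ b₂ _ e2
    rw [← hr1', ← hr1', e1]
  · intro b₁ c hbc
    have hc : f' (q' b₁) = (p ≫ q) c := by
      rw [h₁.w_apply b₁, hbc]
      rfl
    obtain ⟨b, hb1, hb2⟩ := h.surj (q' b₁) c hc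
    refine ⟨b, ?_, hb2⟩
    apply h₁.inj
    · rw [hr1', hb1]
    · rw [hr2', hb2, hbc]

/-- If `f''` is an isomorphism then `p'` is a split epimorphism with a two-sided inverse. -/
theorem isFibreProd_iso_inverse {B A A' A'' : Art Λ k} {p' : B ⟶ A'} {p'' : B ⟶ A''} {f' : A' ⟶ A}
    {f'' : A'' ⟶ A} (h : IsFibreProd p' p'' f' f'') [IsIso f''] :
    ∃ σ : A' ⟶ B, σ ≫ p' = 𝟙 A' ∧ σ ≫ p'' = f' ≫ inv f'' ∧ p' ≫ σ = 𝟙 B := by
  obtain ⟨σ, hσ1, hσ2⟩ := Groth.Agent.Lib.Helper65.isFibreProd_exists_lift h (𝟙 A') (f' ≫ inv f'')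
    (by rw [Category.id_comp, Category.assoc, IsIso.inv_hom_id, Category.comp_id])
  refine ⟨σ, hσ1, hσ2, ?_⟩
  apply Groth.Agent.Lib.Helper65.isFibreProd_hom_ext h
  · rw [Category.assoc, hσ1, Category.comp_id, Category.id_comp]
  · rw [Category.assoc, hσ2, ← Category.assoc, h.w, Category.assoc, IsIso.hom_inv_id,
      Category.comp_id, Category.id_comp]

section Reduction

variable [IsNoetherianRing Λ] [Module.Finite Λ k]

/-- Surjectivity of the comparison maps for small extensions implies it for all surjections. -/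
theorem cmp_surjective_of_smallExt (F : Art Λ k ⥤ Type v)
    (hs : ∀ ⦃B A A' A'' : Art Λ k⦄ (p' : B ⟶ A') (p'' : B ⟶ A'') (f' : A' ⟶ A) (f'' : A'' ⟶ A)
      (h : IsFibreProd p' p'' f' f''), IsSmallExt f'' → Function.Surjective (cmp F h))
    ⦃B A A' A'' : Art Λ k⦄ (p' : B ⟶ A') (p'' : B ⟶ A'') (f' : A' ⟶ A) (f'' : A'' ⟶ A)
    (h : IsFibreProd p' p'' f' f'') (hf'' : Function.Surjective f'') :
    Function.Surjective (cmp F h) := by
  have key := Groth.Agent.S12707.result
    (fun A A'' (f'' : A'' ⟶ A) => Function.Surjective f'' ∧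
      ∀ ⦃B A' : Art Λ k⦄ (p' : B ⟶ A') (p'' : B ⟶ A'') (f' : A' ⟶ A)
        (h : IsFibreProd p' p'' f' f''), Function.Surjective (cmp F h)) ?_ ?_ ?_ f'' hf''
  · exact key.2 p' p'' f' h
  · intro A A'' e he
    refine ⟨?_, ?_⟩
    · intro a
      refine ⟨(inv e) a, ?_⟩
      change (inv e ≫ e) a = a
      rw [IsIso.inv_hom_id]
      rfl
    · intro B A' p' p'' f' h ⟨⟨x', x''⟩, hx⟩
      have hx' : F.map f' x' = F.map e x'' := hx
      obtain ⟨σ, hσ1, hσ2, -⟩ := isFibreProd_iso_inverse h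
      refine ⟨F.map σ x', Subtype.ext (Prod.ext ?_ ?_)⟩
      · change F.map p' (F.map σ x') = x'
        rw [← Functor.map_comp_apply, hσ1, Functor.map_id_apply]
      · change F.map p'' (F.map σ x') = x''
        rw [← Functor.map_comp_apply, hσ2, Functor.map_comp_apply, hx', ← Functor.map_comp_apply,
          IsIso.hom_inv_id, Functor.map_id_apply]
  · intro A A'' f'' hf''
    exact ⟨hf''.1, fun B A' p' p'' f' h => hs p' p'' f' f'' h hf''⟩
  · intro A M C p q hp hq
    refine ⟨hq.1.comp hp.1, ?_⟩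
    intro B A' p' p'' f' h ⟨⟨x', x''⟩, hx⟩
    have hx' : F.map f' x' = F.map (p ≫ q) x'' := hx
    obtain ⟨B₁, q', q'', h₁⟩ := Groth.Agent.S12710.result f' q hq.1
    obtain ⟨r, hr1, hr2, hr⟩ := isFibreProd_paste h h₁
    obtain ⟨z₁, hz₁⟩ := hq.2 q' q'' f' h₁ ⟨(x', F.map p x''), by
      change F.map f' x' = F.map q (F.map p x'')
      rw [hx', Functor.map_comp_apply]⟩
    have hz1 : F.map q' z₁ = x' := congrArg (fun t : FibProd F f' q => t.1.1) hz₁
    have hz2 : F.map q'' z₁ = F.map p x'' := congrArg (fun t : FibProd F f' q => t.1.2) hz₁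
    obtain ⟨z, hz⟩ := hp.2 r p'' q'' hr ⟨(z₁, x''), hz2⟩
    have hz3 : F.map r z = z₁ := congrArg (fun t : FibProd F q'' p => t.1.1) hz
    have hz4 : F.map p'' z = x'' := congrArg (fun t : FibProd F q'' p => t.1.2) hz
    refine ⟨z, Subtype.ext (Prod.ext ?_ hz4)⟩
    change F.map p' z = x'
    rw [← hr1, Functor.map_comp_apply, hz3, hz1]

/-- Injectivity of the comparison maps for small extensions implies it for all surjections. -/
theorem cmp_injective_of_smallExt (F : Art Λ k ⥤ Type v)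
    (hs : ∀ ⦃B A A' A'' : Art Λ k⦄ (p' : B ⟶ A') (p'' : B ⟶ A'') (f' : A' ⟶ A) (f'' : A'' ⟶ A)
      (h : IsFibreProd p' p'' f' f''), IsSmallExt f'' → Function.Injective (cmp F h))
    ⦃B A A' A'' : Art Λ k⦄ (p' : B ⟶ A') (p'' : B ⟶ A'') (f' : A' ⟶ A) (f'' : A'' ⟶ A)
    (h : IsFibreProd p' p'' f' f'') (hf'' : Function.Surjective f'') :
    Function.Injective (cmp F h) := by
  have key := Groth.Agent.S12707.result
    (fun A A'' (f'' : A'' ⟶ A) => Function.Surjective f'' ∧
      ∀ ⦃B A' : Art Λ k⦄ (p' : B ⟶ A') (p'' : B ⟶ A'') (f' : A' ⟶ A)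
        (h : IsFibreProd p' p'' f' f''), Function.Injective (cmp F h)) ?_ ?_ ?_ f'' hf''
  · exact key.2 p' p'' f' h
  · intro A A'' e he
    refine ⟨?_, ?_⟩
    · intro a
      refine ⟨(inv e) a, ?_⟩
      change (inv e ≫ e) a = a
      rw [IsIso.inv_hom_id]
      rfl
    · intro B A' p' p'' f' h z z' hzz
      have h1 : F.map p' z = F.map p' z' := congrArg (fun t : FibProd F f' e => t.1.1) hzz
      obtain ⟨σ, -, -, hσ3⟩ := isFibreProd_iso_inverse h
      have := congrArg (F.map σ) h1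
      rwa [← Functor.map_comp_apply, ← Functor.map_comp_apply, hσ3, Functor.map_id_apply,
        Functor.map_id_apply] at this
  · intro A A'' f'' hf''
    exact ⟨hf''.1, fun B A' p' p'' f' h => hs p' p'' f' f'' h hf''⟩
  · intro A M C p q hp hq
    refine ⟨hq.1.comp hp.1, ?_⟩
    intro B A' p' p'' f' h z z' hzz
    have h1 : F.map p' z = F.map p' z' := congrArg (fun t : FibProd F f' (p ≫ q) => t.1.1) hzz
    have h2 : F.map p'' z = F.map p'' z' := congrArg (fun t : FibProd F f' (p ≫ q) => t.1.2) hzz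
    obtain ⟨B₁, q', q'', h₁⟩ := Groth.Agent.S12710.result f' q hq.1
    obtain ⟨r, hr1, hr2, hr⟩ := isFibreProd_paste h h₁
    have h3 : F.map r z = F.map r z' := by
      apply hq.2 q' q'' f' h₁
      apply FibProd.ext
      · change F.map q' (F.map r z) = F.map q' (F.map r z')
        rw [← Functor.map_comp_apply, ← Functor.map_comp_apply, hr1, h1]
      · change F.map q'' (F.map r z) = F.map q'' (F.map r z')
        rw [← Functor.map_comp_apply, ← Functor.map_comp_apply, hr2, Functor.map_comp_apply,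
          Functor.map_comp_apply, h2]
    apply hp.2 r p'' q'' hr
    exact FibProd.ext h3 h2

/-- Relative injectivity: if `ψ : G ⟶ H` is injective on tangent spaces, `G` satisfies (H1) and
(H2), and the comparison maps of `H` are injective for squares with a surjective leg, then for every
surjection `f : B → A` the map `G(B) → G(A) ×_{H(A)} H(B)` is injective. -/
theorem rel_injective_of_tangent_injective {G H : Art Λ k ⥤ Type v} (ψ : G ⟶ H)
    (hGbar : Hbar G) (hGeps : Heps G)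
    (hH : ∀ ⦃B A A' A'' : Art Λ k⦄ (p' : B ⟶ A') (p'' : B ⟶ A'') (f' : A' ⟶ A) (f'' : A'' ⟶ A)
      (h : IsFibreProd p' p'' f' f''), Function.Surjective f'' → Function.Injective (cmp H h))
    (hψ : Function.Injective (TangentSpace.map ψ))
    ⦃A B : Art Λ k⦄ (f : B ⟶ A) (hf : Function.Surjective f)
    (y₁ y₂ : G.obj B) (h1 : ψ.app B y₁ = ψ.app B y₂) (h2 : G.map f y₁ = G.map f y₂) : y₁ = y₂ := by
  revert y₁ y₂
  refine Groth.Agent.S12707.result
    (fun A B (f : B ⟶ A) => ∀ y₁ y₂ : G.obj B, ψ.app B y₁ = ψ.app B y₂ →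
      G.map f y₁ = G.map f y₂ → y₁ = y₂) ?_ ?_ ?_ f hf
  · intro A B e he y₁ y₂ _ h2
    have := congrArg (G.map (inv e)) h2
    rwa [← Functor.map_comp_apply, ← Functor.map_comp_apply, IsIso.hom_inv_id,
      Functor.map_id_apply, Functor.map_id_apply] at this
  · intro A B p hp y₁ y₂ h1 h2
    exact smallExt_rel_injective' ψ hGbar hGeps hH hψ p hp
      (Groth.Agent.S12710.result p p hp.1) y₁ y₂ h1 h2
  · intro A B C p q hp hq y₁ y₂ h1 h2
    apply hp y₁ y₂ h1
    apply hq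
    · rw [NatTrans.naturality_apply, NatTrans.naturality_apply, h1]
    · rw [← Functor.map_comp_apply, ← Functor.map_comp_apply]
      exact h2

/-- A morphism `ψ : G ⟶ H` which is injective on tangent spaces is injective on every object, when
`G(k)` has at most one point, `G` satisfies (H1) and (H2), and the comparison maps of `H` are
injective for squares with a surjective leg. -/
theorem app_injective_of_tangent_injective {G H : Art Λ k ⥤ Type v} (ψ : G ⟶ H)
    (hG0 : Subsingleton (G.obj (base Λ k))) (hGbar : Hbar G) (hGeps : Heps G)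
    (hH : ∀ ⦃B A A' A'' : Art Λ k⦄ (p' : B ⟶ A') (p'' : B ⟶ A'') (f' : A' ⟶ A) (f'' : A'' ⟶ A)
      (h : IsFibreProd p' p'' f' f''), Function.Surjective f'' → Function.Injective (cmp H h))
    (hψ : Function.Injective (TangentSpace.map ψ)) (A : Art Λ k) :
    Function.Injective (ψ.app A) := by
  intro y₁ y₂ h
  exact rel_injective_of_tangent_injective ψ hGbar hGeps hH hψ (toBase A) A.res_surjective y₁ y₂ h
    (Subsingleton.elim _ _)

/-- (H1), (H2), (H4) give injectivity of the comparison map of `A' ×_A A''` for a small extension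
`A'' → A` (Schlessinger). -/
theorem cmp_injective_smallExt_of_hsq (F : Art Λ k ⥤ Type v) (hbar : Hbar F) (heps : Heps F)
    (hsq : HSq F) ⦃B A A' A'' : Art Λ k⦄ (p' : B ⟶ A') (p'' : B ⟶ A'') (f' : A' ⟶ A) (f'' : A'' ⟶ A)
    (h : IsFibreProd p' p'' f' f'') (hf'' : IsSmallExt f'') : Function.Injective (cmp F h) := by
  have hp' : IsSmallExt p' := Groth.Agent.S12711.result h hf''
  obtain ⟨PB, pr₁, pr₂, hPB⟩ := Groth.Agent.S12710.result p' p' hp'.1
  obtain ⟨P'', π₁, π₂, hP''⟩ := Groth.Agent.S12710.result f'' f'' hf''.1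
  obtain ⟨t₁, ht₁⟩ := hp'.2.2.1
  have ht₁mem : p' t₁ = 0 := by
    have : t₁ ∈ RingHom.ker p'.toAlgHom := by rw [ht₁]; exact Ideal.mem_span_singleton_self t₁
    exact this
  -- the image of `t₁` generates the kernel of `f''`
  have hker'' : RingHom.ker f''.toAlgHom = Ideal.span {p'' t₁} := by
    apply le_antisymm
    · intro x hx
      have hx0 : f'' x = 0 := hx
      obtain ⟨b, hb1, hb2⟩ := h.surj 0 x (by rw [hx0]; exact map_zero f'.toAlgHom)
      have hbker : b ∈ RingHom.ker p'.toAlgHom := hb1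
      rw [ht₁, Ideal.mem_span_singleton'] at hbker
      obtain ⟨c, hc⟩ := hbker
      rw [Ideal.mem_span_singleton']
      refine ⟨p'' c, ?_⟩
      rw [← hb2, ← hc]
      exact (map_mul p''.toAlgHom c t₁).symm
    · rw [Ideal.span_le, Set.singleton_subset_iff]
      change f'' (p'' t₁) = 0
      rw [← h.w_apply, ht₁mem]
      exact map_zero f'.toAlgHom
  obtain ⟨gB, hgB, hPgB⟩ := exists_toDual_of_isSmallExt p' hp' t₁ ht₁ pr₁ pr₂ hPB
  obtain ⟨g'', hg'', hPg''⟩ := exists_toDual_of_isSmallExt f'' hf'' (p'' t₁) hker'' π₁ π₂ hP''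
  obtain ⟨ρ, hρ1, hρ2⟩ := Groth.Agent.Lib.Helper65.isFibreProd_exists_lift hP'' (pr₁ ≫ p'')
    (pr₂ ≫ p'') (by rw [Category.assoc, Category.assoc, ← h.w, ← Category.assoc, hPB.w,
      Category.assoc])
  have hρ1' : ∀ z : PB, π₁ (ρ z) = p'' (pr₁ z) := fun z => by
    change (ρ ≫ π₁) z = (pr₁ ≫ p'') z
    rw [hρ1]
  have hρ2' : ∀ z : PB, π₂ (ρ z) = p'' (pr₂ z) := fun z => by
    change (ρ ≫ π₂) z = (pr₂ ≫ p'') z
    rw [hρ2]
  have hρg : ρ ≫ g'' = gB := by
    apply hom_ext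
    apply AlgHom.ext
    intro z
    have hmem : pr₂ z - pr₁ z ∈ RingHom.ker p'.toAlgHom := by
      rw [RingHom.mem_ker, map_sub, sub_eq_zero]
      exact (hPB.w_apply z).symm
    rw [ht₁, Ideal.mem_span_singleton'] at hmem
    obtain ⟨c, hc⟩ := hmem
    refine TrivSqZeroExt.ext ?_ ?_
    · change TrivSqZeroExt.fst (g'' (ρ z)) = TrivSqZeroExt.fst (gB z)
      have e1 := Art.res_app g'' (ρ z)
      have e2 := Art.res_app gB z
      change TrivSqZeroExt.fst (g'' (ρ z)) = P''.res (ρ z) at e1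
      change TrivSqZeroExt.fst (gB z) = PB.res z at e2
      rw [e1, e2, Art.res_app ρ z]
    · change TrivSqZeroExt.snd (g'' (ρ z)) = TrivSqZeroExt.snd (gB z)
      rw [hgB z c hc.symm, hg'' (ρ z) (p'' c) ?_, Art.res_app p'' c]
      rw [hρ1', hρ2', ← map_sub p''.toAlgHom, ← hc]
      exact map_mul p''.toAlgHom c t₁
  obtain ⟨δB, hδB1, hδB2⟩ := Groth.Agent.Lib.Helper65.isFibreProd_exists_lift hPB (𝟙 B) (𝟙 B) rfl
  obtain ⟨δ'', hδ''1, hδ''2⟩ :=
    Groth.Agent.Lib.Helper65.isFibreProd_exists_lift hP'' (𝟙 A'') (𝟙 A'') rfl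
  have hδBg := diag_comp_toDual t₁ pr₁ pr₂ gB hgB δB hδB1 hδB2
  have hδ''g := diag_comp_toDual (p'' t₁) π₁ π₂ g'' hg'' δ'' hδ''1 hδ''2
  intro z z' hzz
  have h1 : F.map p' z = F.map p' z' := congrArg (fun t : FibProd F f' f'' => t.1.1) hzz
  have h2 : F.map p'' z = F.map p'' z' := congrArg (fun t : FibProd F f' f'' => t.1.2) hzz
  obtain ⟨w, hw⟩ := hbar pr₁ pr₂ p' p' hPB hp' ⟨(z, z'), h1⟩
  have hw1 : F.map pr₁ w = z := congrArg (fun t : FibProd F p' p' => t.1.1) hw
  have hw2 : F.map pr₂ w = z' := congrArg (fun t : FibProd F p' p' => t.1.2) hw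
  have hw'' : F.map ρ w = F.map δ'' (F.map p'' z) := by
    apply (hsq π₁ π₂ f'' hP'' hf'').1
    apply FibProd.ext
    · change F.map π₁ (F.map ρ w) = F.map π₁ (F.map δ'' (F.map p'' z))
      rw [← Functor.map_comp_apply, hρ1, Functor.map_comp_apply, hw1, ← Functor.map_comp_apply F δ'',
        hδ''1, Functor.map_id_apply]
    · change F.map π₂ (F.map ρ w) = F.map π₂ (F.map δ'' (F.map p'' z))
      rw [← Functor.map_comp_apply, hρ2, Functor.map_comp_apply, hw2, ← Functor.map_comp_apply F δ'',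
        hδ''2, Functor.map_id_apply, h2]
  have hgw : F.map gB w = F.map gB (F.map δB z) := by
    have e1 : F.map gB w = F.map g'' (F.map ρ w) := by
      rw [← Functor.map_comp_apply, hρg]
    have e2 : p'' ≫ δ'' ≫ g'' = δB ≫ gB := by
      rw [hδ''g, hδBg, ← Category.assoc, eq_toBase (p'' ≫ toBase A'')]
    rw [e1, hw'', ← Functor.map_comp_apply, ← Functor.map_comp_apply, e2, Functor.map_comp_apply]
  have hwδ : w = F.map δB z := by
    apply (heps pr₁ gB hPgB).1
    apply FibProd.ext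
    · change F.map pr₁ w = F.map pr₁ (F.map δB z)
      rw [hw1, ← Functor.map_comp_apply, hδB1, Functor.map_id_apply]
    · exact hgw
  rw [← hw2, hwδ, ← Functor.map_comp_apply, hδB2, Functor.map_id_apply]

end Reduction

end Groth.Agent.Lib.Helper9
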