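import Groth.Prelude.Def_W4sfdMinVersal
import Groth.Agent.Lib.Helper9.ArtTangent
import Groth.Agent.Lib.Helper9.ArtFun
import Groth.Agent.S12714
import Groth.Agent.Lib.Helper63.ArtFun

/-!
# Morphisms of complete local coefficient rings and tangent vectors (helper9)

* `cring_surjective_of_tangent_injective`: a morphism `f : R' → R` of coefficient rings such that
  `ψ ↦ ψ ∘ f` is injective on augmented maps `R → k[ε]` is surjective.
* `homSet_dual_factor_trunc_one`: every augmented map `R → k[ε]` factors through `R/m²`.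
-/

set_option autoImplicit false
universe u v
open CategoryTheory

namespace Groth.Agent.Lib.Helper9

open ArtFun ArtFun.Art

variable {Λ : Type u} {k : Type u} [CommRing Λ] [Field k] [Algebra Λ k]

/-- The zero tangent vector `R → k → k[ε]`. -/
def zeroTangent {R : Type u} [CommRing R] [Algebra Λ R] (res : R →ₐ[Λ] k) :
    HomSet R res (dual Λ k) :=
  ⟨dualHomOfDeriv res (fun _ => 0) (fun _ _ => (add_zero 0).symm)
    (fun _ _ => by rw [mul_zero, zero_mul, add_zero]) (fun _ => rfl), AlgHom.ext fun _ => rfl⟩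

theorem cring_surjective_of_tangent_injective [IsNoetherianRing Λ] [Module.Finite Λ k]
    (R' R : CRing Λ k) (f : R'.carrier →ₐ[Λ] R.carrier) (hf : R.res.comp f = R'.res)
    (hinj : ∀ ψ₁ ψ₂ : HomSet R.carrier R.res (dual Λ k), ψ₁.1.comp f = ψ₂.1.comp f → ψ₁ = ψ₂) :
    Function.Surjective f := by
  set m := IsLocalRing.maximalIdeal R.carrier with hm
  set I : Ideal R.carrier := Ideal.map f (IsLocalRing.maximalIdeal R'.carrier) ⊔ m ^ 2 with hI
  have hI2 : Ideal.map f (IsLocalRing.maximalIdeal R'.carrier) ≤ m := by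
    rw [Ideal.map_le_iff_le_comap]
    exact CRing.maximalIdeal_le_comap (R' := R') (R := R) f hf
  have hIm : I ≤ m := sup_le hI2 (Ideal.pow_le_self two_ne_zero)
  have hcond : I = m := by
    apply le_antisymm hIm
    intro x hxm
    by_contra hx
    have hfs : Function.Surjective (R.res.comp f) := by
      rw [hf]; exact R'.res_surjective
    obtain ⟨ψ, hψ1, -, hψ3, hψ4⟩ := exists_tangent_of_not_mem' R.res R.res_surjective f hfs I hIm
      le_sup_right
      (fun c hc => le_sup_left (α := Ideal R.carrier) (Ideal.mem_map_of_mem _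
        ((R'.mem_maximalIdeal_iff c).2 (by rw [← hf]; exact hc)))) x hxm hx
    have h0 := hinj ⟨ψ, hψ1⟩ (zeroTangent R.res) (by
      apply AlgHom.ext
      intro c
      refine TrivSqZeroExt.ext ?_ ?_
      · change TrivSqZeroExt.fst (ψ (f c)) = R.res (f c)
        rw [← hψ1]; rfl
      · change TrivSqZeroExt.snd (ψ (f c)) = 0
        exact hψ3 c)
    apply hψ4
    have := congrArg (fun t : HomSet R.carrier R.res (dual Λ k) => TrivSqZeroExt.snd (t.1 x)) h0
    exact this
  have htfae := Groth.Agent.S12714.result R' R f hf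
  exact (htfae.out 1 0).1 hcond

/-- Every augmented map `R → k[ε]` factors through `R/m²`. -/
theorem homSet_dual_factor_trunc_one (R : CRing Λ k) (ψ : HomSet R.carrier R.res (dual Λ k)) :
    ∃ ψbar : R.trunc 1 ⟶ dual Λ k, HomSet.map ψbar (R.truncHom 1) = ψ := by
  have hker : ∀ a ∈ R.mpow 1, ψ.1 a = 0 := by
    intro a ha
    have ha' : a ∈ IsLocalRing.maximalIdeal R.carrier * IsLocalRing.maximalIdeal R.carrier := by
      have : R.mpow 1 = IsLocalRing.maximalIdeal R.carrier * IsLocalRing.maximalIdeal R.carrier := by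
        change IsLocalRing.maximalIdeal R.carrier ^ (1 + 1) = _
        rw [pow_two]
      rwa [this] at ha
    refine Submodule.mul_induction_on ha' ?_ ?_
    · intro x hx y hy
      rw [map_mul]
      apply dualNumber_mul_eq_zero
      · have := congrArg (fun t : R.carrier →ₐ[Λ] k => t x) ψ.2
        change TrivSqZeroExt.fst (ψ.1 x) = R.res x at this
        rw [this, (R.mem_maximalIdeal_iff x).1 hx]
      · have := congrArg (fun t : R.carrier →ₐ[Λ] k => t y) ψ.2
        change TrivSqZeroExt.fst (ψ.1 y) = R.res y at this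
        rw [this, (R.mem_maximalIdeal_iff y).1 hy]
    · intro x y hx hy
      rw [map_add, hx, hy, add_zero]
  refine ⟨⟨Ideal.Quotient.liftₐ (R.mpow 1) ψ.1 hker, ?_⟩, ?_⟩
  · apply AlgHom.ext
    intro x
    obtain ⟨a, rfl⟩ := Ideal.Quotient.mk_surjective x
    exact congrArg (fun t : R.carrier →ₐ[Λ] k => t a) ψ.2
  · apply Subtype.ext
    apply AlgHom.ext
    intro a
    rfl

/-- Transporting a family along `g` and taking formal elements is pushing the formal element. -/
theorem along_toFormalElt_eq_push {F : Art Λ k ⥤ Type v} {R' R : CRing Λ k}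
    (ξ : Family R'.carrier R'.res F) (g : R'.carrier →ₐ[Λ] R.carrier) (hg : R.res.comp g = R'.res) :
    (ξ.along g hg).toFormalElt = ξ.toFormalElt.push g hg := by
  apply FormalElt.ext'
  intro n
  change ξ.app (R.trunc n) ⟨(R.truncHom n).1.comp g, _⟩ =
    F.map (CRing.truncMapOfHom g hg n) (ξ.app _ (R'.truncHom n))
  rw [← ξ.natural]
  congr 1

/-- Precomposition of an element of `h_R(A)` with an augmented endomorphism of `R`. -/
def homSetPrecomp {R : Type u} [CommRing R] [Algebra Λ R] {res : R →ₐ[Λ] k} (α : R →ₐ[Λ] R)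
    (hα : res.comp α = res) {A : Art Λ k} (u : HomSet R res A) : HomSet R res A :=
  ⟨u.1.comp α, by rw [← AlgHom.comp_assoc, u.2, hα]⟩

lemma map_homSetPrecomp {R : Type u} [CommRing R] [Algebra Λ R] {res : R →ₐ[Λ] k} (α : R →ₐ[Λ] R)
    (hα : res.comp α = res) {A B : Art Λ k} (f : A ⟶ B) (u : HomSet R res A) :
    HomSet.map f (homSetPrecomp α hα u) = homSetPrecomp α hα (HomSet.map f u) :=
  Subtype.ext rfl

lemma along_app_eq {R : Type u} [CommRing R] [Algebra Λ R] {res : R →ₐ[Λ] k}
    {F : Art Λ k ⥤ Type v} (ξ : Family R res F) (α : R →ₐ[Λ] R)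
    (hα : res.comp α = res) {A : Art Λ k} (u : HomSet R res A) :
    (ξ.along α hα).app A u = ξ.app A (homSetPrecomp α hα u) := rfl

/-- Yoneda-type formula: if the formal element of `ξ` transported along `α` is the image of the formal
element of `ξ` under `φ : F ⟶ F`, then `φ (ξ u) = ξ (u ∘ α)` for every `u`. -/
theorem app_eq_of_along_toFormalElt_eq_map {F : Art Λ k ⥤ Type v} (R : CRing Λ k)
    (ξ : Family R.carrier R.res F) (φ : F ⟶ F) (α : R.carrier →ₐ[Λ] R.carrier)
    (hα : R.res.comp α = R.res) (hαξ : (ξ.along α hα).toFormalElt = ξ.toFormalElt.map φ)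
    (A : Art Λ k) (u : HomSet R.carrier R.res A) :
    φ.app A (ξ.app A u) = ξ.app A (homSetPrecomp α hα u) := by
  obtain ⟨n, ubar, hu⟩ := Groth.Agent.Lib.Helper63.ArtFunLib.exists_factor_trunc R A u
  have e2 : φ.app _ (ξ.app _ (R.truncHom n)) = ξ.app _ (homSetPrecomp α hα (R.truncHom n)) :=
    (congrArg (fun t : FormalElt F R => t.elt n) hαξ).symm
  rw [← hu, ξ.natural, NatTrans.naturality_apply, e2, ← ξ.natural, map_homSetPrecomp]

end Groth.Agent.Lib.Helper9
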