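import Groth.Prelude.Def_ArtFun2
import Mathlib.RingTheory.LocalRing.Pullback
import Mathlib.RingTheory.FiniteLength
import Mathlib.RingTheory.SimpleModule.Basic
import Mathlib.RingTheory.Artinian.Ring
import Mathlib.RingTheory.HopkinsLevitzki
import Mathlib.RingTheory.Ideal.Quotient.Operations

/-!
# Fibre products in the category of Artinian local algebras (helper9)

If `k` is an Artinian `Λ`-module (for instance `Λ → k` surjective, or `Λ` Noetherian and `k` finite
over `Λ`), every object of `Art Λ k` is an Artinian `Λ`-module, hence the set-theoretic fibre product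
`A₁ ×_A A₂` along a surjection `A₂ → A` is again an object of `Art Λ k`.
-/

set_option autoImplicit false
universe u v
open CategoryTheory

namespace Groth.Agent.Lib.Helper9

open ArtFun ArtFun.Art

/-- A finite-length module over a local ring `C` is Artinian over any base ring `Λ` over which the
residue field of `C` is Artinian. -/
theorem isArtinian_of_isFiniteLength_of_isLocalRing
    {Λ : Type*} [CommRing Λ] {C : Type*} [CommRing C] [Algebra Λ C] [IsLocalRing C]
    (hk : IsArtinian Λ (C ⧸ IsLocalRing.maximalIdeal C))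
    {M : Type*} [AddCommGroup M] [Module C M] (h : IsFiniteLength C M) :
    ∀ [Module Λ M] [IsScalarTower Λ C M], IsArtinian Λ M := by
  induction h with
  | of_subsingleton =>
    intro _ _
    exact isArtinian_of_finite
  | @of_simple_quotient M _ _ N hs _ ih =>
    intro _ _
    have h1 : IsArtinian Λ N := ih
    have h2 : IsArtinian Λ (M ⧸ N) := by
      obtain ⟨I, hI, ⟨e⟩⟩ := isSimpleModule_iff_quot_maximal.mp hs
      have hIm : I = IsLocalRing.maximalIdeal C := IsLocalRing.eq_maximalIdeal hI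
      subst hIm
      exact isArtinian_of_linearEquiv (e.symm.restrictScalars Λ)
    exact isArtinian_of_range_eq_ker (N.subtype.restrictScalars Λ) (N.mkQ.restrictScalars Λ)
      (by ext x; simp)

variable {Λ : Type u} {k : Type u} [CommRing Λ] [Field k] [Algebra Λ k]

/-- Every object of `Art Λ k` is an Artinian `Λ`-module when `k` is. -/
theorem art_isArtinian (hk0 : IsArtinian Λ k) (C : Art Λ k) : IsArtinian Λ C := by
  have hle : ∀ a ∈ IsLocalRing.maximalIdeal C, C.res a = 0 :=
    fun a ha => (Art.mem_maximalIdeal_iff C a).1 ha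
  let φ : (C ⧸ IsLocalRing.maximalIdeal C) →ₐ[Λ] k :=
    Ideal.Quotient.liftₐ (IsLocalRing.maximalIdeal C) C.res hle
  have hφ : Function.Injective φ := by
    rw [injective_iff_map_eq_zero]
    intro x hx
    obtain ⟨a, rfl⟩ := Ideal.Quotient.mk_surjective x
    rw [Ideal.Quotient.eq_zero_iff_mem, Art.mem_maximalIdeal_iff]
    exact hx
  have hk : IsArtinian Λ (C ⧸ IsLocalRing.maximalIdeal C) :=
    isArtinian_of_injective φ.toLinearMap hφ
  have hfl : IsFiniteLength C C :=
    isFiniteLength_iff_isNoetherian_isArtinian.mpr ⟨inferInstance, inferInstance⟩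
  exact isArtinian_of_isFiniteLength_of_isLocalRing hk hfl

/-- `k` is an Artinian `Λ`-module when `Λ → k` is surjective. -/
theorem isArtinian_of_surjective_algebraMap_field (hk : Function.Surjective (algebraMap Λ k)) :
    IsArtinian Λ k :=
  isArtinian_of_surjective_algebraMap hk

/-- Existence of fibre products `A₁ ×_A A₂` in `Art Λ k` along a surjection `A₂ → A`. -/
theorem exists_isFibreProd_of_surjective' (hk0 : IsArtinian Λ k)
    {A A₁ A₂ : Art Λ k} (f₁ : A₁ ⟶ A) (f₂ : A₂ ⟶ A) (hf₂ : Function.Surjective f₂) :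
    ∃ (B : Art Λ k) (p₁ : B ⟶ A₁) (p₂ : B ⟶ A₂), IsFibreProd p₁ p₂ f₁ f₂ := by
  let S := AlgHom.pullback f₁.toAlgHom f₂.toAlgHom
  have : IsLocalHom f₂.toAlgHom := Art.isLocalHom f₂
  have : IsLocalRing S := AlgHom.isLocalRing_pullback f₁.toAlgHom f₂.toAlgHom
  have h1 : IsArtinian Λ A₁ := art_isArtinian hk0 A₁
  have h2 : IsArtinian Λ A₂ := art_isArtinian hk0 A₂
  have h3 : IsArtinian Λ S := isArtinian_of_injective S.val.toLinearMap Subtype.val_injective
  have : IsArtinianRing S := isArtinian_of_tower Λ h3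
  have hfst : Function.Surjective (AlgHom.pullbackFst f₁.toAlgHom f₂.toAlgHom) :=
    AlgHom.surjective_pullbackFst_of_surjective _ _ hf₂
  let B : Art Λ k := Art.of S (A₁.res.comp (AlgHom.pullbackFst f₁.toAlgHom f₂.toAlgHom))
    (A₁.res_surjective.comp hfst)
  let p₁ : B ⟶ A₁ := ⟨AlgHom.pullbackFst f₁.toAlgHom f₂.toAlgHom, rfl⟩
  let p₂ : B ⟶ A₂ := ⟨AlgHom.pullbackSnd f₁.toAlgHom f₂.toAlgHom, by
    apply AlgHom.ext
    intro x
    change A₂.res (x.1.2) = A₁.res (x.1.1)
    have hx : f₁.toAlgHom x.1.1 = f₂.toAlgHom x.1.2 := x.2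
    rw [← Art.res_app f₂, ← Art.res_app f₁]
    exact congrArg A.res hx.symm⟩
  refine ⟨B, p₁, p₂, ?_, ?_, ?_⟩
  · apply hom_ext
    apply AlgHom.ext
    intro x
    exact x.2
  · intro b₁ b₂ h1 h2
    exact Subtype.ext (Prod.ext h1 h2)
  · intro a' a'' h
    exact ⟨⟨(a', a''), h⟩, rfl, rfl⟩

end Groth.Agent.Lib.Helper9
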