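import Groth.Agent.S12707
import Groth.Agent.S12710
import Groth.Agent.Lib.Helper9.ArtFun
import Groth.Agent.Lib.Helper63.ArtFun

/-! Versality of families: reduction to small extensions, `h_R` is left exact (helper9). -/

set_option autoImplicit false
universe u v
open CategoryTheory

namespace Groth.Agent.Lib.Helper9

open ArtFun ArtFun.Art
open Groth.Agent.Lib.Helper63.ArtFunLib

variable {Λ : Type u} {k : Type u} [CommRing Λ] [Field k] [Algebra Λ k]

section HR

variable {R : Type u} [CommRing R] [Algebra Λ R] {resR : R →ₐ[Λ] k}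

lemma homSet_map_comp {A B C : Art Λ k} (f : A ⟶ B) (g : B ⟶ C) (φ : HomSet R resR A) :
    HomSet.map (f ≫ g) φ = HomSet.map g (HomSet.map f φ) :=
  Subtype.ext (AlgHom.ext fun _ => rfl)

lemma homSet_map_id {A : Art Λ k} (φ : HomSet R resR A) : HomSet.map (𝟙 A) φ = φ :=
  Subtype.ext (AlgHom.ext fun _ => rfl)

/-- `h_R(k)` is a point. -/
theorem hR_H0 : H0 (hR R resR) :=
  ⟨⟨(homSetBase : HomSet R resR (base Λ k))⟩,
    ⟨fun a b => (homSet_base_eq a).trans (homSet_base_eq b).symm⟩⟩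

/-- `h_R` preserves fibre products. -/
theorem hR_cmp_bijective {B A A' A'' : Art Λ k} {p' : B ⟶ A'} {p'' : B ⟶ A''} {f' : A' ⟶ A}
    {f'' : A'' ⟶ A} (h : IsFibreProd p' p'' f' f'') :
    Function.Bijective (cmp (hR R resR) h) := by
  constructor
  · intro θ₁ θ₂ he
    apply homSet_ext_of_isFibreProd h
    · exact congrArg (fun z : FibProd (hR R resR) f' f'' => z.1.1) he
    · exact congrArg (fun z : FibProd (hR R resR) f' f'' => z.1.2) he
  · rintro ⟨⟨φ', φ''⟩, hφ⟩
    obtain ⟨θ, h1, h2⟩ := exists_homSet_lift_of_isFibreProd h φ' φ'' hφ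
    exact ⟨θ, FibProd.ext h1 h2⟩

theorem hR_S1 : S1 (hR R resR) := fun _ _ _ _ _ _ _ _ h _ => (hR_cmp_bijective h).2

theorem hR_Heps : Heps (hR R resR) := fun _ _ _ _ h => hR_cmp_bijective h

end HR

section Versal

variable [IsNoetherianRing Λ] [Module.Finite Λ k]
variable {R : Type u} [CommRing R] [Algebra Λ R] {resR : R →ₐ[Λ] k}

/-- Versality may be tested on small extensions. -/
theorem isVersal_of_smallExt {F : Art Λ k ⥤ Type v} (ξ : Family R resR F)
    (h : ∀ ⦃B A : Art Λ k⦄ (μ : B ⟶ A), IsSmallExt μ →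
      ∀ (φ : HomSet R resR A) (y : F.obj B), F.map μ y = ξ.app A φ →
        ∃ ψ : HomSet R resR B, HomSet.map μ ψ = φ ∧ ξ.app B ψ = y) : IsVersal ξ := by
  intro B A μ hμ
  refine Groth.Agent.S12707.result (fun A B μ => ∀ (φ : HomSet R resR A) (y : F.obj B),
    F.map μ y = ξ.app A φ → ∃ ψ : HomSet R resR B, HomSet.map μ ψ = φ ∧ ξ.app B ψ = y)
    ?_ ?_ ?_ μ hμ
  · intro A B e he φ y hy
    refine ⟨HomSet.map (inv e) φ, ?_, ?_⟩
    · rw [← homSet_map_comp, IsIso.inv_hom_id, homSet_map_id]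
    · rw [ξ.natural, ← hy, ← Functor.map_comp_apply, IsIso.hom_inv_id, Functor.map_id_apply]
  · intro A B p hp
    exact h p hp
  · intro A B C p q hp hq φ y hy
    obtain ⟨ψ₁, h1, h2⟩ := hq φ (F.map p y) (by rw [← Functor.map_comp_apply]; exact hy)
    obtain ⟨ψ₂, h3, h4⟩ := hp ψ₁ y h2.symm
    exact ⟨ψ₂, by rw [homSet_map_comp, h3, h1], h4⟩

/-- The versality criterion: tangent surjectivity plus bare liftability along small extensions. -/
theorem isVersal_of_tangent_surjective_of_exists_lift {F : Art Λ k ⥤ Type v}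
    (h1 : S1 F) (h2 : Heps F) (ξ : Family R resR F)
    (hd : Function.Surjective (ξ.app (dual Λ k)))
    (hl : ∀ ⦃B A : Art Λ k⦄ (μ : B ⟶ A), IsSmallExt μ →
      ∀ (φ : HomSet R resR A) (y : F.obj B), F.map μ y = ξ.app A φ →
        ∃ ψ : HomSet R resR B, HomSet.map μ ψ = φ) : IsVersal ξ := by
  apply isVersal_of_smallExt
  intro B A μ hμ φ y hy
  obtain ⟨ψ₀, hψ₀⟩ := hl μ hμ φ y hy
  exact exists_lift_compatible_of_tangent_surjective' (F := hR R resR) (G := F)
    (fun A => ξ.app A) (fun f x => ξ.natural f x) hR_H0 hR_S1 h1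
    (fun _ _ p' p'' h => (h2 p' p'' h).1) hd μ hμ
    (Groth.Agent.S12710.result μ μ hμ.1) φ y hy.symm ψ₀ hψ₀

end Versal

end Groth.Agent.Lib.Helper9
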