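import Mathlib
import Groth.Agent.Lib.Helper83.CompleteNoeth
import Groth.Agent.Lib.Helper64.ArtThicken
import Groth.Prelude.Def_ArtFun5

/-! Smooth coefficient rings: the completion of a polynomial ring over `Λ` at a maximal ideal with
residue field `k` is a complete local Noetherian `Λ`-algebra whose functor `h_S` is smooth; it can
be chosen to surject onto any given object of `Art Λ k` (helper9). -/

set_option autoImplicit false
universe u v
open CategoryTheory

namespace Groth.Agent.Lib.Helper9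

open ArtFun ArtFun.Art

variable {Λ : Type u} {k : Type u} [CommRing Λ] [Field k] [Algebra Λ k]

section Completion

variable (P : Type u) [CommRing P] [Algebra Λ P] [IsNoetherianRing P] (ρ : P →ₐ[Λ] k)

/-- The kernel of the augmentation. -/
abbrev augKer : Ideal P := RingHom.ker (ρ : P →+* k)

variable {P}

lemma augKer_isMaximal (hρ : Function.Surjective ρ) : (augKer P ρ).IsMaximal :=
  RingHom.ker_isMaximal_of_surjective (ρ : P →+* k) hρ

lemma augKer_fg : (augKer P ρ).FG := (augKer P ρ).fg_of_isNoetherianRing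

/-- the maximal ideal of the completion -/
noncomputable abbrev complMax : Ideal (AdicCompletion (augKer P ρ) P) :=
  (augKer P ρ).map (algebraMap P (AdicCompletion (augKer P ρ) P))

lemma complMax_isMaximal (hρ : Function.Surjective ρ) : (complMax ρ).IsMaximal :=
  haveI := augKer_isMaximal ρ hρ
  AdicCompletion.isMaximal_map_of_le (augKer P ρ) (augKer P ρ) le_rfl (augKer_fg ρ)

lemma complMax_isAdicComplete :
    IsAdicComplete (complMax ρ) (AdicCompletion (augKer P ρ) P) :=
  AdicCompletion.isAdicComplete_self (augKer P ρ) (augKer_fg ρ)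

lemma compl_isLocalRing (hρ : Function.Surjective ρ) :
    IsLocalRing (AdicCompletion (augKer P ρ) P) :=
  haveI := complMax_isMaximal ρ hρ
  haveI := complMax_isAdicComplete ρ
  isLocalRing_of_isAdicComplete_maximal (complMax ρ)

lemma compl_maximalIdeal_eq (hρ : Function.Surjective ρ) :
    haveI := compl_isLocalRing ρ hρ
    IsLocalRing.maximalIdeal (AdicCompletion (augKer P ρ) P) = complMax ρ :=
  haveI := compl_isLocalRing ρ hρ
  (IsLocalRing.eq_maximalIdeal (complMax_isMaximal ρ hρ)).symm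

lemma compl_isNoetherianRing (hρ : Function.Surjective ρ) :
    IsNoetherianRing (AdicCompletion (augKer P ρ) P) := by
  haveI := complMax_isMaximal ρ hρ
  haveI := complMax_isAdicComplete ρ
  letI : Field (AdicCompletion (augKer P ρ) P ⧸ complMax ρ) := Ideal.Quotient.field _
  exact Groth.Agent.Lib.Helper83.isNoetherianRing_of_isAdicComplete (complMax ρ)
    ((augKer_fg ρ).map _)

/-- The augmentation of the completion. -/
noncomputable def complRes : AdicCompletion (augKer P ρ) P →ₐ[Λ] k :=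
  (Ideal.Quotient.liftₐ (augKer P ρ) ρ (fun _ ha => ha)).comp
    ((AdicCompletion.evalOneₐ (augKer P ρ)).restrictScalars Λ)

lemma complRes_of (p : P) : complRes ρ (AdicCompletion.of (augKer P ρ) P p) = ρ p := rfl

lemma complRes_surjective (hρ : Function.Surjective ρ) : Function.Surjective (complRes ρ) := by
  intro c
  obtain ⟨p, rfl⟩ := hρ c
  exact ⟨AdicCompletion.of (augKer P ρ) P p, complRes_of ρ p⟩

/-- The completion of `P` at the kernel of `ρ` as a coefficient ring. -/
noncomputable def complCRing (hρ : Function.Surjective ρ) : CRing Λ k :=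
  letI := compl_isLocalRing ρ hρ
  letI := compl_isNoetherianRing ρ hρ
  { carrier := AdicCompletion (augKer P ρ) P
    res := complRes ρ
    res_surjective := complRes_surjective ρ hρ
    isAdicComplete := by
      rw [compl_maximalIdeal_eq ρ hρ]
      exact complMax_isAdicComplete ρ }

lemma mem_complMax_pow_of_evalₐ_eq_zero (N : ℕ) (x : AdicCompletion (augKer P ρ) P)
    (hx : AdicCompletion.evalₐ (augKer P ρ) N x = 0) : x ∈ complMax ρ ^ N := by
  have hx' : x ∈ LinearMap.ker (AdicCompletion.eval (augKer P ρ) P N) := by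
    rw [LinearMap.mem_ker]
    have h := AdicCompletion.factor_evalₐ_eq_eval (I := augKer P ρ) x (n := N) (by simp)
    rw [← h, hx, map_zero]
  rw [← AdicCompletion.pow_smul_top_eq_ker_eval (augKer_fg ρ)] at hx'
  rw [← Ideal.map_pow, ← Submodule.restrictScalars_mem P, ← Ideal.smul_top_eq_map]
  exact hx'

end Completion

section General

/-- The maximal ideal of an object of `Art` is nilpotent. -/
lemma art_exists_pow_maximalIdeal_eq_bot (B : Art Λ k) :
    ∃ N : ℕ, IsLocalRing.maximalIdeal B ^ (N + 1) = ⊥ := by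
  have h := IsArtinianRing.isNilpotent_jacobson_bot (R := B)
  rw [IsLocalRing.jacobson_eq_maximalIdeal ⊥ bot_ne_top] at h
  obtain ⟨N, hN⟩ := h
  refine ⟨N, ?_⟩
  rw [pow_succ, hN]
  simp

/-- A map of `h_S(B)` sends the maximal ideal of `S` into that of `B`. -/
lemma homSet_map_maximalIdeal_le {S : CRing Λ k} {B : Art Λ k} (ψ : HomSet S.carrier S.res B) :
    IsLocalRing.maximalIdeal S.carrier ≤
      (IsLocalRing.maximalIdeal B).comap (ψ.1 : S.carrier →+* B) := by
  intro z hz
  rw [Ideal.mem_comap, Art.mem_maximalIdeal_iff]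
  have h : B.res (ψ.1 z) = S.res z := congrArg (fun t : S.carrier →ₐ[Λ] k => t z) ψ.2
  rw [RingHom.coe_coe, h]
  exact (CRing.mem_maximalIdeal_iff S z).1 hz

lemma homSet_apply_eq_zero_of_mem_pow {S : CRing Λ k} {B : Art Λ k}
    (ψ : HomSet S.carrier S.res B) {N : ℕ} (hN : IsLocalRing.maximalIdeal B ^ N = ⊥)
    {y : S.carrier} (hy : y ∈ IsLocalRing.maximalIdeal S.carrier ^ N) : ψ.1 y = 0 := by
  have h1 : IsLocalRing.maximalIdeal S.carrier ^ N ≤
      (IsLocalRing.maximalIdeal B ^ N).comap (ψ.1 : S.carrier →+* B) :=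
    (Ideal.pow_right_mono (homSet_map_maximalIdeal_le ψ) N).trans (Ideal.le_comap_pow _ N)
  have h2 := h1 hy
  rw [hN, Ideal.mem_comap, Ideal.mem_bot] at h2
  exact h2

end General

section Extend

variable {P : Type u} [CommRing P] [Algebra Λ P] [IsNoetherianRing P] (ρ : P →ₐ[Λ] k)
  (hρ : Function.Surjective ρ)

lemma complRes_eq_zero_of_mem_complMax {x : AdicCompletion (augKer P ρ) P}
    (hx : x ∈ complMax ρ) : complRes ρ x = 0 := by
  have h : complMax ρ ≤ RingHom.ker (complRes ρ : AdicCompletion (augKer P ρ) P →+* k) := by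
    rw [Ideal.map_le_iff_le_comap]
    intro p hp
    rw [Ideal.mem_comap, RingHom.mem_ker]
    exact hp
  exact h hx

/-- Every element of the completion is congruent to a polynomial modulo a power of the maximal
ideal. -/
lemma exists_of_sub_mem (N : ℕ) (x : AdicCompletion (augKer P ρ) P) :
    ∃ p : P, AdicCompletion.evalₐ (augKer P ρ) N x = Ideal.Quotient.mk _ p ∧
      x - AdicCompletion.of (augKer P ρ) P p ∈ complMax ρ ^ N := by
  obtain ⟨p, hp⟩ := Ideal.Quotient.mk_surjective (AdicCompletion.evalₐ (augKer P ρ) N x)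
  refine ⟨p, hp.symm, ?_⟩
  apply mem_complMax_pow_of_evalₐ_eq_zero
  rw [map_sub, AdicCompletion.evalₐ_of, hp, sub_self]

/-- Augmented algebra maps out of the polynomial ring extend to the completion. -/
theorem exists_extend (B : Art Λ k) (ψ₀ : P →ₐ[Λ] B) (hψ₀ : B.res.comp ψ₀ = ρ) :
    ∃ ψ : HomSet (complCRing ρ hρ).carrier (complCRing ρ hρ).res B,
      ∀ p : P, ψ.1 (AdicCompletion.of (augKer P ρ) P p) = ψ₀ p := by
  obtain ⟨N, hN⟩ := art_exists_pow_maximalIdeal_eq_bot B
  have hmem : ∀ p ∈ augKer P ρ, ψ₀ p ∈ IsLocalRing.maximalIdeal B := by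
    intro p hp
    rw [Art.mem_maximalIdeal_iff]
    have h : B.res (ψ₀ p) = ρ p := congrArg (fun t : P →ₐ[Λ] k => t p) hψ₀
    rw [h]
    exact hp
  have hle : augKer P ρ ≤ (IsLocalRing.maximalIdeal B).comap (ψ₀ : P →+* B) := hmem
  have hkill : ∀ a ∈ augKer P ρ ^ (N + 1), ψ₀ a = 0 := by
    intro a ha
    have h1 := (Ideal.pow_right_mono hle (N + 1)).trans (Ideal.le_comap_pow _ (N + 1)) ha
    rw [hN, Ideal.mem_comap, Ideal.mem_bot] at h1
    exact h1
  let ψ₁ : P ⧸ augKer P ρ ^ (N + 1) →ₐ[Λ] B := Ideal.Quotient.liftₐ _ ψ₀ hkill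
  let ψ : AdicCompletion (augKer P ρ) P →ₐ[Λ] B :=
    ψ₁.comp ((AdicCompletion.evalₐ (augKer P ρ) (N + 1)).restrictScalars Λ)
  have hψof : ∀ p : P, ψ (AdicCompletion.of (augKer P ρ) P p) = ψ₀ p := by
    intro p
    change ψ₁ (AdicCompletion.evalₐ (augKer P ρ) (N + 1) (AdicCompletion.of (augKer P ρ) P p)) = _
    rw [AdicCompletion.evalₐ_of]
    rfl
  refine ⟨⟨ψ, ?_⟩, hψof⟩
  apply AlgHom.ext
  intro (x : AdicCompletion (augKer P ρ) P)
  obtain ⟨p, hp, hxp⟩ := exists_of_sub_mem ρ (N + 1) x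
  have h1 : B.res (ψ x) = ρ p := by
    change B.res (ψ₁ (AdicCompletion.evalₐ (augKer P ρ) (N + 1) x)) = _
    rw [hp]
    change B.res (ψ₀ p) = _
    exact congrArg (fun t : P →ₐ[Λ] k => t p) hψ₀
  have h2 : complRes ρ x = ρ p := by
    have h3 : complRes ρ (x - AdicCompletion.of (augKer P ρ) P p) = 0 :=
      complRes_eq_zero_of_mem_complMax ρ (Ideal.pow_le_self (Nat.succ_ne_zero N) hxp)
    rw [map_sub, complRes_of, sub_eq_zero] at h3
    exact h3
  change B.res (ψ x) = complRes ρ x
  rw [h1, h2]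

/-- Two augmented maps out of the completion agreeing on polynomials are equal. -/
theorem extend_unique (B : Art Λ k)
    (ψ ψ' : HomSet (complCRing ρ hρ).carrier (complCRing ρ hρ).res B)
    (h : ∀ p : P, ψ.1 (AdicCompletion.of (augKer P ρ) P p) =
      ψ'.1 (AdicCompletion.of (augKer P ρ) P p)) : ψ = ψ' := by
  apply Subtype.ext
  apply AlgHom.ext
  intro (x : AdicCompletion (augKer P ρ) P)
  obtain ⟨N, hN⟩ := art_exists_pow_maximalIdeal_eq_bot B
  obtain ⟨p, -, hxp⟩ := exists_of_sub_mem ρ (N + 1) x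
  have hmax : IsLocalRing.maximalIdeal (complCRing ρ hρ).carrier = complMax ρ :=
    compl_maximalIdeal_eq ρ hρ
  have hxp' : x - AdicCompletion.of (augKer P ρ) P p ∈
      IsLocalRing.maximalIdeal (complCRing ρ hρ).carrier ^ (N + 1) := by
    rw [hmax]; exact hxp
  have e1 := homSet_apply_eq_zero_of_mem_pow ψ hN hxp'
  have e2 := homSet_apply_eq_zero_of_mem_pow ψ' hN hxp'
  have e1' : ψ.1 x - ψ.1 (AdicCompletion.of (augKer P ρ) P p) = 0 :=
    (map_sub ψ.1 x (AdicCompletion.of (augKer P ρ) P p)).symm.trans e1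
  have e2' : ψ'.1 x - ψ'.1 (AdicCompletion.of (augKer P ρ) P p) = 0 :=
    (map_sub ψ'.1 x (AdicCompletion.of (augKer P ρ) P p)).symm.trans e2
  rw [sub_eq_zero] at e1' e2'
  exact e1'.trans ((h p).trans e2'.symm)

/-- `h_S` is smooth for the completion `S` of a polynomial ring. -/
theorem isSmoothFunctor_complCRing {σ : Type u} [Finite σ] [IsNoetherianRing Λ]
    (ρ : MvPolynomial σ Λ →ₐ[Λ] k) (hρ : Function.Surjective ρ) :
    IsSmoothFunctor (hR (complCRing ρ hρ).carrier (complCRing ρ hρ).res) := by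
  intro B A μ hμ φ
  choose b hb using fun i : σ => hμ (φ.1 (AdicCompletion.of (augKer _ ρ) _ (MvPolynomial.X i)))
  let ψ₀ : MvPolynomial σ Λ →ₐ[Λ] B := MvPolynomial.aeval b
  let ι : MvPolynomial σ Λ →ₐ[Λ] AdicCompletion (augKer _ ρ) (MvPolynomial σ Λ) :=
    IsScalarTower.toAlgHom Λ (MvPolynomial σ Λ) _
  have hι : ∀ p, ι p = AdicCompletion.of (augKer _ ρ) _ p := fun p => rfl
  have hcomp : μ.toAlgHom.comp ψ₀ = φ.1.comp ι := by
    apply MvPolynomial.algHom_ext
    intro i
    change μ (MvPolynomial.aeval b (MvPolynomial.X i)) = φ.1 (ι (MvPolynomial.X i))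
    rw [MvPolynomial.aeval_X, hb, hι]
  have hcomp' : ∀ p, μ (ψ₀ p) = φ.1 (AdicCompletion.of (augKer _ ρ) _ p) := fun p =>
    congrArg (fun t : MvPolynomial σ Λ →ₐ[Λ] A => t p) hcomp
  have hres : B.res.comp ψ₀ = ρ := by
    apply AlgHom.ext
    intro p
    change B.res (ψ₀ p) = ρ p
    rw [← Art.res_app μ, hcomp']
    have h : A.res (φ.1 (AdicCompletion.of (augKer _ ρ) _ p)) =
        complRes ρ (AdicCompletion.of (augKer _ ρ) _ p) :=
      congrArg (fun t : (complCRing ρ hρ).carrier →ₐ[Λ] k =>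
        t (AdicCompletion.of (augKer _ ρ) _ p)) φ.2
    rw [h, complRes_of]
  obtain ⟨ψ, hψ⟩ := exists_extend ρ hρ B ψ₀ hres
  refine ⟨ψ, ?_⟩
  apply extend_unique ρ hρ A
  intro p
  change μ (ψ.1 (AdicCompletion.of (augKer _ ρ) _ p)) = _
  rw [hψ, hcomp']

end Extend

section Main

variable [IsNoetherianRing Λ] [Module.Finite Λ k]

/-- For every object `C` there is a smooth coefficient ring surjecting onto `C`. -/
theorem exists_smooth_cring_surjective (C : Art Λ k) :
    ∃ (S : CRing Λ k) (π : HomSet S.carrier S.res C),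
      IsSmoothFunctor (hR S.carrier S.res) ∧ Function.Surjective π.1 := by
  haveI : Module.Finite Λ C := Groth.Agent.Lib.Helper64.finite_art C
  have hft : Algebra.FiniteType Λ C := inferInstance
  obtain ⟨n, f, hf⟩ := Algebra.FiniteType.iff_quotient_mvPolynomial''.1 hft
  let σ : Type u := ULift.{u} (Fin n)
  let f' : MvPolynomial σ Λ →ₐ[Λ] C :=
    f.comp (MvPolynomial.renameEquiv Λ (Equiv.ulift : σ ≃ Fin n)).toAlgHom
  have hf' : Function.Surjective f' :=
    hf.comp (MvPolynomial.renameEquiv Λ (Equiv.ulift : σ ≃ Fin n)).surjective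
  let ρ : MvPolynomial σ Λ →ₐ[Λ] k := C.res.comp f'
  have hρ : Function.Surjective ρ := C.res_surjective.comp hf'
  obtain ⟨π, hπ⟩ := exists_extend ρ hρ C f' rfl
  refine ⟨complCRing ρ hρ, π, isSmoothFunctor_complCRing ρ hρ, ?_⟩
  intro c
  obtain ⟨p, rfl⟩ := hf' c
  exact ⟨AdicCompletion.of (augKer _ ρ) _ p, hπ p⟩

end Main

end Groth.Agent.Lib.Helper9
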