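import Mathlib
import Groth.Agent.Lib.Helper9.ArtSmoothRing

/-! Quotients of coefficient rings: `S/J` as a coefficient ring, `S/K` for open `K` as an object
of `Art`, descent of maps along surjections, and a Chevalley-type lemma on descending chains of
open ideals (helper9). -/

set_option autoImplicit false
universe u v
open CategoryTheory

namespace Groth.Agent.Lib.Helper9

open ArtFun ArtFun.Art

variable {Λ : Type u} {k : Type u} [CommRing Λ] [Field k] [Algebra Λ k]

section Precomplete

variable {R : Type*} [CommRing R] (I : Ideal R) {M N : Type*} [AddCommGroup M] [Module R M]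
  [AddCommGroup N] [Module R N]

/-- A surjective image of a precomplete module is precomplete. -/
theorem isPrecomplete_of_surjective [IsPrecomplete I M] (f : M →ₗ[R] N)
    (hf : Function.Surjective f) : IsPrecomplete I N := by
  rw [← AdicCompletion.of_surjective_iff]
  intro y
  obtain ⟨x, rfl⟩ := AdicCompletion.map_surjective I hf y
  obtain ⟨m, rfl⟩ := AdicCompletion.of_surjective I M x
  exact ⟨f m, (AdicCompletion.map_of I f m).symm⟩

end Precomplete

section Quot

variable (S : CRing Λ k) (J : Ideal S.carrier)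

lemma cring_res_eq_zero_of_mem (hJ : J ≤ IsLocalRing.maximalIdeal S.carrier) {a : S.carrier}
    (ha : a ∈ J) : S.res a = 0 := (CRing.mem_maximalIdeal_iff S a).1 (hJ ha)

lemma cring_ne_top_of_le (hJ : J ≤ IsLocalRing.maximalIdeal S.carrier) : J ≠ ⊤ :=
  fun h => (IsLocalRing.maximalIdeal.isMaximal S.carrier).ne_top (top_le_iff.1 (h ▸ hJ))

lemma isLocalRing_quot (hJ : J ≤ IsLocalRing.maximalIdeal S.carrier) :
    IsLocalRing (S.carrier ⧸ J) :=
  haveI : Nontrivial (S.carrier ⧸ J) :=
    Ideal.Quotient.nontrivial_iff.2 (cring_ne_top_of_le S J hJ)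
  IsLocalRing.of_surjective' (Ideal.Quotient.mk J) Ideal.Quotient.mk_surjective

lemma maximalIdeal_quot_eq (hJ : J ≤ IsLocalRing.maximalIdeal S.carrier) :
    haveI := isLocalRing_quot S J hJ
    IsLocalRing.maximalIdeal (S.carrier ⧸ J) =
      (IsLocalRing.maximalIdeal S.carrier).map (Ideal.Quotient.mk J) := by
  haveI := isLocalRing_quot S J hJ
  have hmax : ((IsLocalRing.maximalIdeal S.carrier).map (Ideal.Quotient.mk J)).IsMaximal :=
    Ideal.IsMaximal.map_of_surjective_of_ker_le Ideal.Quotient.mk_surjective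
      (by rw [Ideal.mk_ker]; exact hJ)
  exact (IsLocalRing.eq_maximalIdeal hmax).symm

/-- The quotient of a coefficient ring by an ideal inside the maximal ideal. -/
noncomputable def cringQuot (hJ : J ≤ IsLocalRing.maximalIdeal S.carrier) : CRing Λ k :=
  letI := isLocalRing_quot S J hJ
  { carrier := S.carrier ⧸ J
    res := Ideal.Quotient.liftₐ J S.res (fun _ ha => cring_res_eq_zero_of_mem S J hJ ha)
    res_surjective := fun c => by
      obtain ⟨a, ha⟩ := S.res_surjective c
      exact ⟨Ideal.Quotient.mk J a, ha⟩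
    isAdicComplete := by
      rw [maximalIdeal_quot_eq S J hJ]
      haveI := S.isAdicComplete
      haveI : IsPrecomplete (IsLocalRing.maximalIdeal S.carrier) (S.carrier ⧸ J) :=
        isPrecomplete_of_surjective (IsLocalRing.maximalIdeal S.carrier)
          (Submodule.mkQ J) (Submodule.mkQ_surjective J)
      have hc : IsAdicComplete (IsLocalRing.maximalIdeal S.carrier) (S.carrier ⧸ J) := {}
      rw [← Ideal.Quotient.algebraMap_eq]
      exact (IsAdicComplete.map_algebraMap_iff _ _).mpr hc }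

/-- The quotient map as an element of `h_S(S/J)`-style data: an augmented algebra map. -/
noncomputable def cringQuotMk (hJ : J ≤ IsLocalRing.maximalIdeal S.carrier) :
    S.carrier →ₐ[Λ] (cringQuot S J hJ).carrier := Ideal.Quotient.mkₐ Λ J

lemma cringQuotMk_res (hJ : J ≤ IsLocalRing.maximalIdeal S.carrier) :
    (cringQuot S J hJ).res.comp (cringQuotMk S J hJ) = S.res :=
  Ideal.Quotient.liftₐ_comp _ _ _

lemma cringQuotMk_surjective (hJ : J ≤ IsLocalRing.maximalIdeal S.carrier) :
    Function.Surjective (cringQuotMk S J hJ) := Ideal.Quotient.mk_surjective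

/-- The quotient of a coefficient ring by an open ideal is Artinian. -/
theorem isArtinianRing_quot_of_open (hJ : J ≤ IsLocalRing.maximalIdeal S.carrier)
    (hopen : ∃ N : ℕ, IsLocalRing.maximalIdeal S.carrier ^ N ≤ J) :
    IsArtinianRing (S.carrier ⧸ J) := by
  haveI := isLocalRing_quot S J hJ
  obtain ⟨N, hN⟩ := hopen
  rw [isArtinianRing_iff_isNilpotent_maximalIdeal]
  refine ⟨N, ?_⟩
  rw [Ideal.zero_eq_bot, ← le_bot_iff, maximalIdeal_quot_eq S J hJ, ← Ideal.map_pow]
  calc (IsLocalRing.maximalIdeal S.carrier ^ N).map (Ideal.Quotient.mk J)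
      ≤ J.map (Ideal.Quotient.mk J) := Ideal.map_mono hN
    _ = ⊥ := Ideal.map_quotient_self _

/-- The quotient of a coefficient ring by an open ideal as an object of `Art`. -/
noncomputable def quotArt (hJ : J ≤ IsLocalRing.maximalIdeal S.carrier)
    (hopen : ∃ N : ℕ, IsLocalRing.maximalIdeal S.carrier ^ N ≤ J) : Art Λ k :=
  letI := isLocalRing_quot S J hJ
  { carrier := S.carrier ⧸ J
    isArtinianRing := isArtinianRing_quot_of_open S J hJ hopen
    res := Ideal.Quotient.liftₐ J S.res (fun _ ha => cring_res_eq_zero_of_mem S J hJ ha)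
    res_surjective := fun c => by
      obtain ⟨a, ha⟩ := S.res_surjective c
      exact ⟨Ideal.Quotient.mk J a, ha⟩ }

/-- The quotient map `S → S/J` as an element of `h_S(S/J)`. -/
noncomputable def quotArtMk (hJ : J ≤ IsLocalRing.maximalIdeal S.carrier)
    (hopen : ∃ N : ℕ, IsLocalRing.maximalIdeal S.carrier ^ N ≤ J) :
    HomSet S.carrier S.res (quotArt S J hJ hopen) :=
  ⟨Ideal.Quotient.mkₐ Λ J, Ideal.Quotient.liftₐ_comp _ _ _⟩

lemma quotArtMk_apply (hJ : J ≤ IsLocalRing.maximalIdeal S.carrier)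
    (hopen : ∃ N : ℕ, IsLocalRing.maximalIdeal S.carrier ^ N ≤ J) (a : S.carrier) :
    (quotArtMk S J hJ hopen).1 a = Ideal.Quotient.mk J a := rfl

lemma quotArtMk_surjective (hJ : J ≤ IsLocalRing.maximalIdeal S.carrier)
    (hopen : ∃ N : ℕ, IsLocalRing.maximalIdeal S.carrier ^ N ≤ J) :
    Function.Surjective (quotArtMk S J hJ hopen).1 := Ideal.Quotient.mk_surjective

lemma quotArtMk_eq_zero_iff (hJ : J ≤ IsLocalRing.maximalIdeal S.carrier)
    (hopen : ∃ N : ℕ, IsLocalRing.maximalIdeal S.carrier ^ N ≤ J) (a : S.carrier) :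
    (quotArtMk S J hJ hopen).1 a = 0 ↔ a ∈ J := Ideal.Quotient.eq_zero_iff_mem

end Quot

section Descend

variable {R : Type u} [CommRing R] [Algebra Λ R] {resR : R →ₐ[Λ] k}

/-- A map of `h_R` killing the kernel of a surjective one factors through it. -/
theorem homSet_descend {A C : Art Λ k} (π : HomSet R resR A) (hπ : Function.Surjective π.1)
    (ρ : HomSet R resR C) (h : ∀ r : R, π.1 r = 0 → ρ.1 r = 0) :
    ∃ s : A ⟶ C, HomSet.map s π = ρ := by
  have hker : RingHom.ker (π.1 : R →+* A) ≤ RingHom.ker (ρ.1 : R →+* C) := fun r hr => h r hr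
  let s₀ : A →+* C := (π.1 : R →+* A).liftOfSurjective hπ ⟨(ρ.1 : R →+* C), hker⟩
  have hs₀ : ∀ r : R, s₀ (π.1 r) = ρ.1 r := fun r =>
    RingHom.liftOfSurjective_comp_apply (π.1 : R →+* A) hπ ⟨(ρ.1 : R →+* C), hker⟩ r
  let s₁ : A →ₐ[Λ] C :=
    { s₀ with
      commutes' := fun c => by
        have h1 : π.1 (algebraMap Λ R c) = algebraMap Λ A c := AlgHom.commutes π.1 c
        have h2 : ρ.1 (algebraMap Λ R c) = algebraMap Λ C c := AlgHom.commutes ρ.1 c
        change s₀ (algebraMap Λ A c) = algebraMap Λ C c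
        rw [← h1, hs₀, h2] }
  have hs₁ : ∀ r : R, s₁ (π.1 r) = ρ.1 r := hs₀
  refine ⟨⟨s₁, ?_⟩, ?_⟩
  · apply AlgHom.ext
    intro a
    obtain ⟨r, rfl⟩ := hπ a
    change C.res (s₁ (π.1 r)) = A.res (π.1 r)
    rw [hs₁]
    have e1 : C.res (ρ.1 r) = resR r := congrArg (fun t : R →ₐ[Λ] k => t r) ρ.2
    have e2 : A.res (π.1 r) = resR r := congrArg (fun t : R →ₐ[Λ] k => t r) π.2
    rw [e1, e2]
  · apply Subtype.ext
    apply AlgHom.ext
    intro r
    exact hs₁ r

/-- Maps out of the target of a surjective element of `h_R` are determined by the composite. -/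
theorem hom_ext_of_homSet_surjective {A C : Art Λ k} (π : HomSet R resR A)
    (hπ : Function.Surjective π.1) (s₁ s₂ : A ⟶ C) (h : HomSet.map s₁ π = HomSet.map s₂ π) :
    s₁ = s₂ := by
  apply Art.hom_ext
  apply AlgHom.ext
  intro a
  obtain ⟨r, rfl⟩ := hπ a
  exact congrArg (fun t : HomSet R resR C => t.1 r) h

lemma homSet_map_apply {A C : Art Λ k} (s : A ⟶ C) (π : HomSet R resR A) (r : R) :
    (HomSet.map s π).1 r = s (π.1 r) := rfl

end Descend

section Chevalley

variable (S : CRing Λ k) (J : ℕ → Ideal S.carrier)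

/-- For fixed `n` the chain `J q ⊔ m^n` stabilizes. -/
lemma exists_stable (hJ : Antitone J) (n : ℕ) :
    ∃ q₀, ∀ q, q₀ ≤ q →
      J q ⊔ IsLocalRing.maximalIdeal S.carrier ^ n =
        J q₀ ⊔ IsLocalRing.maximalIdeal S.carrier ^ n := by
  cases n with
  | zero =>
    refine ⟨0, fun q _ => ?_⟩
    simp
  | succ n =>
    haveI : IsArtinianRing (S.carrier ⧸ CRing.mpow S n) := CRing.isArtinianRing_quot_mpow S n
    let f : ℕ →o (Ideal (S.carrier ⧸ CRing.mpow S n))ᵒᵈ :=
      ⟨fun q => OrderDual.toDual ((J q).map (Ideal.Quotient.mk (CRing.mpow S n))),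
        fun q q' hqq' => OrderDual.toDual_le_toDual.2 (Ideal.map_mono (hJ hqq'))⟩
    obtain ⟨q₀, hq₀⟩ := IsArtinian.monotone_stabilizes f
    refine ⟨q₀, fun q hq => ?_⟩
    have h1 : (J q₀).map (Ideal.Quotient.mk (CRing.mpow S n)) =
        (J q).map (Ideal.Quotient.mk (CRing.mpow S n)) := hq₀ q hq
    have h2 := congrArg (Ideal.comap (Ideal.Quotient.mk (CRing.mpow S n))) h1
    rw [Ideal.comap_map_of_surjective _ Ideal.Quotient.mk_surjective,
      Ideal.comap_map_of_surjective _ Ideal.Quotient.mk_surjective,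
      ← RingHom.ker_eq_comap_bot, Ideal.mk_ker] at h2
    exact h2.symm

/-- **Chevalley-type lemma.** In a complete local Noetherian ring, a descending chain of open
ideals is eventually contained in `(⨅ J) ⊔ m^n`, for every `n`. -/
theorem exists_le_iInf_sup_pow (hJ : Antitone J)
    (hopen : ∀ q, ∃ N : ℕ, IsLocalRing.maximalIdeal S.carrier ^ N ≤ J q) (n : ℕ) :
    ∃ q, J q ≤ (⨅ q, J q) ⊔ IsLocalRing.maximalIdeal S.carrier ^ n := by
  classical
  choose q₀ hq₀ using exists_stable S J hJ
  -- the stable value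
  let K : ℕ → Ideal S.carrier := fun i => J (q₀ i) ⊔ IsLocalRing.maximalIdeal S.carrier ^ i
  have hK : ∀ i q, q₀ i ≤ q → J q ⊔ IsLocalRing.maximalIdeal S.carrier ^ i = K i :=
    fun i q hq => hq₀ i q hq
  have hKle : ∀ i q, K i ≤ J q ⊔ IsLocalRing.maximalIdeal S.carrier ^ i := by
    intro i q
    rw [← hK i (max q (q₀ i)) (le_max_right _ _)]
    exact sup_le_sup_right (hJ (le_max_left _ _)) _
  have hstep : ∀ i, K i ≤ K (i + 1) ⊔ IsLocalRing.maximalIdeal S.carrier ^ i := by
    intro i
    set q := max (q₀ i) (q₀ (i + 1)) with hq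
    rw [← hK i q (le_max_left _ _), ← hK (i + 1) q (le_max_right _ _), sup_assoc]
    refine sup_le_sup_left ?_ _
    rw [sup_eq_right.2 (Ideal.pow_le_pow_right (Nat.le_succ i))]
  refine ⟨q₀ n, ?_⟩
  intro x hx
  have hx0 : x ∈ K n := Ideal.mem_sup_left hx
  -- build the sequence
  have hex : ∀ (i : ℕ) (y : {y : S.carrier // y ∈ K (n + i)}),
      ∃ y' : {y : S.carrier // y ∈ K (n + (i + 1))},
        y'.1 - y.1 ∈ IsLocalRing.maximalIdeal S.carrier ^ (n + i) := by
    intro i y
    have hy := hstep (n + i) y.2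
    obtain ⟨a, ha, b, hb, hab⟩ := Submodule.mem_sup.1 hy
    refine ⟨⟨a, ha⟩, ?_⟩
    have : a - y.1 = -b := by rw [← hab]; ring
    rw [this]
    exact neg_mem hb
  choose nxt hnxt using hex
  let xs : (i : ℕ) → {y : S.carrier // y ∈ K (n + i)} :=
    fun i => Nat.rec ⟨x, hx0⟩ (fun i y => nxt i y) i
  have hxs0 : (xs 0).1 = x := rfl
  have hxs_succ : ∀ i, (xs (i + 1)).1 - (xs i).1 ∈ IsLocalRing.maximalIdeal S.carrier ^ (n + i) :=
    fun i => hnxt i (xs i)
  have hxs_n : ∀ i, (xs i).1 - x ∈ IsLocalRing.maximalIdeal S.carrier ^ n := by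
    intro i
    induction i with
    | zero => rw [hxs0, sub_self]; exact zero_mem _
    | succ i ih =>
      have h1 := Ideal.pow_le_pow_right (Nat.le_add_right n i) (hxs_succ i)
      have : (xs (i + 1)).1 - x = ((xs (i + 1)).1 - (xs i).1) + ((xs i).1 - x) := by ring
      rw [this]
      exact add_mem h1 ih
  -- the limit
  haveI := S.isAdicComplete
  have hcauchy : AdicCompletion.IsAdicCauchy (IsLocalRing.maximalIdeal S.carrier) S.carrier
      (fun i => (xs i).1) := by
    rw [AdicCompletion.isAdicCauchy_iff]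
    intro i
    rw [SModEq.sub_mem, smul_eq_mul, Ideal.mul_top]
    have h1 := Ideal.pow_le_pow_right (Nat.le_add_left i n) (hxs_succ i)
    have : (xs i).1 - (xs (i + 1)).1 = -((xs (i + 1)).1 - (xs i).1) := by ring
    rw [this]
    exact neg_mem h1
  obtain ⟨L, hL⟩ := IsPrecomplete.prec (I := IsLocalRing.maximalIdeal S.carrier)
    (M := S.carrier) inferInstance (f := fun i => (xs i).1) hcauchy
  have hL' : ∀ i, (xs i).1 - L ∈ IsLocalRing.maximalIdeal S.carrier ^ i := by
    intro i
    have := hL i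
    rw [SModEq.sub_mem, smul_eq_mul, Ideal.mul_top] at this
    exact this
  have hLJ : L ∈ ⨅ q, J q := by
    rw [Ideal.mem_iInf]
    intro q
    obtain ⟨N, hN⟩ := hopen q
    have h1 : (xs N).1 ∈ J q := by
      have h2 := hKle (n + N) q (xs N).2
      have h3 : IsLocalRing.maximalIdeal S.carrier ^ (n + N) ≤ J q :=
        (Ideal.pow_le_pow_right (Nat.le_add_left N n)).trans hN
      rw [sup_eq_left.2 h3] at h2
      exact h2
    have h4 : (xs N).1 - L ∈ J q := hN (hL' N)
    have : L = (xs N).1 - ((xs N).1 - L) := by ring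
    rw [this]
    exact sub_mem h1 h4
  have hxL : x - L ∈ IsLocalRing.maximalIdeal S.carrier ^ n := by
    have : x - L = ((xs n).1 - L) - ((xs n).1 - x) := by ring
    rw [this]
    exact sub_mem (hL' n) (hxs_n n)
  have : x = L + (x - L) := by ring
  rw [this]
  exact add_mem (Ideal.mem_sup_left hLJ) (Ideal.mem_sup_right hxL)

end Chevalley

end Groth.Agent.Lib.Helper9
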