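import Mathlib
import Groth.Agent.Lib.Helper9.ArtVersal
import Groth.Agent.Lib.Helper9.ArtCRing
import Groth.Agent.Lib.Helper9.CRingQuot

/-! From a versal family to a hull, when `k` has no nonzero `Λ`-derivations (helper9).

Given a versal family `ξ` over `R`, as long as the tangent map has a nonzero kernel element `θ₀`
we pick `x ∈ m_R` with `θ₀(x) = 1` and pass to `R/(x)`, which is still versal.  The process stops
because `R` is Noetherian. -/

set_option autoImplicit false
universe u v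
open CategoryTheory

namespace Groth.Agent.Lib.Helper9

open ArtFun ArtFun.Art
open Groth.Agent.Lib.Helper63.ArtFunLib

variable {Λ : Type u} {k : Type u} [CommRing Λ] [Field k] [Algebra Λ k]

section Adjust

variable [IsNoetherianRing Λ] [Module.Finite Λ k]
variable {R : Type u} [CommRing R] [Algebra Λ R] {resR : R →ₐ[Λ] k} {F : Art Λ k ⥤ Type v}

lemma homSet_map_scale_zeroTangent (c : k) :
    HomSet.map (scale c) (zeroTangent resR) = zeroTangent resR := by
  apply Subtype.ext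
  apply AlgHom.ext
  intro r
  refine TrivSqZeroExt.ext rfl ?_
  change c • (0 : k) = 0
  rw [smul_zero]

lemma snd_homSet_map_scale (c : k) (θ : HomSet R resR (dual Λ k)) (r : R) :
    TrivSqZeroExt.snd ((HomSet.map (scale c) θ).1 r) = c * TrivSqZeroExt.snd (θ.1 r) := rfl

lemma homSet_base_eq' {A A' : Art Λ k} (ψ : HomSet R resR A) (ψ' : HomSet R resR A') :
    HomSet.map (toBase A) ψ = HomSet.map (toBase A') ψ' :=
  (homSet_base_eq _).trans (homSet_base_eq _).symm

/-- Correcting a lift along a small extension by a multiple of a tangent vector in the kernel of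
the characteristic map: the family does not see the correction. -/
theorem exists_adjust (h2 : Heps F) (ξ : Family R resR F) {B A : Art Λ k} (μ : B ⟶ A)
    (hμ : IsSmallExt μ) (ψ : HomSet R resR B) (θ₀ : HomSet R resR (dual Λ k))
    (hθ₀ : ξ.app _ θ₀ = ξ.app _ (zeroTangent resR)) (x : R)
    (hx : TrivSqZeroExt.snd (θ₀.1 x) = 1) (hψx : μ (ψ.1 x) = 0) :
    ∃ ψ' : HomSet R resR B, HomSet.map μ ψ' = HomSet.map μ ψ ∧ ξ.app B ψ' = ξ.app B ψ ∧
      ψ'.1 x = 0 ∧ ∀ r : R, TrivSqZeroExt.snd (θ₀.1 r) = 0 → ψ'.1 r = ψ.1 r := by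
  obtain ⟨t, ht0⟩ := hμ.2.2.1
  have ht : RingHom.ker μ.toAlgHom = Ideal.span {t} := ht0
  have htker : μ t = 0 := by
    have : t ∈ RingHom.ker μ.toAlgHom := by rw [ht]; exact Ideal.mem_span_singleton_self t
    exact this
  have hmemt : ∀ b₀ : B, μ b₀ = 0 → ∃ b' : B, b₀ = b' * t := by
    intro b₀ hb₀
    have h : b₀ ∈ Ideal.span {t} := by rw [← ht]; exact hb₀
    obtain ⟨a, ha⟩ := Ideal.mem_span_singleton'.1 h
    exact ⟨a, ha.symm⟩
  obtain ⟨b, hb⟩ := hmemt _ hψx
  set c : k := B.res b with hc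
  obtain ⟨P, p₁, p₂, hP⟩ := Groth.Agent.S12710.result μ μ hμ.1
  obtain ⟨g, hg, hPg⟩ := exists_toDual_of_isSmallExt μ hμ t ht p₁ p₂ hP
  have hex : ∀ z : P, ∃ b' : B, p₂ z - p₁ z = b' * t := by
    intro z
    apply hmemt
    rw [map_sub, sub_eq_zero]
    exact (hP.w_apply z).symm
  set θ : HomSet R resR (dual Λ k) := HomSet.map (scale (-c)) θ₀ with hθdef
  obtain ⟨χ, hχ1, hχ2⟩ := exists_homSet_lift_of_isFibreProd hPg ψ θ (homSet_base_eq' _ _)
  obtain ⟨χ₀, hχ01, hχ02⟩ := exists_homSet_lift_of_isFibreProd hPg ψ (zeroTangent resR)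
    (homSet_base_eq' _ _)
  have hχ1' : ∀ r, p₁ (χ.1 r) = ψ.1 r := fun r =>
    congrArg (fun t : HomSet R resR B => t.1 r) hχ1
  have hχ2' : ∀ r, g (χ.1 r) = θ.1 r := fun r =>
    congrArg (fun t : HomSet R resR (dual Λ k) => t.1 r) hχ2
  have hχ01' : ∀ r, p₁ (χ₀.1 r) = ψ.1 r := fun r =>
    congrArg (fun t : HomSet R resR B => t.1 r) hχ01
  have hχ02' : ∀ r, g (χ₀.1 r) = (zeroTangent resR).1 r := fun r =>
    congrArg (fun t : HomSet R resR (dual Λ k) => t.1 r) hχ02
  -- the key formula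
  have hkey : ∀ r, ∃ b' : B, p₂ (χ.1 r) - ψ.1 r = b' * t ∧
      B.res b' = -c * TrivSqZeroExt.snd (θ₀.1 r) := by
    intro r
    obtain ⟨b', hb'⟩ := hex (χ.1 r)
    refine ⟨b', by rw [← hχ1' r]; exact hb', ?_⟩
    rw [← hg (χ.1 r) b' hb', hχ2' r]
    rfl
  have hzero : ∀ b' : B, B.res b' = 0 → b' * t = 0 := fun b' hb' =>
    smallExt_mul_eq_zero hμ.isSemismallExt htker hb'
  refine ⟨HomSet.map p₂ χ, ?_, ?_, ?_, ?_⟩
  · rw [← homSet_map_comp, ← hP.w, homSet_map_comp, hχ1]
  · have hξχ : ξ.app P χ = ξ.app P χ₀ := by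
      apply (h2 p₁ g hPg).1
      apply FibProd.ext
      · change F.map p₁ (ξ.app P χ) = F.map p₁ (ξ.app P χ₀)
        rw [← ξ.natural, ← ξ.natural, hχ1, hχ01]
      · change F.map g (ξ.app P χ) = F.map g (ξ.app P χ₀)
        rw [← ξ.natural, ← ξ.natural, hχ2, hχ02, hθdef, ξ.natural, hθ₀, ← ξ.natural,
          homSet_map_scale_zeroTangent]
    have hp₂χ₀ : HomSet.map p₂ χ₀ = ψ := by
      apply Subtype.ext
      apply AlgHom.ext
      intro r
      obtain ⟨b', hb'⟩ := hex (χ₀.1 r)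
      have h1 : B.res b' = 0 := by
        rw [← hg (χ₀.1 r) b' hb', hχ02' r]
        rfl
      rw [hzero b' h1, sub_eq_zero] at hb'
      change p₂ (χ₀.1 r) = ψ.1 r
      rw [hb', hχ01' r]
    rw [ξ.natural, hξχ, ← ξ.natural, hp₂χ₀]
  · obtain ⟨b', hb'1, hb'2⟩ := hkey x
    rw [hx, mul_one] at hb'2
    have h1 : B.res (b + b') = 0 := by rw [map_add, hb'2, ← hc, add_neg_cancel]
    have h2' := hzero _ h1
    change p₂ (χ.1 x) = 0
    rw [add_mul, ← hb, ← hb'1] at h2'
    rw [← h2']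
    ring
  · intro r hr
    obtain ⟨b', hb'1, hb'2⟩ := hkey r
    rw [hr, mul_zero] at hb'2
    rw [hzero b' hb'2, sub_eq_zero] at hb'1
    exact hb'1

end Adjust

section Difference

variable [IsNoetherianRing Λ] [Module.Finite Λ k]
variable {R : Type u} [CommRing R] [Algebra Λ R] {resR : R →ₐ[Λ] k} {F : Art Λ k ⥤ Type v}

/-- `(a, b₁, b₂) ↦ a + (b₁ - b₂)ε`. -/
def minus : dual2 Λ k ⟶ dual Λ k :=
  ⟨tszeMap (LinearMap.fst k k k - LinearMap.snd k k k), AlgHom.ext fun _ => rfl⟩

/-- The difference of two tangent vectors with the same image lies in the kernel of the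
characteristic map. -/
theorem exists_difference (h2 : Heps F) (ξ : Family R resR F)
    (θ₁ θ₂ : HomSet R resR (dual Λ k)) (h : ξ.app _ θ₁ = ξ.app _ θ₂) :
    ∃ θ₀ : HomSet R resR (dual Λ k), ξ.app _ θ₀ = ξ.app _ (zeroTangent resR) ∧
      ∀ r : R, TrivSqZeroExt.snd (θ₀.1 r) =
        TrivSqZeroExt.snd (θ₁.1 r) - TrivSqZeroExt.snd (θ₂.1 r) := by
  have hfp := isFibreProd_dual2 (Λ := Λ) (k := k)
  obtain ⟨χ, hχ1, hχ2⟩ := exists_homSet_lift_of_isFibreProd hfp θ₁ θ₂ (homSet_base_eq' _ _)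
  obtain ⟨χ', hχ'1, hχ'2⟩ := exists_homSet_lift_of_isFibreProd hfp θ₂ θ₂ (homSet_base_eq' _ _)
  have hξ : ξ.app _ χ = ξ.app _ χ' := by
    apply (h2 pr₁ pr₂ hfp).1
    apply FibProd.ext
    · change F.map pr₁ (ξ.app _ χ) = F.map pr₁ (ξ.app _ χ')
      rw [← ξ.natural, ← ξ.natural, hχ1, hχ'1, h]
    · change F.map pr₂ (ξ.app _ χ) = F.map pr₂ (ξ.app _ χ')
      rw [← ξ.natural, ← ξ.natural, hχ2, hχ'2]
  have hsnd1 : ∀ (χ₀ : HomSet R resR (dual2 Λ k)) (r : R),
      TrivSqZeroExt.snd ((HomSet.map minus χ₀).1 r) =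
        TrivSqZeroExt.snd ((HomSet.map pr₁ χ₀).1 r) -
          TrivSqZeroExt.snd ((HomSet.map pr₂ χ₀).1 r) := fun _ _ => rfl
  have hzero : HomSet.map minus χ' = zeroTangent resR := by
    apply Subtype.ext
    apply AlgHom.ext
    intro r
    refine TrivSqZeroExt.ext ?_ ?_
    · have e : TrivSqZeroExt.fst ((HomSet.map minus χ').1 r) = resR r :=
        congrArg (fun t : R →ₐ[Λ] k => t r) (HomSet.map minus χ').2
      exact e
    · rw [hsnd1, hχ'1, hχ'2, sub_self]
      rfl
  refine ⟨HomSet.map minus χ, ?_, ?_⟩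
  · rw [ξ.natural, hξ, ← ξ.natural, hzero]
  · intro r
    rw [hsnd1, hχ1, hχ2]

end Difference

section Deriv

lemma dualNumber_snd_map_add {R : Type u} [CommRing R] [Algebra Λ R] (f : R →ₐ[Λ] DualNumber k)
    (a b : R) : (f (a + b)).snd = (f a).snd + (f b).snd := by
  rw [map_add, TrivSqZeroExt.snd_add]

lemma dualNumber_snd_map_mul {R : Type u} [CommRing R] [Algebra Λ R] (f : R →ₐ[Λ] DualNumber k)
    (a b : R) : (f (a * b)).snd = (f a).fst * (f b).snd + (f b).fst * (f a).snd := by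
  rw [map_mul, TrivSqZeroExt.snd_mul, smul_eq_mul, MulOpposite.smul_eq_mul_unop,
    MulOpposite.unop_op, mul_comm (f a).snd]

lemma dualNumber_snd_map_algebraMap {R : Type u} [CommRing R] [Algebra Λ R]
    (f : R →ₐ[Λ] DualNumber k) (c : Λ) : (f (algebraMap Λ R c)).snd = 0 := by
  rw [AlgHom.commutes, TrivSqZeroExt.algebraMap_eq_inl', TrivSqZeroExt.snd_inl]

/-- If `k` has no nonzero `Λ`-derivations, a tangent vector of a coefficient ring with nonzero
derivation part takes the value `1` somewhere on the maximal ideal. -/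
theorem exists_mem_maximalIdeal_snd_eq_one (hk : Subsingleton (Derivation Λ k k))
    (R : CRing Λ k) (θ₀ : HomSet R.carrier R.res (dual Λ k))
    (hne : ∃ r : R.carrier, TrivSqZeroExt.snd (θ₀.1 r) ≠ 0) :
    ∃ x ∈ IsLocalRing.maximalIdeal R.carrier, TrivSqZeroExt.snd (θ₀.1 x) = 1 := by
  classical
  set D : R.carrier → k := fun r => TrivSqZeroExt.snd (θ₀.1 r) with hD
  have hfst : ∀ r, TrivSqZeroExt.fst (θ₀.1 r) = R.res r := fun r =>
    congrArg (fun t : R.carrier →ₐ[Λ] k => t r) θ₀.2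
  have hadd : ∀ a b, D (a + b) = D a + D b := fun a b => dualNumber_snd_map_add θ₀.1 a b
  have hmul : ∀ a b, D (a * b) = R.res a * D b + R.res b * D a := fun a b => by
    rw [← hfst a, ← hfst b]
    exact dualNumber_snd_map_mul θ₀.1 a b
  have halg : ∀ c : Λ, D (algebraMap Λ R.carrier c) = 0 := fun c =>
    dualNumber_snd_map_algebraMap θ₀.1 c
  have hsub : ∀ a b, D (a - b) = D a - D b := fun a b => by
    have := hadd (a - b) b
    rw [sub_add_cancel] at this
    rw [this, add_sub_cancel_right]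
  -- first find `x₀ ∈ m` with `D x₀ ≠ 0`
  have hex : ∃ x₀ ∈ IsLocalRing.maximalIdeal R.carrier, D x₀ ≠ 0 := by
    by_contra hcon
    push Not at hcon
    have hwd : ∀ a b, R.res a = R.res b → D a = D b := by
      intro a b hab
      have h1 : a - b ∈ IsLocalRing.maximalIdeal R.carrier := by
        rw [CRing.mem_maximalIdeal_iff, map_sub, hab, sub_self]
      have h2 := hcon _ h1
      rw [hsub, sub_eq_zero] at h2
      exact h2
    let s : k → R.carrier := Function.surjInv R.res_surjective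
    have hs : ∀ c, R.res (s c) = c := Function.surjInv_eq R.res_surjective
    let Dl : k →ₗ[Λ] k :=
      { toFun := fun c => D (s c)
        map_add' := fun c c' => by
          rw [← hadd]
          apply hwd
          rw [map_add, hs, hs, hs]
        map_smul' := fun l c => by
          have h1 : D (s (l • c)) = D (algebraMap Λ R.carrier l * s c) := by
            apply hwd
            rw [map_mul, hs, hs, AlgHom.commutes, Algebra.smul_def]
          rw [h1, hmul, halg, mul_zero, add_zero, AlgHom.commutes, RingHom.id_apply,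
            Algebra.smul_def] }
    let Dk : Derivation Λ k k := Derivation.mk' Dl (fun a b => by
      change D (s (a * b)) = a • D (s b) + b • D (s a)
      have h1 : D (s (a * b)) = D (s a * s b) := by
        apply hwd
        rw [map_mul, hs, hs, hs]
      rw [h1, hmul, hs, hs, smul_eq_mul, smul_eq_mul])
    have hDk : Dk = 0 := Subsingleton.elim _ _
    obtain ⟨r, hr⟩ := hne
    apply hr
    have h1 : D r = D (s (R.res r)) := hwd _ _ (hs _).symm
    have h2 : Dk (R.res r) = 0 := by rw [hDk]; rfl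
    change D r = 0
    rw [h1]
    exact h2
  obtain ⟨x₀, hx₀m, hx₀⟩ := hex
  obtain ⟨u, hu⟩ := R.res_surjective (D x₀)⁻¹
  refine ⟨u * x₀, Ideal.mul_mem_left _ _ hx₀m, ?_⟩
  change D (u * x₀) = 1
  rw [hmul, hu, (CRing.mem_maximalIdeal_iff R x₀).1 hx₀m, zero_mul, add_zero,
    inv_mul_cancel₀ hx₀]

end Deriv

section Hull

variable [IsNoetherianRing Λ] [Module.Finite Λ k]
variable {F : Art Λ k ⥤ Type v} (R : CRing Λ k) (ξ : Family R.carrier R.res F)

/-- Versality modulo an ideal, tested on small extensions. -/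
def VersalMod (I : Ideal R.carrier) : Prop :=
  ∀ ⦃B A : Art Λ k⦄ (μ : B ⟶ A), IsSmallExt μ →
    ∀ (φ : HomSet R.carrier R.res A) (y : F.obj B),
      (∀ r ∈ I, φ.1 r = 0) → F.map μ y = ξ.app A φ →
      ∃ ψ : HomSet R.carrier R.res B,
        (∀ r ∈ I, ψ.1 r = 0) ∧ HomSet.map μ ψ = φ ∧ ξ.app B ψ = y

/-- Injectivity of the characteristic map on tangent vectors killing an ideal. -/
def TanInjMod (I : Ideal R.carrier) : Prop :=
  ∀ θ₁ θ₂ : HomSet R.carrier R.res (dual Λ k),
    (∀ r ∈ I, θ₁.1 r = 0) → (∀ r ∈ I, θ₂.1 r = 0) → ξ.app _ θ₁ = ξ.app _ θ₂ → θ₁ = θ₂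

variable {R ξ}

theorem versalMod_step (hk : Subsingleton (Derivation Λ k k)) (h2 : Heps F)
    (I : Ideal R.carrier) (hV : VersalMod R ξ I) (hT : ¬ TanInjMod R ξ I) :
    ∃ x ∈ IsLocalRing.maximalIdeal R.carrier, x ∉ I ∧ VersalMod R ξ (I ⊔ Ideal.span {x}) := by
  unfold TanInjMod at hT
  push Not at hT
  obtain ⟨θ₁, θ₂, hθ₁, hθ₂, hξθ, hne⟩ := hT
  obtain ⟨θ₀, hθ₀, hsnd⟩ := exists_difference h2 ξ θ₁ θ₂ hξθ
  have hfst : ∀ (θ : HomSet R.carrier R.res (dual Λ k)) (r : R.carrier),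
      TrivSqZeroExt.fst (θ.1 r) = R.res r := fun θ r =>
    congrArg (fun t : R.carrier →ₐ[Λ] k => t r) θ.2
  have hex : ∃ r : R.carrier, TrivSqZeroExt.snd (θ₀.1 r) ≠ 0 := by
    by_contra hcon
    push Not at hcon
    apply hne
    apply Subtype.ext
    apply AlgHom.ext
    intro r
    refine TrivSqZeroExt.ext ?_ ?_
    · exact (hfst θ₁ r).trans (hfst θ₂ r).symm
    · have := hcon r
      rw [hsnd, sub_eq_zero] at this
      exact this
  obtain ⟨x, hxm, hx⟩ := exists_mem_maximalIdeal_snd_eq_one hk R θ₀ hex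
  have hI0 : ∀ r ∈ I, TrivSqZeroExt.snd (θ₀.1 r) = 0 := by
    intro r hr
    rw [hsnd, hθ₁ r hr, hθ₂ r hr, sub_self]
  refine ⟨x, hxm, ?_, ?_⟩
  · intro hxI
    have := hI0 x hxI
    rw [hx] at this
    exact one_ne_zero this
  · intro B A μ hμ φ y hφ hy
    obtain ⟨ψ, hψI, hψφ, hψy⟩ := hV μ hμ φ y (fun r hr => hφ r (Ideal.mem_sup_left hr)) hy
    have hψx : μ (ψ.1 x) = 0 := by
      have h1 : μ (ψ.1 x) = φ.1 x :=
        congrArg (fun t : HomSet R.carrier R.res A => t.1 x) hψφ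
      rw [h1]
      exact hφ x (Ideal.mem_sup_right (Ideal.mem_span_singleton_self x))
    obtain ⟨ψ', h1', h2', h3', h4'⟩ := exists_adjust h2 ξ μ hμ ψ θ₀ hθ₀ x hx hψx
    refine ⟨ψ', ?_, h1'.trans hψφ, h2'.trans hψy⟩
    have hle : I ⊔ Ideal.span {x} ≤ RingHom.ker (ψ'.1 : R.carrier →+* B) := by
      apply sup_le
      · intro r hr
        rw [RingHom.mem_ker]
        change ψ'.1 r = 0
        rw [h4' r (hI0 r hr)]
        exact hψI r hr
      · rw [Ideal.span_le]
        intro r hr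
        rw [Set.mem_singleton_iff] at hr
        subst hr
        exact h3'
    exact fun r hr => hle hr

theorem exists_tanInjMod (hk : Subsingleton (Derivation Λ k k)) (h2 : Heps F) :
    ∀ I : Ideal R.carrier, I ≤ IsLocalRing.maximalIdeal R.carrier → VersalMod R ξ I →
      ∃ I' : Ideal R.carrier, I ≤ I' ∧ I' ≤ IsLocalRing.maximalIdeal R.carrier ∧
        VersalMod R ξ I' ∧ TanInjMod R ξ I' := by
  intro I
  induction I using IsNoetherian.induction with
  | hgt I ih =>
    intro hIm hV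
    by_cases hT : TanInjMod R ξ I
    · exact ⟨I, le_rfl, hIm, hV, hT⟩
    · obtain ⟨x, hxm, hxI, hV'⟩ := versalMod_step hk h2 I hV hT
      have hlt : I < I ⊔ Ideal.span {x} := by
        refine lt_of_le_of_ne le_sup_left ?_
        intro heq
        apply hxI
        rw [heq]
        exact Ideal.mem_sup_right (Ideal.mem_span_singleton_self x)
      have hm' : I ⊔ Ideal.span {x} ≤ IsLocalRing.maximalIdeal R.carrier :=
        sup_le hIm ((Ideal.span_singleton_le_iff_mem _).2 hxm)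
      obtain ⟨I', h1', h2', h3', h4'⟩ := ih _ hlt hm' hV'
      exact ⟨I', le_sup_left.trans h1', h2', h3', h4'⟩

/-- The quotient family. -/
noncomputable def quotFamily (I : Ideal R.carrier)
    (hI : I ≤ IsLocalRing.maximalIdeal R.carrier) (ξ : Family R.carrier R.res F) :
    Family (cringQuot R I hI).carrier (cringQuot R I hI).res F :=
  ξ.along (cringQuotMk R I hI) (cringQuotMk_res R I hI)

/-- Restriction of a map out of `R/I` to `R`. -/
noncomputable def quotRestrict (I : Ideal R.carrier)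
    (hI : I ≤ IsLocalRing.maximalIdeal R.carrier) {A : Art Λ k}
    (ψ : HomSet (cringQuot R I hI).carrier (cringQuot R I hI).res A) :
    HomSet R.carrier R.res A :=
  ⟨ψ.1.comp (cringQuotMk R I hI), by
    rw [← AlgHom.comp_assoc, ψ.2, cringQuotMk_res]⟩

lemma quotFamily_app (I : Ideal R.carrier) (hI : I ≤ IsLocalRing.maximalIdeal R.carrier)
    {A : Art Λ k} (ψ : HomSet (cringQuot R I hI).carrier (cringQuot R I hI).res A) :
    (quotFamily I hI ξ).app A ψ = ξ.app A (quotRestrict I hI ψ) := rfl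

lemma quotRestrict_apply (I : Ideal R.carrier) (hI : I ≤ IsLocalRing.maximalIdeal R.carrier)
    {A : Art Λ k} (ψ : HomSet (cringQuot R I hI).carrier (cringQuot R I hI).res A)
    (r : R.carrier) : (quotRestrict I hI ψ).1 r = ψ.1 (Ideal.Quotient.mk I r) := rfl

lemma quotRestrict_kills (I : Ideal R.carrier) (hI : I ≤ IsLocalRing.maximalIdeal R.carrier)
    {A : Art Λ k} (ψ : HomSet (cringQuot R I hI).carrier (cringQuot R I hI).res A)
    (r : R.carrier) (hr : r ∈ I) : (quotRestrict I hI ψ).1 r = 0 := by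
  rw [quotRestrict_apply, Ideal.Quotient.eq_zero_iff_mem.2 hr]
  exact map_zero ψ.1

lemma quotRestrict_injective (I : Ideal R.carrier)
    (hI : I ≤ IsLocalRing.maximalIdeal R.carrier) {A : Art Λ k}
    (ψ₁ ψ₂ : HomSet (cringQuot R I hI).carrier (cringQuot R I hI).res A)
    (h : quotRestrict I hI ψ₁ = quotRestrict I hI ψ₂) : ψ₁ = ψ₂ := by
  apply Subtype.ext
  apply AlgHom.ext
  intro (r : R.carrier ⧸ I)
  obtain ⟨s, rfl⟩ := Ideal.Quotient.mk_surjective r
  exact congrArg (fun t : HomSet R.carrier R.res A => t.1 s) h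

lemma exists_quotRestrict_eq (I : Ideal R.carrier)
    (hI : I ≤ IsLocalRing.maximalIdeal R.carrier) {A : Art Λ k}
    (χ : HomSet R.carrier R.res A) (h : ∀ r ∈ I, χ.1 r = 0) :
    ∃ ψ : HomSet (cringQuot R I hI).carrier (cringQuot R I hI).res A,
      quotRestrict I hI ψ = χ := by
  let ψ₀ : (R.carrier ⧸ I) →ₐ[Λ] A := Ideal.Quotient.liftₐ I χ.1 h
  refine ⟨⟨ψ₀, ?_⟩, ?_⟩
  · apply AlgHom.ext
    intro (r : R.carrier ⧸ I)
    obtain ⟨s, rfl⟩ := Ideal.Quotient.mk_surjective r
    change A.res (χ.1 s) = R.res s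
    exact congrArg (fun t : R.carrier →ₐ[Λ] k => t s) χ.2
  · apply Subtype.ext
    apply AlgHom.ext
    intro s
    rfl

lemma versalMod_bot_of_isVersal (hξ : IsVersal ξ) : VersalMod R ξ ⊥ := by
  intro B A μ hμ φ y _ hy
  obtain ⟨ψ, h1, h2'⟩ := hξ μ hμ.1 φ y hy
  refine ⟨ψ, ?_, h1, h2'⟩
  intro r hr
  rw [Ideal.mem_bot] at hr
  rw [hr, map_zero]

lemma isVersal_quotFamily_of_versalMod (I : Ideal R.carrier)
    (hIm : I ≤ IsLocalRing.maximalIdeal R.carrier) (hV : VersalMod R ξ I) :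
    IsVersal (quotFamily I hIm ξ) := by
  apply isVersal_of_smallExt
  intro B A μ hμ φ y hy
  rw [quotFamily_app] at hy
  obtain ⟨ψ, hψI, hψφ, hψy⟩ := hV μ hμ (quotRestrict I hIm φ) y
    (quotRestrict_kills I hIm φ) hy
  obtain ⟨ψ', hψ'⟩ := exists_quotRestrict_eq I hIm ψ hψI
  refine ⟨ψ', ?_, ?_⟩
  · apply quotRestrict_injective I hIm
    change HomSet.map μ (quotRestrict I hIm ψ') = _
    rw [hψ', hψφ]
  · rw [quotFamily_app, hψ', hψy]

/-- **From versal to hull**: if `k` has no nonzero `Λ`-derivations, a functor with a versal family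
(and `H0`, `Heps`) has a hull. -/
theorem hasHull_of_isVersal (hk : Subsingleton (Derivation Λ k k)) (h0 : H0 F) (h2 : Heps F)
    (hξ : IsVersal ξ) : HasHull F := by
  have hV0 : VersalMod R ξ ⊥ := by
    intro B A μ hμ φ y _ hy
    obtain ⟨ψ, h1, h2'⟩ := hξ μ hμ.1 φ y hy
    refine ⟨ψ, ?_, h1, h2'⟩
    intro r hr
    rw [Ideal.mem_bot] at hr
    rw [hr, map_zero]
  obtain ⟨I, -, hIm, hV, hT⟩ := exists_tanInjMod hk h2 ⊥ bot_le hV0
  have hversal : IsVersal (quotFamily I hIm ξ) := by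
    apply isVersal_of_smallExt
    intro B A μ hμ φ y hy
    rw [quotFamily_app] at hy
    obtain ⟨ψ, hψI, hψφ, hψy⟩ := hV μ hμ (quotRestrict I hIm φ) y
      (quotRestrict_kills I hIm φ) hy
    obtain ⟨ψ', hψ'⟩ := exists_quotRestrict_eq I hIm ψ hψI
    refine ⟨ψ', ?_, ?_⟩
    · apply quotRestrict_injective I hIm
      change HomSet.map μ (quotRestrict I hIm ψ') = _
      rw [hψ', hψφ]
    · rw [quotFamily_app, hψ', hψy]
  refine ⟨⟨cringQuot R I hIm, quotFamily I hIm ξ, hversal, ?_, ?_⟩⟩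
  · intro θ₁ θ₂ h
    rw [quotFamily_app, quotFamily_app] at h
    apply quotRestrict_injective I hIm
    exact hT _ _ (quotRestrict_kills I hIm θ₁) (quotRestrict_kills I hIm θ₂) h
  · intro y
    obtain ⟨ψ, -, hψ⟩ := hversal (toBase (dual Λ k)) (dual Λ k).res_surjective
      homSetBase y (@Subsingleton.elim _ h0.2 _ _)
    exact ⟨ψ, hψ⟩

end Hull

section General

variable [IsNoetherianRing Λ] [Module.Finite Λ k]

/-- A tangent vector of a coefficient ring either takes the value `1` somewhere on the maximal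
ideal, or comes from a tangent vector of `k` (a morphism `k → k[ε]` of the category). -/
theorem exists_mem_maximalIdeal_snd_eq_one_or (R : CRing Λ k)
    (θ₀ : HomSet R.carrier R.res (dual Λ k)) :
    (∃ x ∈ IsLocalRing.maximalIdeal R.carrier, TrivSqZeroExt.snd (θ₀.1 x) = 1) ∨
      ∃ σ : base Λ k ⟶ dual Λ k, θ₀ = HomSet.map σ homSetBase := by
  classical
  set D : R.carrier → k := fun r => TrivSqZeroExt.snd (θ₀.1 r) with hD
  have hfst : ∀ r, TrivSqZeroExt.fst (θ₀.1 r) = R.res r := fun r =>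
    congrArg (fun t : R.carrier →ₐ[Λ] k => t r) θ₀.2
  have hadd : ∀ a b, D (a + b) = D a + D b := fun a b => dualNumber_snd_map_add θ₀.1 a b
  have hmul : ∀ a b, D (a * b) = R.res a * D b + R.res b * D a := fun a b => by
    rw [← hfst a, ← hfst b]
    exact dualNumber_snd_map_mul θ₀.1 a b
  have halg : ∀ c : Λ, D (algebraMap Λ R.carrier c) = 0 := fun c =>
    dualNumber_snd_map_algebraMap θ₀.1 c
  have hsub : ∀ a b, D (a - b) = D a - D b := fun a b => by
    have := hadd (a - b) b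
    rw [sub_add_cancel] at this
    rw [this, add_sub_cancel_right]
  by_cases hex : ∃ x₀ ∈ IsLocalRing.maximalIdeal R.carrier, D x₀ ≠ 0
  · left
    obtain ⟨x₀, hx₀m, hx₀⟩ := hex
    obtain ⟨u, hu⟩ := R.res_surjective (D x₀)⁻¹
    refine ⟨u * x₀, Ideal.mul_mem_left _ _ hx₀m, ?_⟩
    change D (u * x₀) = 1
    rw [hmul, hu, (CRing.mem_maximalIdeal_iff R x₀).1 hx₀m, zero_mul, add_zero,
      inv_mul_cancel₀ hx₀]
  · right
    push Not at hex
    have hwd : ∀ a b, R.res a = R.res b → D a = D b := by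
      intro a b hab
      have h1 : a - b ∈ IsLocalRing.maximalIdeal R.carrier := by
        rw [CRing.mem_maximalIdeal_iff, map_sub, hab, sub_self]
      have h2 := hex _ h1
      rw [hsub, sub_eq_zero] at h2
      exact h2
    let s : k → R.carrier := Function.surjInv R.res_surjective
    have hs : ∀ c, R.res (s c) = c := Function.surjInv_eq R.res_surjective
    let σ₀ : k →ₐ[Λ] DualNumber k := dualHomOfDeriv (AlgHom.id Λ k) (fun c => D (s c))
      (fun c c' => by
        change D (s (c + c')) = D (s c) + D (s c')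
        rw [← hadd]
        apply hwd
        rw [map_add, hs, hs, hs])
      (fun c c' => by
        change D (s (c * c')) = c * D (s c') + D (s c) * c'
        have h1 : D (s (c * c')) = D (s c * s c') := by
          apply hwd
          rw [map_mul, hs, hs, hs]
        rw [h1, hmul, hs, hs, mul_comm c' (D (s c))])
      (fun l => by
        change D (s (algebraMap Λ k l)) = 0
        have h1 : D (s (algebraMap Λ k l)) = D (algebraMap Λ R.carrier l) := by
          apply hwd
          rw [hs, AlgHom.commutes]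
        rw [h1, halg])
    refine ⟨⟨σ₀, AlgHom.ext fun _ => rfl⟩, ?_⟩
    apply Subtype.ext
    apply AlgHom.ext
    intro r
    refine TrivSqZeroExt.ext (hfst r) ?_
    change D r = D (s (R.res r))
    exact hwd _ _ (hs _).symm

lemma zeroTangent_eq_map_baseToDual {R : Type u} [CommRing R] [Algebra Λ R] (resR : R →ₐ[Λ] k) :
    zeroTangent resR = HomSet.map (baseToDual (Λ := Λ) (k := k)) homSetBase := by
  apply Subtype.ext
  apply AlgHom.ext
  intro r
  rfl

variable {F : Art Λ k ⥤ Type v} {R : CRing Λ k} {ξ : Family R.carrier R.res F}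

/-- The step of the reduction, assuming only that tangent vectors of `k` are detected by `F`. -/
theorem versalMod_step' (hc : ∀ x₀ : F.obj (base Λ k),
      Function.Injective (fun σ : base Λ k ⟶ dual Λ k => F.map σ x₀)) (h2 : Heps F)
    (I : Ideal R.carrier) (hV : VersalMod R ξ I) (hT : ¬ TanInjMod R ξ I) :
    ∃ x ∈ IsLocalRing.maximalIdeal R.carrier, x ∉ I ∧ VersalMod R ξ (I ⊔ Ideal.span {x}) := by
  unfold TanInjMod at hT
  push Not at hT
  obtain ⟨θ₁, θ₂, hθ₁, hθ₂, hξθ, hne⟩ := hT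
  obtain ⟨θ₀, hθ₀, hsnd⟩ := exists_difference h2 ξ θ₁ θ₂ hξθ
  have hfst : ∀ (θ : HomSet R.carrier R.res (dual Λ k)) (r : R.carrier),
      TrivSqZeroExt.fst (θ.1 r) = R.res r := fun θ r =>
    congrArg (fun t : R.carrier →ₐ[Λ] k => t r) θ.2
  have hex : ∃ r : R.carrier, TrivSqZeroExt.snd (θ₀.1 r) ≠ 0 := by
    by_contra hcon
    push Not at hcon
    apply hne
    apply Subtype.ext
    apply AlgHom.ext
    intro r
    refine TrivSqZeroExt.ext ?_ ?_
    · exact (hfst θ₁ r).trans (hfst θ₂ r).symm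
    · have := hcon r
      rw [hsnd, sub_eq_zero] at this
      exact this
  have hx1 : ∃ x ∈ IsLocalRing.maximalIdeal R.carrier, TrivSqZeroExt.snd (θ₀.1 x) = 1 := by
    rcases exists_mem_maximalIdeal_snd_eq_one_or R θ₀ with h | ⟨σ, hσ⟩
    · exact h
    · exfalso
      have h1 : F.map σ (ξ.app _ homSetBase) = F.map baseToDual (ξ.app _ homSetBase) := by
        rw [← ξ.natural, ← ξ.natural, ← hσ, ← zeroTangent_eq_map_baseToDual, hθ₀]
      have h2' : σ = baseToDual := hc _ h1
      obtain ⟨r, hr⟩ := hex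
      apply hr
      rw [hσ, h2', ← zeroTangent_eq_map_baseToDual]
      rfl
  obtain ⟨x, hxm, hx⟩ := hx1
  have hI0 : ∀ r ∈ I, TrivSqZeroExt.snd (θ₀.1 r) = 0 := by
    intro r hr
    rw [hsnd, hθ₁ r hr, hθ₂ r hr, sub_self]
  refine ⟨x, hxm, ?_, ?_⟩
  · intro hxI
    have := hI0 x hxI
    rw [hx] at this
    exact one_ne_zero this
  · intro B A μ hμ φ y hφ hy
    obtain ⟨ψ, hψI, hψφ, hψy⟩ := hV μ hμ φ y (fun r hr => hφ r (Ideal.mem_sup_left hr)) hy
    have hψx : μ (ψ.1 x) = 0 := by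
      have h1 : μ (ψ.1 x) = φ.1 x :=
        congrArg (fun t : HomSet R.carrier R.res A => t.1 x) hψφ
      rw [h1]
      exact hφ x (Ideal.mem_sup_right (Ideal.mem_span_singleton_self x))
    obtain ⟨ψ', h1', h2', h3', h4'⟩ := exists_adjust h2 ξ μ hμ ψ θ₀ hθ₀ x hx hψx
    refine ⟨ψ', ?_, h1'.trans hψφ, h2'.trans hψy⟩
    have hle : I ⊔ Ideal.span {x} ≤ RingHom.ker (ψ'.1 : R.carrier →+* B) := by
      apply sup_le
      · intro r hr
        rw [RingHom.mem_ker]
        change ψ'.1 r = 0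
        rw [h4' r (hI0 r hr)]
        exact hψI r hr
      · rw [Ideal.span_le]
        intro r hr
        rw [Set.mem_singleton_iff] at hr
        subst hr
        exact h3'
    exact fun r hr => hle hr

theorem exists_tanInjMod' (hc : ∀ x₀ : F.obj (base Λ k),
      Function.Injective (fun σ : base Λ k ⟶ dual Λ k => F.map σ x₀)) (h2 : Heps F) :
    ∀ I : Ideal R.carrier, I ≤ IsLocalRing.maximalIdeal R.carrier → VersalMod R ξ I →
      ∃ I' : Ideal R.carrier, I ≤ I' ∧ I' ≤ IsLocalRing.maximalIdeal R.carrier ∧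
        VersalMod R ξ I' ∧ TanInjMod R ξ I' := by
  intro I
  induction I using IsNoetherian.induction with
  | hgt I ih =>
    intro hIm hV
    by_cases hT : TanInjMod R ξ I
    · exact ⟨I, le_rfl, hIm, hV, hT⟩
    · obtain ⟨x, hxm, hxI, hV'⟩ := versalMod_step' hc h2 I hV hT
      have hlt : I < I ⊔ Ideal.span {x} := by
        refine lt_of_le_of_ne le_sup_left ?_
        intro heq
        apply hxI
        rw [heq]
        exact Ideal.mem_sup_right (Ideal.mem_span_singleton_self x)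
      have hm' : I ⊔ Ideal.span {x} ≤ IsLocalRing.maximalIdeal R.carrier :=
        sup_le hIm ((Ideal.span_singleton_le_iff_mem _).2 hxm)
      obtain ⟨I', h1', h2', h3', h4'⟩ := ih _ hlt hm' hV'
      exact ⟨I', le_sup_left.trans h1', h2', h3', h4'⟩

/-- **From versal to hull**, assuming only that `F` detects the tangent vectors of `k`. -/
theorem hasHull_of_isVersal' (hc : ∀ x₀ : F.obj (base Λ k),
      Function.Injective (fun σ : base Λ k ⟶ dual Λ k => F.map σ x₀)) (h0 : H0 F) (h2 : Heps F)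
    (hξ : IsVersal ξ) : HasHull F := by
  obtain ⟨I, -, hIm, hV, hT⟩ := exists_tanInjMod' hc h2 ⊥ bot_le (versalMod_bot_of_isVersal hξ)
  have hversal := isVersal_quotFamily_of_versalMod I hIm hV
  refine ⟨⟨cringQuot R I hIm, quotFamily I hIm ξ, hversal, ?_, ?_⟩⟩
  · intro θ₁ θ₂ h
    rw [quotFamily_app, quotFamily_app] at h
    apply quotRestrict_injective I hIm
    exact hT _ _ (quotRestrict_kills I hIm θ₁) (quotRestrict_kills I hIm θ₂) h
  · intro y
    obtain ⟨ψ, -, hψ⟩ := hversal (toBase (dual Λ k)) (dual Λ k).res_surjective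
      homSetBase y (@Subsingleton.elim _ h0.2 _ _)
    exact ⟨ψ, hψ⟩

end General

end Groth.Agent.Lib.Helper9
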