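import Mathlib
import Groth.Agent.S12729
import Groth.Agent.S12711
import Groth.Agent.Lib.Helper9.ArtVersal
import Groth.Agent.Lib.Helper9.CRingQuot

/-! Schlessinger's construction of a versal family (helper9). -/

set_option autoImplicit false
universe u v
open CategoryTheory

namespace Groth.Agent.Lib.Helper9

open ArtFun ArtFun.Art
open Groth.Agent.Lib.Helper63.ArtFunLib

variable {Λ : Type u} {k : Type u} [CommRing Λ] [Field k] [Algebra Λ k]

section Step

variable [IsNoetherianRing Λ] [Module.Finite Λ k]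

/-- The kernel of a surjective element of `h_S(A)` lies in the maximal ideal and is open. -/
lemma homSet_ker_le_maximalIdeal {S : CRing Λ k} {A : Art Λ k} (π : HomSet S.carrier S.res A) :
    RingHom.ker (π.1 : S.carrier →+* A) ≤ IsLocalRing.maximalIdeal S.carrier := by
  intro s hs
  rw [CRing.mem_maximalIdeal_iff]
  have h : A.res (π.1 s) = S.res s := congrArg (fun t : S.carrier →ₐ[Λ] k => t s) π.2
  rw [← h]
  have : π.1 s = 0 := hs
  rw [this, map_zero]

lemma homSet_ker_open {S : CRing Λ k} {A : Art Λ k} (π : HomSet S.carrier S.res A) :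
    ∃ N : ℕ, IsLocalRing.maximalIdeal S.carrier ^ N ≤ RingHom.ker (π.1 : S.carrier →+* A) := by
  obtain ⟨N, hN⟩ := art_exists_pow_maximalIdeal_eq_bot A
  exact ⟨N + 1, fun y hy => homSet_apply_eq_zero_of_mem_pow π hN hy⟩

/-- The map induced on a quotient by an extension killed by the maximal ideal is again such. -/
lemma isSemismallExt_quotFactor {C D : Art Λ k} {K : Ideal C}
    (hK : K ≤ IsLocalRing.maximalIdeal C) (p : C ⟶ D) (hp : K ≤ RingHom.ker p.toAlgHom)
    (hsemi : IsSemismallExt p) : IsSemismallExt (Art.quotFactor hK p hp) := by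
  refine ⟨fun d => ?_, ?_⟩
  · obtain ⟨c, rfl⟩ := hsemi.1 d
    exact ⟨Art.quotMk C K hK c, rfl⟩
  · rw [← le_bot_iff]
    apply Ideal.mul_le.2
    intro a ha b hb
    obtain ⟨a₀, rfl⟩ := Art.quotMk_surjective C K hK a
    obtain ⟨b₀, rfl⟩ := Art.quotMk_surjective C K hK b
    have ha₀ : a₀ ∈ IsLocalRing.maximalIdeal C := by
      rw [Art.mem_maximalIdeal_iff] at ha ⊢
      rw [← Art.res_app (Art.quotMk C K hK) a₀]
      exact ha
    have hb₀ : b₀ ∈ RingHom.ker p.toAlgHom := hb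
    have h := Ideal.mul_mem_mul ha₀ hb₀
    rw [hsemi.2, Ideal.mem_bot] at h
    rw [Ideal.mem_bot, ← map_mul, h, map_zero]

/-- One step of Schlessinger's construction: the least quotient of `S` dominating the stage
`(A, π, x)` by an extension killed by the maximal ideal to which `x` lifts. -/
theorem exists_next_stage (S : CRing Λ k) {F : Art Λ k ⥤ Type v} (h1 : S1 F)
    (A : Art Λ k) (π : HomSet S.carrier S.res A) (hπ : Function.Surjective π.1) (x : F.obj A) :
    ∃ (A' : Art Λ k) (π' : HomSet S.carrier S.res A') (μ : A' ⟶ A) (x' : F.obj A'),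
      Function.Surjective π'.1 ∧ HomSet.map μ π' = π ∧ F.map μ x' = x ∧
      (∀ (B : Art Λ k) (ν : B ⟶ A) (ρ : HomSet S.carrier S.res B) (y : F.obj B),
        IsSemismallExt ν → Function.Surjective ρ.1 → HomSet.map ν ρ = π → F.map ν y = x →
        ∀ s : S.carrier, π'.1 s = 0 → ρ.1 s = 0) ∧ IsSemismallExt μ := by
  set J : Ideal S.carrier := RingHom.ker (π.1 : S.carrier →+* A) with hJdef
  have hJm : J ≤ IsLocalRing.maximalIdeal S.carrier := homSet_ker_le_maximalIdeal π
  obtain ⟨N, hN⟩ := homSet_ker_open π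
  set K : Ideal S.carrier := IsLocalRing.maximalIdeal S.carrier * J with hKdef
  have hKJ : K ≤ J := Ideal.mul_le_right
  have hKm : K ≤ IsLocalRing.maximalIdeal S.carrier := hKJ.trans hJm
  have hKopen : ∃ N : ℕ, IsLocalRing.maximalIdeal S.carrier ^ N ≤ K :=
    ⟨N + 1, by rw [pow_succ']; exact Ideal.mul_mono_right hN⟩
  let B₀ : Art Λ k := quotArt S K hKm hKopen
  let β : HomSet S.carrier S.res B₀ := quotArtMk S K hKm hKopen
  have hβ : Function.Surjective β.1 := quotArtMk_surjective S K hKm hKopen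
  have hβ0 : ∀ s, β.1 s = 0 ↔ s ∈ K := quotArtMk_eq_zero_iff S K hKm hKopen
  obtain ⟨p₀, hp₀⟩ := homSet_descend β hβ π (fun s hs => hKJ ((hβ0 s).1 hs))
  have hp₀' : ∀ s, p₀ (β.1 s) = π.1 s := fun s =>
    congrArg (fun t : HomSet S.carrier S.res A => t.1 s) hp₀
  have hp₀surj : Function.Surjective p₀ := fun a => by
    obtain ⟨s, rfl⟩ := hπ a
    exact ⟨β.1 s, hp₀' s⟩
  have hp₀semi : IsSemismallExt p₀ := by
    refine ⟨hp₀surj, ?_⟩
    rw [← le_bot_iff]
    apply Ideal.mul_le.2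
    intro a ha b hb
    obtain ⟨a', rfl⟩ := hβ a
    obtain ⟨b', rfl⟩ := hβ b
    have ha' : a' ∈ IsLocalRing.maximalIdeal S.carrier := by
      rw [CRing.mem_maximalIdeal_iff]
      rw [Art.mem_maximalIdeal_iff] at ha
      have h : B₀.res (β.1 a') = S.res a' := congrArg (fun t : S.carrier →ₐ[Λ] k => t a') β.2
      rw [← h]; exact ha
    have hb' : b' ∈ J := by
      have : p₀ (β.1 b') = 0 := hb
      rw [hp₀'] at this
      exact this
    rw [Ideal.mem_bot, ← map_mul]
    exact (hβ0 _).2 (Ideal.mul_mem_mul ha' hb')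
  obtain ⟨J₀, hJ₀, hJ₀', ⟨y₀, hy₀⟩, hmin⟩ := Groth.Agent.S12729.result h1 p₀ hp₀semi x
  refine ⟨Art.quot B₀ J₀ hJ₀', HomSet.map (Art.quotMk B₀ J₀ hJ₀') β,
    Art.quotFactor hJ₀' p₀ hJ₀, y₀, ?_, ?_, hy₀, ?_,
    isSemismallExt_quotFactor hJ₀' p₀ hJ₀ hp₀semi⟩
  · exact (Art.quotMk_surjective B₀ J₀ hJ₀').comp hβ
  · rw [← homSet_map_comp, Art.quotMk_quotFactor, hp₀]
  · intro B ν ρ y hν hρ hνρ hy s hs
    have hνρ' : ∀ s, ν (ρ.1 s) = π.1 s := fun s =>
      congrArg (fun t : HomSet S.carrier S.res A => t.1 s) hνρ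
    -- ρ kills K
    have hρK : K ≤ RingHom.ker (ρ.1 : S.carrier →+* B) := by
      apply Ideal.mul_le.2
      intro a ha j hj
      rw [RingHom.mem_ker, map_mul]
      have h1 : (ρ.1 : S.carrier →+* B) a ∈ IsLocalRing.maximalIdeal B :=
        homSet_map_maximalIdeal_le ρ ha
      have h2 : (ρ.1 : S.carrier →+* B) j ∈ RingHom.ker ν.toAlgHom := by
        rw [RingHom.mem_ker]
        change ν (ρ.1 j) = 0
        rw [hνρ']
        exact hj
      have h3 := Ideal.mul_mem_mul h1 h2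
      rw [hν.2] at h3
      exact h3
    obtain ⟨r, hr⟩ := homSet_descend β hβ ρ (fun s hs => hρK ((hβ0 s).1 hs))
    have hr' : ∀ s, r (β.1 s) = ρ.1 s := fun s =>
      congrArg (fun t : HomSet S.carrier S.res B => t.1 s) hr
    have hrsurj : Function.Surjective r := fun b => by
      obtain ⟨s, rfl⟩ := hρ b
      exact ⟨β.1 s, hr' s⟩
    have hrν : r ≫ ν = p₀ := by
      apply hom_ext_of_homSet_surjective β hβ
      rw [homSet_map_comp, hr, hνρ, hp₀]
    have hJB : RingHom.ker r.toAlgHom ≤ RingHom.ker p₀.toAlgHom := by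
      intro b hb
      rw [RingHom.mem_ker] at hb ⊢
      rw [← hrν]
      change ν (r.toAlgHom b) = 0
      rw [hb, map_zero]
    have hJB' : RingHom.ker r.toAlgHom ≤ IsLocalRing.maximalIdeal B₀ := art_ker_le_maximalIdeal r
    obtain ⟨σ, hσ⟩ := exists_descend r hrsurj (Art.quotMk B₀ (RingHom.ker r.toAlgHom) hJB')
      (by
        intro b hb
        rw [RingHom.mem_ker]
        change Ideal.Quotient.mk _ b = 0
        exact Ideal.Quotient.eq_zero_iff_mem.2 hb)
    have hσν : σ ≫ Art.quotFactor hJB' p₀ hJB = ν := by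
      apply Art.hom_ext
      apply AlgHom.ext
      intro b
      obtain ⟨b₀, rfl⟩ := hrsurj b
      have e1 : (r ≫ σ) b₀ = Art.quotMk B₀ _ hJB' b₀ := by rw [hσ]
      change (Art.quotFactor hJB' p₀ hJB) (σ (r b₀)) = ν (r b₀)
      have e2 : σ (r b₀) = Art.quotMk B₀ _ hJB' b₀ := e1
      rw [e2]
      have e3 : (Art.quotMk B₀ _ hJB' ≫ Art.quotFactor hJB' p₀ hJB) b₀ = p₀ b₀ := by
        rw [Art.quotMk_quotFactor]
      have e4 : (r ≫ ν) b₀ = p₀ b₀ := by rw [hrν]
      exact e3.trans e4.symm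
    have hle : J₀ ≤ RingHom.ker r.toAlgHom :=
      hmin _ hJB hJB' ⟨F.map σ y, by rw [← Functor.map_comp_apply, hσν, hy]⟩
    have h2 : β.1 s ∈ J₀ := by
      have : Ideal.Quotient.mk J₀ (β.1 s) = 0 := hs
      exact Ideal.Quotient.eq_zero_iff_mem.1 this
    have h3 : r (β.1 s) = 0 := hle h2
    rw [← hr']
    exact h3

end Step

section Dichotomy

/-- For a small extension `p : C → A` and `v ∈ h_S(C)` with `p ∘ v` surjective, either `v` is
surjective or `v` kills the kernel of `p ∘ v` (so that `p` has a section through `v`). -/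
theorem surjective_or_ker_le_of_isSmallExt {S : CRing Λ k} {C A : Art Λ k} (p : C ⟶ A)
    (hp : IsSmallExt p) (v : HomSet S.carrier S.res C)
    (hpv : Function.Surjective (HomSet.map p v).1) :
    Function.Surjective v.1 ∨ ∀ s : S.carrier, (HomSet.map p v).1 s = 0 → v.1 s = 0 := by
  obtain ⟨t, ht0⟩ := hp.2.2.1
  have ht : RingHom.ker p.toAlgHom = Ideal.span {t} := ht0
  have htker : p t = 0 := by
    have : t ∈ RingHom.ker p.toAlgHom := by rw [ht]; exact Ideal.mem_span_singleton_self t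
    exact this
  have hpv' : ∀ s, p (v.1 s) = (HomSet.map p v).1 s := fun s => rfl
  -- every element of the kernel is of the form `v(s') * t`
  have hkey : ∀ c : C, p c = 0 → ∃ s' : S.carrier, c = v.1 s' * t := by
    intro c hc
    have hc' : c ∈ Ideal.span {t} := by rw [← ht]; exact hc
    obtain ⟨a, rfl⟩ := Ideal.mem_span_singleton'.1 hc'
    obtain ⟨s', hs'⟩ := hpv (p a)
    refine ⟨s', ?_⟩
    have h0 : p (a - v.1 s') = 0 := by rw [map_sub, ← hs', hpv', sub_self]
    have h1 : C.res (a - v.1 s') = 0 := by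
      rw [← Art.res_app p, h0, map_zero]
    have h2 := smallExt_mul_eq_zero hp.isSemismallExt htker h1
    rw [sub_mul, sub_eq_zero] at h2
    exact h2
  by_cases hrange : ∃ s₀ : S.carrier, v.1 s₀ = t
  · left
    obtain ⟨s₀, hs₀⟩ := hrange
    intro c
    obtain ⟨s, hs⟩ := hpv (p c)
    have h0 : p (c - v.1 s) = 0 := by rw [map_sub, ← hs, hpv', sub_self]
    obtain ⟨s', hs'⟩ := hkey _ h0
    refine ⟨s + s' * s₀, ?_⟩
    rw [map_add, map_mul, hs₀, ← hs']
    ring
  · right
    intro s hs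
    by_contra hne
    obtain ⟨s', hs'⟩ := hkey (v.1 s) ((hpv' s).trans hs)
    have hunit : IsUnit s' := by
      by_contra hnu
      have h1 : s' ∈ IsLocalRing.maximalIdeal S.carrier := (IsLocalRing.mem_maximalIdeal _).2 hnu
      have h2 : S.res s' = 0 := (CRing.mem_maximalIdeal_iff S s').1 h1
      have h3 : C.res (v.1 s') = 0 := by
        have h : C.res (v.1 s') = S.res s' := congrArg (fun f : S.carrier →ₐ[Λ] k => f s') v.2
        rw [h, h2]
      have h4 := smallExt_mul_eq_zero hp.isSemismallExt htker h3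
      exact hne (hs'.trans h4)
    obtain ⟨u, hu⟩ := hunit
    apply hrange
    refine ⟨(↑u⁻¹ : S.carrier) * s, ?_⟩
    rw [map_mul, hs', ← mul_assoc, ← map_mul, ← hu, Units.inv_mul, map_one, one_mul]

end Dichotomy

section Construction

variable [IsNoetherianRing Λ] [Module.Finite Λ k]
variable (S : CRing Λ k) (F : Art Λ k ⥤ Type v)

/-- A stage of the construction: a quotient object of `S` with an element of `F` over it. -/
structure Stage where
  /-- the object -/
  A : Art Λ k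
  /-- the surjection from `S` -/
  π : HomSet S.carrier S.res A
  hπ : Function.Surjective π.1
  /-- the element -/
  x : F.obj A

variable {S F}

/-- `T'` is a next stage after `T`. -/
def Stage.IsNext (T T' : Stage S F) : Prop :=
  ∃ μ : T'.A ⟶ T.A, HomSet.map μ T'.π = T.π ∧ F.map μ T'.x = T.x ∧
    ∀ (B : Art Λ k) (ν : B ⟶ T.A) (ρ : HomSet S.carrier S.res B) (y : F.obj B),
      IsSemismallExt ν → Function.Surjective ρ.1 → HomSet.map ν ρ = T.π → F.map ν y = T.x →
      ∀ s : S.carrier, T'.π.1 s = 0 → ρ.1 s = 0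

lemma Stage.exists_isNext (h1 : S1 F) (T : Stage S F) : ∃ T' : Stage S F, T.IsNext T' := by
  obtain ⟨A', π', μ, x', hπ', h1', h2', h3', -⟩ := exists_next_stage S h1 T.A T.π T.hπ T.x
  exact ⟨⟨A', π', hπ', x'⟩, μ, h1', h2', h3'⟩

/-- A chosen next stage. -/
noncomputable def Stage.next (h1 : S1 F) (T : Stage S F) : Stage S F :=
  (T.exists_isNext h1).choose

lemma Stage.next_spec (h1 : S1 F) (T : Stage S F) : T.IsNext (T.next h1) :=
  (T.exists_isNext h1).choose_spec

/-- The sequence of stages. -/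
noncomputable def Stage.seq (h1 : S1 F) (T : Stage S F) : ℕ → Stage S F
  | 0 => T
  | q + 1 => (Stage.seq h1 T q).next h1

lemma Stage.seq_succ (h1 : S1 F) (T : Stage S F) (q : ℕ) :
    T.seq h1 (q + 1) = (T.seq h1 q).next h1 := rfl

lemma Stage.seq_descend (h1 : S1 F) (T : Stage S F) {q q' : ℕ} (hqq' : q ≤ q') {A : Art Λ k}
    (w : (T.seq h1 q).A ⟶ A) :
    ∃ w' : (T.seq h1 q').A ⟶ A,
      HomSet.map w' (T.seq h1 q').π = HomSet.map w (T.seq h1 q).π ∧
      F.map w' (T.seq h1 q').x = F.map w (T.seq h1 q).x := by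
  induction q', hqq' using Nat.le_induction with
  | base => exact ⟨w, rfl, rfl⟩
  | succ q' hq' ih =>
    obtain ⟨w', hw1, hw2⟩ := ih
    have hnext : (T.seq h1 q').IsNext (T.seq h1 (q' + 1)) := (T.seq h1 q').next_spec h1
    obtain ⟨μ, hμ1, hμ2, -⟩ := hnext
    refine ⟨μ ≫ w', ?_, ?_⟩
    · rw [homSet_map_comp, hμ1, hw1]
    · rw [Functor.map_comp_apply, hμ2, hw2]

/-- The kernel of the `q`-th surjection. -/
noncomputable def Stage.kerSeq (h1 : S1 F) (T : Stage S F) (q : ℕ) : Ideal S.carrier :=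
  RingHom.ker ((T.seq h1 q).π.1 : S.carrier →+* (T.seq h1 q).A)

lemma Stage.mem_kerSeq (h1 : S1 F) (T : Stage S F) (q : ℕ) (s : S.carrier) :
    s ∈ T.kerSeq h1 q ↔ (T.seq h1 q).π.1 s = 0 := Iff.rfl

lemma Stage.kerSeq_antitone (h1 : S1 F) (T : Stage S F) : Antitone (T.kerSeq h1) := by
  intro q q' hqq' s hs
  obtain ⟨w', hw1, -⟩ := T.seq_descend h1 hqq' (𝟙 (T.seq h1 q).A)
  rw [homSet_map_id] at hw1
  rw [Stage.mem_kerSeq] at hs ⊢
  rw [← hw1, homSet_map_apply, hs, map_zero]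

/-- The intersection of the kernels. -/
noncomputable def Stage.kerInf (h1 : S1 F) (T : Stage S F) : Ideal S.carrier := ⨅ q, T.kerSeq h1 q

lemma Stage.kerInf_le (h1 : S1 F) (T : Stage S F) :
    T.kerInf h1 ≤ IsLocalRing.maximalIdeal S.carrier :=
  (iInf_le _ 0).trans (homSet_ker_le_maximalIdeal _)

/-- The coefficient ring of the versal family. -/
noncomputable def Stage.limRing (h1 : S1 F) (T : Stage S F) : CRing Λ k :=
  cringQuot S (T.kerInf h1) (T.kerInf_le h1)

/-- Restriction of a map out of the limit ring to `S`. -/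
noncomputable def Stage.liftS (h1 : S1 F) (T : Stage S F) {A : Art Λ k}
    (ψ : HomSet (T.limRing h1).carrier (T.limRing h1).res A) : HomSet S.carrier S.res A :=
  ⟨ψ.1.comp (cringQuotMk S (T.kerInf h1) (T.kerInf_le h1)), by
    apply AlgHom.ext
    intro s
    have e1 : A.res (ψ.1 (cringQuotMk S (T.kerInf h1) (T.kerInf_le h1) s)) =
        (T.limRing h1).res (cringQuotMk S (T.kerInf h1) (T.kerInf_le h1) s) :=
      congrArg (fun t : (T.limRing h1).carrier →ₐ[Λ] k =>
        t (cringQuotMk S (T.kerInf h1) (T.kerInf_le h1) s)) ψ.2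
    have e2 : (T.limRing h1).res (cringQuotMk S (T.kerInf h1) (T.kerInf_le h1) s) = S.res s :=
      congrArg (fun t : S.carrier →ₐ[Λ] k => t s)
        (cringQuotMk_res S (T.kerInf h1) (T.kerInf_le h1))
    exact e1.trans e2⟩

lemma Stage.liftS_apply (h1 : S1 F) (T : Stage S F) {A : Art Λ k}
    (ψ : HomSet (T.limRing h1).carrier (T.limRing h1).res A) (s : S.carrier) :
    (T.liftS h1 ψ).1 s = ψ.1 (Ideal.Quotient.mk (T.kerInf h1) s) := rfl

lemma Stage.liftS_map (h1 : S1 F) (T : Stage S F) {A B : Art Λ k} (f : A ⟶ B)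
    (ψ : HomSet (T.limRing h1).carrier (T.limRing h1).res A) :
    T.liftS h1 (HomSet.map f ψ) = HomSet.map f (T.liftS h1 ψ) := rfl

lemma Stage.liftS_injective (h1 : S1 F) (T : Stage S F) {A : Art Λ k}
    (ψ₁ ψ₂ : HomSet (T.limRing h1).carrier (T.limRing h1).res A)
    (h : T.liftS h1 ψ₁ = T.liftS h1 ψ₂) : ψ₁ = ψ₂ := by
  apply Subtype.ext
  apply AlgHom.ext
  intro (r : S.carrier ⧸ T.kerInf h1)
  obtain ⟨s, rfl⟩ := Ideal.Quotient.mk_surjective r
  exact congrArg (fun t : HomSet S.carrier S.res A => t.1 s) h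

lemma Stage.liftS_kills (h1 : S1 F) (T : Stage S F) {A : Art Λ k}
    (ψ : HomSet (T.limRing h1).carrier (T.limRing h1).res A) (s : S.carrier)
    (hs : s ∈ T.kerInf h1) : (T.liftS h1 ψ).1 s = 0 := by
  rw [Stage.liftS_apply, Ideal.Quotient.eq_zero_iff_mem.2 hs]
  exact map_zero ψ.1

lemma Stage.exists_liftS_eq (h1 : S1 F) (T : Stage S F) {A : Art Λ k}
    (χ : HomSet S.carrier S.res A) (h : ∀ s ∈ T.kerInf h1, χ.1 s = 0) :
    ∃ ψ : HomSet (T.limRing h1).carrier (T.limRing h1).res A, T.liftS h1 ψ = χ := by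
  let ψ₀ : (S.carrier ⧸ T.kerInf h1) →ₐ[Λ] A := Ideal.Quotient.liftₐ (T.kerInf h1) χ.1 h
  refine ⟨⟨ψ₀, ?_⟩, ?_⟩
  · apply AlgHom.ext
    intro (r : S.carrier ⧸ T.kerInf h1)
    obtain ⟨s, rfl⟩ := Ideal.Quotient.mk_surjective r
    change A.res (χ.1 s) = S.res s
    exact congrArg (fun t : S.carrier →ₐ[Λ] k => t s) χ.2
  · apply Subtype.ext
    apply AlgHom.ext
    intro s
    rfl

/-- Every map out of `S` killing the intersection of the kernels factors through a stage. -/
lemma Stage.exists_factor (h1 : S1 F) (T : Stage S F) {A : Art Λ k}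
    (χ : HomSet S.carrier S.res A) (h : ∀ s ∈ T.kerInf h1, χ.1 s = 0) :
    ∃ (q : ℕ) (w : (T.seq h1 q).A ⟶ A), HomSet.map w (T.seq h1 q).π = χ := by
  obtain ⟨N, hN⟩ := art_exists_pow_maximalIdeal_eq_bot A
  obtain ⟨q, hq⟩ := exists_le_iInf_sup_pow S (T.kerSeq h1) (T.kerSeq_antitone h1)
    (fun q => homSet_ker_open _) (N + 1)
  refine ⟨q, ?_⟩
  apply homSet_descend _ (T.seq h1 q).hπ χ
  intro s hs
  have hs' : s ∈ T.kerSeq h1 q := hs
  obtain ⟨a, ha, b, hb, rfl⟩ := Submodule.mem_sup.1 (hq hs')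
  rw [map_add, h a ha, homSet_apply_eq_zero_of_mem_pow χ hN hb, add_zero]

/-- The value of the limit family at `ψ`. -/
lemma Stage.exists_value (h1 : S1 F) (T : Stage S F) {A : Art Λ k}
    (ψ : HomSet (T.limRing h1).carrier (T.limRing h1).res A) :
    ∃ z : F.obj A, ∀ (q : ℕ) (w : (T.seq h1 q).A ⟶ A),
      HomSet.map w (T.seq h1 q).π = T.liftS h1 ψ → z = F.map w (T.seq h1 q).x := by
  obtain ⟨q₀, w₀, hw₀⟩ := T.exists_factor h1 (T.liftS h1 ψ) (T.liftS_kills h1 ψ)
  refine ⟨F.map w₀ (T.seq h1 q₀).x, ?_⟩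
  intro q w hw
  obtain ⟨w₀', h1', h2'⟩ := T.seq_descend h1 (le_max_left q₀ q) w₀
  obtain ⟨w', h3', h4'⟩ := T.seq_descend h1 (le_max_right q₀ q) w
  have : w₀' = w' := by
    apply hom_ext_of_homSet_surjective _ (T.seq h1 (max q₀ q)).hπ
    rw [h1', h3', hw₀, hw]
  rw [← h2', ← h4', this]

/-- The limit family. -/
noncomputable def Stage.limFamily (h1 : S1 F) (T : Stage S F) :
    Family (T.limRing h1).carrier (T.limRing h1).res F where
  app A ψ := (T.exists_value h1 ψ).choose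
  natural := by
    intro A B f ψ
    obtain ⟨q, w, hw⟩ := T.exists_factor h1 (T.liftS h1 ψ) (T.liftS_kills h1 ψ)
    rw [(T.exists_value h1 ψ).choose_spec q w hw,
      (T.exists_value h1 (HomSet.map f ψ)).choose_spec q (w ≫ f)
        (by rw [homSet_map_comp, hw, Stage.liftS_map]),
      Functor.map_comp_apply]

lemma Stage.limFamily_app_eq (h1 : S1 F) (T : Stage S F) {A : Art Λ k}
    (ψ : HomSet (T.limRing h1).carrier (T.limRing h1).res A) (q : ℕ) (w : (T.seq h1 q).A ⟶ A)
    (hw : HomSet.map w (T.seq h1 q).π = T.liftS h1 ψ) :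
    (T.limFamily h1).app A ψ = F.map w (T.seq h1 q).x :=
  (T.exists_value h1 ψ).choose_spec q w hw

/-- The limit family is versal, if `h_S` is smooth and the initial stage is surjective on tangent
spaces. -/
theorem Stage.isVersal_limFamily (hS : IsSmoothFunctor (hR S.carrier S.res))
    (h1 : S1 F) (h2 : Heps F) (T : Stage S F)
    (hT : ∀ y : F.obj (dual Λ k), ∃ φ : T.A ⟶ dual Λ k, F.map φ T.x = y) :
    IsVersal (T.limFamily h1) := by
  apply isVersal_of_tangent_surjective_of_exists_lift h1 h2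
  · intro y
    obtain ⟨φ, hφ⟩ := hT y
    obtain ⟨ψ, hψ⟩ := T.exists_liftS_eq h1 (HomSet.map φ T.π) (by
      intro s hs
      have hs0 : s ∈ T.kerSeq h1 0 := (iInf_le (T.kerSeq h1) 0) hs
      have hs1 : T.π.1 s = 0 := hs0
      change φ (T.π.1 s) = 0
      rw [hs1, map_zero])
    refine ⟨ψ, ?_⟩
    have := T.limFamily_app_eq h1 ψ 0 φ hψ.symm
    rw [this]
    exact hφ
  · intro B A μ hμ φ y hy
    obtain ⟨q, w, hw⟩ := T.exists_factor h1 (T.liftS h1 φ) (T.liftS_kills h1 φ)
    have hξ := T.limFamily_app_eq h1 φ q w hw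
    obtain ⟨C, p₁, p₂, hC⟩ := Groth.Agent.S12710.result w μ hμ.1
    have hp₁ : IsSmallExt p₁ := Groth.Agent.S12711.result hC hμ
    obtain ⟨z, hz⟩ := h1 p₁ p₂ w μ hC hμ.1 ⟨((T.seq h1 q).x, y), by
      change F.map w (T.seq h1 q).x = F.map μ y
      rw [hy, hξ]⟩
    have hz1 : F.map p₁ z = (T.seq h1 q).x := congrArg (fun t : FibProd F w μ => t.1.1) hz
    obtain ⟨v₀, hv⟩ := hS p₁ hp₁.1 (T.seq h1 q).π
    obtain ⟨v, rfl⟩ : ∃ v : HomSet S.carrier S.res C, v = v₀ := ⟨v₀, rfl⟩
    have hv' : HomSet.map p₁ v = (T.seq h1 q).π := hv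
    -- `v` kills the kernel of some stage
    have hkill : ∀ s ∈ T.kerInf h1, (HomSet.map p₂ v).1 s = 0 := by
      have hsurj : Function.Surjective (HomSet.map p₁ v).1 := by
        rw [hv']; exact (T.seq h1 q).hπ
      rcases surjective_or_ker_le_of_isSmallExt p₁ hp₁ v hsurj with hvs | hvk
      · have hnext : (T.seq h1 q).IsNext (T.seq h1 (q + 1)) := (T.seq h1 q).next_spec h1
        obtain ⟨-, -, -, hmin⟩ := hnext
        intro s hs
        have hs1 : s ∈ T.kerSeq h1 (q + 1) := (iInf_le (T.kerSeq h1) (q + 1)) hs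
        rw [Stage.mem_kerSeq] at hs1
        have := hmin C p₁ v z hp₁.isSemismallExt hvs hv' hz1 s hs1
        change p₂ (v.1 s) = 0
        rw [this, map_zero]
      · intro s hs
        have hs0 : s ∈ T.kerSeq h1 q := (iInf_le (T.kerSeq h1) q) hs
        rw [Stage.mem_kerSeq] at hs0
        have := hvk s (by rw [hv']; exact hs0)
        change p₂ (v.1 s) = 0
        rw [this, map_zero]
    obtain ⟨ψ, hψ⟩ := T.exists_liftS_eq h1 (HomSet.map p₂ v) hkill
    refine ⟨ψ, ?_⟩
    apply T.liftS_injective h1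
    rw [Stage.liftS_map, hψ, ← homSet_map_comp, ← hC.w, homSet_map_comp, hv', hw]

/-- Schlessinger's theorem, core form: a tangent-surjective element over a quotient of a smooth
coefficient ring extends to a versal family. -/
theorem hasVersal_of_stage (hS : IsSmoothFunctor (hR S.carrier S.res))
    (h1 : S1 F) (h2 : Heps F) (T : Stage S F)
    (hT : ∀ y : F.obj (dual Λ k), ∃ φ : T.A ⟶ dual Λ k, F.map φ T.x = y) : HasVersal F :=
  ⟨⟨T.limRing h1, T.limFamily h1, T.isVersal_limFamily hS h1 h2 hT⟩⟩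

end Construction

end Groth.Agent.Lib.Helper9
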