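import Mathlib
import Groth.Agent.Lib.Helper9.ArtSchlessinger
import Groth.Agent.Lib.Helper9.ArtHull
import Groth.Agent.Lib.Helper9.ArtTangent

/-! One step of the construction of a hull, in the form of SGA 7 (helper9): from an element
`a ∈ F(R)` surjective on tangent vectors, a semismall extension `R' → R` with the same relative
cotangent space and an element `a'` over `a` which is versal for small prolongations of `a`. -/

set_option autoImplicit false
universe u v
open CategoryTheory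

namespace Groth.Agent.Lib.Helper9

open ArtFun ArtFun.Art
open Groth.Agent.Lib.Helper63.ArtFunLib

variable {Λ : Type u} {k : Type u} [CommRing Λ] [Field k] [Algebra Λ k]

section Yoneda

variable {F : Art Λ k ⥤ Type v}

/-- A morphism of `Art` as an element of `h_A(B)`. -/
def homSetOf {A B : Art Λ k} (f : A ⟶ B) : HomSet A.carrier A.res B := ⟨f.toAlgHom, f.res_comp⟩

/-- An element of `h_A(B)` as a morphism. -/
def homOf {A B : Art Λ k} (w : HomSet A.carrier A.res B) : A ⟶ B := Art.homMk w.1 w.2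

lemma homOf_homSetOf {A B : Art Λ k} (f : A ⟶ B) : homOf (homSetOf f) = f := rfl

lemma homSetOf_homOf {A B : Art Λ k} (w : HomSet A.carrier A.res B) : homSetOf (homOf w) = w := rfl

lemma homSetOf_comp {A B C : Art Λ k} (f : A ⟶ B) (g : B ⟶ C) :
    homSetOf (f ≫ g) = HomSet.map g (homSetOf f) := rfl

lemma homOf_map {A B C : Art Λ k} (w : HomSet A.carrier A.res B) (g : B ⟶ C) :
    homOf (HomSet.map g w) = homOf w ≫ g := rfl

/-- The family over an object `A` defined by an element of `F(A)`. -/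
def eltFamily (A : Art Λ k) (x : F.obj A) : Family A.carrier A.res F where
  app _ w := F.map (homOf w) x
  natural f w := by
    rw [homOf_map, Functor.map_comp_apply]

lemma eltFamily_app (A : Art Λ k) (x : F.obj A) {B : Art Λ k} (w : HomSet A.carrier A.res B) :
    (eltFamily A x).app B w = F.map (homOf w) x := rfl

end Yoneda

section Lift

variable [IsNoetherianRing Λ] [Module.Finite Λ k]
variable {F : Art Λ k ⥤ Type v}

/-- Property (4) for the next stage: versality for small prolongations. -/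
theorem exists_lift_nextStage {S : CRing Λ k} (hS : IsSmoothFunctor (hR S.carrier S.res))
    (h1 : S1 F) (h2 : Heps F) {R : Art Λ k} (π : HomSet S.carrier S.res R)
    (hπ : Function.Surjective π.1) (a : F.obj R)
    (htan : ∀ y : F.obj (dual Λ k), ∃ φ : R ⟶ dual Λ k, F.map φ a = y)
    {A' : Art Λ k} (π' : HomSet S.carrier S.res A') (μ : A' ⟶ R) (x' : F.obj A')
    (hπ' : Function.Surjective π'.1) (hμπ : HomSet.map μ π' = π) (hx' : F.map μ x' = a)
    (hmin : ∀ (B : Art Λ k) (ν : B ⟶ R) (ρ : HomSet S.carrier S.res B) (y : F.obj B),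
        IsSemismallExt ν → Function.Surjective ρ.1 → HomSet.map ν ρ = π → F.map ν y = a →
        ∀ s : S.carrier, π'.1 s = 0 → ρ.1 s = 0)
    {R₁ : Art Λ k} (π₁ : R₁ ⟶ R) (hπ₁ : IsSmallExt π₁) (a₁ : F.obj R₁)
    (ha₁ : F.map π₁ a₁ = a) :
    ∃ f : A' ⟶ R₁, f ≫ π₁ = μ ∧ F.map f x' = a₁ := by
  -- a first lift
  obtain ⟨v₀, hv⟩ := hS π₁ hπ₁.1 π
  obtain ⟨v, rfl⟩ : ∃ v : HomSet S.carrier S.res R₁, v = v₀ := ⟨v₀, rfl⟩
  have hv' : HomSet.map π₁ v = π := hv
  have hf₀ : ∃ f₀ : A' ⟶ R₁, f₀ ≫ π₁ = μ := by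
    have hsurj : Function.Surjective (HomSet.map π₁ v).1 := by rw [hv']; exact hπ
    rcases surjective_or_ker_le_of_isSmallExt π₁ hπ₁ v hsurj with hvs | hvk
    · obtain ⟨f₀, hf₀⟩ := homSet_descend π' hπ' v
        (hmin R₁ π₁ v a₁ hπ₁.isSemismallExt hvs hv' ha₁)
      refine ⟨f₀, ?_⟩
      apply hom_ext_of_homSet_surjective π' hπ'
      rw [homSet_map_comp, hf₀, hv', hμπ]
    · obtain ⟨s, hs⟩ := homSet_descend π hπ v (fun r hr => hvk r (by rw [hv']; exact hr))
      refine ⟨μ ≫ s, ?_⟩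
      have hsπ : s ≫ π₁ = 𝟙 R := by
        apply hom_ext_of_homSet_surjective π hπ
        rw [homSet_map_comp, hs, hv', homSet_map_id]
      rw [Category.assoc, hsπ, Category.comp_id]
  obtain ⟨f₀, hf₀⟩ := hf₀
  -- adjust by a tangent vector
  have hd : Function.Surjective ((eltFamily A' x').app (dual Λ k)) := by
    intro y
    obtain ⟨φ, hφ⟩ := htan y
    refine ⟨homSetOf (μ ≫ φ), ?_⟩
    rw [eltFamily_app, homOf_homSetOf, Functor.map_comp_apply, hx', hφ]
  obtain ⟨w', hw'1, hw'2⟩ := exists_lift_compatible_of_tangent_surjective'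
    (F := hR A'.carrier A'.res) (G := F)
    (fun B => (eltFamily A' x').app B) (fun f x => (eltFamily A' x').natural f x)
    hR_H0 hR_S1 h1 (fun _ _ p' p'' h => (h2 p' p'' h).1) hd π₁ hπ₁
    (Groth.Agent.S12710.result π₁ π₁ hπ₁.1) (homSetOf μ) a₁
    (by rw [eltFamily_app, homOf_homSetOf, hx', ha₁]) (homSetOf f₀)
    (by change HomSet.map π₁ (homSetOf f₀) = homSetOf μ; rw [← homSetOf_comp, hf₀])
  obtain ⟨w, rfl⟩ : ∃ w : HomSet A'.carrier A'.res R₁, w = w' := ⟨w', rfl⟩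
  refine ⟨homOf w, ?_, hw'2⟩
  have : HomSet.map π₁ w = homSetOf μ := hw'1
  rw [← homOf_map, this, homOf_homSetOf]

end Lift

section CutDown

variable [IsNoetherianRing Λ] [Module.Finite Λ k]
variable {F : Art Λ k ⥤ Type v}

/-- The ideal `m_A² + m_Λ A` defining the relative cotangent space. -/
def relIdeal (A : Art Λ k) : Ideal A :=
  IsLocalRing.maximalIdeal A ^ 2 ⊔ Ideal.map (algebraMap Λ A) (RingHom.ker (algebraMap Λ k))

lemma relIdeal_le (A : Art Λ k) : relIdeal A ≤ IsLocalRing.maximalIdeal A := by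
  apply sup_le
  · exact Ideal.pow_le_self (by norm_num)
  · rw [Ideal.map_le_iff_le_comap]
    intro l hl
    rw [Ideal.mem_comap, Art.mem_maximalIdeal_iff, AlgHom.commutes]
    exact hl

/-- Liftability along small extensions of `R`, by maps killing `N`. -/
def LiftMod {A' R : Art Λ k} (μ : A' ⟶ R) (x' : F.obj A') (N : Ideal A') : Prop :=
  ∀ ⦃R₁ : Art Λ k⦄ (π₁ : R₁ ⟶ R), IsSmallExt π₁ → ∀ a₁ : F.obj R₁, F.map π₁ a₁ = F.map μ x' →
    ∃ w : HomSet A'.carrier A'.res R₁, (∀ r ∈ N, w.1 r = 0) ∧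
      HomSet.map π₁ w = homSetOf μ ∧ (eltFamily A' x').app R₁ w = a₁

theorem liftMod_step (hk : Function.Surjective (algebraMap Λ k)) (h2 : Heps F)
    {A' R : Art Λ k} (μ : A' ⟶ R) (x' : F.obj A')
    (htan : ∀ y : F.obj (dual Λ k), ∃ φ : R ⟶ dual Λ k, F.map φ (F.map μ x') = y)
    (N : Ideal A') (hN : N ≤ RingHom.ker μ.toAlgHom) (hL : LiftMod μ x' N)
    (hnot : ¬ RingHom.ker μ.toAlgHom ≤ relIdeal A' ⊔ N) :
    ∃ x ∈ RingHom.ker μ.toAlgHom, x ∉ N ∧ LiftMod μ x' (N ⊔ Ideal.span {x}) := by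
  obtain ⟨x'', hx''ker, hx''I⟩ := SetLike.not_le_iff_exists.1 hnot
  have hx''m : x'' ∈ IsLocalRing.maximalIdeal A' := art_ker_le_maximalIdeal μ hx''ker
  have hNm : N ≤ IsLocalRing.maximalIdeal A' := hN.trans (art_ker_le_maximalIdeal μ)
  obtain ⟨ψ, hψ1, hψ2, hψ3⟩ := exists_tangent_of_not_mem A'.res A'.res_surjective hk
    (relIdeal A' ⊔ N) (sup_le (relIdeal_le A') hNm)
    (le_sup_left.trans (le_sup_left (a := relIdeal A') (b := N)))
    (fun c hc => Ideal.mem_sup_left (Ideal.mem_sup_right (Ideal.mem_map_of_mem _ hc)))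
    x'' hx''m hx''I
  let θ : HomSet A'.carrier A'.res (dual Λ k) := ⟨ψ, hψ1⟩
  set ζ := eltFamily A' x' with hζ
  obtain ⟨φ, hφ⟩ := htan (ζ.app _ θ)
  let θ' : HomSet A'.carrier A'.res (dual Λ k) := homSetOf (μ ≫ φ)
  have hθ' : ζ.app _ θ' = ζ.app _ θ := by
    rw [← hφ, hζ, eltFamily_app, homOf_homSetOf, Functor.map_comp_apply]
  obtain ⟨θ₀, hθ₀, hsnd⟩ := exists_difference h2 ζ θ θ' hθ'.symm
  have hθ'ker : ∀ r ∈ RingHom.ker μ.toAlgHom, TrivSqZeroExt.snd (θ'.1 r) = 0 := by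
    intro r hr
    have h1 : θ'.1 r = φ (μ r) := rfl
    have h2' : μ r = 0 := hr
    rw [h1, h2', map_zero]
    rfl
  have hN0 : ∀ r ∈ N, TrivSqZeroExt.snd (θ₀.1 r) = 0 := by
    intro r hr
    rw [hsnd, hθ'ker r (hN hr), sub_zero]
    exact hψ2 r (Ideal.mem_sup_right hr)
  have hc : TrivSqZeroExt.snd (θ₀.1 x'') ≠ 0 := by
    rw [hsnd, hθ'ker x'' hx''ker, sub_zero]
    exact hψ3
  obtain ⟨u, hu⟩ := A'.res_surjective (TrivSqZeroExt.snd (θ₀.1 x''))⁻¹
  have hfst : ∀ r, TrivSqZeroExt.fst (θ₀.1 r) = A'.res r := fun r =>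
    congrArg (fun t : A'.carrier →ₐ[Λ] k => t r) θ₀.2
  have hmul : ∀ a b, TrivSqZeroExt.snd (θ₀.1 (a * b)) =
      A'.res a * TrivSqZeroExt.snd (θ₀.1 b) + A'.res b * TrivSqZeroExt.snd (θ₀.1 a) := fun a b => by
    rw [← hfst a, ← hfst b]
    exact dualNumber_snd_map_mul θ₀.1 a b
  have hx1 : TrivSqZeroExt.snd (θ₀.1 (u * x'')) = 1 := by
    rw [hmul, hu, (Art.mem_maximalIdeal_iff A' x'').1 hx''m, zero_mul, add_zero,
      inv_mul_cancel₀ hc]
  refine ⟨u * x'', Ideal.mul_mem_left _ _ hx''ker, ?_, ?_⟩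
  · intro hxN
    have := hN0 _ hxN
    rw [hx1] at this
    exact one_ne_zero this
  · intro R₁ π₁ hπ₁ a₁ ha₁
    obtain ⟨w, hwN, hwμ, hwa⟩ := hL π₁ hπ₁ a₁ ha₁
    have hwx : π₁ (w.1 (u * x'')) = 0 := by
      have h1 : π₁ (w.1 (u * x'')) = μ (u * x'') :=
        congrArg (fun t : HomSet A'.carrier A'.res R => t.1 (u * x'')) hwμ
      rw [h1]
      exact Ideal.mul_mem_left _ _ hx''ker
    obtain ⟨w', h1', h2', h3', h4'⟩ := exists_adjust h2 ζ π₁ hπ₁ w θ₀ hθ₀ (u * x'') hx1 hwx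
    refine ⟨w', ?_, h1'.trans hwμ, h2'.trans hwa⟩
    have hle : N ⊔ Ideal.span {u * x''} ≤ RingHom.ker (w'.1 : A'.carrier →+* R₁) := by
      apply sup_le
      · intro r hr
        rw [RingHom.mem_ker]
        change w'.1 r = 0
        rw [h4' r (hN0 r hr)]
        exact hwN r hr
      · rw [Ideal.span_le]
        intro r hr
        rw [Set.mem_singleton_iff] at hr
        subst hr
        exact h3'
    exact fun r hr => hle hr

theorem exists_liftMod_max (hk : Function.Surjective (algebraMap Λ k)) (h2 : Heps F)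
    {A' R : Art Λ k} (μ : A' ⟶ R) (x' : F.obj A')
    (htan : ∀ y : F.obj (dual Λ k), ∃ φ : R ⟶ dual Λ k, F.map φ (F.map μ x') = y) :
    ∀ N : Ideal A', N ≤ RingHom.ker μ.toAlgHom → LiftMod μ x' N →
      ∃ N' : Ideal A', N' ≤ RingHom.ker μ.toAlgHom ∧ LiftMod μ x' N' ∧
        RingHom.ker μ.toAlgHom ≤ relIdeal A' ⊔ N' := by
  intro N
  induction N using IsNoetherian.induction with
  | hgt N ih =>
    intro hN hL
    by_cases hle : RingHom.ker μ.toAlgHom ≤ relIdeal A' ⊔ N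
    · exact ⟨N, hN, hL, hle⟩
    · obtain ⟨x, hxker, hxN, hL'⟩ := liftMod_step hk h2 μ x' htan N hN hL hle
      have hlt : N < N ⊔ Ideal.span {x} := by
        refine lt_of_le_of_ne le_sup_left ?_
        intro heq
        apply hxN
        rw [heq]
        exact Ideal.mem_sup_right (Ideal.mem_span_singleton_self x)
      exact ih _ hlt (sup_le hN ((Ideal.span_singleton_le_iff_mem _).2 hxker)) hL'

end CutDown

end Groth.Agent.Lib.Helper9
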