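import Mathlib
import Groth.Agent.Lib.Helper9.ArtVersal
import Groth.Agent.Lib.Helper64.FormalFamily
import Groth.Agent.Lib.Helper63.ArtFun

/-! Lifting formal elements through versal families; miniversality of families over smooth rings
with bijective tangent map (helper9). -/

set_option autoImplicit false
universe u v
open CategoryTheory

namespace Groth.Agent.Lib.Helper9

open ArtFun ArtFun.Art
open Groth.Agent.Lib.Helper63.ArtFunLib

variable {Λ : Type u} {k : Type u} [CommRing Λ] [Field k] [Algebra Λ k]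

section H0

variable {F : Art Λ k ⥤ Type v} {R : Type u} [CommRing R] [Algebra Λ R] {resR : R →ₐ[Λ] k}

/-- A family surjective on tangent vectors forces `F(k)` to be one point. -/
theorem h0_of_tangent_surjective (ξ : Family R resR F)
    (h : Function.Surjective (ξ.app (dual Λ k))) : H0 F := by
  have hcomp : (baseToDual : base Λ k ⟶ dual Λ k) ≫ toBase (dual Λ k) = 𝟙 _ :=
    Art.hom_ext (AlgHom.ext fun _ => rfl)
  let pt : HomSet R resR (base Λ k) := ⟨resR, AlgHom.id_comp _⟩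
  have key : ∀ x : F.obj (base Λ k), x = ξ.app _ pt := by
    intro x
    obtain ⟨φ, hφ⟩ := h (F.map baseToDual x)
    have h1 : x = F.map (toBase (dual Λ k)) (F.map baseToDual x) := by
      rw [← Functor.map_comp_apply, hcomp, Functor.map_id_apply]
    rw [h1, ← hφ, ← ξ.natural]
    congr 1
    apply Subtype.ext
    exact φ.2
  exact ⟨⟨ξ.app _ pt⟩, ⟨fun x y => (key x).trans (key y).symm⟩⟩

end H0

section Lift

variable [IsNoetherianRing Λ] [Module.Finite Λ k]
variable {F : Art Λ k ⥤ Type v}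

/-- A versal family receives every formal element: there is a morphism of coefficient rings
pushing the versal family forward to the given formal element. -/
theorem exists_hom_of_isVersal (h0 : H0 F) {R₀ : Type u} [CommRing R₀] [Algebra Λ R₀]
    {res₀ : R₀ →ₐ[Λ] k} (ξ₀ : Family R₀ res₀ F) (hξ₀ : IsVersal ξ₀) (R : CRing Λ k)
    (u : FormalElt F R) :
    ∃ (γ : R₀ →ₐ[Λ] R.carrier) (hγ : R.res.comp γ = res₀),
      ∀ m, ξ₀.app _ ⟨(R.truncHom m).1.comp γ, by
        rw [← AlgHom.comp_assoc, (R.truncHom m).2, hγ]⟩ = u.elt m := by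
  classical
  let pt : HomSet R₀ res₀ (base Λ k) := ⟨res₀, AlgHom.id_comp _⟩
  -- the base step
  have hbase : ∃ γ₀ : HomSet R₀ res₀ (R.trunc 0), ξ₀.app _ γ₀ = u.elt 0 := by
    obtain ⟨ψ, -, hψ⟩ := hξ₀ (toBase (R.trunc 0)) (R.trunc 0).res_surjective pt (u.elt 0)
      (@Subsingleton.elim _ h0.2 _ _)
    exact ⟨ψ, hψ⟩
  obtain ⟨γ₀, hγ₀⟩ := hbase
  let T : ℕ → Type u := fun m => {χ : HomSet R₀ res₀ (R.trunc m) // ξ₀.app _ χ = u.elt m}
  have hsurj : ∀ m, Function.Surjective (R.truncMap m) := by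
    intro m z
    obtain ⟨a, rfl⟩ := Ideal.Quotient.mk_surjective z
    exact ⟨Ideal.Quotient.mk _ a, rfl⟩
  have hstep : ∀ (m : ℕ) (χ : T m), ∃ χ' : HomSet R₀ res₀ (R.trunc (m + 1)),
      HomSet.map (R.truncMap m) χ' = χ.1 ∧ ξ₀.app _ χ' = u.elt (m + 1) := by
    intro m χ
    exact hξ₀ (R.truncMap m) (hsurj m) χ.1 (u.elt (m + 1)) (by rw [χ.2]; exact u.compat m)
  let Ψ : ∀ m, T m := fun m => Nat.rec ⟨γ₀, hγ₀⟩
    (fun m χ => ⟨Classical.choose (hstep m χ), (Classical.choose_spec (hstep m χ)).2⟩) m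
  have hΨ : ∀ m, HomSet.map (R.truncMap m) (Ψ (m + 1)).1 = (Ψ m).1 := fun m =>
    (Classical.choose_spec (hstep m (Ψ m))).1
  obtain ⟨γ, hγ, hγm⟩ := exists_lift_of_compatible R (fun m => (Ψ m).1) hΨ
  refine ⟨γ, hγ, fun m => ?_⟩
  have : (⟨(R.truncHom m).1.comp γ, by
      rw [← AlgHom.comp_assoc, (R.truncHom m).2, hγ]⟩ : HomSet R₀ res₀ (R.trunc m)) = (Ψ m).1 :=
    Subtype.ext (hγm m)
  rw [this]
  exact (Ψ m).2

end Lift

section Main

variable [IsNoetherianRing Λ] [Module.Finite Λ k]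
variable {F : Art Λ k ⥤ Type v}

/-- A family over a smooth coefficient ring which is bijective on tangent spaces is versal, when
`F` has a hull. -/
theorem isVersal_of_smooth_of_tangent_bijective (H : Hull F) (R : CRing Λ k)
    (hR : IsSmoothFunctor (hR R.carrier R.res)) (ξ : Family R.carrier R.res F)
    (hξ : Function.Bijective (ξ.app (dual Λ k))) : IsVersal ξ := by
  have h0 : H0 F := h0_of_tangent_surjective H.family H.miniversal.2.2
  obtain ⟨γ, hγ, hγm⟩ := exists_hom_of_isVersal h0 H.family H.miniversal.1 R ξ.toFormalElt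
  have hfam : H.family.along γ hγ = ξ := by
    apply Groth.Agent.Lib.Helper64.Family.toFormalElt_injective
    apply FormalElt.ext'
    intro m
    exact hγm m
  have hξapp : ∀ (A : Art Λ k) (φ : HomSet R.carrier R.res A),
      ξ.app A φ = H.family.app A ⟨φ.1.comp γ, by rw [← AlgHom.comp_assoc, φ.2, hγ]⟩ := by
    intro A φ
    rw [← hfam]
    rfl
  -- the map `h_R → h_{R₀}`
  let pre : ∀ A : Art Λ k, (ArtFun.hR R.carrier R.res).obj A →
      (ArtFun.hR H.ring.carrier H.ring.res).obj A :=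
    fun A φ => (⟨φ.1.comp γ, by rw [← AlgHom.comp_assoc, φ.2, hγ]⟩ :
      HomSet H.ring.carrier H.ring.res A)
  have hpre_nat : ∀ {A B : Art Λ k} (f : A ⟶ B) (x : (ArtFun.hR R.carrier R.res).obj A),
      pre B ((ArtFun.hR R.carrier R.res).map f x) =
        (ArtFun.hR H.ring.carrier H.ring.res).map f (pre A x) := by
    intro A B f x
    rfl
  have hd : Function.Surjective (pre (dual Λ k)) := by
    intro ψ₀
    obtain ⟨φ, hφ⟩ := hξ.2 (H.family.app _ ψ₀)
    refine ⟨φ, ?_⟩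
    apply H.miniversal.2.1
    rw [← hφ, hξapp]
  apply isVersal_of_smallExt
  intro B A μ hμ φ y hy
  rw [hξapp] at hy
  obtain ⟨ψ₀, hψ₀1, hψ₀2⟩ := H.miniversal.1 μ hμ.1 _ y hy
  obtain ⟨w, hw⟩ := hR μ hμ.1 φ
  obtain ⟨w', hw'1, hw'2⟩ := exists_lift_compatible_of_tangent_surjective'
    (F := ArtFun.hR R.carrier R.res) (G := ArtFun.hR H.ring.carrier H.ring.res) pre hpre_nat
    hR_H0 hR_S1 hR_S1 (fun _ _ p' p'' h => (hR_Heps p' p'' h).1) hd μ hμ
    (Groth.Agent.S12710.result μ μ hμ.1) φ ψ₀ hψ₀1.symm w hw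
  obtain ⟨v, rfl⟩ : ∃ v : HomSet R.carrier R.res B, v = w' := ⟨w', rfl⟩
  refine ⟨v, hw'1, ?_⟩
  rw [hξapp, ← hψ₀2]
  congr 1

end Main

end Groth.Agent.Lib.Helper9
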