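import Mathlib
import Groth.Agent.S12707
import Groth.Agent.S12710
import Groth.Agent.Lib.Helper9.ArtFun

/-! Smoothness of morphisms of functors of Artin rings may be tested on small extensions; the
standard smoothness criterion via obstruction theories (helper9). -/

set_option autoImplicit false
universe u v
open CategoryTheory
open scoped TensorProduct

namespace Groth.Agent.Lib.Helper9

open ArtFun ArtFun.Art

section

variable {Λ : Type u} {k : Type u} [CommRing Λ] [Field k] [Algebra Λ k]
variable [IsNoetherianRing Λ] [Module.Finite Λ k]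

/-- Smoothness of a morphism of functors may be tested on small extensions. -/
theorem isSmooth_of_smallExt {F G : Art Λ k ⥤ Type v} (η : F ⟶ G)
    (h : ∀ ⦃B A : Art Λ k⦄ (μ : B ⟶ A), IsSmallExt μ →
      ∀ (x : F.obj A) (y : G.obj B), η.app A x = G.map μ y →
        ∃ z : F.obj B, F.map μ z = x ∧ η.app B z = y) : IsSmooth η := by
  intro B A μ hμ
  have key : ∀ (x : F.obj A) (y : G.obj B), η.app A x = G.map μ y →
      ∃ z : F.obj B, F.map μ z = x ∧ η.app B z = y := by
    refine Groth.Agent.S12707.result (fun A B μ => ∀ (x : F.obj A) (y : G.obj B),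
      η.app A x = G.map μ y → ∃ z : F.obj B, F.map μ z = x ∧ η.app B z = y) ?_ ?_ ?_ μ hμ
    · intro A B e he x y hy
      refine ⟨F.map (inv e) x, ?_, ?_⟩
      · rw [← Functor.map_comp_apply, IsIso.inv_hom_id, Functor.map_id_apply]
      · rw [NatTrans.naturality_apply, hy, ← Functor.map_comp_apply, IsIso.hom_inv_id,
          Functor.map_id_apply]
    · intro A B p hp
      exact h p hp
    · intro A B C p q hp hq x y hy
      obtain ⟨z₁, h1, h2⟩ := hq x (G.map p y) (by rw [← Functor.map_comp_apply]; exact hy)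
      obtain ⟨z₂, h3, h4⟩ := hp z₁ y h2
      exact ⟨z₂, by rw [Functor.map_comp_apply, h3, h1], h4⟩
  rintro ⟨⟨x, y⟩, hxy⟩
  obtain ⟨z, hz1, hz2⟩ := key x y hxy
  refine ⟨z, ?_⟩
  apply Subtype.ext
  exact Prod.ext hz1 hz2

end

section Obs

variable {k : Type u} [Field k]

/-- The standard smoothness criterion: a morphism of deformation functors which is surjective on
tangent spaces and injective on obstruction spaces (compatibly on small extensions) is smooth. -/
theorem isSmooth_of_obs_injective {F G : Art k k ⥤ Type v} (φ : F ⟶ G)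
    (hF0 : H0 F) (hFs : S1 F) (hGs : S1 G)
    (hGi : ∀ ⦃B A' : Art k k⦄ (p' : B ⟶ A') (p'' : B ⟶ dual k k)
      (h : IsFibreProd p' p'' (toBase A') (toBase (dual k k))), Function.Injective (cmp G h))
    {V W : Type u} [AddCommGroup V] [Module k V] [AddCommGroup W] [Module k W]
    (oF : ObsTheory F V) (oG : ObsTheory G W)
    (γ : V →ₗ[k] W) (hγ : Function.Injective γ)
    (hcompat : ∀ ⦃C' C : Art k k⦄ (p : C' ⟶ C) (hp : IsSmallExt p) (x : F.obj C),
      oG.obs p hp.isSemismallExt (φ.app C x) = LinearMap.rTensor _ γ (oF.obs p hp.isSemismallExt x))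
    (hT : Function.Surjective (φ.app (dual k k))) : IsSmooth φ := by
  apply isSmooth_of_smallExt
  intro B A μ hμ x y hxy
  have hobsG : oG.obs μ hμ.isSemismallExt (φ.app A x) = 0 :=
    (oG.obs_eq_zero_iff μ hμ.isSemismallExt _).2 ⟨y, hxy.symm⟩
  rw [hcompat μ hμ x] at hobsG
  have hinj : Function.Injective (LinearMap.rTensor (↥(RingHom.ker μ.toAlgHom)) γ) :=
    Module.Flat.rTensor_preserves_injective_linearMap γ hγ
  have hobsF : oF.obs μ hμ.isSemismallExt x = 0 := by
    apply hinj
    rw [hobsG, map_zero]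
  obtain ⟨w, hw⟩ := (oF.obs_eq_zero_iff μ hμ.isSemismallExt x).1 hobsF
  exact exists_lift_compatible_of_tangent_surjective' (F := F) (G := G)
    (fun A => φ.app A) (fun f x => NatTrans.naturality_apply φ f x) hF0 hFs hGs hGi hT μ hμ
    (Groth.Agent.S12710.result μ μ hμ.1) x y hxy w hw

end Obs

end Groth.Agent.Lib.Helper9
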