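import Mathlib
import Groth.Agent.Lib.Helper9.ArtSchlessinger
import Groth.Agent.Lib.Helper65.ArtFunBasic

/-! A tangent-surjective element over an object of `Art`, and Schlessinger's existence theorem for
versal families (helper9). -/

set_option autoImplicit false
universe u v
open CategoryTheory

namespace Groth.Agent.Lib.Helper9

open ArtFun ArtFun.Art

variable {Λ : Type u} {k : Type u} [CommRing Λ] [Field k] [Algebra Λ k]

section TangentSurj

variable [IsNoetherianRing Λ] [Module.Finite Λ k]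
variable {F : Art Λ k ⥤ Type v}

/-- Any finite list of tangent vectors is realised by one element over one object. -/
theorem exists_elt_of_list (h0 : H0 F) (h2 : Heps F) (l : List (F.obj (dual Λ k))) :
    ∃ (C : Art Λ k) (z : F.obj C), ∀ y ∈ l, ∃ φ : C ⟶ dual Λ k, F.map φ z = y := by
  induction l with
  | nil =>
    obtain ⟨pt⟩ := h0.1
    exact ⟨base Λ k, pt, fun y hy => absurd hy (List.not_mem_nil)⟩
  | cons y l ih =>
    obtain ⟨C, z, hz⟩ := ih
    obtain ⟨C', p₁, p₂, hC'⟩ := Groth.Agent.S12710.result (toBase C) (toBase (dual Λ k))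
      (dual Λ k).res_surjective
    obtain ⟨z', hz'⟩ := (h2 p₁ p₂ hC').2 ⟨(z, y), @Subsingleton.elim _ h0.2 _ _⟩
    have hz1 : F.map p₁ z' = z :=
      congrArg (fun t : FibProd F (toBase C) (toBase (dual Λ k)) => t.1.1) hz'
    have hz2 : F.map p₂ z' = y :=
      congrArg (fun t : FibProd F (toBase C) (toBase (dual Λ k)) => t.1.2) hz'
    refine ⟨C', z', ?_⟩
    intro y' hy'
    rcases List.mem_cons.1 hy' with rfl | hy'
    · exact ⟨p₂, hz2⟩
    · obtain ⟨φ, hφ⟩ := hz y' hy'
      exact ⟨p₁ ≫ φ, by rw [Functor.map_comp_apply, hz1, hφ]⟩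

/-- The tangent vectors realised by an element form a subspace. -/
theorem exists_tangent_surjective_elt [T : TangentStr F] (h0 : H0 F) (h2 : Heps F)
    (h3 : Hfin F) :
    ∃ (C : Art Λ k) (z : F.obj C), ∀ y : F.obj (dual Λ k), ∃ φ : C ⟶ dual Λ k, F.map φ z = y := by
  classical
  letI iF1 : AddCommGroup (F.obj (dual Λ k)) := T.addCommGroup
  letI iF2 : Module k (F.obj (dual Λ k)) := T.module
  haveI : Module.Finite k (TangentSpace F) := h3
  obtain ⟨s, hs⟩ := (Module.Finite.fg_top : (⊤ : Submodule k (TangentSpace F)).FG)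
  obtain ⟨C, z, hz⟩ := exists_elt_of_list h0 h2 ((0 : TangentSpace F) :: s.toList)
  refine ⟨C, z, ?_⟩
  let G : Submodule k (TangentSpace F) :=
    { carrier := {y | ∃ φ : C ⟶ dual Λ k, F.map φ z = y}
      zero_mem' := hz (0 : TangentSpace F) (List.mem_cons_self)
      add_mem' := by
        rintro y₁ y₂ ⟨φ₁, rfl⟩ ⟨φ₂, rfl⟩
        obtain ⟨ψ, hψ1, hψ2⟩ := Groth.Agent.Lib.Helper65.isFibreProd_exists_lift
          (isFibreProd_dual2 (Λ := Λ) (k := k)) φ₁ φ₂
          ((eq_toBase _).trans (eq_toBase _).symm)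
        refine ⟨ψ ≫ plus, ?_⟩
        rw [Functor.map_comp_apply, ← hψ1, ← hψ2, Functor.map_comp_apply, Functor.map_comp_apply]
        exact (T.add_eq (F.map ψ z)).symm
      smul_mem' := by
        rintro c y ⟨φ, rfl⟩
        refine ⟨φ ≫ scale c, ?_⟩
        rw [Functor.map_comp_apply]
        exact (T.smul_eq c (F.map φ z)).symm }
  have hG : G = ⊤ := by
    rw [eq_top_iff, ← hs, Submodule.span_le]
    intro y hy
    exact hz y (List.mem_cons_of_mem _ (Finset.mem_toList.2 hy))
  have key : ∀ y : TangentSpace F, y ∈ G := fun y => by rw [hG]; exact Submodule.mem_top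
  exact fun y => key y

end TangentSurj

section Existence

variable [IsNoetherianRing Λ] [Module.Finite Λ k]

/-- **Schlessinger's theorem**: existence of a versal family. -/
theorem hasVersal_of_h0_s1_heps_hfin (F : Art Λ k ⥤ Type v) [TangentStr F]
    (h0 : H0 F) (h1 : S1 F) (h2 : Heps F) (h3 : Hfin F) : HasVersal F := by
  obtain ⟨C, z, hz⟩ := exists_tangent_surjective_elt h0 h2 h3
  obtain ⟨S, π, hS, hπ⟩ := exists_smooth_cring_surjective C
  exact hasVersal_of_stage hS h1 h2 ⟨C, π, hπ, z⟩ hz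

end Existence

end Groth.Agent.Lib.Helper9
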