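import Mathlib
import Groth.Agent.Lib.Helper8.LCICM
import Groth.Agent.Lib.Helper8.HDBase
import Groth.Agent.Lib.Helper91.RegSpread
import Groth.Agent.Lib.Helper9.KoszulGen

/-!
# Koszul-regular ideals of Noetherian rings are locally generated by regular sequences (helper9)

* `exists_list_base` : replace a list in a localization by one from the base ring (same ideal, same length)
* `exists_regular_away` : `R` Noetherian, `I` Koszul-regular, `I ≤ Q` prime: some `G ∉ Q` and a regular
  sequence in `R_G` generating `I R_G`
-/


set_option autoImplicit false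
set_option linter.style.haveILetI false
universe u

open RingTheory.Sequence

namespace Groth.Agent.Lib.Helper9.RegAway

open Groth.Agent.Lib.Helper9

/-- lists in a localization can be replaced by lists coming from the base ring generating the same
ideal, of the same length -/
theorem exists_list_base {R : Type u} [CommRing R] (M : Submonoid R) (F : Type u) [CommRing F]
    [Algebra R F] [IsLocalization M F] (l : List F) :
    ∃ b : List R, b.length = l.length ∧
      Ideal.ofList (b.map (algebraMap R F)) = Ideal.ofList l := by
  induction l with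
  | nil => exact ⟨[], rfl, rfl⟩
  | cons x l ih =>
    obtain ⟨b, hb, hbl⟩ := ih
    obtain ⟨⟨r, s⟩, hrs⟩ := IsLocalization.surj M x
    have hu : IsUnit (algebraMap R F s) := IsLocalization.map_units F s
    refine ⟨r :: b, by simp [hb], ?_⟩
    rw [List.map_cons, Ideal.ofList_cons, Ideal.ofList_cons, hbl]
    congr 1
    apply le_antisymm
    · rw [Ideal.span_singleton_le_iff_mem, ← hrs]
      exact Ideal.mul_mem_right _ _ (Ideal.mem_span_singleton_self x)
    · rw [Ideal.span_singleton_le_iff_mem]
      have : x = algebraMap R F r * ↑hu.unit⁻¹ := by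
        rw [← hrs, mul_assoc, IsUnit.mul_val_inv, mul_one]
      rw [this]
      exact Ideal.mul_mem_right _ _ (Ideal.mem_span_singleton_self _)

/-- in a Noetherian ring, a Koszul-regular ideal is generated by a regular sequence on a basic open
around each prime containing it -/
theorem exists_regular_away (R : Type u) [CommRing R] [IsNoetherianRing R] (I : Ideal R)
    (hI : LCI.IsKoszulRegularIdeal I) (Q : Ideal R) [Q.IsPrime] (hIQ : I ≤ Q) :
    ∃ G : R, G ∉ Q ∧ ∃ l : List (Localization.Away G), IsRegular (Localization.Away G) l ∧
      I.map (algebraMap R (Localization.Away G)) = Ideal.ofList l := by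
  obtain ⟨l, hl, hIl⟩ := Groth.Agent.Lib.Helper8.HD.exists_list_of_isKoszulRegularIdeal I hI Q hIQ
    (Localization.AtPrime Q)
  obtain ⟨b, hb, hbl⟩ := exists_list_base Q.primeCompl (Localization.AtPrime Q) l
  have hK : LCI.IsKoszulRegularSeq (Localization.AtPrime Q)
      (b.map (algebraMap R (Localization.AtPrime Q))) :=
    KoszulGen.isKoszulRegularSeq_of_length_eq l _ hl rfl hbl (by simp [hb])
  have hIb : I.map (algebraMap R (Localization.AtPrime Q)) =
      Ideal.ofList (b.map (algebraMap R (Localization.AtPrime Q))) := by rw [hbl, hIl]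
  have hmax : I.map (algebraMap R (Localization.AtPrime Q)) ≤
      IsLocalRing.maximalIdeal (Localization.AtPrime Q) := by
    rw [← Localization.AtPrime.map_eq_maximalIdeal]
    exact Ideal.map_mono hIQ
  have hw : IsWeaklyRegular (Localization.AtPrime Q)
      (b.map (algebraMap R (Localization.AtPrime Q))) := by
    apply Groth.Agent.Lib.Helper8.LCICM.isWeaklyRegular_of_isKoszulRegularSeq _ hK
    intro x hx
    rw [IsLocalRing.jacobson_eq_maximalIdeal ⊥ bot_ne_top]
    apply hmax
    rw [hIb]
    exact Ideal.subset_span hx
  obtain ⟨G, hGQ, hG⟩ := Groth.Agent.Lib.Helper91.RegSpread.exists_away R Q (Localization.AtPrime Q)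
    I b hw hIb
  obtain ⟨hw', hI'⟩ := hG (Localization.Away G)
  refine ⟨G, hGQ, b.map (algebraMap R (Localization.Away G)), ⟨hw', ?_⟩, hI'⟩
  intro htop
  have h1 : Ideal.ofList (b.map (algebraMap R (Localization.Away G))) = ⊤ := by
    have h2 : (Ideal.ofList (b.map (algebraMap R (Localization.Away G))) • ⊤ :
        Submodule (Localization.Away G) (Localization.Away G)) =
        Ideal.ofList (b.map (algebraMap R (Localization.Away G))) := by simp
    rw [h2] at htop
    exact htop.symm
  have h3 : Q.map (algebraMap R (Localization.Away G)) = ⊤ := by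
    apply top_le_iff.mp
    rw [← h1, ← hI']
    exact Ideal.map_mono hIQ
  have h4 := (IsLocalization.map_algebraMap_ne_top_iff_disjoint (Submonoid.powers G)
    (Localization.Away G) Q).mpr (by
      rw [Set.disjoint_left]
      rintro _ ⟨n, rfl⟩ hmem
      exact hGQ (Ideal.IsPrime.mem_of_pow_mem inferInstance n hmem))
  exact h4 h3

end Groth.Agent.Lib.Helper9.RegAway
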