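import Groth.Agent.Lib.Helper29.CMRing
import Groth.Agent.Lib.Helper29.CM
import Groth.Agent.Lib.Helper29.ExtRees1
import Groth.Agent.Lib.Helper9.RegAway
import Mathlib

/-! helper9: in a Cohen–Macaulay ring, generators of an ideal whose number is at most the height form a regular sequence locally (helper29 CM theory). -/

set_option autoImplicit false
universe u
namespace Groth.Agent.Lib.Helper9.CMReg
open RingTheory.Sequence IsLocalRing
open Groth.Agent.Lib.Helper29 Groth.Agent.Lib.Helper29.CMLib Groth.Agent.Lib.Helper29.CMRing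

/-- in a Cohen–Macaulay local ring, a list in the maximal ideal whose length is at most the height
of the ideal it generates is a (weakly) regular sequence -/
theorem isWeaklyRegular_of_le_height (A : Type u) [CommRing A]
    [hA : LocCoh.IsCohenMacaulayLocalRing A] (hR : LocCoh.IsCohenMacaulayRing A)
    (xs : List A) (hmem : ∀ x ∈ xs, x ∈ maximalIdeal A)
    (hht : (xs.length : ℕ∞) ≤ (Ideal.ofList xs).height) : IsWeaklyRegular A xs := by
  have hCM : LocCoh.IsCohenMacaulayModule A A := hA.supportDim_eq_depth
  refine ((isWeaklyRegular_iff_of_isCM A xs A hCM hmem).1).2 ?_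
  have hK : Ideal.ofList xs ≠ ⊤ := by
    intro h
    have h1 : Ideal.ofList xs ≤ maximalIdeal A := Ideal.span_le.2 fun x hx => hmem x hx
    rw [h] at h1
    exact (maximalIdeal.isMaximal A).ne_top (top_le_iff.1 h1)
  have h1 := supportDim_eq_add_idealDepth_of_isCM A (Ideal.ofList xs) hK A hCM
  have h2 := (isCohenMacaulayRing_iff_idealDepth_eq_height A).1 hR (Ideal.ofList xs) hK
  have h3 := supportDim_le_quotient_add_length A xs A hmem
  rw [h2] at h1
  refine le_antisymm ?_ h3
  rw [h1]
  gcongr
  exact_mod_cast hht


/-- in the localization at a prime `Q ⊇ K` of a Cohen–Macaulay ring, a list of `n ≤ ht K`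
generators of `K A` is a weakly regular sequence -/
theorem isWeaklyRegular_of_isLocalization (R : Type u) [CommRing R]
    [hR : LocCoh.IsCohenMacaulayRing R] (K : Ideal R) (n : ℕ) (hK : (n : ℕ∞) ≤ K.height)
    (Q : Ideal R) [Q.IsPrime] (hKQ : K ≤ Q) (A : Type u) [CommRing A] [Algebra R A]
    [IsLocalization.AtPrime A Q] [hA : LocCoh.IsCohenMacaulayLocalRing A]
    (xs : List A) (hlen : xs.length = n) (hxs : K.map (algebraMap R A) = Ideal.ofList xs) :
    IsWeaklyRegular A xs := by
  have hRA : LocCoh.IsCohenMacaulayRing A :=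
    ExtRees.isCohenMacaulayRing_of_isLocalization Q.primeCompl A
  refine isWeaklyRegular_of_le_height A hRA xs ?_ ?_
  · intro x hx
    have h1 : x ∈ Ideal.ofList xs := Ideal.subset_span hx
    rw [← hxs] at h1
    rw [← IsLocalization.AtPrime.map_eq_maximalIdeal Q A]
    exact Ideal.map_mono hKQ h1
  · rw [hlen, ← hxs, ← IsLocalization.height_under Q.primeCompl (K.map (algebraMap R A))]
    exact hK.trans (Ideal.height_mono Ideal.le_comap_map)

end Groth.Agent.Lib.Helper9.CMReg
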