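import Mathlib

set_option autoImplicit false

/-!
# Endomorphisms of a flat deformation of a module with only scalar endomorphisms
-/

namespace Groth.Agent.Lib.Helper9.DefModEnd

open IsLocalRing

section flat

variable {R : Type*} [CommRing R] [IsLocalRing R] {F : Type*} [AddCommGroup F] [Module R F]
  [Module.Flat R F]

/-- If `t ∉ I'` and `t • x ∈ I' F` in a flat module over a local ring, then `x ∈ 𝔪 F`. -/
lemma mem_of_smul_mem (I' : Ideal R) (t : R) (ht : t ∉ I') (x : F)
    (hx : t • x ∈ (I' • ⊤ : Submodule R F)) : x ∈ (maximalIdeal R • ⊤ : Submodule R F) := by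
  classical
  have htop : (⊤ : Submodule R F) = Submodule.span R (Set.range (id : F → F)) := by
    rw [Set.range_id, Submodule.span_univ]
  rw [htop, Submodule.mem_ideal_smul_span_iff_exists_sum] at hx
  obtain ⟨a, ha, hsum⟩ := hx
  let f : Unit ⊕ a.support → R := Sum.elim (fun _ => t) (fun z => - a z)
  let v : Unit ⊕ a.support → F := Sum.elim (fun _ => x) (fun z => (z : F))
  have hrel : ∑ i, f i • v i = 0 := by
    rw [Fintype.sum_sum_type]
    simp only [Finset.univ_unique, Finset.sum_singleton, Sum.elim_inl, Sum.elim_inr, f, v, neg_smul,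
      Finset.sum_neg_distrib]
    rw [← hsum, Finsupp.sum, ← Finset.sum_coe_sort a.support (fun z => a z • (id z : F))]
    simp
  obtain ⟨k, A, y, hv, hA⟩ := Module.Flat.isTrivialRelation_of_sum_smul_eq_zero hrel
  have hx' := hv (Sum.inl ())
  simp only [Sum.elim_inl, v] at hx'
  rw [hx']
  refine Submodule.sum_mem _ fun j _ => Submodule.smul_mem_smul ?_ Submodule.mem_top
  by_contra hu
  have hunit : IsUnit (A (Sum.inl ()) j) := by
    by_contra h'
    exact hu ((IsLocalRing.mem_maximalIdeal _).mpr h')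
  have h2 := hA j
  rw [Fintype.sum_sum_type] at h2
  simp only [Finset.univ_unique, Finset.sum_singleton, Sum.elim_inl, Sum.elim_inr, f, neg_mul,
    Finset.sum_neg_distrib] at h2
  have h3 : t * A (Sum.inl ()) j ∈ I' := by
    have : t * A (Sum.inl ()) j = ∑ z : a.support, a z * A (Sum.inr z) j := by
      linear_combination h2
    rw [this]
    exact Ideal.sum_mem _ fun z _ => Ideal.mul_mem_right _ _ (ha z)
  exact ht ((Ideal.mul_unit_mem_iff_mem I' hunit).mp h3)

end flat

section key

variable {K : Type*} [Field K] {D : Type*} [Ring D]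
  {E : Type*} [AddCommGroup E] [Module K E] [Module D E]
  {R : Type*} [CommRing R] [Algebra K R] [IsLocalRing R] [IsArtinianRing R] (res : R →ₐ[K] K)
  {F : Type*} [AddCommGroup F] [Module R F] [Module D F]
  [SMulCommClass R D F] [Module.Flat R F]
  (θ : F →ₗ[D] E)

omit [IsArtinianRing R] in
lemma mem_maximalIdeal_iff_res (a : R) : a ∈ maximalIdeal R ↔ res a = 0 := by
  have hsurj : Function.Surjective (res : R →+* K) := fun c =>
    ⟨algebraMap K R c, by simp⟩
  have hmax := RingHom.ker_isMaximal_of_surjective (res : R →+* K) hsurj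
  rw [← IsLocalRing.eq_maximalIdeal hmax, RingHom.mem_ker]
  rfl

/-- Every `(R, D)`-linear endomorphism of `F` with image in `I F` is multiplication by an element
of `I`. -/
theorem exists_smul_of_end (hE : ∀ ψ : E →ₗ[D] E, ∃ c : K, ∀ y : E, ψ y = c • y)
    (hθ : ∀ (r : R) (x : F), θ (r • x) = res r • θ x) (hθsurj : Function.Surjective θ)
    (hθker : ∀ x : F, θ x = 0 ↔ x ∈ (maximalIdeal R • ⊤ : Submodule R F))
    (I : Ideal R) (ψ : F →ₗ[R] F) (hψD : ∀ (d : D) (x : F), ψ (d • x) = d • ψ x)
    (hψI : ∀ x, ψ x ∈ (I • ⊤ : Submodule R F)) : ∃ r ∈ I, ∀ x, ψ x = r • x := by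
  classical
  haveI : SMulCommClass D R F := SMulCommClass.symm R D F
  revert ψ
  induction I using WellFoundedLT.induction with
  | ind I ih =>
  intro ψ hψD hψI
  by_cases hI0 : I = ⊥
  · refine ⟨0, I.zero_mem, fun x => ?_⟩
    have := hψI x
    rw [hI0, Submodule.bot_smul, Submodule.mem_bot] at this
    rw [this, zero_smul]
  -- choose `t ∈ I` outside `𝔪 I`
  have hnak : ¬ I ≤ maximalIdeal R * I := by
    intro hle
    apply hI0
    refine Submodule.eq_bot_of_le_smul_of_le_jacobson_bot (maximalIdeal R) I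
      (IsNoetherian.noetherian I) hle ?_
    exact IsLocalRing.maximalIdeal_le_jacobson ⊥
  obtain ⟨t, htI, htmI⟩ := Set.not_subset.mp hnak
  -- a maximal subideal avoiding `t`
  obtain ⟨I', ⟨hI'1, hI'2, hI'3⟩, hI'max⟩ := set_has_maximal_iff_noetherian.mpr
    (inferInstance : IsNoetherian R R) {I'' : Ideal R | maximalIdeal R * I ≤ I'' ∧ I'' ≤ I ∧ t ∉ I''}
    ⟨maximalIdeal R * I, le_rfl, Ideal.mul_le_right, htmI⟩
  have hlt : I' < I := lt_of_le_of_ne hI'2 (fun h => hI'3 (h ▸ htI))
  have hsup : I ≤ I' ⊔ Ideal.span {t} := by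
    intro a ha
    by_cases haI' : a ∈ I'
    · exact Ideal.mem_sup_left haI'
    have hnot : ¬ (I' ⊔ Ideal.span {a} ∈ {I'' : Ideal R | maximalIdeal R * I ≤ I'' ∧ I'' ≤ I ∧
        t ∉ I''}) := by
      intro hmem
      have hlt' : I' < I' ⊔ Ideal.span {a} := by
        refine lt_of_le_of_ne le_sup_left (fun h => haI' ?_)
        rw [h]
        exact Ideal.mem_sup_right (Ideal.subset_span rfl)
      exact hI'max _ hmem hlt'
    have ht' : t ∈ I' ⊔ Ideal.span {a} := by
      by_contra hcon
      exact hnot ⟨le_trans hI'1 le_sup_left,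
        sup_le hI'2 ((Ideal.span_singleton_le_iff_mem I).mpr ha), hcon⟩
    obtain ⟨i', hi', ba, hba, hsum⟩ := Submodule.mem_sup.mp ht'
    obtain ⟨b, rfl⟩ := Ideal.mem_span_singleton'.mp hba
    have hbunit : IsUnit b := by
      by_contra hb
      have hbm : b ∈ maximalIdeal R := (IsLocalRing.mem_maximalIdeal _).mpr hb
      apply hI'3
      rw [← hsum]
      exact I'.add_mem hi' (hI'1 (Ideal.mul_mem_mul hbm ha))
    obtain ⟨bu, rfl⟩ := hbunit
    have : a = (↑bu⁻¹ : R) * t - ↑bu⁻¹ * i' := by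
      rw [← hsum]; ring_nf; simp
    rw [this]
    exact Ideal.sub_mem _ (Ideal.mem_sup_right (Ideal.mul_mem_left _ _ (Ideal.subset_span rfl)))
      (Ideal.mem_sup_left (Ideal.mul_mem_left _ _ hi'))
  have hmt : ∀ a ∈ maximalIdeal R, t * a ∈ I' := fun a ha => by
    rw [mul_comm]; exact hI'1 (Ideal.mul_mem_mul ha htI)
  have hmtF : ∀ v ∈ (maximalIdeal R • ⊤ : Submodule R F), t • v ∈ (I' • ⊤ : Submodule R F) := by
    intro v hv
    refine Submodule.smul_induction_on hv ?_ ?_
    · intro a ha v' _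
      rw [smul_smul]
      exact Submodule.smul_mem_smul (hmt a ha) Submodule.mem_top
    · intro v₁ v₂ h₁ h₂
      rw [smul_add]
      exact Submodule.add_mem _ h₁ h₂
  -- decompose `ψ x = t • y + w`
  have hdec : ∀ x, ∃ y w, ψ x = t • y + w ∧ w ∈ (I' • ⊤ : Submodule R F) := by
    intro x
    have h1 : ψ x ∈ ((I' ⊔ Ideal.span {t}) • ⊤ : Submodule R F) :=
      Submodule.smul_mono hsup le_rfl (hψI x)
    rw [Submodule.sup_smul, Submodule.mem_sup] at h1
    obtain ⟨w, hw, ty, hty, hsum⟩ := h1
    rw [Submodule.ideal_span_singleton_smul, Submodule.mem_smul_pointwise_iff_exists] at hty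
    obtain ⟨y, -, rfl⟩ := hty
    exact ⟨y, w, by rw [← hsum, add_comm], hw⟩
  choose y w hyw hw using hdec
  have hθuniq : ∀ x y' w', ψ x = t • y' + w' → w' ∈ (I' • ⊤ : Submodule R F) →
      θ y' = θ (y x) := by
    intro x y' w' h hw'
    rw [← sub_eq_zero, ← map_sub, hθker]
    refine mem_of_smul_mem I' t hI'3 _ ?_
    have h2 : t • (y' - y x) = w x - w' := by
      rw [smul_sub]
      have := hyw x
      rw [h] at this
      rw [sub_eq_sub_iff_add_eq_add]
      rw [add_comm (w x), add_comm _ w']  at *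
      rw [add_comm] at this
      rw [add_comm (w' ) _] 
      exact this
    rw [h2]
    exact Submodule.sub_mem _ (hw x) hw'
  -- the induced `D`-linear map on `E`
  have hI'D : ∀ (d : D) v, v ∈ (I' • ⊤ : Submodule R F) → d • v ∈ (I' • ⊤ : Submodule R F) := by
    intro d v hv
    refine Submodule.smul_induction_on hv ?_ ?_
    · intro a ha v' _
      rw [smul_comm]
      exact Submodule.smul_mem_smul ha Submodule.mem_top
    · intro v₁ v₂ h₁ h₂
      rw [smul_add]
      exact Submodule.add_mem _ h₁ h₂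
  have hψ₁add : ∀ x x', θ (y (x + x')) = θ (y x) + θ (y x') := by
    intro x x'
    rw [← map_add]
    refine (hθuniq (x + x') (y x + y x') (w x + w x') ?_ (Submodule.add_mem _ (hw x) (hw x'))).symm
    rw [map_add, hyw x, hyw x', smul_add]
    abel
  have hψ₁D : ∀ (d : D) x, θ (y (d • x)) = d • θ (y x) := by
    intro d x
    rw [← map_smul]
    refine (hθuniq (d • x) (d • y x) (d • w x) ?_ (hI'D d _ (hw x))).symm
    rw [hψD, hyw x, smul_add, smul_comm]
  have hψ₁R : ∀ (a : R) x, θ (y (a • x)) = res a • θ (y x) := by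
    intro a x
    rw [← hθ]
    refine (hθuniq (a • x) (a • y x) (a • w x) ?_ (Submodule.smul_mem _ a (hw x))).symm
    rw [map_smul, hyw x, smul_add, smul_comm]
  have hψ₁ker : ∀ x ∈ (maximalIdeal R • ⊤ : Submodule R F), θ (y x) = 0 := by
    intro x hx
    refine Submodule.smul_induction_on hx ?_ ?_
    · intro a ha x' _
      rw [hψ₁R, (mem_maximalIdeal_iff_res res a).mp ha, zero_smul]
    · intro x₁ x₂ h₁ h₂
      rw [hψ₁add, h₁, h₂, add_zero]
  have hψ₁congr : ∀ x x', θ x = θ x' → θ (y x) = θ (y x') := by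
    intro x x' h
    have h1 : θ (y x) = θ (y (x' + (x - x'))) := by rw [add_sub_cancel]
    rw [h1, hψ₁add, hψ₁ker (x - x') ((hθker _).mp (by rw [map_sub, h, sub_self])), add_zero]
  let s : E → F := Function.surjInv hθsurj
  have hs : ∀ e, θ (s e) = e := Function.surjInv_eq hθsurj
  let ψbar : E →ₗ[D] E :=
    { toFun := fun e => θ (y (s e))
      map_add' := fun e e' => by
        rw [← hψ₁add]
        exact hψ₁congr _ _ (by rw [hs, map_add, hs, hs])
      map_smul' := fun d e => by
        rw [RingHom.id_apply, ← hψ₁D]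
        exact hψ₁congr _ _ (by rw [hs, map_smul, hs]) }
  obtain ⟨c, hc⟩ := hE ψbar
  have hcx : ∀ x, θ (y x) = c • θ x := by
    intro x
    rw [← hc (θ x)]
    exact hψ₁congr _ _ (hs _).symm
  -- subtract the scalar and apply the induction hypothesis
  set c' : R := algebraMap K R c with hc'
  have hresc : res c' = c := by simp [hc']
  let ψ' : F →ₗ[R] F := ψ - (c' * t) • LinearMap.id
  have hψ'x : ∀ x, ψ' x = ψ x - (c' * t) • x := fun x => rfl
  obtain ⟨r', hr', hr'x⟩ := ih I' hlt ψ' (fun d x => by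
      rw [hψ'x, hψ'x, hψD, smul_sub, smul_comm]) (fun x => by
      rw [hψ'x, hyw x]
      have h1 : t • y x + w x - (c' * t) • x = t • (y x - c' • x) + w x := by
        rw [smul_sub, smul_smul, mul_comm t c']; abel
      rw [h1]
      refine Submodule.add_mem _ (hmtF _ ?_) (hw x)
      rw [← hθker, map_sub, hθ, hresc, hcx, sub_self])
  refine ⟨c' * t + r', I.add_mem (I.mul_mem_left _ htI) (hI'2 hr'), fun x => ?_⟩
  have := hr'x x
  rw [hψ'x, sub_eq_iff_eq_add] at this
  rw [this, add_smul, add_comm]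

end key

end Groth.Agent.Lib.Helper9.DefModEnd
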