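import Mathlib
import Groth.Prelude.Def_DiffOp
import Groth.Agent.Lib.Helper14.DiffOp
import Groth.Agent.Lib.Helper14.DiffOpLin
import Groth.Agent.Lib.Helper14.DiffOpCoord

/-!
# The operators `D_p` attached to coordinates (EGA IV 16.11.2) (helper9)

Let `z i` be elements of `B` whose differentials span `Ω[B⁄A]` and `D_p` differential operators of
finite order with `D_p (z^q) = binom(q,p) z^(q-p)`.  Then `D_p` has order `≤ |p|`, the `D_p`,
`|p| ≤ m`, form a basis of the operators of order `≤ m`.
-/

set_option autoImplicit false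

namespace Groth.Agent.Lib.Helper9.DiffOpBasis

open Diff16 Groth.Agent.Lib.Helper14
open scoped TensorProduct

universe u

variable {A B : Type u} [CommRing A] [CommRing B] [Algebra A B]
variable {ι : Type*} (z : ι → B)

/-- If `D` has finite order and all commutators `[D, z i]` have order `≤ n`, then `D` has order
`≤ n + 1`. -/
theorem isDiffOpLE_succ_of_commutator_coord
    (hz : Submodule.span B (Set.range fun i => KaehlerDifferential.D A B (z i)) = ⊤)
    (N : ℕ) : ∀ (n : ℕ) (D : B →ₗ[A] B), IsDiffOpLE A B B B N D →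
      (∀ i, IsDiffOpLE A B B B n (commutator A B B B D (z i))) →
      IsDiffOpLE A B B B (n + 1) D := by
  induction N using Nat.strong_induction_on with
  | _ N ih =>
    intro n D hD hc
    by_cases hN : N ≤ n + 1
    · exact IsDiffOpLE_mono hN hD
    · push_neg at hN
      obtain ⟨N', rfl⟩ : ∃ N', N = N' + 1 := ⟨N - 1, by omega⟩
      have hN' : IsDiffOpLE A B B B N' D := by
        obtain ⟨N'', rfl⟩ : ∃ N'', N' = N'' + 1 := ⟨N' - 1, by omega⟩
        rw [isDiffOpLE_succ_iff]
        intro b
        have hF : IsDiffOpLE A B B B (N'' + 1) (commutator A B B B D b) := hD b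
        cases n with
        | zero =>
          have hc0 : ∀ i, commutator A B B B (commutator A B B B D b) (z i) = 0 := fun i => by
            rw [commutator_commutator_comm]
            exact (isDiffOpLE_zero_iff_commutator _).mp (hc i) b
          have := isDiffOpLE_zero_of_commutator_coord z hz (N'' + 1) _ hF hc0
          exact IsDiffOpLE_mono (Nat.zero_le _) this
        | succ n =>
          have hc' : ∀ i, IsDiffOpLE A B B B n
              (commutator A B B B (commutator A B B B D b) (z i)) := fun i => by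
            rw [commutator_commutator_comm]; exact hc i b
          have := ih (N'' + 1) (by omega) n (commutator A B B B D b) hF hc'
          exact IsDiffOpLE_mono (by omega) this
      exact ih N' (by omega) n D hN' hc

variable [Fintype ι] [DecidableEq ι]

/-- the value `binom(q,p) z^(q-p)`. -/
noncomputable def val (q p : ι → ℕ) : B :=
  ((∏ i, Nat.choose (q i) (p i) : ℕ) : B) * ∏ i, z i ^ (q i - p i)

theorem val_eq_prod (q p : ι → ℕ) :
    val z q p = ∏ i, ((Nat.choose (q i) (p i) : B) * z i ^ (q i - p i)) := by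
  rw [val, Nat.cast_prod, Finset.prod_mul_distrib]

/-- the product of the factors of `val` other than the `i`-th one. -/
noncomputable def rest (q p : ι → ℕ) (i : ι) : B :=
  ∏ j ∈ Finset.univ.erase i, ((Nat.choose (q j) (p j) : B) * z j ^ (q j - p j))

theorem rest_congr (q p q' p' : ι → ℕ) (i : ι) (hq : ∀ j, j ≠ i → q j = q' j)
    (hp : ∀ j, j ≠ i → p j = p' j) : rest z q p i = rest z q' p' i := by
  unfold rest
  apply Finset.prod_congr rfl
  intro j hj
  have hji : j ≠ i := Finset.ne_of_mem_erase hj
  rw [hq j hji, hp j hji]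

theorem val_split (q p : ι → ℕ) (i : ι) :
    val z q p = ((Nat.choose (q i) (p i) : B) * z i ^ (q i - p i)) * rest z q p i := by
  rw [val_eq_prod]
  exact (Finset.mul_prod_erase Finset.univ
    (fun j => (Nat.choose (q j) (p j) : B) * z j ^ (q j - p j)) (Finset.mem_univ i)).symm

theorem one_var (x : B) (a b : ℕ) (hb : 1 ≤ b) :
    (Nat.choose (a + 1) b : B) * x ^ (a + 1 - b) - x * ((Nat.choose a b : B) * x ^ (a - b)) =
      (Nat.choose a (b - 1) : B) * x ^ (a - (b - 1)) := by
  obtain ⟨b', rfl⟩ : ∃ b', b = b' + 1 := ⟨b - 1, by omega⟩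
  rw [Nat.choose_succ_succ, Nat.add_sub_cancel, Nat.add_sub_add_right, Nat.cast_add, add_mul]
  have key : (Nat.choose a (b' + 1) : B) * x ^ (a - b') =
      x * ((Nat.choose a (b' + 1) : B) * x ^ (a - (b' + 1))) := by
    by_cases h : b' + 1 ≤ a
    · have : a - b' = (a - (b' + 1)) + 1 := by omega
      rw [this, pow_succ]; ring
    · rw [Nat.choose_eq_zero_of_lt (by omega)]; simp
  rw [key]; ring

theorem add_single_same (q : ι → ℕ) (i : ι) : (q + Pi.single i 1 : ι → ℕ) i = q i + 1 := by
  simp

theorem add_single_ne (q : ι → ℕ) (i j : ι) (h : j ≠ i) :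
    (q + Pi.single i 1 : ι → ℕ) j = q j := by
  simp [Pi.single_apply, h]

theorem pascal (q p : ι → ℕ) (i : ι) (hp : 1 ≤ p i) :
    val z (q + Pi.single i 1) p - z i * val z q p =
      val z q (Function.update p i (p i - 1)) := by
  rw [val_split z _ p i, val_split z q p i, val_split z q (Function.update p i (p i - 1)) i]
  rw [rest_congr z (q + Pi.single i 1) p q p i (fun j hj => add_single_ne q i j hj)
      (fun _ _ => rfl),
    rest_congr z q (Function.update p i (p i - 1)) q p i (fun _ _ => rfl)
      (fun j hj => Function.update_of_ne hj _ _)]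
  rw [add_single_same, Function.update_self]
  rw [← mul_assoc, ← sub_mul, one_var (z i) (q i) (p i) hp]

theorem pascal0 (q p : ι → ℕ) (i : ι) (hp : p i = 0) :
    val z (q + Pi.single i 1) p - z i * val z q p = 0 := by
  rw [val_split z _ p i, val_split z q p i]
  rw [rest_congr z (q + Pi.single i 1) p q p i (fun j hj => add_single_ne q i j hj)
      (fun _ _ => rfl)]
  rw [add_single_same, hp]
  simp only [Nat.choose_zero_right, Nat.cast_one, one_mul, Nat.sub_zero]
  rw [pow_succ]; ring

theorem sum_update_pred (p : ι → ℕ) (i : ι) (hp : 1 ≤ p i) :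
    ∑ j, Function.update p i (p i - 1) j + 1 = ∑ j, p j := by
  rw [Finset.sum_update_of_mem (Finset.mem_univ i),
    ← Finset.add_sum_erase Finset.univ p (Finset.mem_univ i)]
  have : Finset.univ \ {i} = Finset.univ.erase i := by
    ext j; simp
  rw [this]; omega

section family

variable (hz : Submodule.span B (Set.range fun i => KaehlerDifferential.D A B (z i)) = ⊤)
  (Dp : (ι → ℕ) → (B →ₗ[A] B)) (hD : ∀ p, ∃ k : ℕ, IsDiffOpLE A B B B k (Dp p))
  (hDz : ∀ p q : ι → ℕ, Dp p (∏ i, z i ^ q i) = val z q p)

include hz hD hDz in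
theorem commutator_Dp (p : ι → ℕ) (i : ι) :
    commutator A B B B (Dp p) (z i) =
      if p i = 0 then 0 else Dp (Function.update p i (p i - 1)) := by
  obtain ⟨k1, hk1⟩ := hD p
  have hE : IsDiffOpLE A B B B k1 (commutator A B B B (Dp p) (z i)) :=
    (IsDiffOpLE_succ hk1) (z i)
  have hval : ∀ s : ι → ℕ, commutator A B B B (Dp p) (z i) (∏ j, z j ^ s j) =
      val z (s + Pi.single i 1) p - z i * val z s p := fun s => by
    rw [commutator_apply, smul_eq_mul, smul_eq_mul, mul_prod_pow, hDz, hDz]
  split_ifs with hp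
  · exact eq_of_monomials z hz k1 _ 0 hE (isDiffOpLE_zero_map k1) (fun s => by
      rw [hval, pascal0 z s p i hp, LinearMap.zero_apply])
  · obtain ⟨k2, hk2⟩ := hD (Function.update p i (p i - 1))
    exact eq_of_monomials z hz (max k1 k2) _ _ (IsDiffOpLE_mono (le_max_left _ _) hE)
      (IsDiffOpLE_mono (le_max_right _ _) hk2) (fun s => by
        rw [hval, pascal z s p i (by omega), hDz])

include hz hD hDz in
theorem isDiffOpLE_Dp : ∀ (n : ℕ) (p : ι → ℕ), ∑ i, p i = n → IsDiffOpLE A B B B n (Dp p) := by
  intro n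
  induction n with
  | zero =>
    intro p hp
    obtain ⟨k, hk⟩ := hD p
    refine isDiffOpLE_zero_of_commutator_coord z hz k (Dp p) hk (fun i => ?_)
    rw [commutator_Dp z hz Dp hD hDz p i, if_pos]
    exact (Finset.sum_eq_zero_iff.mp hp) i (Finset.mem_univ i)
  | succ n ih =>
    intro p hp
    obtain ⟨k, hk⟩ := hD p
    refine isDiffOpLE_succ_of_commutator_coord z hz k n (Dp p) hk (fun i => ?_)
    rw [commutator_Dp z hz Dp hD hDz p i]
    split_ifs with hpi
    · exact isDiffOpLE_zero_map n
    · apply ih
      have := sum_update_pred p i (by omega)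
      omega

end family

section coef

variable (A)

/-- `ζ_i = 1 ⊗ z_i - z_i ⊗ 1`. -/
noncomputable def zeta (i : ι) : B ⊗[A] B := (1 : B) ⊗ₜ[A] z i - z i ⊗ₜ[A] (1 : B)

/-- the coefficient functional: `D ↦ linearize D (ζ^q)`. -/
noncomputable def coef (D : B →ₗ[A] B) (q : ι → ℕ) : B :=
  linearize A B B B D (∏ i, zeta A z i ^ q i)

variable {A}

theorem linearize_add' (D D' : B →ₗ[A] B) (x : B ⊗[A] B) :
    linearize A B B B (D + D') x = linearize A B B B D x + linearize A B B B D' x := by
  induction x using TensorProduct.induction_on with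
  | zero => simp
  | tmul c m => simp [linearize_tmul, mul_add]
  | add x y hx hy => rw [map_add, hx, hy, map_add, map_add]; abel

theorem linearize_smul' (c : B) (D : B →ₗ[A] B) (x : B ⊗[A] B) :
    linearize A B B B (c • D) x = c * linearize A B B B D x := by
  induction x using TensorProduct.induction_on with
  | zero => simp
  | tmul b m => simp [linearize_tmul]; ring
  | add x y hx hy => rw [map_add, hx, hy, map_add, mul_add]

theorem linearize_zero' (x : B ⊗[A] B) : linearize A B B B (0 : B →ₗ[A] B) x = 0 := by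
  induction x using TensorProduct.induction_on with
  | zero => simp
  | tmul b m => simp [linearize_tmul]
  | add x y hx hy => rw [map_add, hx, hy, add_zero]

/-- `coef` as a `B`-linear map in `D`. -/
noncomputable def coefL (q : ι → ℕ) : (B →ₗ[A] B) →ₗ[B] B where
  toFun D := coef A z D q
  map_add' D D' := linearize_add' D D' _
  map_smul' c D := linearize_smul' c D _

theorem coefL_apply (q : ι → ℕ) (D : B →ₗ[A] B) : coefL z q D = coef A z D q := rfl

theorem coef_zero_idx (D : B →ₗ[A] B) : coef A z D 0 = D 1 := by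
  unfold coef
  simp only [Pi.zero_apply, pow_zero, Finset.prod_const_one]
  rw [Algebra.TensorProduct.one_def, linearize_tmul, one_smul]

theorem coef_succ (D : B →ₗ[A] B) (q : ι → ℕ) (i : ι) :
    coef A z D (q + Pi.single i 1) = coef A z (commutator A B B B D (z i)) q := by
  unfold coef
  rw [← mul_prod_pow (zeta A z) i q, mul_comm]
  exact linearize_mul_gen D (z i) _

/-- an operator of order `≤ m` all of whose coefficients of degree `≤ m` vanish is zero. -/
theorem eq_zero_of_coef
    (hz : Submodule.span B (Set.range fun i => KaehlerDifferential.D A B (z i)) = ⊤) :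
    ∀ (m : ℕ) (D : B →ₗ[A] B), IsDiffOpLE A B B B m D →
      (∀ q : ι → ℕ, ∑ i, q i ≤ m → coef A z D q = 0) → D = 0 := by
  intro m
  induction m with
  | zero =>
    intro D hD h
    ext b
    rw [eq_smul_of_isDiffOpLE_zero hD b, ← coef_zero_idx z D, h 0 (by simp), smul_zero,
      LinearMap.zero_apply]
  | succ m ih =>
    intro D hD h
    have hc : ∀ i, commutator A B B B D (z i) = 0 := fun i =>
      ih _ (hD (z i)) (fun q hq => by
        rw [← coef_succ]
        apply h
        have : ∑ j, (q + Pi.single i 1 : ι → ℕ) j = ∑ j, q j + 1 := by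
          simp [Finset.sum_add_distrib, Finset.sum_pi_single']
        omega)
    have hlin := isDiffOpLE_zero_of_commutator_coord z hz (m + 1) D hD hc
    ext b
    rw [eq_smul_of_isDiffOpLE_zero hlin b, ← coef_zero_idx z D, h 0 (by simp), smul_zero,
      LinearMap.zero_apply]

end coef

section family2

variable (hz : Submodule.span B (Set.range fun i => KaehlerDifferential.D A B (z i)) = ⊤)
  (Dp : (ι → ℕ) → (B →ₗ[A] B)) (hD : ∀ p, ∃ k : ℕ, IsDiffOpLE A B B B k (Dp p))
  (hDz : ∀ p q : ι → ℕ, Dp p (∏ i, z i ^ q i) = val z q p)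

theorem update_pred_eq_iff (p q' : ι → ℕ) (i : ι) (hp : p i ≠ 0) :
    Function.update p i (p i - 1) = q' ↔ p = q' + Pi.single i 1 := by
  constructor
  · intro h
    ext j
    by_cases hj : j = i
    · subst hj
      have := congrFun h j
      rw [Function.update_self] at this
      rw [add_single_same]; omega
    · have := congrFun h j
      rw [Function.update_of_ne hj] at this
      rw [add_single_ne _ _ _ hj]; exact this
  · intro h
    ext j
    by_cases hj : j = i
    · subst hj
      have := congrFun h j
      rw [add_single_same] at this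
      rw [Function.update_self]; omega
    · have := congrFun h j
      rw [add_single_ne _ _ _ hj] at this
      rw [Function.update_of_ne hj]; exact this

include hz hD hDz in
theorem coef_Dp : ∀ (n : ℕ) (p q : ι → ℕ), ∑ i, q i = n →
    coef A z (Dp p) q = if p = q then 1 else 0 := by
  intro n
  induction n with
  | zero =>
    intro p q hq
    have hq0 : q = 0 := funext fun i => (Finset.sum_eq_zero_iff.mp hq) i (Finset.mem_univ i)
    subst hq0
    rw [coef_zero_idx]
    have := hDz p 0
    simp only [Pi.zero_apply, pow_zero, Finset.prod_const_one] at this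
    rw [this, val]
    split_ifs with h
    · subst h; simp
    · obtain ⟨i, hi⟩ : ∃ i, p i ≠ 0 := by
        by_contra hh; push_neg at hh; exact h (funext hh)
      have : ∏ i, Nat.choose ((0 : ι → ℕ) i) (p i) = 0 :=
        Finset.prod_eq_zero (Finset.mem_univ i) (by
          rw [Pi.zero_apply, Nat.choose_eq_zero_of_lt]; omega)
      rw [this]; simp
  | succ n ih =>
    intro p q hq
    obtain ⟨i, hi⟩ : ∃ i, q i ≠ 0 := by
      by_contra hh; push_neg at hh
      have : ∑ i, q i = 0 := Finset.sum_eq_zero (fun i _ => hh i)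
      omega
    have hqq : q = Function.update q i (q i - 1) + Pi.single i 1 :=
      (update_pred_eq_iff q _ i hi).mp rfl
    have hsum : ∑ j, Function.update q i (q i - 1) j = n := by
      have := sum_update_pred q i (by omega); omega
    generalize Function.update q i (q i - 1) = q' at hqq hsum
    subst hqq
    rw [coef_succ, commutator_Dp z hz Dp hD hDz p i]
    by_cases hp : p i = 0
    · rw [if_pos hp, if_neg]
      · exact linearize_zero' _
      · intro h
        have := congrFun h i
        rw [add_single_same] at this; omega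
    · rw [if_neg hp, ih _ _ hsum]
      by_cases h : p = q' + Pi.single i 1
      · rw [if_pos h, if_pos ((update_pred_eq_iff p q' i hp).mpr h)]
      · rw [if_neg h, if_neg (fun h' => h ((update_pred_eq_iff p q' i hp).mp h'))]

end family2

section main

omit [DecidableEq ι] in
theorem le_of_sum_le (p : ι → ℕ) (m : ℕ) (h : ∑ i, p i ≤ m) (i : ι) : p i < m + 1 := by
  have := Finset.single_le_sum (f := p) (fun _ _ => Nat.zero_le _) (Finset.mem_univ i)
  omega

omit [DecidableEq ι] in
instance finite_multiIdx (m : ℕ) : Finite {p : ι → ℕ // ∑ i, p i ≤ m} := by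
  apply Finite.of_injective (fun p : {p : ι → ℕ // ∑ i, p i ≤ m} =>
    (fun i => (⟨p.1 i, le_of_sum_le p.1 m p.2 i⟩ : Fin (m + 1))))
  intro p q h
  apply Subtype.ext; funext i
  exact congrArg Fin.val (congrFun h i)

theorem isDiffOpLE_smul {n : ℕ} {D : B →ₗ[A] B} (h : IsDiffOpLE A B B B n D) (c : B) :
    IsDiffOpLE A B B B n (c • D) := by
  have : c • D = mulMap A B c ∘ₗ D := by
    ext b; simp
  rw [this]; exact IsDiffOpLE_mulMap_comp h c

theorem isDiffOpLE_finset_sum {κ : Type*} (s : Finset κ) (n : ℕ) (f : κ → (B →ₗ[A] B))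
    (h : ∀ k ∈ s, IsDiffOpLE A B B B n (f k)) : IsDiffOpLE A B B B n (∑ k ∈ s, f k) := by
  classical
  induction s using Finset.induction_on with
  | empty => rw [Finset.sum_empty]; exact isDiffOpLE_zero_map n
  | insert a s ha ih =>
    rw [Finset.sum_insert ha]
    exact IsDiffOpLE_add (h a (Finset.mem_insert_self a s))
      (ih (fun k hk => h k (Finset.mem_insert_of_mem hk)))

variable (hz : Submodule.span B (Set.range fun i => KaehlerDifferential.D A B (z i)) = ⊤)
  (Dp : (ι → ℕ) → (B →ₗ[A] B)) (hD : ∀ p, ∃ k : ℕ, IsDiffOpLE A B B B k (Dp p))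
  (hDz : ∀ p q : ι → ℕ, Dp p (∏ i, z i ^ q i) = val z q p)

include hz hD hDz in
theorem coef_sum (m : ℕ) (a : {p : ι → ℕ // ∑ i, p i ≤ m} →₀ B)
    (q : {p : ι → ℕ // ∑ i, p i ≤ m}) :
    coef A z (a.sum fun p c => c • Dp p.1) q.1 = a q := by
  rw [← coefL_apply, Finsupp.sum, map_sum]
  simp only [map_smul, coefL_apply, coef_Dp z hz Dp hD hDz _ _ _ rfl, smul_eq_mul]
  rw [Finset.sum_eq_single q]
  · simp
  · intro p _ hpq; rw [if_neg (fun h => hpq (Subtype.ext h)), mul_zero]
  · intro hq; rw [Finsupp.notMem_support_iff.mp hq, zero_mul]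

include hz hD hDz in
theorem isDiffOpLE_sum (m : ℕ) (a : {p : ι → ℕ // ∑ i, p i ≤ m} →₀ B) :
    IsDiffOpLE A B B B m (a.sum fun p c => c • Dp p.1) := by
  rw [Finsupp.sum]
  apply isDiffOpLE_finset_sum
  intro p _
  exact isDiffOpLE_smul (IsDiffOpLE_mono p.2 (isDiffOpLE_Dp z hz Dp hD hDz _ p.1 rfl)) _

include hz hD hDz in
theorem existsUnique_coeffs (m : ℕ) (D : B →ₗ[A] B) (hDm : IsDiffOpLE A B B B m D) :
    ∃! a : {p : ι → ℕ // ∑ i, p i ≤ m} →₀ B, D = a.sum fun p c => c • Dp p.1 := by
  classical
  refine ⟨Finsupp.equivFunOnFinite.symm (fun p => coef A z D p.1), ?_, ?_⟩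
  · have h0 := eq_zero_of_coef z hz m
      (D - (Finsupp.equivFunOnFinite.symm
        (fun p : {p : ι → ℕ // ∑ i, p i ≤ m} => coef A z D p.1)).sum fun p c => c • Dp p.1)
      (IsDiffOpLE_sub hDm (isDiffOpLE_sum z hz Dp hD hDz m _)) (fun q hq => by
        have := coef_sum z hz Dp hD hDz m (Finsupp.equivFunOnFinite.symm
          (fun p : {p : ι → ℕ // ∑ i, p i ≤ m} => coef A z D p.1)) ⟨q, hq⟩
        rw [← coefL_apply, map_sub, coefL_apply, coefL_apply, this]
        simp)
    exact sub_eq_zero.mp h0
  · intro a' ha'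
    ext q
    rw [← coef_sum z hz Dp hD hDz m a' q, ← ha']
    simp

end main

end Groth.Agent.Lib.Helper9.DiffOpBasis
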