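import Mathlib
import Groth.Agent.Lib.Helper13.SymPow

/-!
# Symmetric powers over `R` and over a retract `B` of `R` (helper9)

Let `R` be a `B`-algebra with a `B`-algebra retraction `π : R → B`, and `M` an `R`-module killed by
`ker π`.  For nonempty `ι` the symmetric powers `Sym[B] ι M` and `Sym[R] ι M` agree.
-/

set_option autoImplicit false

namespace Groth.Agent.Lib.Helper9.SymCompare

open Groth.Agent.Lib.Helper13

universe u v

variable {B R ι : Type u} [CommRing B] [CommRing R] [Algebra B R] (π : R →ₐ[B] B)
  {M : Type v} [AddCommGroup M] [Module R M] [Module B M] [IsScalarTower B R M]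
  (hM : ∀ r : R, π r = 0 → ∀ m : M, r • m = 0)

include hM in
theorem smul_eq (r : R) (m : M) : r • m = π r • m := by
  have h : π (r - algebraMap B R (π r)) = 0 := by simp
  have := hM _ h m
  rw [sub_smul, sub_eq_zero, algebraMap_smul] at this
  exact this

/-- The `B`-module structure on `Sym[R] ι M` by restriction of scalars. -/
@[reducible] noncomputable def modB : Module B (SymmetricPower R ι M) :=
  Module.compHom _ (algebraMap B R)

/-- The `R`-module structure on `Sym[B] ι M` through `π`. -/
@[reducible] noncomputable def modR : Module R (SymmetricPower B ι M) :=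
  Module.compHom _ (π : R →+* B)

/-- `tprod R` as a `B`-multilinear map. -/
noncomputable def tprodRB :
    letI := modB (B := B) (R := R) (ι := ι) (M := M)
    MultilinearMap B (fun _ : ι => M) (SymmetricPower R ι M) :=
  letI := modB (B := B) (R := R) (ι := ι) (M := M)
  { toFun := fun m => SymmetricPower.tprod R m
    map_update_add' := fun m i x y => (SymmetricPower.tprod R).map_update_add m i x y
    map_update_smul' := fun m i b x => by
      rw [← algebraMap_smul R b x, (SymmetricPower.tprod R).map_update_smul]
      rfl }

/-- The comparison map `Sym[B] ι M → Sym[R] ι M`. -/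
noncomputable def toR : SymmetricPower B ι M →+ SymmetricPower R ι M :=
  letI := modB (B := B) (R := R) (ι := ι) (M := M)
  (SymPow.lift (R := B) (N := SymmetricPower R ι M) (tprodRB (B := B) (R := R) (ι := ι) (M := M))
    (fun e m => SymmetricPower.tprod_equiv e m)).toAddMonoidHom

theorem toR_tprod (m : ι → M) :
    toR (B := B) (R := R) (SymmetricPower.tprod B m) = SymmetricPower.tprod R m := by
  letI := modB (B := B) (R := R) (ι := ι) (M := M)
  exact SymPow.lift_tprod (R := B) (tprodRB (B := B) (R := R) (ι := ι) (M := M))
    (fun e m => SymmetricPower.tprod_equiv e m) m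

theorem toR_smul (b : B) (x : SymmetricPower B ι M) :
    toR (B := B) (R := R) (b • x) = algebraMap B R b • toR (B := B) (R := R) x := by
  letI := modB (B := B) (R := R) (ι := ι) (M := M)
  exact (SymPow.lift (R := B) (N := SymmetricPower R ι M)
    (tprodRB (B := B) (R := R) (ι := ι) (M := M))
    (fun e m => SymmetricPower.tprod_equiv e m)).map_smul b x

/-- `tprod B` as an `R`-multilinear map. -/
noncomputable def tprodBR :
    letI := modR (ι := ι) (M := M) π
    MultilinearMap R (fun _ : ι => M) (SymmetricPower B ι M) :=
  letI := modR (ι := ι) (M := M) π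
  { toFun := fun m => SymmetricPower.tprod B m
    map_update_add' := fun m i x y => (SymmetricPower.tprod B).map_update_add m i x y
    map_update_smul' := fun m i r x => by
      rw [smul_eq π hM r x, (SymmetricPower.tprod B).map_update_smul]
      rfl }

/-- The comparison map `Sym[R] ι M → Sym[B] ι M`. -/
noncomputable def toB : SymmetricPower R ι M →+ SymmetricPower B ι M :=
  letI := modR (ι := ι) (M := M) π
  (SymPow.lift (R := R) (N := SymmetricPower B ι M) (tprodBR (ι := ι) π hM)
    (fun e m => SymmetricPower.tprod_equiv e m)).toAddMonoidHom

theorem toB_tprod (m : ι → M) :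
    toB π hM (SymmetricPower.tprod R m) = SymmetricPower.tprod B m := by
  letI := modR (ι := ι) (M := M) π
  exact SymPow.lift_tprod (R := R) (tprodBR (ι := ι) π hM)
    (fun e m => SymmetricPower.tprod_equiv e m) m

theorem toB_smul (r : R) (x : SymmetricPower R ι M) :
    toB π hM (r • x) = π r • toB π hM x := by
  letI := modR (ι := ι) (M := M) π
  exact (SymPow.lift (R := R) (N := SymmetricPower B ι M) (tprodBR (ι := ι) π hM)
    (fun e m => SymmetricPower.tprod_equiv e m)).map_smul r x

theorem toB_toR (z : SymmetricPower B ι M) : toB π hM (toR (B := B) (R := R) z) = z := by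
  induction z using SymPow.induction_on with
  | tprod m => rw [toR_tprod, toB_tprod]
  | zero => rw [map_zero, map_zero]
  | add x y hx hy => rw [map_add, map_add, hx, hy]
  | smul b x hx => rw [toR_smul, toB_smul, hx, AlgHom.commutes]; rfl

theorem toR_toB [Nonempty ι] (z : SymmetricPower R ι M) :
    toR (B := B) (R := R) (toB π hM z) = z := by
  classical
  induction z using SymPow.induction_on with
  | tprod m => rw [toB_tprod, toR_tprod]
  | zero => rw [map_zero, map_zero]
  | add x y hx hy => rw [map_add, map_add, hx, hy]
  | smul r x hx =>
    rw [toB_smul, toR_smul, hx]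
    have h : π (algebraMap B R (π r) - r) = 0 := by simp
    have := SymPow.smul_eq_zero_of_forall (ι := ι) (a := algebraMap B R (π r) - r)
      (hM _ h) x
    rw [sub_smul, sub_eq_zero] at this
    exact this

include π hM in
theorem toR_bijective [Nonempty ι] :
    Function.Bijective (toR (B := B) (R := R) (ι := ι) (M := M)) :=
  ⟨Function.LeftInverse.injective (toB_toR π hM),
    Function.RightInverse.surjective (toR_toB π hM)⟩

end Groth.Agent.Lib.Helper9.SymCompare
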