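import Mathlib
import Groth.Prelude.Def_PP16
import Groth.Agent.S4538
import Groth.Agent.Lib.Helper9.SymCompare

/-!
# Formally smooth implies differentially smooth (helper9)

Apply EGA 0_IV 19.5.4 (S4538, helper13) to the `B`-algebra `B ⊗[A] B` with the ideal `I` of the
diagonal, and compare symmetric powers over `B ⊗[A] B` and over `B`.
-/

set_option autoImplicit false

namespace Groth.Agent.Lib.Helper9.DiffSmoothFS

open TensorProduct PP16 Groth.Agent.Lib.Helper13 Groth.Agent.Lib.Helper13.SymGrA
open Groth.Agent.Lib.Helper9.SymCompare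

universe u

variable (A B : Type u) [CommRing A] [CommRing B] [Algebra A B]

theorem isAdic [Algebra.FormallySmooth A B] :
    CAlgX.IsAdicFormallySmooth B (B ⊗[A] B) (KaehlerDifferential.ideal A B) := by
  intro C _ _ J hJ ψ _
  exact Algebra.FormallySmooth.comp_surjective B (B ⊗[A] B) J hJ ψ

theorem lmul''_surjective :
    Function.Surjective (Algebra.TensorProduct.lmul'' A : B ⊗[A] B →ₐ[B] B) :=
  fun b => ⟨b ⊗ₜ 1, by simp [Algebra.TensorProduct.lmul'']⟩

instance formallySmooth_quot :
    Algebra.FormallySmooth B ((B ⊗[A] B) ⧸ KaehlerDifferential.ideal A B) :=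
  Algebra.FormallySmooth.of_equiv
    (Ideal.quotientKerAlgEquivOfSurjective (lmul''_surjective A B)).symm

theorem symGr [Algebra.FormallySmooth A B] :
    PP16.SymGrBijective (B ⊗[A] B) (KaehlerDifferential.ideal A B) :=
  ((Groth.Agent.S4538.result (A := B) (B := B ⊗[A] B) (KaehlerDifferential.ideal A B)).mp
    (isAdic A B)).2

/-- `I^n` as a `B`-module, both ways. -/
noncomputable def powEquiv (n : ℕ) :
    ↥(KaehlerDifferential.ideal A B ^ n) ≃ₗ[B]
      ↥((KaehlerDifferential.ideal A B ^ n).restrictScalars B) :=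
  { toFun := fun x => ⟨x.1, x.2⟩
    invFun := fun x => ⟨x.1, x.2⟩
    map_add' := fun _ _ => rfl
    map_smul' := fun _ _ => rfl
    left_inv := fun _ => rfl
    right_inv := fun _ => rfl }

/-- The graded pieces `I^n/I^(n+1)` formed over `B ⊗[A] B` and over `B` agree. -/
noncomputable def grEquiv (n : ℕ) :
    grJ (B ⊗[A] B) (KaehlerDifferential.ideal A B) n ≃ₗ[B] grI A B n :=
  (Submodule.Quotient.restrictScalarsEquiv B _).symm ≪≫ₗ
    Submodule.Quotient.equiv _ _ (powEquiv A B n) (by
      ext x
      simp only [Submodule.mem_map, Submodule.mem_comap, Submodule.restrictScalars_mem,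
        Submodule.coe_subtype]
      constructor
      · rintro ⟨y, hy, rfl⟩
        exact hy
      · intro hx
        exact ⟨⟨x.1, x.2⟩, hx, rfl⟩)

theorem grEquiv_mk (n : ℕ) (y : B ⊗[A] B) (hy : y ∈ KaehlerDifferential.ideal A B ^ n) :
    grEquiv A B n (Submodule.Quotient.mk ⟨y, hy⟩) = Submodule.Quotient.mk ⟨y, hy⟩ := rfl

theorem kills (r : B ⊗[A] B) (hr : (Algebra.TensorProduct.lmul'' A : B ⊗[A] B →ₐ[B] B) r = 0)
    (m : KaehlerDifferential A B) : r • m = 0 :=
  Ideal.Cotangent.smul_eq_zero_of_mem (I := KaehlerDifferential.ideal A B) hr m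

/-- helper13's canonical map, with the Kähler differentials as source module. -/
noncomputable def canon' (ι : Type u) [Fintype ι] :
    SymmetricPower (B ⊗[A] B) ι (KaehlerDifferential A B) →ₗ[B ⊗[A] B]
      grJ (B ⊗[A] B) (KaehlerDifferential.ideal A B) (Fintype.card ι) :=
  canon (KaehlerDifferential.ideal A B) ι

theorem canon'_tprod (ι : Type u) [Fintype ι] (b : ι → B) :
    canon' A B ι (SymmetricPower.tprod (B ⊗[A] B)
      (fun i => KaehlerDifferential.D A B (b i))) =
      zetaJ (B ⊗[A] B) (KaehlerDifferential.ideal A B) (fun i => (⟨1 ⊗ₜ b i - b i ⊗ₜ 1,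
      KaehlerDifferential.one_smul_sub_smul_one_mem_ideal A (b i)⟩ :
        ↥(KaehlerDifferential.ideal A B))) :=
  canon_tprod (KaehlerDifferential.ideal A B) ι
    (fun i => (⟨1 ⊗ₜ b i - b i ⊗ₜ 1,
      KaehlerDifferential.one_smul_sub_smul_one_mem_ideal A (b i)⟩ :
        ↥(KaehlerDifferential.ideal A B)))

theorem canon'_bijective [Algebra.FormallySmooth A B] (ι : Type u) [Fintype ι] [Nonempty ι] :
    Function.Bijective (canon' A B ι) :=
  ⟨(symGrBijective_iff (KaehlerDifferential.ideal A B)).mp (symGr A B) ι,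
      canon_surjective _ ι⟩

/-- The map `Sym^n_B(Ω) → I^n/I^(n+1)`. -/
noncomputable def phi (ι : Type u) [Fintype ι] :
    SymmetricPower B ι (KaehlerDifferential A B) →ₗ[B] grI A B (Fintype.card ι) where
  toFun z := grEquiv A B (Fintype.card ι)
    (canon' A B ι (toR (B := B) (R := B ⊗[A] B) (M := KaehlerDifferential A B) z))
  map_add' x y := by rw [map_add, map_add, map_add]
  map_smul' b z := by
    rw [toR_smul, map_smul, algebraMap_smul, map_smul]
    rfl

theorem phi_apply (ι : Type u) [Fintype ι] (z : SymmetricPower B ι (KaehlerDifferential A B)) :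
    phi A B ι z = grEquiv A B (Fintype.card ι)
      (canon' A B ι (toR (B := B) (R := B ⊗[A] B) (M := KaehlerDifferential A B) z)) := rfl

theorem phi_tprod (ι : Type u) [Fintype ι] (b : ι → B) :
    phi A B ι (SymmetricPower.tprod B (fun i => KaehlerDifferential.D A B (b i))) =
      zetaProd A B b := by
  rw [phi_apply, toR_tprod, canon'_tprod]
  rfl

theorem phi_bijective [Algebra.FormallySmooth A B] (ι : Type u) [Fintype ι] [Nonempty ι] :
    Function.Bijective (phi A B ι) := by
  have h1 := toR_bijective (ι := ι) (M := KaehlerDifferential A B)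
    (Algebra.TensorProduct.lmul'' A : B ⊗[A] B →ₐ[B] B) (kills A B)
  have h2 := canon'_bijective A B ι
  have h3 := (grEquiv A B (Fintype.card ι)).bijective
  exact h3.comp (h2.comp h1)

theorem mem_ideal_iff (y : B ⊗[A] B) :
    y ∈ KaehlerDifferential.ideal A B ↔
      (Algebra.TensorProduct.lmul'' A : B ⊗[A] B →ₐ[B] B) y = 0 := Iff.rfl

theorem exists_phi_empty (ι : Type u) [Fintype ι] [IsEmpty ι] :
    ∃ φ : SymmetricPower B ι (KaehlerDifferential A B) →ₗ[B] grI A B (Fintype.card ι),
      (∀ b : ι → B, φ (SymmetricPower.tprod B (fun i => KaehlerDifferential.D A B (b i))) =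
        zetaProd A B b) ∧ Function.Bijective φ := by
  classical
  have hn : Fintype.card ι = 0 := Fintype.card_eq_zero
  have hI : KaehlerDifferential.ideal A B ^ (Fintype.card ι + 1) =
      KaehlerDifferential.ideal A B := by rw [hn, zero_add, pow_one]
  let b0 : ι → B := fun i => isEmptyElim i
  let m0 : ι → KaehlerDifferential A B := fun i => isEmptyElim i
  let f0 : MultilinearMap B (fun _ : ι => KaehlerDifferential A B) (grI A B (Fintype.card ι)) :=
    MultilinearMap.constOfIsEmpty B (fun _ : ι => KaehlerDifferential A B) (zetaProd A B b0)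
  have hsym : ∀ (e : Equiv.Perm ι) (m : ι → KaehlerDifferential A B),
      f0 (fun i => m (e i)) = f0 m := fun e m => rfl
  let φ : SymmetricPower B ι (KaehlerDifferential A B) →ₗ[B] grI A B (Fintype.card ι) :=
    SymPow.lift (R := B) f0 hsym
  have hφt : ∀ m, φ (SymmetricPower.tprod B m) = zetaProd A B b0 := fun m =>
    (SymPow.lift_tprod f0 hsym m).trans rfl
  have hz : ∀ z : SymmetricPower B ι (KaehlerDifferential A B),
      ∃ c : B, z = c • SymmetricPower.tprod B m0 := by
    intro z
    induction z using SymPow.induction_on with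
    | tprod m => exact ⟨1, by rw [one_smul]; congr 1; exact Subsingleton.elim _ _⟩
    | zero => exact ⟨0, by rw [zero_smul]⟩
    | add x y hx hy =>
      obtain ⟨c, rfl⟩ := hx
      obtain ⟨d, rfl⟩ := hy
      exact ⟨c + d, by rw [add_smul]⟩
    | smul r x hx =>
      obtain ⟨c, rfl⟩ := hx
      exact ⟨r * c, by rw [mul_smul]⟩
  -- the value `c • zetaProd b0` is the class of `c ⊗ 1`
  have hval : ∀ c : B, ∀ hc : c ⊗ₜ[A] (1 : B) ∈
      (KaehlerDifferential.ideal A B ^ Fintype.card ι).restrictScalars B,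
      c • zetaProd A B b0 = (Submodule.Quotient.mk ⟨c ⊗ₜ[A] (1 : B), hc⟩ :
        grI A B (Fintype.card ι)) := by
    intro c hc
    have h1 : (∏ i : ι, ((1 : B) ⊗ₜ[A] b0 i - b0 i ⊗ₜ[A] (1 : B))) = 1 := by
      rw [Finset.univ_eq_empty, Finset.prod_empty]
    unfold zetaProd
    rw [← Submodule.Quotient.mk_smul]
    congr 1
    apply Subtype.ext
    change c • (∏ i : ι, ((1 : B) ⊗ₜ[A] b0 i - b0 i ⊗ₜ[A] (1 : B))) = c ⊗ₜ[A] (1 : B)
    rw [h1, Algebra.smul_def, mul_one]
    rfl
  have htop : ∀ y : B ⊗[A] B,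
      y ∈ (KaehlerDifferential.ideal A B ^ Fintype.card ι).restrictScalars B := by
    intro y
    rw [Submodule.restrictScalars_mem, hn, pow_zero, Ideal.one_eq_top]
    trivial
  refine ⟨φ, ?_, ?_, ?_⟩
  · intro b
    rw [hφt]
    congr 1
    exact Subsingleton.elim _ _
  · rw [injective_iff_map_eq_zero]
    intro z hzφ
    obtain ⟨c, rfl⟩ := hz z
    rw [map_smul, hφt, hval c (htop _), Submodule.Quotient.mk_eq_zero] at hzφ
    have h2 : c ⊗ₜ[A] (1 : B) ∈ KaehlerDifferential.ideal A B := by
      have := hzφ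
      rw [Submodule.mem_comap, Submodule.restrictScalars_mem, hI] at this
      exact this
    rw [mem_ideal_iff] at h2
    have h3 : c = 0 := by simpa [Algebra.TensorProduct.lmul''] using h2
    rw [h3, zero_smul]
  · intro g
    obtain ⟨⟨y, hy⟩, rfl⟩ := Submodule.Quotient.mk_surjective _ g
    let c : B := (Algebra.TensorProduct.lmul'' A : B ⊗[A] B →ₐ[B] B) y
    refine ⟨c • SymmetricPower.tprod B m0, ?_⟩
    rw [map_smul, hφt, hval c (htop _), Submodule.Quotient.eq, Submodule.mem_comap,
      Submodule.restrictScalars_mem, hI, mem_ideal_iff]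
    change (Algebra.TensorProduct.lmul'' A : B ⊗[A] B →ₐ[B] B) (c ⊗ₜ[A] (1 : B) - y) = 0
    rw [map_sub]
    simp [Algebra.TensorProduct.lmul'', c]

/-- Formally smooth implies differentially smooth. -/
theorem isDiffSmooth [Algebra.FormallySmooth A B] : PP16.IsDiffSmooth A B := by
  refine ⟨inferInstance, ?_⟩
  intro ι _
  rcases isEmpty_or_nonempty ι with h | h
  · exact exists_phi_empty A B ι
  · exact ⟨phi A B ι, phi_tprod A B ι, phi_bijective A B ι⟩

end Groth.Agent.Lib.Helper9.DiffSmoothFS
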