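import Mathlib
import Groth.Agent.Lib.Helper9.DiffSmoothFS

/-!
# Differential smoothness = adic formal smoothness of the diagonal (helper9)

`PP16.IsDiffSmooth A B ↔ CAlgX.IsAdicFormallySmooth B (B ⊗[A] B) I`, `I` the diagonal ideal,
using EGA 0_IV 19.5.4 (S4538).
-/

set_option autoImplicit false

namespace Groth.Agent.Lib.Helper9.DiffSmoothAdic

open TensorProduct PP16 Groth.Agent.Lib.Helper13 Groth.Agent.Lib.Helper13.SymGrA
open Groth.Agent.Lib.Helper9.SymCompare Groth.Agent.Lib.Helper9.DiffSmoothFS

universe u

/-- Multilinear maps agreeing on tuples from a spanning set are equal. -/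
theorem multilinear_ext_of_span {R : Type*} [CommRing R] {ι : Type*} [Fintype ι]
    {M N : Type*} [AddCommGroup M] [Module R M] [AddCommGroup N] [Module R N]
    (S : Set M) (hS : Submodule.span R S = ⊤) (F G : MultilinearMap R (fun _ : ι => M) N)
    (h : ∀ m : ι → M, (∀ i, m i ∈ S) → F m = G m) : F = G := by
  classical
  have key : ∀ (s : Finset ι) (m : ι → M), (∀ i, i ∉ s → m i ∈ S) → F m = G m := by
    intro s
    induction s using Finset.induction_on with
    | empty => intro m hm; exact h m (fun i => hm i (Finset.notMem_empty i))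
    | insert a s ha ih =>
      intro m hm
      have hx : m a ∈ Submodule.span R S := by rw [hS]; trivial
      have : ∀ x ∈ Submodule.span R S,
          F (Function.update m a x) = G (Function.update m a x) := by
        intro x hx
        induction hx using Submodule.span_induction with
        | mem y hy =>
          apply ih
          intro i hi
          by_cases hia : i = a
          · rw [hia, Function.update_self]; exact hy
          · rw [Function.update_of_ne hia]; exact hm i (by simp [hia, hi])
        | zero => rw [F.map_update_zero, G.map_update_zero]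
        | add x y _ _ hx hy => rw [F.map_update_add, G.map_update_add, hx, hy]
        | smul c x _ hx => rw [F.map_update_smul, G.map_update_smul, hx]
      have := this (m a) hx
      rwa [Function.update_eq_self] at this
  ext m
  exact key Finset.univ m (fun i hi => absurd (Finset.mem_univ i) hi)

variable (A B : Type u) [CommRing A] [CommRing B] [Algebra A B]

theorem phi_bijective_of_symGr
    (hs : PP16.SymGrBijective (B ⊗[A] B) (KaehlerDifferential.ideal A B))
    (ι : Type u) [Fintype ι] [Nonempty ι] : Function.Bijective (phi A B ι) := by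
  have h1 := toR_bijective (ι := ι) (M := KaehlerDifferential A B)
    (Algebra.TensorProduct.lmul'' A : B ⊗[A] B →ₐ[B] B) (kills A B)
  have h2 : Function.Bijective (canon' A B ι) :=
    ⟨(symGrBijective_iff (KaehlerDifferential.ideal A B)).mp hs ι, canon_surjective _ ι⟩
  have h3 := (grEquiv A B (Fintype.card ι)).bijective
  exact h3.comp (h2.comp h1)

theorem canon'_injective_of_phi (ι : Type u) [Fintype ι] [Nonempty ι]
    (h : Function.Injective (phi A B ι)) : Function.Injective (canon' A B ι) := by
  have h1 := toR_bijective (ι := ι) (M := KaehlerDifferential A B)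
    (Algebra.TensorProduct.lmul'' A : B ⊗[A] B →ₐ[B] B) (kills A B)
  rw [injective_iff_map_eq_zero]
  intro x hx
  obtain ⟨z, rfl⟩ := h1.2 x
  have : phi A B ι z = 0 := by rw [phi_apply, hx, map_zero]
  have hz : z = 0 := by
    apply h; rw [this, map_zero]
  rw [hz, map_zero]

theorem phi_unique (ι : Type u) [Fintype ι]
    (φ : SymmetricPower B ι (KaehlerDifferential A B) →ₗ[B] grI A B (Fintype.card ι))
    (hφ : ∀ b : ι → B, φ (SymmetricPower.tprod B (fun i => KaehlerDifferential.D A B (b i))) =
      zetaProd A B b) : φ = phi A B ι := by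
  apply SymPow.hom_ext
  have := multilinear_ext_of_span (R := B) (ι := ι) (Set.range (KaehlerDifferential.D A B))
    (KaehlerDifferential.span_range_derivation A B)
    (φ.compMultilinearMap (SymmetricPower.tprod B))
    ((phi A B ι).compMultilinearMap (SymmetricPower.tprod B)) (by
      intro m hm
      choose b hb using hm
      have hm' : m = fun i => KaehlerDifferential.D A B (b i) := funext fun i => (hb i).symm
      rw [hm']
      rw [LinearMap.compMultilinearMap_apply, LinearMap.compMultilinearMap_apply, hφ,
        phi_tprod])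
  intro m
  exact congrArg (fun F => F m) this

/-- `(B ⊗ B)/I ≃ B`. -/
noncomputable def qe : ((B ⊗[A] B) ⧸ KaehlerDifferential.ideal A B) ≃+* B :=
  (Ideal.quotientKerAlgEquivOfSurjective (lmul''_surjective A B)).toRingEquiv

/-- `qe` as a ring hom. -/
noncomputable def σ : ((B ⊗[A] B) ⧸ KaehlerDifferential.ideal A B) →+* B := (qe A B).toRingHom

/-- inverse of `qe` as a ring hom. -/
noncomputable def σ' : B →+* ((B ⊗[A] B) ⧸ KaehlerDifferential.ideal A B) :=
  (qe A B).symm.toRingHom

instance : RingHomInvPair (σ A B) (σ' A B) :=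
  ⟨RingHom.ext fun x => (qe A B).symm_apply_apply x, RingHom.ext fun x => (qe A B).apply_symm_apply x⟩

instance : RingHomInvPair (σ' A B) (σ A B) :=
  ⟨RingHom.ext fun x => (qe A B).apply_symm_apply x, RingHom.ext fun x => (qe A B).symm_apply_apply x⟩

theorem qe_mk (r : B ⊗[A] B) :
    qe A B (Ideal.Quotient.mk _ r) = (Algebra.TensorProduct.lmul'' A : B ⊗[A] B →ₐ[B] B) r := rfl

/-- The cotangent module of the diagonal and the Kähler differentials, semilinearly. -/
noncomputable def cotEquiv :
    (KaehlerDifferential.ideal A B).Cotangent ≃ₛₗ[σ A B]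
      KaehlerDifferential A B where
  toFun := fun m => m
  invFun := fun m => m
  left_inv := fun _ => rfl
  right_inv := fun _ => rfl
  map_add' := fun _ _ => rfl
  map_smul' := fun c m => by
    obtain ⟨r, rfl⟩ := Ideal.Quotient.mk_surjective c
    change (Ideal.Quotient.mk (KaehlerDifferential.ideal A B) r) • m =
      qe A B (Ideal.Quotient.mk (KaehlerDifferential.ideal A B) r) • m
    rw [qe_mk]
    have h1 : (Ideal.Quotient.mk (KaehlerDifferential.ideal A B) r) • m = r • m := by
      rw [← Ideal.Quotient.algebraMap_eq, algebraMap_smul]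
    rw [h1]
    exact smul_eq (M := KaehlerDifferential A B)
      (Algebra.TensorProduct.lmul'' A : B ⊗[A] B →ₐ[B] B) (kills A B) r m

theorem isDiffSmooth_of_isAdic
    (h : CAlgX.IsAdicFormallySmooth B (B ⊗[A] B) (KaehlerDifferential.ideal A B)) :
    PP16.IsDiffSmooth A B := by
  obtain ⟨hproj, hsym⟩ := (Groth.Agent.S4538.result (A := B) (B := B ⊗[A] B)
    (KaehlerDifferential.ideal A B)).mp h
  refine ⟨Module.Projective.of_equiv (cotEquiv A B), ?_⟩
  intro ι _
  rcases isEmpty_or_nonempty ι with h | h
  · exact exists_phi_empty A B ι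
  · exact ⟨phi A B ι, phi_tprod A B ι, phi_bijective_of_symGr A B hsym ι⟩

theorem isAdic_of_isDiffSmooth (h : PP16.IsDiffSmooth A B) :
    CAlgX.IsAdicFormallySmooth B (B ⊗[A] B) (KaehlerDifferential.ideal A B) := by
  obtain ⟨hproj, hφ⟩ := h
  refine (Groth.Agent.S4538.result (A := B) (B := B ⊗[A] B)
    (KaehlerDifferential.ideal A B)).mpr ⟨Module.Projective.of_equiv (cotEquiv A B).symm, ?_⟩
  rw [symGrBijective_iff]
  intro ι _ _
  obtain ⟨φ, hφ1, hφ2⟩ := hφ ι
  have := phi_unique A B ι φ hφ1
  rw [this] at hφ2
  exact canon'_injective_of_phi A B ι hφ2.1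

theorem isDiffSmooth_iff_isAdic :
    PP16.IsDiffSmooth A B ↔
      CAlgX.IsAdicFormallySmooth B (B ⊗[A] B) (KaehlerDifferential.ideal A B) :=
  ⟨isAdic_of_isDiffSmooth A B, isDiffSmooth_of_isAdic A B⟩

end Groth.Agent.Lib.Helper9.DiffSmoothAdic
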