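import Mathlib
import Groth.Prelude.Def_DiffOp
import Groth.Prelude.Def_PP16
import Groth.Agent.Lib.Helper9.DiffOpBasis
import Groth.Agent.Lib.Helper9.DiffSmoothAdic
import Groth.Agent.Lib.Helper13.SymGrB
import Groth.Agent.Lib.Helper13.SymPow

/-!
# The operators `D_p` give differential smoothness (EGA IV 16.11.2, b ⇒ a) (helper9)
-/

set_option autoImplicit false
set_option linter.style.haveILetI false

namespace Groth.Agent.Lib.Helper9.DiffOpDual

open Diff16 PP16 Groth.Agent.Lib.Helper14 Groth.Agent.Lib.Helper13 Groth.Agent.Lib.Helper13.SymGrB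
open Groth.Agent.Lib.Helper9.DiffOpBasis Groth.Agent.Lib.Helper9.DiffSmoothFS
open Groth.Agent.Lib.Helper9.DiffSmoothAdic
open scoped TensorProduct

universe u

section linB

variable {A B : Type u} [CommRing A] [CommRing B] [Algebra A B]

/-- the `B`-linear form of `linearize`. -/
noncomputable def linB (D : B →ₗ[A] B) : B ⊗[A] B →ₗ[B] B := D.liftBaseChange B

theorem linB_apply (D : B →ₗ[A] B) (x : B ⊗[A] B) : linB D x = linearize A B B B D x := by
  induction x using TensorProduct.induction_on with
  | zero => simp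
  | tmul c m => rw [linB, LinearMap.liftBaseChange_tmul, linearize_tmul]
  | add x y hx hy => rw [map_add, hx, hy, map_add]

/-- the functional on `I^n/I^(n+1)` induced by an operator of order `≤ n`. -/
noncomputable def grFun (n : ℕ) (D : B →ₗ[A] B) (hD : IsDiffOpLE A B B B n D) :
    grI A B n →ₗ[B] B :=
  Submodule.liftQ _ ((linB D).comp (Submodule.subtype _)) (by
    intro x hx
    rw [LinearMap.mem_ker, LinearMap.comp_apply, linB_apply]
    exact (isDiffOpLE_iff_linearize n D).mp hD _ hx)

theorem grFun_mk (n : ℕ) (D : B →ₗ[A] B) (hD : IsDiffOpLE A B B B n D)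
    (y : ↥((KaehlerDifferential.ideal A B ^ n).restrictScalars B)) :
    grFun n D hD (Submodule.Quotient.mk y) = linearize A B B B D y.1 := by
  rw [← linB_apply]; rfl

end linB

section prodcomp

variable {R : Type*} [CommRing R] {ι κ : Type*} [Fintype ι] [Fintype κ]

theorem prod_comp_dOf (g : ι → R) (f : κ → ι) : ∏ k, g (f k) = ∏ i, g i ^ (dOf f i) := by
  classical
  have h1 : (dOf f).prod (fun i n => g i ^ n) = ∏ k, g (f k) := by
    rw [dOf, ← Finsupp.prod_finsetSum_index (fun i => pow_zero _) (fun i m n => pow_add _ _ _)]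
    apply Finset.prod_congr rfl
    intro k _
    rw [Finsupp.prod_single_index (h := fun i n => g i ^ n) (pow_zero _), pow_one]
  rw [← h1, Finsupp.prod_fintype]
  intro i; exact pow_zero _

end prodcomp

section inj

variable {A B : Type u} [CommRing A] [CommRing B] [Algebra A B]
variable {ι : Type*} [Fintype ι] [DecidableEq ι] (z : ι → B)
variable (hz : Submodule.span B (Set.range fun i => KaehlerDifferential.D A B (z i)) = ⊤)
  (Dp : (ι → ℕ) → (B →ₗ[A] B)) (hD : ∀ p, ∃ k : ℕ, IsDiffOpLE A B B B k (Dp p))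
  (hDz : ∀ p q : ι → ℕ, Dp p (∏ i, z i ^ q i) = val z q p)
variable (κ : Type u) [Fintype κ]

/-- the functional `L_p` on `gr^n`, `n = card κ` (zero unless `D_p` has order `≤ n`). -/
noncomputable def Lp (p : ι → ℕ) : grI A B (Fintype.card κ) →ₗ[B] B := by
  classical
  exact if h : IsDiffOpLE A B B B (Fintype.card κ) (Dp p) then grFun _ (Dp p) h else 0

/-- the monomial `dz^p` in `Sym^κ Ω`. -/
noncomputable def mono (p : ι → ℕ) : SymmetricPower B κ (KaehlerDifferential A B) := by
  classical
  exact if h : ∃ f : κ → ι, ⇑(dOf f) = p then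
    SymmetricPower.tprod B (fun k => KaehlerDifferential.D A B (z (h.choose k))) else 0

omit [DecidableEq ι] in
theorem mono_dOf (f : κ → ι) :
    mono (A := A) z κ (⇑(dOf f)) =
      SymmetricPower.tprod B (fun k => KaehlerDifferential.D A B (z (f k))) := by
  classical
  have h : ∃ f' : κ → ι, ⇑(dOf f') = ⇑(dOf f) := ⟨f, rfl⟩
  rw [mono, dif_pos h]
  obtain ⟨e, he⟩ := exists_perm_of_dOf_eq h.choose f (DFunLike.coe_injective h.choose_spec)
  rw [← SymmetricPower.tprod_equiv e]
  congr 1; funext k; rw [he]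

theorem sum_dOf (f : κ → ι) : ∑ i, dOf f i = Fintype.card κ := by
  rw [← degree_dOf f, Finsupp.degree_eq_sum]

include hz hD hDz in
theorem Lp_zetaProd (p : ι → ℕ) (f : κ → ι) (hp : ∑ i, p i = Fintype.card κ) :
    Lp Dp κ p (zetaProd A B (fun k => z (f k))) = if p = ⇑(dOf f) then 1 else 0 := by
  classical
  have hord : IsDiffOpLE A B B B (Fintype.card κ) (Dp p) := by
    rw [← hp]; exact isDiffOpLE_Dp z hz Dp hD hDz _ p rfl
  rw [Lp, dif_pos hord, zetaProd, grFun_mk]
  have : (∏ k, ((1 : B) ⊗ₜ[A] z (f k) - z (f k) ⊗ₜ[A] (1 : B))) =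
      ∏ i, zeta A z i ^ (dOf f i) := prod_comp_dOf (zeta A z) f
  change linearize A B B B (Dp p) (∏ k, ((1 : B) ⊗ₜ[A] z (f k) - z (f k) ⊗ₜ[A] (1 : B))) = _
  rw [this]
  exact coef_Dp z hz Dp hD hDz _ p _ rfl

/-- the retraction of `Sym^κ Ω` built from the functionals. -/
noncomputable def retr :
    SymmetricPower B κ (KaehlerDifferential A B) →ₗ[B]
      SymmetricPower B κ (KaehlerDifferential A B) := by
  classical
  exact ∑ p ∈ (Finset.univ : Finset (κ → ι)).image (fun f => ⇑(dOf f)),
    ((Lp Dp κ p).comp (phi A B κ)).smulRight (mono (A := A) z κ p)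

include hz hD hDz in
theorem retr_tprod (f : κ → ι) :
    retr z Dp κ (SymmetricPower.tprod B (fun k => KaehlerDifferential.D A B (z (f k)))) =
      SymmetricPower.tprod B (fun k => KaehlerDifferential.D A B (z (f k))) := by
  classical
  rw [retr, LinearMap.sum_apply]
  simp only [LinearMap.smulRight_apply, LinearMap.comp_apply]
  rw [phi_tprod A B κ (fun k => z (f k))]
  rw [Finset.sum_eq_single (⇑(dOf f))]
  · rw [Lp_zetaProd z hz Dp hD hDz κ _ f (sum_dOf κ f), if_pos rfl, one_smul, mono_dOf]
  · intro p hp hne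
    obtain ⟨f', -, rfl⟩ := Finset.mem_image.mp hp
    rw [Lp_zetaProd z hz Dp hD hDz κ _ f (sum_dOf κ f'), if_neg hne, zero_smul]
  · intro h
    exact absurd (Finset.mem_image.mpr ⟨f, Finset.mem_univ _, rfl⟩) h

include hz hD hDz in
theorem retr_eq_id : retr z Dp κ = LinearMap.id := by
  apply SymPow.hom_ext
  have := multilinear_ext_of_span (R := B) (ι := κ)
    (Set.range fun i => KaehlerDifferential.D A B (z i)) hz
    ((retr z Dp κ).compMultilinearMap (SymmetricPower.tprod B))
    ((LinearMap.id).compMultilinearMap (SymmetricPower.tprod B)) (by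
      intro m hm
      choose f hf using hm
      have hm' : m = fun k => KaehlerDifferential.D A B (z (f k)) := funext fun k => (hf k).symm
      rw [hm', LinearMap.compMultilinearMap_apply, LinearMap.compMultilinearMap_apply,
        retr_tprod z hz Dp hD hDz κ f, LinearMap.id_apply])
  intro m
  exact congrArg (fun F => F m) this

include hz hD hDz in
theorem phi_injective : Function.Injective (phi A B κ) := by
  rw [injective_iff_map_eq_zero]
  intro w hw
  have h1 : retr z Dp κ w = w := by rw [retr_eq_id z hz Dp hD hDz κ, LinearMap.id_apply]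
  rw [← h1, retr, LinearMap.sum_apply]
  apply Finset.sum_eq_zero
  intro p _
  rw [LinearMap.smulRight_apply, LinearMap.comp_apply, hw, map_zero, zero_smul]

end inj

section ba

variable {A B : Type u} [CommRing A] [CommRing B] [Algebra A B]
variable {ι : Type*} [Fintype ι] [DecidableEq ι] (z : ι → B)
variable (hz : Submodule.span B (Set.range fun i => KaehlerDifferential.D A B (z i)) = ⊤)
  (Dp : (ι → ℕ) → (B →ₗ[A] B)) (hD : ∀ p, ∃ k : ℕ, IsDiffOpLE A B B B k (Dp p))
  (hDz : ∀ p q : ι → ℕ, Dp p (∏ i, z i ^ q i) = val z q p)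

theorem coef_single (D : B →ₗ[A] B) (i : ι) :
    coef A z D (Pi.single i 1) = D (z i) - z i * D 1 := by
  have : (Pi.single i 1 : ι → ℕ) = 0 + Pi.single i 1 := by rw [zero_add]
  rw [this, coef_succ, coef_zero_idx, commutator_apply, smul_eq_mul, mul_one, smul_eq_mul]

omit [DecidableEq ι] in
theorem phi_surjective (κ : Type u) [Fintype κ] [Nonempty κ] :
    Function.Surjective (phi A B κ) := by
  have h1 := Groth.Agent.Lib.Helper9.SymCompare.toR_bijective (ι := κ)
    (M := KaehlerDifferential A B)
    (Algebra.TensorProduct.lmul'' A : B ⊗[A] B →ₐ[B] B) (kills A B)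
  have h2 : Function.Surjective (canon' A B κ) :=
    Groth.Agent.Lib.Helper13.SymGrA.canon_surjective _ κ
  have h3 := (grEquiv A B (Fintype.card κ)).surjective
  exact h3.comp (h2.comp h1.2)

include hz hD hDz in
theorem linearIndependent_dz :
    LinearIndependent B (fun i => KaehlerDifferential.D A B (z i)) := by
  classical
  rw [Fintype.linearIndependent_iff]
  intro g hg j
  have hsum : ∀ i : ι, ∑ k, (Pi.single i 1 : ι → ℕ) k = 1 := fun i => by
    rw [Finset.sum_pi_single']; simp
  have hord : IsDiffOpLE A B B B 1 (Dp (Pi.single j 1)) :=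
    isDiffOpLE_Dp z hz Dp hD hDz 1 (Pi.single j 1) (hsum j)
  let δ : Derivation A B B :=
    derivOfOrderOne (Dp (Pi.single j 1)) ((isDiffOpLE_succ_iff 0 _).mp hord)
  have hδ : ∀ i, δ (z i) = if j = i then 1 else 0 := by
    intro i
    have h1 := coef_Dp z hz Dp hD hDz 1 (Pi.single j 1) (Pi.single i 1) (hsum i)
    rw [coef_single] at h1
    change Dp (Pi.single j 1) (z i) - z i • Dp (Pi.single j 1) 1 = _
    rw [smul_eq_mul, h1]
    by_cases hji : j = i
    · subst hji; rw [if_pos rfl, if_pos rfl]
    · rw [if_neg hji, if_neg]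
      intro h
      have := congrFun h j
      rw [Pi.single_eq_same, Pi.single_eq_of_ne hji] at this
      exact one_ne_zero this
  have h2 := congrArg δ.liftKaehlerDifferential hg
  rw [map_sum, map_zero] at h2
  simp only [map_smul, Derivation.liftKaehlerDifferential_comp_D, hδ, smul_eq_mul] at h2
  rw [Finset.sum_eq_single j] at h2
  · simpa using h2
  · intro i _ hij; rw [if_neg (Ne.symm hij), mul_zero]
  · intro h; exact absurd (Finset.mem_univ j) h

include hz hD hDz in
theorem exists_basis :
    ∃ b : Module.Basis ι B (KaehlerDifferential A B),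
      ∀ i, b i = KaehlerDifferential.D A B (z i) :=
  ⟨Module.Basis.mk (linearIndependent_dz z hz Dp hD hDz) (by rw [hz]),
    fun i => by rw [Module.Basis.mk_apply]⟩

include hz hD hDz in
theorem isDiffSmooth_of_Dp : PP16.IsDiffSmooth A B := by
  obtain ⟨b, -⟩ := exists_basis z hz Dp hD hDz
  refine ⟨Module.Projective.of_basis b, ?_⟩
  intro κ _
  rcases isEmpty_or_nonempty κ with h | h
  · exact exists_phi_empty A B κ
  · exact ⟨phi A B κ, phi_tprod A B κ, phi_injective z hz Dp hD hDz κ, phi_surjective κ⟩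

end ba

end Groth.Agent.Lib.Helper9.DiffOpDual
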