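import Mathlib
import Groth.Prelude.Def_DiffOp
import Groth.Prelude.Def_PP16
import Groth.Agent.Lib.Helper9.DiffOpBasis
import Groth.Agent.Lib.Helper9.DiffOpDual

/-!
# The monomial basis of the principal parts `P^m` (EGA IV 16.11.2) (helper9)
-/

set_option autoImplicit false
set_option linter.style.haveILetI false

namespace Groth.Agent.Lib.Helper9.DiffPBasis

open Diff16 PP16 Groth.Agent.Lib.Helper14
open Groth.Agent.Lib.Helper9.DiffOpBasis Groth.Agent.Lib.Helper9.DiffOpDual
open scoped TensorProduct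

universe u

section span

variable {A B : Type u} [CommRing A] [CommRing B] [Algebra A B]
variable {ι : Type*} [Fintype ι] (z : ι → B)

local notation "II" => KaehlerDifferential.ideal A B

theorem zeta_mem (i : ι) : zeta A z i ∈ II :=
  KaehlerDifferential.one_smul_sub_smul_one_mem_ideal A (z i)

/-- `x ≡ (mult x) ⊗ 1` modulo `I`. -/
theorem sub_algebraMap_mem (x : B ⊗[A] B) :
    x - algebraMap B (B ⊗[A] B) (Algebra.TensorProduct.lmul' A x) ∈ II := by
  change Algebra.TensorProduct.lmul' A (x - algebraMap B (B ⊗[A] B) (Algebra.TensorProduct.lmul' A x)) = 0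
  rw [map_sub, Algebra.TensorProduct.algebraMap_apply, Algebra.TensorProduct.lmul'_apply_tmul]
  simp

theorem exists_lin (hz : Submodule.span B (Set.range fun i => KaehlerDifferential.D A B (z i)) = ⊤)
    (w : B ⊗[A] B) (hw : w ∈ II) :
    ∃ c : ι → B, w - ∑ i, c i • zeta A z i ∈ II ^ 2 := by
  have h1 : KaehlerDifferential.fromIdeal A B ⟨w, hw⟩ ∈
      Submodule.span B (Set.range fun i => KaehlerDifferential.D A B (z i)) := by
    rw [hz]; trivial
  obtain ⟨c, hc⟩ := (Submodule.mem_span_range_iff_exists_fun B).mp h1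
  refine ⟨c, ?_⟩
  have h2 : ∑ i, c i • KaehlerDifferential.D A B (z i) =
      KaehlerDifferential.fromIdeal A B (∑ i, c i • (⟨zeta A z i, zeta_mem z i⟩ : ↥(II))) := by
    rw [map_sum]
    apply Finset.sum_congr rfl
    intro i _
    rw [LinearMap.map_smul_of_tower]
    rfl
  rw [h2, eq_comm] at hc
  have hc' := (Ideal.toCotangent_eq (I := II)).mp hc
  convert hc' using 2
  rw [Submodule.coe_sum]
  apply Finset.sum_congr rfl
  intro i _
  rfl

/-- every element of `B ⊗ B` is a polynomial in the `ζ_i` modulo `I^n`. -/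
theorem exists_adjoin_sub_mem
    (hz : Submodule.span B (Set.range fun i => KaehlerDifferential.D A B (z i)) = ⊤) :
    ∀ (n : ℕ) (x : B ⊗[A] B), ∃ s ∈ Algebra.adjoin B (Set.range (zeta A z)),
      x - s ∈ II ^ n := by
  intro n
  induction n with
  | zero => intro x; exact ⟨0, Subalgebra.zero_mem _, by rw [pow_zero, Ideal.one_eq_top]; trivial⟩
  | succ n ih =>
    have hQ : ∀ y ∈ II ^ n, ∃ s ∈ Algebra.adjoin B (Set.range (zeta A z)),
        y - s ∈ II ^ (n + 1) := by
      cases n with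
      | zero =>
        intro y _
        refine ⟨algebraMap B (B ⊗[A] B) (Algebra.TensorProduct.lmul' A y), Subalgebra.algebraMap_mem _ _, ?_⟩
        rw [zero_add, pow_one]; exact sub_algebraMap_mem y
      | succ n' =>
        intro y hy
        rw [pow_succ] at hy
        induction hy using Submodule.mul_induction_on' with
        | mem_mul_mem a ha w hw =>
          obtain ⟨sa, hsa, hsa'⟩ := ih a
          obtain ⟨c, hc⟩ := exists_lin z hz w hw
          have hσ : ∑ i, c i • zeta A z i ∈ Algebra.adjoin B (Set.range (zeta A z)) :=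
            Subalgebra.sum_mem _ (fun i _ => Subalgebra.smul_mem _
              (Algebra.subset_adjoin (Set.mem_range_self i)) _)
          have hσI : ∑ i, c i • zeta A z i ∈ II :=
            Ideal.sum_mem _ (fun i _ => by
              rw [Algebra.smul_def]; exact Ideal.mul_mem_left _ _ (zeta_mem z i))
          refine ⟨sa * ∑ i, c i • zeta A z i, Subalgebra.mul_mem _ hsa hσ, ?_⟩
          have : a * w - sa * ∑ i, c i • zeta A z i =
              a * (w - ∑ i, c i • zeta A z i) + (a - sa) * ∑ i, c i • zeta A z i := by ring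
          rw [this]
          apply Ideal.add_mem
          · have := Ideal.mul_mem_mul ha hc
            rw [← pow_add] at this
            exact this
          · have := Ideal.mul_mem_mul hsa' hσI
            rw [← pow_succ] at this
            exact this
        | add y₁ _ y₂ _ h₁ h₂ =>
          obtain ⟨s₁, hs₁, hs₁'⟩ := h₁
          obtain ⟨s₂, hs₂, hs₂'⟩ := h₂
          refine ⟨s₁ + s₂, Subalgebra.add_mem _ hs₁ hs₂, ?_⟩
          have : y₁ + y₂ - (s₁ + s₂) = (y₁ - s₁) + (y₂ - s₂) := by ring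
          rw [this]; exact Ideal.add_mem _ hs₁' hs₂'
    intro x
    obtain ⟨s₀, hs₀, hs₀'⟩ := ih x
    obtain ⟨s, hs, hs'⟩ := hQ _ hs₀'
    refine ⟨s₀ + s, Subalgebra.add_mem _ hs₀ hs, ?_⟩
    have : x - (s₀ + s) = x - s₀ - s := by ring
    rw [this]; exact hs'

end span

section basis

variable {A B : Type u} [CommRing A] [CommRing B] [Algebra A B]
variable {ι : Type*} [Fintype ι] (z : ι → B)

local notation "II" => KaehlerDifferential.ideal A B

/-- the functional on `P^m` induced by an operator of order `≤ m`. -/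
noncomputable def PFun (m : ℕ) (D : B →ₗ[A] B) (hD : IsDiffOpLE A B B B m D) :
    P m A B →ₗ[B] B :=
  (Submodule.liftQ ((II ^ (m + 1)).restrictScalars B) (linB D) (by
      intro x hx
      rw [LinearMap.mem_ker, linB_apply]
      exact (isDiffOpLE_iff_linearize m D).mp hD _ hx)) ∘ₗ
    (Submodule.Quotient.restrictScalarsEquiv B (II ^ (m + 1))).symm.toLinearMap

theorem PFun_mk (m : ℕ) (D : B →ₗ[A] B) (hD : IsDiffOpLE A B B B m D) (x : B ⊗[A] B) :
    PFun m D hD (Ideal.Quotient.mk _ x) = linearize A B B B D x := by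
  rw [← linB_apply]; rfl

/-- the monomials `ζ^p` in `P^m`. -/
noncomputable def mono (m : ℕ) (p : ι → ℕ) : P m A B :=
  ∏ i, (dn m A B (z i) - algebraMap B (P m A B) (z i)) ^ (p i)

theorem mono_eq_mk (m : ℕ) (p : ι → ℕ) :
    mono z m p = Ideal.Quotient.mk (II ^ (m + 1)) (∏ i, zeta A z i ^ p i) := by
  rw [mono, map_prod]
  apply Finset.prod_congr rfl
  intro i _
  rw [map_pow]
  rfl

theorem prod_zeta_mem (p : ι → ℕ) : ∏ i, zeta A z i ^ p i ∈ II ^ (∑ i, p i) := by
  rw [← Finset.prod_pow_eq_pow_sum]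
  exact Ideal.prod_mem_prod (fun i _ => Ideal.pow_mem_pow (zeta_mem z i) _)

theorem mk_adjoin_mem_span (m : ℕ) (s : B ⊗[A] B)
    (hs : s ∈ Algebra.adjoin B (Set.range (zeta A z))) :
    Ideal.Quotient.mk (II ^ (m + 1)) s ∈
      Submodule.span B (Set.range fun p : {p : ι → ℕ // ∑ i, p i ≤ m} => mono (A := A) z m p.1) := by
  rw [Algebra.adjoin_range_eq_range_aeval] at hs
  obtain ⟨f, rfl⟩ := hs
  change Ideal.Quotient.mk (II ^ (m + 1)) (MvPolynomial.aeval (zeta A z) f) ∈ _
  rw [MvPolynomial.aeval_def, MvPolynomial.eval₂_eq', map_sum]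
  apply Submodule.sum_mem
  intro d _
  have h1 : Ideal.Quotient.mk (II ^ (m + 1))
      (algebraMap B (B ⊗[A] B) (MvPolynomial.coeff d f) * ∏ i, zeta A z i ^ d i) =
      MvPolynomial.coeff d f • mono z m (⇑d) := by
    rw [mono_eq_mk, ← Algebra.smul_def]
    rfl
  rw [h1]
  apply Submodule.smul_mem
  by_cases hd : ∑ i, d i ≤ m
  · exact Submodule.subset_span ⟨⟨⇑d, hd⟩, rfl⟩
  · rw [mono_eq_mk, Ideal.Quotient.eq_zero_iff_mem.mpr]
    · exact Submodule.zero_mem _
    · exact Ideal.pow_le_pow_right (by omega) (prod_zeta_mem z ⇑d)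

theorem span_mono (hz : Submodule.span B (Set.range fun i => KaehlerDifferential.D A B (z i)) = ⊤)
    (m : ℕ) :
    ⊤ ≤ Submodule.span B (Set.range fun p : {p : ι → ℕ // ∑ i, p i ≤ m} => mono (A := A) z m p.1) := by
  rintro x -
  obtain ⟨x, rfl⟩ := Ideal.Quotient.mk_surjective x
  obtain ⟨s, hs, hs'⟩ := exists_adjoin_sub_mem z hz (m + 1) x
  rw [(Ideal.Quotient.eq.mpr hs' : Ideal.Quotient.mk (II ^ (m + 1)) x = Ideal.Quotient.mk _ s)]
  exact mk_adjoin_mem_span z m s hs

variable [DecidableEq ι]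
variable (hz : Submodule.span B (Set.range fun i => KaehlerDifferential.D A B (z i)) = ⊤)
  (Dp : (ι → ℕ) → (B →ₗ[A] B)) (hD : ∀ p, ∃ k : ℕ, IsDiffOpLE A B B B k (Dp p))
  (hDz : ∀ p q : ι → ℕ, Dp p (∏ i, z i ^ q i) = val z q p)

include hz hD hDz in
theorem linearIndependent_mono (m : ℕ) :
    LinearIndependent B (fun p : {p : ι → ℕ // ∑ i, p i ≤ m} => mono (A := A) z m p.1) := by
  classical
  haveI : Fintype {p : ι → ℕ // ∑ i, p i ≤ m} := Fintype.ofFinite _
  rw [Fintype.linearIndependent_iff]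
  intro g hg q
  have hord : IsDiffOpLE A B B B m (Dp q.1) :=
    IsDiffOpLE_mono q.2 (isDiffOpLE_Dp z hz Dp hD hDz _ q.1 rfl)
  have h1 := congrArg (PFun m (Dp q.1) hord) hg
  rw [map_sum, map_zero] at h1
  have h2 : ∀ p : {p : ι → ℕ // ∑ i, p i ≤ m},
      PFun m (Dp q.1) hord (g p • mono z m p.1) = g p * if q.1 = p.1 then 1 else 0 := by
    intro p
    rw [map_smul, smul_eq_mul, mono_eq_mk, PFun_mk]
    congr 1
    exact coef_Dp z hz Dp hD hDz _ q.1 p.1 rfl
  simp only [h2] at h1
  rw [Finset.sum_eq_single q] at h1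
  · simpa using h1
  · intro p _ hpq
    rw [if_neg (fun h => hpq (Subtype.ext h.symm)), mul_zero]
  · intro h; exact absurd (Finset.mem_univ q) h

include hz hD hDz in
theorem exists_basis_P (m : ℕ) :
    ∃ b : Module.Basis {p : ι → ℕ // ∑ i, p i ≤ m} B (P m A B),
      ∀ p, b p = ∏ i, (dn m A B (z i) - algebraMap B (P m A B) (z i)) ^ (p.1 i) :=
  ⟨Module.Basis.mk (linearIndependent_mono z hz Dp hD hDz m) (span_mono z hz m),
    fun p => by rw [Module.Basis.mk_apply]; rfl⟩

end basis

end Groth.Agent.Lib.Helper9.DiffPBasis
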