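import Mathlib
import Groth.Prelude.Def_PP16
import Groth.Prelude.Def_CAlgX

/-!
# Base change of adic formal smoothness of the diagonal (helper9)
-/

set_option autoImplicit false

namespace Groth.Agent.Lib.Helper9.DiffSmoothBC

open TensorProduct

universe u

variable (A B A' B' : Type u) [CommRing A] [CommRing B] [Algebra A B]
  [CommRing A'] [CommRing B'] [Algebra A' B'] [Algebra A A'] [Algebra B B'] [Algebra A B']
  [IsScalarTower A A' B'] [IsScalarTower A B B'] [Algebra.IsPushout A B A' B']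

set_option maxHeartbeats 800000 in
theorem isAdic_baseChange
    (h : CAlgX.IsAdicFormallySmooth B (B ⊗[A] B) (KaehlerDifferential.ideal A B)) :
    CAlgX.IsAdicFormallySmooth B' (B' ⊗[A'] B') (KaehlerDifferential.ideal A' B') := by
  intro C _ _ J hJ ψ hψ
  obtain ⟨k, hk⟩ := hψ
  letI : Algebra A' C := ((algebraMap B' C).comp (algebraMap A' B')).toAlgebra
  haveI : IsScalarTower A' B' C := IsScalarTower.of_algebraMap_eq' rfl
  letI : Algebra B C := ((algebraMap B' C).comp (algebraMap B B')).toAlgebra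
  haveI : IsScalarTower B B' C := IsScalarTower.of_algebraMap_eq' rfl
  letI : Algebra A C := ((algebraMap B' C).comp (algebraMap A B')).toAlgebra
  haveI : IsScalarTower A B' C := IsScalarTower.of_algebraMap_eq' rfl
  haveI : IsScalarTower A B C := IsScalarTower.of_algebraMap_eq (fun a => by
    change algebraMap B' C (algebraMap A B' a) = algebraMap B' C (algebraMap B B' (algebraMap A B a))
    rw [← IsScalarTower.algebraMap_apply A B B'])
  haveI : IsScalarTower A A' C := IsScalarTower.of_algebraMap_eq (fun a => by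
    change algebraMap B' C (algebraMap A B' a) =
      algebraMap B' C (algebraMap A' B' (algebraMap A A' a))
    rw [← IsScalarTower.algebraMap_apply A A' B'])
  -- the restriction of ψ to the second factor `B`
  let g₀ : B →ₐ[A] C ⧸ J :=
    { toRingHom := ψ.toRingHom.comp
        ((Algebra.TensorProduct.includeRight : B' →ₐ[A'] B' ⊗[A'] B').toRingHom.comp
          (algebraMap B B'))
      commutes' := fun a => by
        change ψ ((1 : B') ⊗ₜ[A'] (algebraMap B B' (algebraMap A B a))) = _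
        rw [← IsScalarTower.algebraMap_apply A B B', IsScalarTower.algebraMap_apply A A' B',
          Algebra.algebraMap_eq_smul_one (algebraMap A A' a), TensorProduct.tmul_smul,
          ← Algebra.TensorProduct.one_def, ← Algebra.algebraMap_eq_smul_one,
          IsScalarTower.algebraMap_apply A' B' (B' ⊗[A'] B'), AlgHom.commutes,
          ← IsScalarTower.algebraMap_apply A A' B', ← IsScalarTower.algebraMap_apply A B' (C ⧸ J)] }
  have hg₀ : ∀ b : B, g₀ b = ψ ((1 : B') ⊗ₜ[A'] algebraMap B B' b) := fun b => rfl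
  let ψ₀ : B ⊗[A] B →ₐ[B] C ⧸ J :=
    Algebra.TensorProduct.lift (Algebra.ofId B (C ⧸ J)) g₀ (fun _ _ => Commute.all _ _)
  have hψ₀t : ∀ x y : B, ψ₀ (x ⊗ₜ[A] y) =
      ψ (algebraMap B B' x ⊗ₜ[A'] algebraMap B B' y) := by
    intro x y
    change Algebra.TensorProduct.lift (Algebra.ofId B (C ⧸ J)) g₀ (fun _ _ => Commute.all _ _)
      (x ⊗ₜ[A] y) = _
    rw [Algebra.TensorProduct.lift_tmul, hg₀, Algebra.ofId_apply,
      IsScalarTower.algebraMap_apply B B' (C ⧸ J), ← AlgHom.commutes ψ, ← map_mul,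
      Algebra.TensorProduct.algebraMap_apply, Algebra.TensorProduct.tmul_mul_tmul,
      Algebra.algebraMap_self_apply, mul_one, one_mul]
  have hmap : Ideal.map ψ₀ (KaehlerDifferential.ideal A B) ≤
      Ideal.map ψ (KaehlerDifferential.ideal A' B') := by
    rw [← KaehlerDifferential.span_range_eq_ideal, Ideal.map_span, Ideal.span_le]
    rintro _ ⟨_, ⟨b, rfl⟩, rfl⟩
    have h1 : ψ₀ ((1 : B) ⊗ₜ[A] b - b ⊗ₜ[A] (1 : B)) =
        ψ ((1 : B') ⊗ₜ[A'] algebraMap B B' b - algebraMap B B' b ⊗ₜ[A'] (1 : B')) := by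
      rw [map_sub, map_sub, hψ₀t, hψ₀t, map_one]
    change ψ₀ ((1 : B) ⊗ₜ[A] b - b ⊗ₜ[A] (1 : B)) ∈ _
    rw [h1]
    exact Ideal.mem_map_of_mem ψ (KaehlerDifferential.one_smul_sub_smul_one_mem_ideal A' _)
  have hψ₀ : ∀ x ∈ KaehlerDifferential.ideal A B ^ k, ψ₀ x = 0 := by
    intro x hx
    have h1 : ψ₀ x ∈ Ideal.map ψ₀ (KaehlerDifferential.ideal A B ^ k) :=
      Ideal.mem_map_of_mem ψ₀ hx
    rw [Ideal.map_pow] at h1
    have h2 := Ideal.pow_right_mono hmap k h1
    rw [← Ideal.map_pow] at h2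
    have h3 : Ideal.map ψ (KaehlerDifferential.ideal A' B' ^ k) = ⊥ := by
      rw [eq_bot_iff, Ideal.map_le_iff_le_comap]
      intro y hy
      exact hk y hy
    rw [h3] at h2
    exact h2
  obtain ⟨χ₀, hχ₀⟩ := h C J hJ ψ₀ ⟨k, hψ₀⟩
  let f : B →ₐ[A] C := (χ₀.restrictScalars A).comp
    (Algebra.TensorProduct.includeRight : B →ₐ[A] B ⊗[A] B)
  let gA' : A' →ₐ[A] C := IsScalarTower.toAlgHom A A' C
  let g : B' →ₐ[A] C := Algebra.pushoutDesc B' f gA' (fun _ _ => mul_comm _ _)
  have hgB : ∀ b : B, g (algebraMap B B' b) = χ₀ ((1 : B) ⊗ₜ[A] b) := fun b =>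
    Algebra.pushoutDesc_left B' f gA' _ b
  have hgA' : ∀ a : A', g (algebraMap A' B' a) = algebraMap A' C a := fun a =>
    Algebra.pushoutDesc_right B' f gA' _ a
  let g' : B' →ₐ[A'] C := { g.toRingHom with commutes' := hgA' }
  have hg' : ∀ y : B', g' y = g y := fun y => rfl
  let χ : B' ⊗[A'] B' →ₐ[B'] C :=
    Algebra.TensorProduct.lift (Algebra.ofId B' C) g' (fun _ _ => Commute.all _ _)
  refine ⟨χ, ?_⟩
  -- compare on the second factor
  have key : ((Ideal.Quotient.mkₐ A J).comp g : B' →ₐ[A] C ⧸ J) =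
      ((ψ.restrictScalars A).comp
        ((Algebra.TensorProduct.includeRight : B' →ₐ[A'] B' ⊗[A'] B').restrictScalars A)) := by
    apply Algebra.IsPushout.algHom_ext (R := A) (S := B) (R' := A') (S' := B')
    · ext a
      change Ideal.Quotient.mk J (g (algebraMap A' B' a)) =
        ψ ((1 : B') ⊗ₜ[A'] algebraMap A' B' a)
      rw [hgA', Algebra.algebraMap_eq_smul_one (R := A') (A := B') a, TensorProduct.tmul_smul,
        ← Algebra.TensorProduct.one_def, ← Algebra.algebraMap_eq_smul_one,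
        IsScalarTower.algebraMap_apply A' B' (B' ⊗[A'] B'), AlgHom.commutes,
        ← IsScalarTower.algebraMap_apply A' B' (C ⧸ J)]
      rfl
    · ext b
      change Ideal.Quotient.mk J (g (algebraMap B B' b)) =
        ψ ((1 : B') ⊗ₜ[A'] algebraMap B B' b)
      rw [hgB]
      have := AlgHom.congr_fun hχ₀ ((1 : B) ⊗ₜ[A] b)
      change Ideal.Quotient.mk J (χ₀ ((1 : B) ⊗ₜ[A] b)) = ψ₀ ((1 : B) ⊗ₜ[A] b) at this
      rw [this, hψ₀t, map_one]
  apply Algebra.TensorProduct.ext'
  intro x y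
  change Ideal.Quotient.mk J (Algebra.TensorProduct.lift (Algebra.ofId B' C) g'
    (fun _ _ => Commute.all _ _) (x ⊗ₜ[A'] y)) = ψ (x ⊗ₜ[A'] y)
  rw [Algebra.TensorProduct.lift_tmul, map_mul, hg']
  have h1 : Ideal.Quotient.mk J (g y) = ψ ((1 : B') ⊗ₜ[A'] y) := AlgHom.congr_fun key y
  rw [h1, Algebra.ofId_apply]
  have h2 : Ideal.Quotient.mk J (algebraMap B' C x) = ψ (x ⊗ₜ[A'] (1 : B')) := by
    rw [← Ideal.Quotient.algebraMap_eq, ← IsScalarTower.algebraMap_apply B' C (C ⧸ J),
      ← AlgHom.commutes ψ, Algebra.TensorProduct.algebraMap_apply, Algebra.algebraMap_self_apply]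
  rw [h2, ← map_mul, Algebra.TensorProduct.tmul_mul_tmul, mul_one, one_mul]

end Groth.Agent.Lib.Helper9.DiffSmoothBC
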