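import Mathlib
import Groth.Prelude.Def_DiffOp
import Groth.Prelude.Def_PP16
import Groth.Agent.Lib.Helper9.DiffOpBasis
import Groth.Agent.Lib.Helper9.DiffOpDual

/-!
# Characteristic zero: free differentials give differential smoothness (EGA IV 16.12.2) (helper9)
-/

set_option autoImplicit false
set_option linter.style.haveILetI false

namespace Groth.Agent.Lib.Helper9.DiffSmoothChar0

open Diff16 PP16 Groth.Agent.Lib.Helper14 Groth.Agent.Lib.Helper13 Groth.Agent.Lib.Helper13.SymGrB
open Groth.Agent.Lib.Helper9.DiffOpBasis Groth.Agent.Lib.Helper9.DiffOpDual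
open Groth.Agent.Lib.Helper9.DiffSmoothFS Groth.Agent.Lib.Helper9.DiffSmoothAdic
open scoped TensorProduct

universe u

section leibniz

variable {A B : Type u} [CommRing A] [CommRing B] [Algebra A B]
variable {K : Type*} [DecidableEq K] (b : K → B)

/-- `ζ_b = 1 ⊗ b - b ⊗ 1`. -/
noncomputable def ze (x : B) : B ⊗[A] B := (1 : B) ⊗ₜ[A] x - x ⊗ₜ[A] (1 : B)

theorem ze_mem (x : B) : ze (A := A) x ∈ KaehlerDifferential.ideal A B :=
  KaehlerDifferential.one_smul_sub_smul_one_mem_ideal A x

theorem commutator_deriv_comp (δ : Derivation A B B) (E : B →ₗ[A] B) (a : B) :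
    commutator A B B B (δ.toLinearMap ∘ₗ E) a =
      δ.toLinearMap ∘ₗ commutator A B B B E a + δ a • E := by
  ext m
  simp only [commutator_apply, LinearMap.comp_apply, LinearMap.add_apply, LinearMap.smul_apply,
    smul_eq_mul, Derivation.coeFn_coe, map_sub, Derivation.leibniz]
  ring

theorem prod_ze_mem (s : Finset K) :
    ∏ k ∈ s, ze (A := A) (b k) ∈ KaehlerDifferential.ideal A B ^ s.card := by
  have := Ideal.prod_mem_prod (s := s) (I := fun _ => KaehlerDifferential.ideal A B)
    (x := fun k => ze (A := A) (b k)) (fun k _ => ze_mem (b k))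
  rwa [Finset.prod_const] at this

/-- Leibniz rule for the linearisation of `δ ∘ E`. -/
theorem linearize_deriv_comp (δ : Derivation A B B) (s : Finset K) :
    ∀ (E : B →ₗ[A] B) (m : B),
      linearize A B B B (δ.toLinearMap ∘ₗ E) ((∏ k ∈ s, ze (b k)) * ((1 : B) ⊗ₜ[A] m)) =
        δ (linearize A B B B E ((∏ k ∈ s, ze (b k)) * ((1 : B) ⊗ₜ[A] m))) +
          ∑ j ∈ s, δ (b j) *
            linearize A B B B E ((∏ k ∈ s.erase j, ze (b k)) * ((1 : B) ⊗ₜ[A] m)) := by
  induction s using Finset.induction_on with
  | empty =>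
    intro E m
    simp [linearize_tmul]
  | insert a s ha ih =>
    intro E m
    have hmul : ∀ (t : Finset K), a ∉ t → ∀ (X : B →ₗ[A] B),
        linearize A B B B X ((∏ k ∈ insert a t, ze (b k)) * ((1 : B) ⊗ₜ[A] m)) =
          linearize A B B B (commutator A B B B X (b a))
            ((∏ k ∈ t, ze (b k)) * ((1 : B) ⊗ₜ[A] m)) := by
      intro t hat X
      rw [Finset.prod_insert hat, ← linearize_mul_gen]
      congr 1
      rw [ze]; ring
    rw [hmul s ha, commutator_deriv_comp, linearize_add', linearize_smul', ih, ← hmul s ha E,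
      Finset.sum_insert ha, Finset.erase_insert ha]
    have hsum : ∑ j ∈ s, δ (b j) * linearize A B B B (commutator A B B B E (b a))
          ((∏ k ∈ s.erase j, ze (b k)) * ((1 : B) ⊗ₜ[A] m)) =
        ∑ j ∈ s, δ (b j) * linearize A B B B E
          ((∏ k ∈ (insert a s).erase j, ze (b k)) * ((1 : B) ⊗ₜ[A] m)) := by
      apply Finset.sum_congr rfl
      intro j hj
      have hja : a ≠ j := fun h => ha (h ▸ hj)
      rw [Finset.erase_insert_of_ne hja, hmul (s.erase j) (fun h => ha (Finset.mem_of_mem_erase h))]
    rw [hsum]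
    ring

theorem linearize_deriv_comp_of_order (δ : Derivation A B B) (s : Finset K) (n : ℕ)
    (hs : s.card = n + 1) (E : B →ₗ[A] B) (hE : IsDiffOpLE A B B B n E) :
    linearize A B B B (δ.toLinearMap ∘ₗ E) (∏ k ∈ s, ze (b k)) =
      ∑ j ∈ s, δ (b j) * linearize A B B B E (∏ k ∈ s.erase j, ze (b k)) := by
  have h := linearize_deriv_comp b δ s E 1
  rw [← Algebra.TensorProduct.one_def, mul_one] at h
  rw [h]
  have h0 : linearize A B B B E (∏ k ∈ s, ze (b k)) = 0 := by
    apply (isDiffOpLE_iff_linearize n E).mp hE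
    rw [← hs]; exact prod_ze_mem b s
  rw [h0, map_zero, zero_add]
  apply Finset.sum_congr rfl
  intro j _
  rw [mul_one]

theorem isDiffOpLE_deriv (δ : Derivation A B B) : IsDiffOpLE A B B B 1 δ.toLinearMap := by
  rw [isDiffOpLE_succ_iff]
  intro x c m
  simp only [commutator_apply, smul_eq_mul, Derivation.coeFn_coe, Derivation.leibniz]
  ring

theorem isDiffOpLE_deriv_pow (δ : Derivation A B B) (n : ℕ) :
    IsDiffOpLE A B B B n (δ.toLinearMap ^ n) := by
  induction n with
  | zero =>
    intro c m
    simp
  | succ n ih =>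
    rw [pow_succ', Module.End.mul_eq_comp]
    exact IsDiffOpLE_comp ih (isDiffOpLE_deriv δ)

theorem linearize_deriv_pow (δ : Derivation A B B) :
    ∀ (n : ℕ) (s : Finset K), s.card = n →
      linearize A B B B (δ.toLinearMap ^ n) (∏ k ∈ s, ze (b k)) =
        (n.factorial : B) * ∏ k ∈ s, δ (b k) := by
  intro n
  induction n with
  | zero =>
    intro s hs
    rw [Finset.card_eq_zero.mp hs]
    simp [Algebra.TensorProduct.one_def, linearize_tmul]
  | succ n ih =>
    intro s hs
    rw [pow_succ', Module.End.mul_eq_comp,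
      linearize_deriv_comp_of_order b δ s n hs _ (isDiffOpLE_deriv_pow δ n)]
    have : ∀ j ∈ s, δ (b j) * linearize A B B B (δ.toLinearMap ^ n) (∏ k ∈ s.erase j, ze (b k)) =
        (n.factorial : B) * ∏ k ∈ s, δ (b k) := by
      intro j hj
      rw [ih (s.erase j) (by rw [Finset.card_erase_of_mem hj, hs]; rfl),
        ← Finset.mul_prod_erase s (fun k => δ (b k)) hj]
      ring
    rw [Finset.sum_congr rfl this, Finset.sum_const, hs, Nat.factorial_succ, nsmul_eq_mul]
    push_cast
    ring

end leibniz

section ev

variable {B : Type u} [CommRing B] {M : Type*} [AddCommGroup M] [Module B M]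
variable (κ : Type u) [Fintype κ]

/-- the multilinear map `m ↦ ∏ u (m k)`. -/
noncomputable def evMulti (u : M →ₗ[B] B) : MultilinearMap B (fun _ : κ => M) B :=
  (MultilinearMap.mkPiAlgebra B κ B).compLinearMap (fun _ => u)

theorem evMulti_apply (u : M →ₗ[B] B) (m : κ → M) : evMulti κ u m = ∏ k, u (m k) := by
  simp [evMulti]

/-- evaluation `Sym^κ M → B`, `⨂ m_k ↦ ∏ u (m_k)`. -/
noncomputable def ev (u : M →ₗ[B] B) : SymmetricPower B κ M →ₗ[B] B :=
  SymPow.lift (evMulti κ u) (fun e m => by
    rw [evMulti_apply, evMulti_apply]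
    exact Fintype.prod_equiv e _ _ (fun _ => rfl))

theorem ev_tprod (u : M →ₗ[B] B) (m : κ → M) :
    ev κ u (SymmetricPower.tprod B m) = ∏ k, u (m k) := by
  rw [ev, SymPow.lift_tprod, evMulti_apply]

end ev

section symbol

variable {A B : Type u} [CommRing A] [CommRing B] [Algebra A B]
variable (κ : Type u) [Fintype κ]

theorem grFun_phi (u : KaehlerDifferential A B →ₗ[B] B) :
    (grFun (Fintype.card κ)
        ((u.compDer (KaehlerDifferential.D A B)).toLinearMap ^ Fintype.card κ)
        (isDiffOpLE_deriv_pow _ _)).comp (phi A B κ) =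
      ((Fintype.card κ).factorial : B) • ev κ u := by
  classical
  apply SymPow.hom_ext
  have := multilinear_ext_of_span (R := B) (ι := κ)
    (Set.range (KaehlerDifferential.D A B)) (KaehlerDifferential.span_range_derivation A B)
    (((grFun (Fintype.card κ)
        ((u.compDer (KaehlerDifferential.D A B)).toLinearMap ^ Fintype.card κ)
        (isDiffOpLE_deriv_pow _ _)).comp (phi A B κ)).compMultilinearMap (SymmetricPower.tprod B))
    ((((Fintype.card κ).factorial : B) • ev κ u).compMultilinearMap (SymmetricPower.tprod B)) (by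
      intro m hm
      choose b hb using hm
      have hm' : m = fun k => KaehlerDifferential.D A B (b k) := funext fun k => (hb k).symm
      rw [hm', LinearMap.compMultilinearMap_apply, LinearMap.compMultilinearMap_apply,
        LinearMap.comp_apply, phi_tprod, LinearMap.smul_apply, ev_tprod, zetaProd, grFun_mk]
      have h := linearize_deriv_pow b (u.compDer (KaehlerDifferential.D A B))
        (Fintype.card κ) Finset.univ (Finset.card_univ)
      change linearize A B B B _ (∏ k, ((1 : B) ⊗ₜ[A] b k - b k ⊗ₜ[A] (1 : B))) = _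
      rw [show (∏ k, ((1 : B) ⊗ₜ[A] b k - b k ⊗ₜ[A] (1 : B))) = ∏ k, ze (A := A) (b k) from rfl, h,
        smul_eq_mul]
      rfl)
  intro m
  exact congrArg (fun F => F m) this

end symbol

section sep

theorem dOf_prod {R : Type*} [CommMonoid R] {I κ : Type*} [Fintype κ] (g : I → R) (f : κ → I) :
    (dOf f).prod (fun i n => g i ^ n) = ∏ k, g (f k) := by
  classical
  rw [dOf, ← Finsupp.prod_finsetSum_index (fun i => pow_zero _) (fun i m n => pow_add _ _ _)]
  apply Finset.prod_congr rfl
  intro k _
  rw [Finsupp.prod_single_index (h := fun i n => g i ^ n) (pow_zero _), pow_one]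

variable {B : Type u} [CommRing B] {M : Type*} [AddCommGroup M] [Module B M]
variable {I : Type*} (ω : Module.Basis I B M)
variable (κ : Type u) [Fintype κ]

theorem span_tprod_basis :
    Submodule.span B (Set.range fun f : κ → I =>
      SymmetricPower.tprod B (fun k => ω (f k))) = ⊤ := by
  set N := Submodule.span B (Set.range fun f : κ → I =>
    SymmetricPower.tprod B (fun k => ω (f k))) with hN
  have h : N.mkQ = 0 := by
    apply SymPow.hom_ext
    have := multilinear_ext_of_span (R := B) (ι := κ) (Set.range ω) ω.span_eq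
      (N.mkQ.compMultilinearMap (SymmetricPower.tprod B))
      ((0 : SymmetricPower B κ M →ₗ[B] SymmetricPower B κ M ⧸ N).compMultilinearMap
        (SymmetricPower.tprod B)) (by
      intro m hm
      choose f hf using hm
      have hm' : m = fun k => ω (f k) := funext fun k => (hf k).symm
      rw [hm', LinearMap.compMultilinearMap_apply, LinearMap.compMultilinearMap_apply,
        LinearMap.zero_apply, Submodule.mkQ_apply, Submodule.Quotient.mk_eq_zero]
      exact Submodule.subset_span ⟨f, rfl⟩)
    intro m
    exact congrArg (fun F => F m) this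
  rw [← Submodule.ker_mkQ N, h, LinearMap.ker_zero]

variable [Algebra ℚ B]

include ω in
/-- over a `ℚ`-algebra, the evaluations `ev u` jointly separate the points of a symmetric power of
a free module. -/
theorem eq_zero_of_ev (w : SymmetricPower B κ M) (h : ∀ u : M →ₗ[B] B, ev κ u w = 0) : w = 0 := by
  classical
  have hw : w ∈ Submodule.span B (Set.range fun f : κ → I =>
      SymmetricPower.tprod B (fun k => ω (f k))) := by
    rw [span_tprod_basis ω κ]; trivial
  obtain ⟨c, rfl⟩ := (Finsupp.mem_span_range_iff_exists_finsupp).mp hw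
  have h1 : ∀ t : I → ℚ, ∑ f ∈ c.support, (∏ k, t (f k)) • c f = 0 := by
    intro t
    have := h (ω.constr B (fun i => algebraMap ℚ B (t i)))
    rw [Finsupp.sum, map_sum] at this
    simp only [map_smul, ev_tprod, Module.Basis.constr_basis, smul_eq_mul] at this
    rw [← this]
    apply Finset.sum_congr rfl
    intro f _
    rw [← map_prod, Algebra.smul_def, mul_comm]
  have h2 : ∀ p : I →₀ ℕ, ∑ f ∈ c.support with dOf f = p, c f = 0 := by
    intro p
    rw [← Module.forall_dual_apply_eq_zero_iff ℚ]
    intro lam
    let Q : MvPolynomial I ℚ := ∑ f ∈ c.support, MvPolynomial.monomial (dOf f) (lam (c f))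
    have hQ : Q = 0 := by
      apply MvPolynomial.funext
      intro t
      rw [map_zero]
      simp only [Q, map_sum, MvPolynomial.eval_monomial]
      have := congrArg lam (h1 t)
      rw [map_sum, map_zero] at this
      rw [← this]
      apply Finset.sum_congr rfl
      intro f _
      rw [map_smul, smul_eq_mul, mul_comm, dOf_prod]
    have := congrArg (MvPolynomial.coeff p) hQ
    simp only [Q, MvPolynomial.coeff_sum, MvPolynomial.coeff_monomial,
      MvPolynomial.coeff_zero] at this
    rw [map_sum, Finset.sum_filter]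
    exact this
  rw [Finsupp.sum, ← Finset.sum_fiberwise_of_maps_to (t := c.support.image dOf) (g := dOf)
    (fun f hf => Finset.mem_image_of_mem _ hf)]
  apply Finset.sum_eq_zero
  intro p _
  by_cases hne : (c.support.filter (fun f => dOf f = p)).Nonempty
  · obtain ⟨f₀, hf₀⟩ := hne
    have hcl : ∀ f ∈ c.support.filter (fun f => dOf f = p),
        c f • SymmetricPower.tprod B (fun k => ω (f k)) =
          c f • SymmetricPower.tprod B (fun k => ω (f₀ k)) := by
      intro f hf
      have e1 : dOf f₀ = dOf f := by
        rw [(Finset.mem_filter.mp hf₀).2, (Finset.mem_filter.mp hf).2]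
      obtain ⟨e, he⟩ := exists_perm_of_dOf_eq f₀ f e1
      congr 1
      rw [← SymmetricPower.tprod_equiv e (fun k => ω (f₀ k))]
      congr 1; funext k; rw [he]
    rw [Finset.sum_congr rfl hcl, ← Finset.sum_smul, h2 p, zero_smul]
  · rw [Finset.not_nonempty_iff_eq_empty.mp hne, Finset.sum_empty]

end sep

section main

variable (A B : Type u) [CommRing A] [CommRing B] [Algebra A B] [Algebra ℚ B]

theorem phi_injective_of_free (hΩ : Module.Free B (KaehlerDifferential A B))
    (κ : Type u) [Fintype κ] : Function.Injective (phi A B κ) := by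
  rw [injective_iff_map_eq_zero]
  intro w hw
  apply eq_zero_of_ev (Module.Free.chooseBasis B (KaehlerDifferential A B)) κ w
  intro u
  have h := congrArg (fun F => F w) (grFun_phi (A := A) κ u)
  simp only [LinearMap.comp_apply, hw, map_zero, LinearMap.smul_apply, smul_eq_mul] at h
  have hunit : IsUnit ((Fintype.card κ).factorial : B) := by
    have : ((Fintype.card κ).factorial : B) =
        algebraMap ℚ B ((Fintype.card κ).factorial : ℚ) := by simp
    rw [this]
    exact (IsUnit.mk0 _ (Nat.cast_ne_zero.mpr (Nat.factorial_ne_zero _))).map _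
  exact (hunit.mul_right_eq_zero).mp h.symm

theorem isDiffSmooth_of_free (hΩ : Module.Free B (KaehlerDifferential A B)) :
    PP16.IsDiffSmooth A B := by
  refine ⟨Module.Projective.of_free, ?_⟩
  intro κ _
  rcases isEmpty_or_nonempty κ with h | h
  · exact exists_phi_empty A B κ
  · exact ⟨phi A B κ, phi_tprod A B κ, phi_injective_of_free A B hΩ κ, phi_surjective κ⟩

end main

end Groth.Agent.Lib.Helper9.DiffSmoothChar0
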