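import Mathlib
import Groth.Prelude.Def_PP16
import Groth.Prelude.Def_CAlgX
import Groth.Agent.Lib.Helper9.QRegDescent
import Groth.Agent.Lib.Helper9.DiffSmoothAdic
import Groth.Agent.Lib.Helper9.DiffSmoothFS
import Groth.Agent.S4538

/-!
# Faithfully flat descent of differential smoothness (EGA IV 16.10.?) (helper9)

For a pushout square `B' = B ⊗[A] A'` with `A → A'` faithfully flat, the canonical map
`phi : B ⊗[A] B → B' ⊗[A'] B'` is faithfully flat and carries the diagonal ideal to the diagonal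
ideal (`map_ideal`).  Together with `QRegDescent` this gives descent of differential smoothness.
-/

set_option autoImplicit false
set_option linter.style.haveILetI false

namespace Groth.Agent.Lib.Helper9.DiffSmoothDescent

open TensorProduct
open PP16 Groth.Agent.Lib.Helper13 Groth.Agent.Lib.Helper13.SymGrA Groth.Agent.Lib.Helper9.QRegDescent

universe u

theorem descent_of_eq {R R' : Type u} [CommRing R] [CommRing R'] [Algebra R R']
    [Module.FaithfullyFlat R R'] (J : Ideal R) (J' : Ideal R')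
    (hJ : J.map (algebraMap R R') = J')
    (hfin : Module.Finite (R' ⧸ J') J'.Cotangent)
    (hproj : Module.Projective (R' ⧸ J') J'.Cotangent)
    (hinj : ∀ (ι : Type u) [Fintype ι] [Nonempty ι], Function.Injective (canon J' ι)) :
    Module.Finite (R ⧸ J) J.Cotangent ∧ Module.Projective (R ⧸ J) J.Cotangent ∧
      ∀ (ι : Type u) [Fintype ι] [Nonempty ι], Function.Injective (canon J ι) := by
  subst hJ
  haveI := hfin
  haveI := hproj
  obtain ⟨h1, h2⟩ := finite_projective_cotangent (R' := R') J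
  haveI := h2
  exact ⟨h1, h2, canon_injective_descent (R' := R') J hinj⟩


variable (A B A' B' : Type u) [CommRing A] [CommRing B] [Algebra A B]
  [CommRing A'] [CommRing B'] [Algebra A' B'] [Algebra A A'] [Algebra B B'] [Algebra A B']
  [IsScalarTower A A' B'] [IsScalarTower A B B'] [Algebra.IsPushout A B A' B']

/-- `B' ⊗[A'] B' ≃ B' ⊗[A] B` -/
noncomputable def e2 : B' ⊗[A'] B' ≃+* B' ⊗[A] B :=
  ((Algebra.TensorProduct.comm A' B' B').toRingEquiv.trans
    (Algebra.IsPushout.cancelBaseChangeAlg A B A' B' B').toRingEquiv).trans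
    (Algebra.TensorProduct.comm A B B').toRingEquiv

theorem e2_symm_tmul (b' : B') (b : B) :
    (e2 A B A' B').symm (b' ⊗ₜ b) = b' ⊗ₜ[A'] algebraMap B B' b := by
  simp [e2]

/-- `(B ⊗[A] B) ⊗[B] B' ≃ B' ⊗[A'] B'` -/
noncomputable def ee : (B ⊗[A] B) ⊗[B] B' ≃+* B' ⊗[A'] B' :=
  ((Algebra.TensorProduct.comm B (B ⊗[A] B) B').toRingEquiv.trans
    (Algebra.TensorProduct.cancelBaseChange A B B B' B).toRingEquiv).trans (e2 A B A' B').symm

theorem ee_tmul (b₁ b₂ : B) (b' : B') :
    ee A B A' B' ((b₁ ⊗ₜ[A] b₂) ⊗ₜ[B] b') = (b₁ • b') ⊗ₜ[A'] algebraMap B B' b₂ := by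
  simp [ee, e2_symm_tmul]

/-- the canonical ring map `B ⊗[A] B → B' ⊗[A'] B'` -/
noncomputable def phi : B ⊗[A] B →+* B' ⊗[A'] B' :=
  (ee A B A' B').toRingHom.comp
    (Algebra.TensorProduct.includeLeft : B ⊗[A] B →ₐ[B] (B ⊗[A] B) ⊗[B] B').toRingHom

theorem phi_tmul (b₁ b₂ : B) :
    phi A B A' B' (b₁ ⊗ₜ[A] b₂) = algebraMap B B' b₁ ⊗ₜ[A'] algebraMap B B' b₂ := by
  change ee A B A' B' ((b₁ ⊗ₜ[A] b₂) ⊗ₜ[B] 1) = _
  rw [ee_tmul, Algebra.smul_def, mul_one]

theorem faithfullyFlat_B [Module.FaithfullyFlat A A'] : Module.FaithfullyFlat B B' :=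
  Module.FaithfullyFlat.of_linearEquiv B (B ⊗[A] A')
    (Algebra.IsPushout.equiv A B A' B').symm.toLinearEquiv

/-- the algebra structure given by `phi` -/
@[instance_reducible]
noncomputable def algPhi : Algebra (B ⊗[A] B) (B' ⊗[A'] B') := (phi A B A' B').toAlgebra

theorem faithfullyFlat_phi [Module.FaithfullyFlat A A'] :
    letI := algPhi A B A' B'
    Module.FaithfullyFlat (B ⊗[A] B) (B' ⊗[A'] B') := by
  letI := algPhi A B A' B'
  haveI := faithfullyFlat_B A B A' B'
  let l : (B' ⊗[A'] B') ≃ₗ[B ⊗[A] B] (B ⊗[A] B) ⊗[B] B' :=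
    { (ee A B A' B').symm.toAddEquiv with
      map_smul' := fun r x => by
        change (ee A B A' B').symm (r • x) = r • (ee A B A' B').symm x
        rw [Algebra.smul_def, map_mul,
          show r • (ee A B A' B').symm x = algebraMap (B ⊗[A] B) ((B ⊗[A] B) ⊗[B] B') r *
            (ee A B A' B').symm x from
            Algebra.smul_def (R := B ⊗[A] B) (A := (B ⊗[A] B) ⊗[B] B') r _]
        congr 1
        change (ee A B A' B').symm (phi A B A' B' r) = _
        rw [RingEquiv.symm_apply_eq]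
        rfl }
  exact Module.FaithfullyFlat.of_linearEquiv (B ⊗[A] B) ((B ⊗[A] B) ⊗[B] B') l

theorem lmul'_phi (x : B ⊗[A] B) :
    Algebra.TensorProduct.lmul' A' (phi A B A' B' x) =
      algebraMap B B' (Algebra.TensorProduct.lmul' A x) := by
  induction x using TensorProduct.induction_on with
  | zero => simp
  | add a b ha hb => rw [map_add, map_add, map_add, map_add, ha, hb]
  | tmul b₁ b₂ =>
    rw [phi_tmul, Algebra.TensorProduct.lmul'_apply_tmul, Algebra.TensorProduct.lmul'_apply_tmul,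
      map_mul]

theorem map_ideal :
    (KaehlerDifferential.ideal A B).map (phi A B A' B') = KaehlerDifferential.ideal A' B' := by
  apply le_antisymm
  · rw [Ideal.map_le_iff_le_comap]
    intro x hx
    rw [Ideal.mem_comap]
    change Algebra.TensorProduct.lmul' A' (phi A B A' B' x) = 0
    have hx' : Algebra.TensorProduct.lmul' A x = 0 := hx
    rw [lmul'_phi, hx', map_zero]
  · rw [← KaehlerDifferential.span_range_eq_ideal A' B', Ideal.span_le]
    rintro _ ⟨b', rfl⟩
    have hB : ∀ b : B, (1 : B') ⊗ₜ[A'] algebraMap B B' b - algebraMap B B' b ⊗ₜ[A'] (1 : B') ∈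
        (KaehlerDifferential.ideal A B).map (phi A B A' B') := by
      intro b
      have := Ideal.mem_map_of_mem (phi A B A' B')
        (KaehlerDifferential.one_smul_sub_smul_one_mem_ideal A b)
      rwa [map_sub, phi_tmul, phi_tmul, map_one] at this
    have h := (Algebra.IsPushout.out : IsBaseChange B
      (IsScalarTower.toAlgHom A A' B').toLinearMap)
    refine h.inductionOn b' (motive := fun b' => (1 : B') ⊗ₜ[A'] b' - b' ⊗ₜ[A'] (1 : B') ∈
      (KaehlerDifferential.ideal A B).map (phi A B A' B')) ?_ ?_ ?_ ?_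
    · simp
    · intro a'
      change (1 : B') ⊗ₜ[A'] (algebraMap A' B' a') - (algebraMap A' B' a') ⊗ₜ[A'] (1 : B') ∈ _
      rw [Algebra.algebraMap_eq_smul_one, TensorProduct.tmul_smul, TensorProduct.smul_tmul',
        sub_self]
      exact zero_mem _
    · intro b n hn
      have e : (1 : B') ⊗ₜ[A'] (b • n) - (b • n) ⊗ₜ[A'] (1 : B') =
          ((1 : B') ⊗ₜ[A'] algebraMap B B' b) * ((1 : B') ⊗ₜ[A'] n - n ⊗ₜ[A'] (1 : B')) +
          ((1 : B') ⊗ₜ[A'] algebraMap B B' b - algebraMap B B' b ⊗ₜ[A'] (1 : B')) *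
            (n ⊗ₜ[A'] (1 : B')) := by
        rw [Algebra.smul_def]
        simp only [mul_sub, sub_mul, Algebra.TensorProduct.tmul_mul_tmul, one_mul, mul_one]
        abel
      rw [e]
      exact Ideal.add_mem _ (Ideal.mul_mem_left _ _ hn) (Ideal.mul_mem_right _ _ (hB b))
    · intro x y hx hy
      have e : (1 : B') ⊗ₜ[A'] (x + y) - (x + y) ⊗ₜ[A'] (1 : B') =
          ((1 : B') ⊗ₜ[A'] x - x ⊗ₜ[A'] (1 : B')) + ((1 : B') ⊗ₜ[A'] y - y ⊗ₜ[A'] (1 : B')) := by
        rw [TensorProduct.tmul_add, TensorProduct.add_tmul]; abel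
      rw [e]
      exact Ideal.add_mem _ hx hy


theorem isDiffSmooth_iff (A B : Type u) [CommRing A] [CommRing B] [Algebra A B] :
    PP16.IsDiffSmooth A B ↔
      Module.Projective ((B ⊗[A] B) ⧸ KaehlerDifferential.ideal A B)
        (KaehlerDifferential.ideal A B).Cotangent ∧
      ∀ (ι : Type u) [Fintype ι] [Nonempty ι],
        Function.Injective (canon (KaehlerDifferential.ideal A B) ι) := by
  rw [Groth.Agent.Lib.Helper9.DiffSmoothAdic.isDiffSmooth_iff_isAdic,
    Groth.Agent.S4538.result (A := B) (B := B ⊗[A] B) (KaehlerDifferential.ideal A B),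
    symGrBijective_iff]

theorem descent [Module.FaithfullyFlat A A']
    (h : PP16.IsDiffSmooth A' B') (hfin : Module.Finite B' (KaehlerDifferential A' B')) :
    PP16.IsDiffSmooth A B ∧ Module.Finite B (KaehlerDifferential A B) := by
  haveI := faithfullyFlat_B A B A' B'
  constructor
  · rw [isDiffSmooth_iff] at h ⊢
    obtain ⟨hproj', hinj'⟩ := h
    letI := algPhi A B A' B'
    haveI := faithfullyFlat_phi A B A' B'
    have hfin1 : Module.Finite (B' ⊗[A'] B') (KaehlerDifferential.ideal A' B').Cotangent :=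
      Module.Finite.of_restrictScalars_finite B' (B' ⊗[A'] B') (KaehlerDifferential A' B')
    have hfin' : Module.Finite ((B' ⊗[A'] B') ⧸ KaehlerDifferential.ideal A' B')
        (KaehlerDifferential.ideal A' B').Cotangent :=
      Module.Finite.of_restrictScalars_finite (B' ⊗[A'] B') _ _
    obtain ⟨-, h2, h3⟩ := descent_of_eq (KaehlerDifferential.ideal A B)
      (KaehlerDifferential.ideal A' B') (map_ideal A B A' B') hfin' hproj' hinj'
    exact ⟨h2, h3⟩
  · haveI : Algebra.IsPushout A A' B B' := Algebra.IsPushout.symm inferInstance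
    let e := KaehlerDifferential.tensorKaehlerEquiv A A' B B'
    haveI : Module.Finite B' (B' ⊗[B] KaehlerDifferential A B) := Module.Finite.equiv e.symm
    exact Module.Finite.of_finite_tensorProduct_of_faithfullyFlat B'

end Groth.Agent.Lib.Helper9.DiffSmoothDescent
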