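import Mathlib
import Groth.Prelude.Def_DiffOp
import Groth.Prelude.Def_CAlgX
import Groth.Agent.Lib.Helper14.DivPow

/-!
# Taylor maps for a differentially smooth algebra with coordinates (helper9)

If `B ⊗[A] B` is formally smooth over `B` for the `I`-adic topology (`I` the kernel of
multiplication) and `d z i` is a basis of `Ω[B⁄A]`, then for every `B`-algebra `S` with a
nilpotent ideal `J` and `t i ∈ J` there is an `A`-algebra map `τ : B → S`, congruent to the
structure map modulo `J`, with `τ (z i) = z i + t i`.  Consequently the operators `D_p` exist.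
-/

set_option autoImplicit false
set_option linter.style.haveILetI false

namespace Groth.Agent.Lib.Helper9.DiffTaylor

open Diff16 Groth.Agent.Lib.Helper14 MvPolynomial
open scoped TensorProduct

universe u

section correction

variable {A B : Type u} [CommRing A] [CommRing B] [Algebra A B]
variable {ι : Type*}

/-- correcting an algebra map by a derivation with prescribed values on coordinates. -/
theorem exists_correction (z : ι → B)
    (bas : Module.Basis ι B (KaehlerDifferential A B))
    (hbas : ∀ i, bas i = KaehlerDifferential.D A B (z i))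
    (C : Type u) [CommRing C] [Algebra A C] (g : B →ₐ[A] C) (J : Ideal C) (hJ : J ^ 2 = ⊥)
    (c : ι → C) (hc : ∀ i, c i - g (z i) ∈ J) :
    ∃ g' : B →ₐ[A] C, (∀ b, g' b - g b ∈ J) ∧ ∀ i, g' (z i) = c i := by
  letI : Algebra B C := g.toRingHom.toAlgebra
  haveI : IsScalarTower A B C := .of_algebraMap_eq (fun a => (g.commutes a).symm)
  have hgb : ∀ b : B, algebraMap B C b = g b := fun _ => rfl
  let φ : KaehlerDifferential A B →ₗ[B] J := bas.constr B (fun i => ⟨c i - g (z i), hc i⟩)
  let d : Derivation A B J := φ.compDer (KaehlerDifferential.D A B)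
  let g' : B →ₐ[A] C := liftOfDerivationToSquareZero J hJ d
  have hg'b : ∀ b : B, g' b = (d b : C) + g b := fun b => rfl
  have hdz : ∀ i, (d (z i) : C) = c i - g (z i) := by
    intro i
    have : d (z i) = φ (KaehlerDifferential.D A B (z i)) := rfl
    rw [this, ← hbas i, Module.Basis.constr_basis]
  refine ⟨g', fun b => ?_, fun i => ?_⟩
  · rw [hg'b, add_sub_cancel_right]; exact (d b).2
  · rw [hg'b, hdz]; ring

end correction

section taylor

variable {A B : Type u} [CommRing A] [CommRing B] [Algebra A B]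
variable {ι : Type*}

theorem exists_taylor_adic
    (hfs : CAlgX.IsAdicFormallySmooth B (B ⊗[A] B) (KaehlerDifferential.ideal A B))
    (z : ι → B) (bas : Module.Basis ι B (KaehlerDifferential A B))
    (hbas : ∀ i, bas i = KaehlerDifferential.D A B (z i)) :
    ∀ (k : ℕ) (S : Type u) [CommRing S] [Algebra A S] [Algebra B S] [IsScalarTower A B S]
      (J : Ideal S), J ^ k = ⊥ → ∀ (t : ι → S), (∀ i, t i ∈ J) →
      ∃ τ : B →ₐ[A] S, (∀ b, τ b - algebraMap B S b ∈ J) ∧
        ∀ i, τ (z i) = algebraMap B S (z i) + t i := by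
  intro k
  induction k with
  | zero =>
    intro S _ _ _ _ J hJ t ht
    rw [pow_zero, Ideal.one_eq_top] at hJ
    haveI : Subsingleton S := by
      apply subsingleton_of_zero_eq_one
      have : (1 : S) ∈ (⊥ : Ideal S) := by rw [← hJ]; trivial
      exact ((Ideal.mem_bot).mp this).symm
    exact ⟨IsScalarTower.toAlgHom A B S, fun b => by
      rw [Subsingleton.elim (_ - _) 0]; exact J.zero_mem, fun i => Subsingleton.elim _ _⟩
  | succ k ih =>
    intro S _ _ _ _ J hJ t ht
    cases k with
    | zero =>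
      rw [zero_add, pow_one] at hJ
      refine ⟨IsScalarTower.toAlgHom A B S, fun b => ?_, fun i => ?_⟩
      · rw [IsScalarTower.coe_toAlgHom', sub_self]; exact J.zero_mem
      · have : t i = 0 := by have := ht i; rwa [hJ, Ideal.mem_bot] at this
        rw [this, add_zero, IsScalarTower.coe_toAlgHom']
    | succ k =>
      -- the square-zero ideal `J' = J ^ (k + 1)`
      set J' : Ideal S := J ^ (k + 1) with hJ'def
      have hJ'sq : J' ^ 2 = ⊥ := by
        rw [hJ'def, ← pow_mul]
        apply le_bot_iff.mp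
        rw [← hJ]
        exact Ideal.pow_le_pow_right (by omega)
      have hJ'J : J' ≤ J := by
        rw [hJ'def]; exact Ideal.pow_le_self (by omega)
      -- the induction hypothesis on `S ⧸ J'`
      obtain ⟨τ', hτ'1, hτ'2⟩ := ih (S ⧸ J') (J.map (Ideal.Quotient.mk J'))
        (by rw [← Ideal.map_pow, ← hJ'def, Ideal.map_quotient_self])
        (fun i => Ideal.Quotient.mk J' (t i)) (fun i => Ideal.mem_map_of_mem _ (ht i))
      -- the map `B ⊗ B → S ⧸ J'`
      let T' : B ⊗[A] B →ₐ[B] S ⧸ J' :=
        Algebra.TensorProduct.lift (Algebra.ofId B (S ⧸ J')) τ' (fun _ _ => Commute.all _ _)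
      have hT'1 : ∀ b c : B, T' (b ⊗ₜ[A] c) = algebraMap B (S ⧸ J') b * τ' c := fun b c => by
        simp [T', Algebra.TensorProduct.lift_tmul, Algebra.ofId_apply]
      have hT'I : (KaehlerDifferential.ideal A B).map T' ≤ J.map (Ideal.Quotient.mk J') := by
        rw [← KaehlerDifferential.span_range_eq_ideal, Ideal.map_span, Ideal.span_le]
        rintro _ ⟨_, ⟨b, rfl⟩, rfl⟩
        change T' _ ∈ _
        rw [map_sub, hT'1, hT'1, map_one, map_one, one_mul, mul_one]
        exact hτ'1 b
      have hT'k : ∀ x ∈ (KaehlerDifferential.ideal A B) ^ (k + 1), T' x = 0 := by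
        intro x hx
        have h1 : T' x ∈ ((KaehlerDifferential.ideal A B) ^ (k + 1)).map T' :=
          Ideal.mem_map_of_mem _ hx
        rw [Ideal.map_pow] at h1
        have h2 := Ideal.pow_right_mono hT'I (k + 1) h1
        rw [← Ideal.map_pow, ← hJ'def, Ideal.map_quotient_self, Ideal.mem_bot] at h2
        exact h2
      obtain ⟨χ, hχ⟩ := hfs S J' hJ'sq T' ⟨k + 1, hT'k⟩
      have hχ' : ∀ x, Ideal.Quotient.mk J' (χ x) = T' x := fun x => AlgHom.congr_fun hχ x
      let g : B →ₐ[A] S := (χ.restrictScalars A).comp Algebra.TensorProduct.includeRight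
      have hg : ∀ b, g b = χ ((1 : B) ⊗ₜ[A] b) := fun _ => rfl
      have hgJ : ∀ b, g b - algebraMap B S b ∈ J := by
        intro b
        have h1 : Ideal.Quotient.mk J' (g b - algebraMap B S b) ∈
            J.map (Ideal.Quotient.mk J') := by
          rw [map_sub, hg, hχ', hT'1, map_one, one_mul]
          exact hτ'1 b
        exact (Ideal.mem_quotient_iff_mem hJ'J).mp h1
      have hgz : ∀ i, (algebraMap B S (z i) + t i) - g (z i) ∈ J' := by
        intro i
        rw [← Ideal.Quotient.eq, hg, hχ', hT'1, map_one, one_mul, hτ'2 i, map_add]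
        rfl
      obtain ⟨g', hg'1, hg'2⟩ := exists_correction z bas hbas S g J' hJ'sq
        (fun i => algebraMap B S (z i) + t i) hgz
      refine ⟨g', fun b => ?_, hg'2⟩
      have : g' b - algebraMap B S b = (g' b - g b) + (g b - algebraMap B S b) := by ring
      rw [this]
      exact J.add_mem (hJ'J (hg'1 b)) (hgJ b)

end taylor

section divpow

variable {A B : Type u} [CommRing A] [CommRing B] [Algebra A B]

theorem exists_dividedPowerOp_fin
    (hfs : CAlgX.IsAdicFormallySmooth B (B ⊗[A] B) (KaehlerDifferential.ideal A B))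
    (n : ℕ) (z : Fin n → B)
    (bas : Module.Basis (Fin n) B (KaehlerDifferential A B))
    (hbas : ∀ i, bas i = KaehlerDifferential.D A B (z i)) (p : Fin n → ℕ) :
    ∃ D : B →ₗ[A] B, IsDiffOpLE A B B B (∑ i, p i) D ∧
      ∀ q : Fin n → ℕ, D (∏ i, z i ^ q i) =
        ((∏ i, Nat.choose (q i) (p i) : ℕ) : B) * ∏ i, z i ^ (q i - p i) := by
  classical
  set m := ∑ i, p i with hm
  let x : Fin n →₀ ℕ := Finsupp.equivFunOnFinite.symm p
  have hx : x.degree ≤ m := by
    rw [Finsupp.degree_eq_sum]; exact le_of_eq rfl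
  obtain ⟨k, hk⟩ := truncIdeal_isNilpotent B n m
  obtain ⟨τ, hτ, hτz⟩ := exists_taylor_adic hfs z bas hbas k (TruncPoly B n m) (truncIdeal B n m)
    hk (fun i => Ideal.Quotient.mk _ (X i))
    (fun i => mk_X_mem_truncIdeal B n m i)
  refine ⟨taylorOp τ x hx 1, ?_, ?_⟩
  · apply isDiffOpLE_taylorOp τ hτ x hx m 0 (by omega) 1
    rw [pow_zero (truncIdeal B n m), Ideal.one_eq_top]; trivial
  · intro q
    rw [taylorOp_apply, one_mul, map_prod]
    simp_rw [map_pow, hτz]
    have : (∏ i, (algebraMap B (TruncPoly B n m) (z i) +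
        Ideal.Quotient.mk (idealOfVars (Fin n) B ^ (m + 1)) (X i)) ^ q i) =
        Ideal.Quotient.mk (idealOfVars (Fin n) B ^ (m + 1))
          (∏ i, ((X i : MvPolynomial (Fin n) B) + C (z i)) ^ q i) := by
      rw [map_prod]
      apply Finset.prod_congr rfl
      intro i _
      rw [map_pow, map_add,
        add_comm (Ideal.Quotient.mk (idealOfVars (Fin n) B ^ (m + 1)) (X i))]
      rfl
    rw [this, truncCoeff_mk, coeff_prod_X_add_C_pow]
    rfl

theorem exists_dividedPowerOp
    (hfs : CAlgX.IsAdicFormallySmooth B (B ⊗[A] B) (KaehlerDifferential.ideal A B))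
    {ι : Type*} [Fintype ι] (z : ι → B)
    (bas : Module.Basis ι B (KaehlerDifferential A B))
    (hbas : ∀ i, bas i = KaehlerDifferential.D A B (z i)) (p : ι → ℕ) :
    ∃ D : B →ₗ[A] B, IsDiffOpLE A B B B (∑ i, p i) D ∧
      ∀ q : ι → ℕ, D (∏ i, z i ^ q i) =
        ((∏ i, Nat.choose (q i) (p i) : ℕ) : B) * ∏ i, z i ^ (q i - p i) := by
  classical
  let e : ι ≃ Fin (Fintype.card ι) := Fintype.equivFin ι
  obtain ⟨D, hD1, hD2⟩ := exists_dividedPowerOp_fin hfs (Fintype.card ι) (fun j => z (e.symm j))
    (bas.reindex e) (fun j => by rw [Module.Basis.reindex_apply, hbas]) (fun j => p (e.symm j))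
  refine ⟨D, ?_, fun q => ?_⟩
  · have : ∑ i, p i = ∑ j, p (e.symm j) :=
      Fintype.sum_equiv e _ _ (fun i => by rw [Equiv.symm_apply_apply])
    rw [this]; exact hD1
  · have h1 : ∏ i, z i ^ q i = ∏ j, z (e.symm j) ^ q (e.symm j) :=
      Fintype.prod_equiv e _ _ (fun i => by rw [Equiv.symm_apply_apply])
    have h2 : ∏ i, z i ^ (q i - p i) = ∏ j, z (e.symm j) ^ (q (e.symm j) - p (e.symm j)) :=
      Fintype.prod_equiv e _ _ (fun i => by rw [Equiv.symm_apply_apply])
    have h3 : ∏ i, Nat.choose (q i) (p i) = ∏ j, Nat.choose (q (e.symm j)) (p (e.symm j)) :=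
      Fintype.prod_equiv e _ _ (fun i => by rw [Equiv.symm_apply_apply])
    rw [h1, h2, h3]
    exact hD2 (fun j => q (e.symm j))

end divpow

end Groth.Agent.Lib.Helper9.DiffTaylor
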