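import Mathlib

set_option autoImplicit false
universe u

/-!
# A uniform Artin–Rees bound for extensions of a Noetherian local ring by its residue field
-/

namespace Groth.Agent.Lib.Helper9.ExalArtinRees

open IsLocalRing

/-- For an ideal `𝔟 = (x₁, …, x_r)` of a Noetherian ring `R` there is `c` such that for every
surjection `p : E → R` whose kernel is killed by the preimage of `𝔟`, and all lifts `e_i` of the
`x_i`, the ideal `(e₁, …, e_r) ^ (c + 2)` meets the kernel of `p` trivially. -/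
theorem exists_pow_inter_ker (R : Type u) [CommRing R] [IsNoetherianRing R] (𝔟 : Ideal R)
    {r : ℕ} (x : Fin r → R) (hx : Ideal.span (Set.range x) = 𝔟) :
    ∃ c : ℕ, ∀ {E : Type u} [CommRing E] (p : E →+* R) (_ : Function.Surjective p)
      (_ : ∀ u w : E, p u = 0 → p w ∈ 𝔟 → u * w = 0) (e : Fin r → E) (_ : ∀ i, p (e i) = x i),
      ∀ y ∈ Ideal.span (Set.range e) ^ (c + 1 + 1), p y = 0 → y = 0 := by
  classical
  let φ : (Fin r → R) →ₗ[R] R := Fintype.linearCombination R x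
  have hφ : ∀ a, φ a = ∑ i, a i * x i := fun a => by
    simp [φ, Fintype.linearCombination_apply]
  obtain ⟨c, hc⟩ := Ideal.exists_pow_inf_eq_pow_smul 𝔟 (LinearMap.ker φ)
  refine ⟨c, ?_⟩
  intro E _ p hp hK e he
  have hxm : ∀ i, x i ∈ 𝔟 := fun i => hx ▸ Ideal.subset_span ⟨i, rfl⟩
  have hmap : Ideal.map p (Ideal.span (Set.range e)) = 𝔟 := by
    rw [Ideal.map_span, ← Set.range_comp, ← hx]
    congr 2
    funext i
    exact he i
  -- the value `Σ a_i e_i` only depends on the images of the `a_i`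
  have hdep : ∀ a a' : Fin r → E, (∀ i, p (a i) = p (a' i)) →
      ∑ i, a i * e i = ∑ i, a' i * e i := by
    intro a a' h
    rw [← sub_eq_zero, ← Finset.sum_sub_distrib]
    refine Finset.sum_eq_zero fun i _ => ?_
    rw [← sub_mul]
    exact hK _ _ (by rw [map_sub, h i, sub_self]) (by rw [he i]; exact hxm i)
  -- vectors in `𝔟 • N` have a lift with vanishing value
  have hlift : ∀ v ∈ (𝔟 • LinearMap.ker φ : Submodule R (Fin r → R)),
      ∃ a : Fin r → E, (∀ i, p (a i) = v i) ∧ ∑ i, a i * e i = 0 := by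
    intro v hv
    refine Submodule.smul_induction_on hv ?_ ?_
    · intro m hm ν hν
      obtain ⟨m', hm'⟩ := hp m
      choose ν' hν' using fun i => hp (ν i)
      refine ⟨fun i => m' * ν' i, fun i => by simp [hm', hν'], ?_⟩
      have h1 : ∑ i, m' * ν' i * e i = (∑ i, ν' i * e i) * m' := by
        rw [Finset.sum_mul]
        exact Finset.sum_congr rfl fun i _ => by ring
      rw [h1]
      refine hK _ _ ?_ (by rw [hm']; exact hm)
      rw [map_sum]
      have : φ ν = 0 := hν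
      rw [hφ] at this
      rw [← this]
      exact Finset.sum_congr rfl fun i _ => by rw [map_mul, hν', he]
    · rintro v w ⟨a, ha, ha0⟩ ⟨b, hb, hb0⟩
      refine ⟨fun i => a i + b i, fun i => by simp [ha, hb], ?_⟩
      simp only [add_mul, Finset.sum_add_distrib, ha0, hb0, add_zero]
  intro y hy hy0
  rw [pow_succ, ← smul_eq_mul,
    Submodule.mem_ideal_smul_span_iff_exists_sum] at hy
  obtain ⟨a, ha, rfl⟩ := hy
  -- rewrite the finsupp sum as a sum over `Fin r`
  have hsum : (a.sum fun i c => c • e i) = ∑ i, a i * e i := by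
    rw [Finsupp.sum_fintype _ _ (fun i => by simp)]
    simp [smul_eq_mul]
  rw [hsum] at hy0 ⊢
  let v : Fin r → R := fun i => p (a i)
  have hvm : ∀ i, v i ∈ 𝔟 ^ (c + 1) := by
    intro i
    have := Ideal.mem_map_of_mem p (ha i)
    rwa [Ideal.map_pow, hmap] at this
  have hv1 : v ∈ (𝔟 ^ (c + 1) • ⊤ : Submodule R (Fin r → R)) := by
    have : v = ∑ i, v i • (Pi.single i (1 : R) : Fin r → R) := by
      funext j
      simp [Finset.sum_apply, Pi.single_apply]
    rw [this]
    exact Submodule.sum_mem _ fun i _ => Submodule.smul_mem_smul (hvm i) Submodule.mem_top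
  have hv2 : v ∈ LinearMap.ker φ := by
    rw [LinearMap.mem_ker, hφ]
    rw [map_sum] at hy0
    rw [← hy0]
    exact Finset.sum_congr rfl fun i _ => by rw [map_mul, he]
  have hv3 : v ∈ (𝔟 • LinearMap.ker φ : Submodule R (Fin r → R)) := by
    have h1 : v ∈ (𝔟 ^ (c + 1) • ⊤ ⊓ LinearMap.ker φ : Submodule R (Fin r → R)) :=
      ⟨hv1, hv2⟩
    rw [hc (c + 1) (Nat.le_succ c), Nat.add_sub_cancel_left, pow_one] at h1
    exact Submodule.smul_mono le_rfl inf_le_right h1
  obtain ⟨a', ha', ha0'⟩ := hlift v hv3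
  rw [hdep a a' (fun i => (ha' i).symm), ha0']

/-- For a Noetherian local ring `R` there is `n` such that for every surjection `p : E → R` whose
kernel is killed by the preimage of the maximal ideal, there is an ideal `I` of `E` meeting the
kernel trivially and mapping onto `𝔪 ^ (n + 1)`. -/
theorem exists_uniform_pow (R : Type u) [CommRing R] [IsLocalRing R] [IsNoetherianRing R] :
    ∃ n : ℕ, ∀ {E : Type u} [CommRing E] (p : E →+* R) (_ : Function.Surjective p)
      (_ : ∀ u w : E, p u = 0 → p w ∈ maximalIdeal R → u * w = 0),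
      ∃ I : Ideal E, (∀ y ∈ I, p y = 0 → y = 0) ∧ Ideal.map p I = maximalIdeal R ^ (n + 1) := by
  classical
  obtain ⟨r, x, hx⟩ : ∃ (r : ℕ) (x : Fin r → R), Ideal.span (Set.range x) = maximalIdeal R :=
    Submodule.fg_iff_exists_fin_generating_family.mp (IsNoetherian.noetherian _)
  obtain ⟨c, hc⟩ := exists_pow_inter_ker R (maximalIdeal R) x hx
  refine ⟨c + 1, ?_⟩
  intro E _ p hp hK
  choose e he using fun i => hp (x i)
  have hmap : Ideal.map p (Ideal.span (Set.range e)) = maximalIdeal R := by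
    rw [Ideal.map_span, ← Set.range_comp, ← hx]
    congr 2
    funext i
    exact he i
  exact ⟨Ideal.span (Set.range e) ^ (c + 1 + 1), hc p hp hK e he, by rw [Ideal.map_pow, hmap]⟩


/-- If `ker p` is killed by `𝔫 = p⁻¹(𝔟)` and `𝔞` maps onto `𝔟`, then `𝔫 ^ m ≤ 𝔞 ^ m` for
`m ≥ 2`. -/
theorem comap_pow_le {R E : Type u} [CommRing R] [CommRing E] (p : E →+* R)
    (hp : Function.Surjective p) (𝔟 : Ideal R)
    (hK : ∀ u w : E, p u = 0 → p w ∈ 𝔟 → u * w = 0) (𝔞 : Ideal E) (hmap : Ideal.map p 𝔞 = 𝔟)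
    (m : ℕ) : (Ideal.comap p 𝔟) ^ (m + 2) ≤ 𝔞 ^ (m + 2) := by
  have hle : 𝔞 ≤ Ideal.comap p 𝔟 := Ideal.map_le_iff_le_comap.mp hmap.le
  have hA : ∀ w ∈ Ideal.comap p 𝔟, ∃ a ∈ 𝔞, p (w - a) = 0 := by
    intro w hw
    have h1 : p w ∈ Ideal.map p 𝔞 := by rw [hmap]; exact hw
    obtain ⟨a, ha, hpa⟩ := (Ideal.mem_map_iff_of_surjective p hp).mp h1
    exact ⟨a, ha, by rw [map_sub, hpa, sub_self]⟩
  have hB : ∀ w ∈ Ideal.comap p 𝔟, ∀ v ∈ Ideal.comap p 𝔟, ∃ a ∈ 𝔞, w * v = a * v := by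
    intro w hw v hv
    obtain ⟨a, ha, h0⟩ := hA w hw
    refine ⟨a, ha, ?_⟩
    have := hK _ _ h0 hv
    linear_combination this
  have hstep : ∀ k, Ideal.comap p 𝔟 * 𝔞 ^ (k + 1) ≤ 𝔞 ^ (k + 2) := by
    intro k
    refine Ideal.mul_le.mpr fun w hw v hv => ?_
    have hv' : v ∈ Ideal.comap p 𝔟 := hle (Ideal.pow_le_self (Nat.succ_ne_zero k) hv)
    obtain ⟨a, ha, h⟩ := hB w hw v hv'
    rw [h, pow_succ' 𝔞 (k + 1)]
    exact Ideal.mul_mem_mul ha hv
  induction m with
  | zero =>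
    rw [zero_add, pow_two, pow_two]
    refine Ideal.mul_le.mpr fun w hw v hv => ?_
    obtain ⟨a, ha, h⟩ := hB w hw v hv
    obtain ⟨a', ha', h0'⟩ := hA v hv
    have h2 := hK _ _ h0' (hle ha)
    have : w * v = a * a' := by rw [h]; linear_combination h2
    rw [this]
    exact Ideal.mul_mem_mul ha ha'
  | succ m ih =>
    calc (Ideal.comap p 𝔟) ^ (m + 1 + 2) = Ideal.comap p 𝔟 * (Ideal.comap p 𝔟) ^ (m + 2) :=
          pow_succ' _ _
      _ ≤ Ideal.comap p 𝔟 * 𝔞 ^ (m + 1 + 1) := Ideal.mul_mono_right ih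
      _ ≤ 𝔞 ^ (m + 1 + 2) := hstep (m + 1)

/-- A uniform exponent `N` for which `𝔫 ^ N ∩ ker p = 0`, `𝔫 = p⁻¹(𝔪)`. -/
theorem exists_comap_pow_inter_ker (R : Type u) [CommRing R] [IsLocalRing R] [IsNoetherianRing R] :
    ∃ N : ℕ, 1 ≤ N ∧ ∀ {E : Type u} [CommRing E] (p : E →+* R) (_ : Function.Surjective p)
      (_ : ∀ u w : E, p u = 0 → p w ∈ maximalIdeal R → u * w = 0),
      ∀ y ∈ (Ideal.comap p (maximalIdeal R)) ^ N, p y = 0 → y = 0 := by
  classical
  obtain ⟨r, x, hx⟩ : ∃ (r : ℕ) (x : Fin r → R), Ideal.span (Set.range x) = maximalIdeal R :=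
    Submodule.fg_iff_exists_fin_generating_family.mp (IsNoetherian.noetherian _)
  obtain ⟨c, hc⟩ := exists_pow_inter_ker R (maximalIdeal R) x hx
  refine ⟨c + 2, by omega, ?_⟩
  intro E _ p hp hK
  choose e he using fun i => hp (x i)
  have hmap : Ideal.map p (Ideal.span (Set.range e)) = maximalIdeal R := by
    rw [Ideal.map_span, ← Set.range_comp, ← hx]
    congr 2
    funext i
    exact he i
  intro y hy hy0
  exact hc p hp hK e he y (comap_pow_le p hp _ hK _ hmap c hy) hy0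

end Groth.Agent.Lib.Helper9.ExalArtinRees
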