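import Mathlib
import Groth.Prelude.Def_Exal2
import Groth.Agent.Lib.Helper9.ExalArtinRees
import Groth.Agent.Lib.Helper29.Exal
import Groth.Agent.Lib.Helper63.CompletionNoeth

set_option autoImplicit false
universe u

/-!
# Extensions of a Noetherian local ring and of its completion by a simple module
-/

namespace Groth.Agent.Lib.Helper9.ExalCompletion

open Exal Groth.Agent.Lib.Helper29.ExalLib IsLocalRing

section completion

variable {R : Type u} [CommRing R] (I : Ideal R)

lemma evalₐ_eq_zero_iff (hI : I.FG) (n : ℕ) (x : AdicCompletion I R) :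
    AdicCompletion.evalₐ I n x = 0 ↔ x ∈ (I.map (algebraMap R (AdicCompletion I R))) ^ n := by
  have h1 : AdicCompletion.evalₐ I n x = 0 ↔ AdicCompletion.eval I R n x = 0 := by
    have hle : I ^ n ≤ I ^ n • ⊤ := by rw [smul_eq_mul, Ideal.mul_top]
    have hle' : I ^ n • ⊤ ≤ I ^ n := by rw [smul_eq_mul, Ideal.mul_top]
    constructor
    · intro h
      rw [← AdicCompletion.factor_evalₐ_eq_eval I x hle, h, map_zero]
    · intro h
      rw [← AdicCompletion.factor_eval_eq_evalₐ I x hle', h, map_zero]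
  rw [h1, ← LinearMap.mem_ker, ← AdicCompletion.pow_smul_top_eq_ker_eval hI,
    Ideal.smul_top_eq_map, Submodule.restrictScalars_mem, Ideal.map_pow]

end completion

section main

variable {Λ : Type u} [CommRing Λ] {R : Type u} [CommRing R] [Algebra Λ R] [IsLocalRing R]
  [IsNoetherianRing R]
  {L : Type u} [AddCommGroup L] [Module (AdicCompletion (maximalIdeal R) R) L] [Module R L]
  [IsScalarTower R (AdicCompletion (maximalIdeal R) R) L]

local notation "Rhat" => AdicCompletion (maximalIdeal R) R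

lemma algebraMap_mem_maximalIdeal {r : R} (hr : r ∈ maximalIdeal R) :
    algebraMap R Rhat r ∈ maximalIdeal Rhat := by
  rw [AdicCompletion.maximalIdeal_eq_map]
  exact Ideal.mem_map_of_mem _ hr

lemma algebraMap_mem_pow_iff (N : ℕ) (r : R) :
    algebraMap R Rhat r ∈ maximalIdeal Rhat ^ N ↔ r ∈ maximalIdeal R ^ N := by
  rw [AdicCompletion.maximalIdeal_eq_map,
    ← evalₐ_eq_zero_iff (maximalIdeal R) (maximalIdeal R).fg_of_isNoetherianRing N]
  have : AdicCompletion.evalₐ (maximalIdeal R) N (algebraMap R Rhat r) =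
      Ideal.Quotient.mk _ r := AdicCompletion.evalₐ_of _ N r
  rw [this, Ideal.Quotient.eq_zero_iff_mem]

/-- Density of `R` in its completion. -/
lemma exists_sub_mem_pow (N : ℕ) (ρ : Rhat) : ∃ r : R, ρ - algebraMap R Rhat r ∈ maximalIdeal Rhat ^ N := by
  obtain ⟨r, hr⟩ := Ideal.Quotient.mk_surjective (AdicCompletion.evalₐ (maximalIdeal R) N ρ)
  refine ⟨r, ?_⟩
  rw [AdicCompletion.maximalIdeal_eq_map,
    ← evalₐ_eq_zero_iff (maximalIdeal R) (maximalIdeal R).fg_of_isNoetherianRing N, map_sub]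
  have : AdicCompletion.evalₐ (maximalIdeal R) N (algebraMap R Rhat r) =
      Ideal.Quotient.mk _ r := AdicCompletion.evalₐ_of _ N r
  rw [this, hr, sub_self]

/-- `L` is killed by the maximal ideal of the completion. -/
lemma smul_hat (hL : ∀ m ∈ maximalIdeal R, ∀ z : L, m • z = 0) {ρ : Rhat}
    (hρ : ρ ∈ maximalIdeal Rhat) (z : L) : ρ • z = 0 := by
  have h1 : maximalIdeal Rhat ≤ Module.annihilator Rhat L := by
    rw [AdicCompletion.maximalIdeal_eq_map, Ideal.map_le_iff_le_comap]
    intro m hm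
    rw [Ideal.mem_comap, Module.mem_annihilator]
    intro z
    rw [algebraMap_smul]
    exact hL m hm z
  exact Module.mem_annihilator.mp (h1 hρ) z

lemma hK_hat (hL : ∀ m ∈ maximalIdeal R, ∀ z : L, m • z = 0) (X : Exal.Ext Λ Rhat L) :
    ∀ u w : X.E, (X.proj : X.E →+* Rhat) u = 0 →
      (X.proj : X.E →+* Rhat) w ∈ maximalIdeal Rhat → u * w = 0 := by
  intro u w hu hw
  obtain ⟨z, rfl⟩ := (X.isExtension.exact u).mp hu
  rw [mul_comm, X.isExtension.mul_incl]
  have : X.proj w • z = 0 := smul_hat hL hw z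
  rw [this, map_zero]

omit [IsLocalRing R] [IsNoetherianRing R] [Module (AdicCompletion (maximalIdeal R) R) L]
  [IsScalarTower R (AdicCompletion (maximalIdeal R) R) L] in
lemma hK_base [IsLocalRing R] (hL : ∀ m ∈ maximalIdeal R, ∀ z : L, m • z = 0) (Y : Exal.Ext Λ R L) :
    ∀ u w : Y.E, (Y.proj : Y.E →+* R) u = 0 →
      (Y.proj : Y.E →+* R) w ∈ maximalIdeal R → u * w = 0 := by
  intro u w hu hw
  obtain ⟨z, rfl⟩ := (Y.isExtension.exact u).mp hu
  rw [mul_comm, Y.isExtension.mul_incl]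
  have : Y.proj w • z = 0 := hL _ hw z
  rw [this, map_zero]

section pullback

variable (X : Exal.Ext Λ (AdicCompletion (maximalIdeal R) R) L)

/-- first projection of the pulled back extension -/
noncomputable def pr : (X.pullback R).E →ₐ[Λ] X.E :=
  (AlgHom.fst Λ X.E R).comp (X.fiberProd R).val

lemma proj_pr (f : (X.pullback R).E) :
    X.proj (pr X f) = algebraMap R Rhat ((X.pullback R).proj f) := f.2

lemma pr_incl (z : L) : pr X ((X.pullback R).incl z) = X.incl z := rfl

lemma ext_pullback {f g : (X.pullback R).E} (h1 : pr X f = pr X g)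
    (h2 : (X.pullback R).proj f = (X.pullback R).proj g) : f = g :=
  Subtype.ext (Prod.ext h1 h2)

/-- `pr` maps powers of the preimage of the maximal ideal into the corresponding powers. -/
lemma pr_mem_pow (N : ℕ) {f : (X.pullback R).E}
    (hf : f ∈ (Ideal.comap ((X.pullback R).proj : (X.pullback R).E →+* R) (maximalIdeal R)) ^ N) :
    pr X f ∈ (Ideal.comap (X.proj : X.E →+* Rhat) (maximalIdeal Rhat)) ^ N := by
  have h1 : Ideal.comap ((X.pullback R).proj : (X.pullback R).E →+* R) (maximalIdeal R) ≤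
      Ideal.comap (pr X : (X.pullback R).E →+* X.E)
        (Ideal.comap (X.proj : X.E →+* Rhat) (maximalIdeal Rhat)) := by
    intro g hg
    rw [Ideal.mem_comap, Ideal.mem_comap]
    show X.proj (pr X g) ∈ _
    rw [proj_pr]
    exact algebraMap_mem_maximalIdeal hg
  exact Ideal.le_comap_pow _ N (Ideal.pow_right_mono h1 N hf)

/-- The crux: an element of the pullback whose first component is deep is deep. -/
lemma mem_pow_of_pr_mem (N : ℕ)
    (hU : ∀ y ∈ (Ideal.comap (X.proj : X.E →+* Rhat) (maximalIdeal Rhat)) ^ N, X.proj y = 0 → y = 0)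
    {f : (X.pullback R).E}
    (hf : pr X f ∈ (Ideal.comap (X.proj : X.E →+* Rhat) (maximalIdeal Rhat)) ^ N) :
    f ∈ (Ideal.comap ((X.pullback R).proj : (X.pullback R).E →+* R) (maximalIdeal R)) ^ N := by
  set r := (X.pullback R).proj f with hr
  have h1 : algebraMap R Rhat r ∈ maximalIdeal Rhat ^ N := by
    rw [← proj_pr]
    have := Ideal.mem_map_of_mem (X.proj : X.E →+* Rhat) hf
    rw [Ideal.map_pow, Ideal.map_comap_of_surjective (X.proj : X.E →+* Rhat)
      X.isExtension.proj_surjective] at this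
    exact this
  rw [algebraMap_mem_pow_iff] at h1
  have hsurj : Function.Surjective ((X.pullback R).proj : (X.pullback R).E →+* R) :=
    (X.pullback R).isExtension.proj_surjective
  have h2 : r ∈ Ideal.map ((X.pullback R).proj : (X.pullback R).E →+* R)
      ((Ideal.comap ((X.pullback R).proj : (X.pullback R).E →+* R) (maximalIdeal R)) ^ N) := by
    rw [Ideal.map_pow, Ideal.map_comap_of_surjective
      ((X.pullback R).proj : (X.pullback R).E →+* R) hsurj]
    exact h1
  obtain ⟨g, hg, hgr⟩ := (Ideal.mem_map_iff_of_surjective _ hsurj).mp h2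
  have hgr' : (X.pullback R).proj g = r := hgr
  have h3 : pr X f - pr X g = 0 := by
    refine hU _ (Ideal.sub_mem _ hf (pr_mem_pow X N hg)) ?_
    rw [map_sub, proj_pr, proj_pr, hgr', sub_self]
  have : f = g := ext_pullback X (sub_eq_zero.mp h3) hgr'.symm
  rw [this]
  exact hg

end pullback

/-- Part (i): extensions of the completion with equivalent pullbacks are equivalent. -/
theorem equiv_of_pullback_equiv (hL : ∀ m ∈ maximalIdeal R, ∀ z : L, m • z = 0)
    (X X' : Exal.Ext Λ (AdicCompletion (maximalIdeal R) R) L)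
    (θ : (X.pullback R).Equiv (X'.pullback R)) : Nonempty (X.Equiv X') := by
  classical
  haveI : IsNoetherianRing Rhat :=
    Groth.Agent.Lib.Helper63.CompletionNoeth.isNoetherianRing_adicCompletion R _
  obtain ⟨N, -, hU⟩ := ExalArtinRees.exists_comap_pow_inter_ker Rhat
  have hUX := hU (X.proj : X.E →+* Rhat) X.isExtension.proj_surjective (hK_hat hL X)
  have hUX' := hU (X'.proj : X'.E →+* Rhat) X'.isExtension.proj_surjective (hK_hat hL X')
  set 𝔫 : Ideal X.E := Ideal.comap (X.proj : X.E →+* Rhat) (maximalIdeal Rhat) with h𝔫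
  set 𝔫' : Ideal X'.E := Ideal.comap (X'.proj : X'.E →+* Rhat) (maximalIdeal Rhat) with h𝔫'
  -- the crux
  have hC : ∀ f : (X.pullback R).E, pr X f ∈ 𝔫 ^ N → pr X' (θ.toAlgEquiv f) ∈ 𝔫' ^ N := by
    intro f hf
    have h1 := mem_pow_of_pr_mem X N hUX hf
    refine pr_mem_pow X' N ?_
    have hle : Ideal.comap ((X.pullback R).proj : (X.pullback R).E →+* R) (maximalIdeal R) ≤
        Ideal.comap (θ.toAlgEquiv : (X.pullback R).E →+* (X'.pullback R).E)
          (Ideal.comap ((X'.pullback R).proj : (X'.pullback R).E →+* R) (maximalIdeal R)) := by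
      intro g hg
      rw [Ideal.mem_comap, Ideal.mem_comap]
      show (X'.pullback R).proj (θ.toAlgEquiv g) ∈ _
      rw [θ.proj_apply]
      exact hg
    exact Ideal.le_comap_pow _ N (Ideal.pow_right_mono hle N h1)
  -- surjectivity of `𝔫 ^ N → 𝔪̂ ^ N`
  have hsurjN : ∀ ρ ∈ maximalIdeal Rhat ^ N, ∃ j ∈ 𝔫 ^ N, X.proj j = ρ := by
    intro ρ hρ
    have : ρ ∈ Ideal.map (X.proj : X.E →+* Rhat) (𝔫 ^ N) := by
      rw [Ideal.map_pow, h𝔫, Ideal.map_comap_of_surjective (X.proj : X.E →+* Rhat)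
        X.isExtension.proj_surjective]
      exact hρ
    exact (Ideal.mem_map_iff_of_surjective _ X.isExtension.proj_surjective).mp this
  have hsurjN' : ∀ ρ ∈ maximalIdeal Rhat ^ N, ∃ j ∈ 𝔫' ^ N, X'.proj j = ρ := by
    intro ρ hρ
    have : ρ ∈ Ideal.map (X'.proj : X'.E →+* Rhat) (𝔫' ^ N) := by
      rw [Ideal.map_pow, h𝔫', Ideal.map_comap_of_surjective (X'.proj : X'.E →+* Rhat)
        X'.isExtension.proj_surjective]
      exact hρ
    exact (Ideal.mem_map_iff_of_surjective _ X'.isExtension.proj_surjective).mp this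
  -- the relation defining the map
  let Rel : X.E → X'.E → Prop := fun e e' => X'.proj e' = X.proj e ∧
    ∃ f : (X.pullback R).E, e - pr X f ∈ 𝔫 ^ N ∧ e' - pr X' (θ.toAlgEquiv f) ∈ 𝔫' ^ N
  have hex : ∀ e, ∃ e', Rel e e' := by
    intro e
    obtain ⟨r, hr⟩ := exists_sub_mem_pow N (X.proj e)
    obtain ⟨j, hj, hpj⟩ := hsurjN _ hr
    obtain ⟨j', hj', hpj'⟩ := hsurjN' _ hr
    let f : (X.pullback R).E := ⟨(e - j, r), by
      show X.proj (e - j) = algebraMap R Rhat r
      rw [map_sub, hpj]; ring⟩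
    have hf1 : pr X f = e - j := rfl
    have hf2 : (X.pullback R).proj f = r := rfl
    refine ⟨pr X' (θ.toAlgEquiv f) + j', ?_, f, ?_, ?_⟩
    · rw [map_add, proj_pr, θ.proj_apply, hf2, hpj']; ring
    · rw [hf1]; simpa using hj
    · simpa using hj'
  have huniq : ∀ e e'₁ e'₂, Rel e e'₁ → Rel e e'₂ → e'₁ = e'₂ := by
    rintro e e'₁ e'₂ ⟨h1, f₁, hf₁, hf₁'⟩ ⟨h2, f₂, hf₂, hf₂'⟩
    rw [← sub_eq_zero]
    refine hUX' _ ?_ (by show X'.proj (e'₁ - e'₂) = 0; rw [map_sub, h1, h2, sub_self])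
    have h3 : pr X' (θ.toAlgEquiv (f₁ - f₂)) ∈ 𝔫' ^ N := by
      refine hC _ ?_
      have : pr X (f₁ - f₂) = (e - pr X f₂) - (e - pr X f₁) := by rw [map_sub]; ring
      rw [this]
      exact Ideal.sub_mem _ hf₂ hf₁
    have h4 : e'₁ - e'₂ = (e'₁ - pr X' (θ.toAlgEquiv f₁)) - (e'₂ - pr X' (θ.toAlgEquiv f₂)) +
        pr X' (θ.toAlgEquiv (f₁ - f₂)) := by
      rw [map_sub, map_sub]; ring
    rw [h4]
    exact Ideal.add_mem _ (Ideal.sub_mem _ hf₁' hf₂') h3
  have hadd : ∀ e₁ e'₁ e₂ e'₂, Rel e₁ e'₁ → Rel e₂ e'₂ → Rel (e₁ + e₂) (e'₁ + e'₂) := by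
    rintro e₁ e'₁ e₂ e'₂ ⟨h1, f₁, hf₁, hf₁'⟩ ⟨h2, f₂, hf₂, hf₂'⟩
    refine ⟨by rw [map_add, map_add, h1, h2], f₁ + f₂, ?_, ?_⟩
    · have : e₁ + e₂ - pr X (f₁ + f₂) = (e₁ - pr X f₁) + (e₂ - pr X f₂) := by
        rw [map_add]; ring
      rw [this]
      exact Ideal.add_mem _ hf₁ hf₂
    · have : e'₁ + e'₂ - pr X' (θ.toAlgEquiv (f₁ + f₂)) =
          (e'₁ - pr X' (θ.toAlgEquiv f₁)) + (e'₂ - pr X' (θ.toAlgEquiv f₂)) := by
        rw [map_add, map_add]; ring
      rw [this]
      exact Ideal.add_mem _ hf₁' hf₂'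
  have hmul : ∀ e₁ e'₁ e₂ e'₂, Rel e₁ e'₁ → Rel e₂ e'₂ → Rel (e₁ * e₂) (e'₁ * e'₂) := by
    rintro e₁ e'₁ e₂ e'₂ ⟨h1, f₁, hf₁, hf₁'⟩ ⟨h2, f₂, hf₂, hf₂'⟩
    refine ⟨by rw [map_mul, map_mul, h1, h2], f₁ * f₂, ?_, ?_⟩
    · have : e₁ * e₂ - pr X (f₁ * f₂) = e₁ * (e₂ - pr X f₂) + (e₁ - pr X f₁) * pr X f₂ := by
        rw [map_mul]; ring
      rw [this]
      exact Ideal.add_mem _ (Ideal.mul_mem_left _ _ hf₂) (Ideal.mul_mem_right _ _ hf₁)
    · have : e'₁ * e'₂ - pr X' (θ.toAlgEquiv (f₁ * f₂)) =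
          e'₁ * (e'₂ - pr X' (θ.toAlgEquiv f₂)) +
            (e'₁ - pr X' (θ.toAlgEquiv f₁)) * pr X' (θ.toAlgEquiv f₂) := by
        rw [map_mul, map_mul]; ring
      rw [this]
      exact Ideal.add_mem _ (Ideal.mul_mem_left _ _ hf₂') (Ideal.mul_mem_right _ _ hf₁')
  have hpull : ∀ f : (X.pullback R).E, Rel (pr X f) (pr X' (θ.toAlgEquiv f)) := by
    intro f
    refine ⟨by rw [proj_pr, proj_pr, θ.proj_apply], f, ?_, ?_⟩ <;> simp
  choose Θ hΘ using hex
  have key : ∀ e e', Rel e e' → Θ e = e' := fun e e' h => huniq e _ _ (hΘ e) h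
  let ΘA : X.E →ₐ[Λ] X'.E :=
    { toFun := Θ
      map_one' := key _ _ (by simpa using hpull 1)
      map_mul' := fun e₁ e₂ => key _ _ (hmul _ _ _ _ (hΘ e₁) (hΘ e₂))
      map_zero' := key _ _ (by simpa using hpull 0)
      map_add' := fun e₁ e₂ => key _ _ (hadd _ _ _ _ (hΘ e₁) (hΘ e₂))
      commutes' := fun a => key _ _ (by simpa using hpull (algebraMap Λ _ a)) }
  refine ⟨equivOfHom X X' ΘA (fun e => (hΘ e).1) (fun z => ?_)⟩
  refine key _ _ ?_
  have := hpull ((X.pullback R).incl z)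
  rwa [θ.apply_incl, pr_incl, pr_incl] at this

/-- Part (ii): every extension of `R` is the pullback of an extension of the completion. -/
theorem exists_pullback_equiv (hL : ∀ m ∈ maximalIdeal R, ∀ z : L, m • z = 0)
    (Y : Exal.Ext Λ R L) :
    ∃ X : Exal.Ext Λ (AdicCompletion (maximalIdeal R) R) L, Nonempty ((X.pullback R).Equiv Y) := by
  classical
  obtain ⟨N, hN1, hU⟩ := ExalArtinRees.exists_comap_pow_inter_ker R
  have hUY := hU (Y.proj : Y.E →+* R) Y.isExtension.proj_surjective (hK_base hL Y)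
  set I : Ideal Y.E := (Ideal.comap (Y.proj : Y.E →+* R) (maximalIdeal R)) ^ N with hI
  have hmapI : Ideal.map (Y.proj : Y.E →+* R) I = maximalIdeal R ^ N := by
    rw [hI, Ideal.map_pow, Ideal.map_comap_of_surjective (Y.proj : Y.E →+* R)
      Y.isExtension.proj_surjective]
  have hIle : I ≤ Ideal.comap Y.proj (maximalIdeal R ^ N) := by
    intro y hy
    rw [Ideal.mem_comap, ← hmapI]
    exact Ideal.mem_map_of_mem (Y.proj : Y.E →+* R) hy
  let q : (Y.E ⧸ I) →ₐ[Λ] (R ⧸ maximalIdeal R ^ N) :=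
    Ideal.quotientMapₐ (maximalIdeal R ^ N) Y.proj hIle
  have hq : ∀ e : Y.E, q (Ideal.Quotient.mk I e) = Ideal.Quotient.mk _ (Y.proj e) := fun e => rfl
  let ev : Rhat →ₐ[Λ] (R ⧸ maximalIdeal R ^ N) :=
    (AdicCompletion.evalₐ (maximalIdeal R) N).restrictScalars Λ
  have hev : ∀ ρ : Rhat, ev ρ = AdicCompletion.evalₐ (maximalIdeal R) N ρ := fun ρ => rfl
  have hevι : ∀ r : R, ev (algebraMap R Rhat r) = Ideal.Quotient.mk _ r := fun r =>
    AdicCompletion.evalₐ_of _ N r
  let S : Subalgebra Λ ((Y.E ⧸ I) × Rhat) :=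
    AlgHom.equalizer (q.comp (AlgHom.fst Λ (Y.E ⧸ I) Rhat)) (ev.comp (AlgHom.snd Λ (Y.E ⧸ I) Rhat))
  have hS : ∀ x : (Y.E ⧸ I) × Rhat, x ∈ S ↔ q x.1 = ev x.2 := fun x => Iff.rfl
  -- the difference acts trivially
  have hact : ∀ (e : Y.E) (ρ : Rhat), Ideal.Quotient.mk _ (Y.proj e) = ev ρ → ∀ z : L,
      Y.proj e • z = ρ • z := by
    intro e ρ h z
    have h1 : ev (ρ - algebraMap R Rhat (Y.proj e)) = 0 := by
      rw [map_sub, hevι, h, sub_self]
    rw [hev, evalₐ_eq_zero_iff _ (maximalIdeal R).fg_of_isNoetherianRing,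
      ← AdicCompletion.maximalIdeal_eq_map] at h1
    have h2 := smul_hat hL (Ideal.pow_le_self (by omega) h1) z
    rw [sub_smul, algebraMap_smul, sub_eq_zero] at h2
    exact h2.symm
  have hmem_incl : ∀ z : L, ((Ideal.Quotient.mk I (Y.incl z), (0 : Rhat)) : (Y.E ⧸ I) × Rhat) ∈ S := by
    intro z
    rw [hS]
    show q (Ideal.Quotient.mk I (Y.incl z)) = ev 0
    rw [hq, proj_incl, map_zero, map_zero]
  let X : Exal.Ext Λ (AdicCompletion (maximalIdeal R) R) L :=
    { E := S
      proj := (AlgHom.snd Λ (Y.E ⧸ I) Rhat).comp S.val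
      incl :=
        { toFun := fun z => ⟨(Ideal.Quotient.mk I (Y.incl z), 0), hmem_incl z⟩
          map_zero' := by
            apply Subtype.ext
            apply Prod.ext <;> simp
          map_add' := fun z z' => by
            apply Subtype.ext
            apply Prod.ext <;> simp }
      isExtension :=
        { proj_surjective := fun ρ => by
            obtain ⟨r, hr⟩ := Ideal.Quotient.mk_surjective (ev ρ)
            obtain ⟨e, he⟩ := Y.isExtension.proj_surjective r
            exact ⟨⟨(Ideal.Quotient.mk I e, ρ), by rw [hS]; show q _ = ev ρ; rw [hq, he, hr]⟩, rfl⟩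
          incl_injective := fun z z' h => by
            have h1 : Ideal.Quotient.mk I (Y.incl z) = Ideal.Quotient.mk I (Y.incl z') :=
              congrArg (fun x : S => x.1.1) h
            rw [Ideal.Quotient.eq, ← map_sub] at h1
            have h2 := hUY _ h1 (proj_incl Y _)
            rw [incl_eq_zero_iff, sub_eq_zero] at h2
            exact h2
          exact := fun x => by
            obtain ⟨⟨ebar, ρ⟩, hx⟩ := x
            rw [hS] at hx
            constructor
            · intro hρ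
              change ρ = 0 at hρ
              subst hρ
              obtain ⟨e, rfl⟩ := Ideal.Quotient.mk_surjective ebar
              have h1 : Y.proj e ∈ Ideal.map (Y.proj : Y.E →+* R) I := by
                rw [hmapI, ← Ideal.Quotient.eq_zero_iff_mem, ← hq]
                change q _ = ev 0 at hx
                rw [hx, map_zero]
              obtain ⟨i, hi, hpi⟩ := (Ideal.mem_map_iff_of_surjective (Y.proj : Y.E →+* R)
                Y.isExtension.proj_surjective).mp h1
              obtain ⟨z, hz⟩ := exists_incl_of_proj_eq Y (x := e) (y := i) hpi.symm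
              refine ⟨z, ?_⟩
              apply Subtype.ext
              apply Prod.ext
              · show Ideal.Quotient.mk I (Y.incl z) = Ideal.Quotient.mk I e
                rw [Ideal.Quotient.eq, hz]
                simpa using I.neg_mem hi
              · rfl
            · rintro ⟨z, hz⟩
              have := congrArg (fun x : S => x.1.2) hz
              exact this.symm
          mul_incl := fun x z => by
            obtain ⟨⟨ebar, ρ⟩, hx⟩ := x
            rw [hS] at hx
            obtain ⟨e, rfl⟩ := Ideal.Quotient.mk_surjective ebar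
            change q _ = ev ρ at hx
            rw [hq] at hx
            apply Subtype.ext
            apply Prod.ext
            · show Ideal.Quotient.mk I e * Ideal.Quotient.mk I (Y.incl z) =
                Ideal.Quotient.mk I (Y.incl (ρ • z))
              rw [← map_mul, Y.isExtension.mul_incl, hact e ρ hx z]
            · show ρ * 0 = 0
              exact mul_zero _ } }
  refine ⟨X, ?_⟩
  -- the comparison map `Y.E → X.E ×_{R̂} R`
  let Ψ : Y.E →ₐ[Λ] X.E :=
    AlgHom.codRestrict (AlgHom.prod (Ideal.Quotient.mkₐ Λ I)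
      ((IsScalarTower.toAlgHom Λ R Rhat).comp Y.proj)) S (fun e => by
        rw [hS]
        show q (Ideal.Quotient.mk I e) = ev (algebraMap R Rhat (Y.proj e))
        rw [hq, hevι])
  let Φ : Y.E →ₐ[Λ] (X.pullback R).E :=
    AlgHom.codRestrict (AlgHom.prod Ψ Y.proj) (X.fiberProd R) (fun e => rfl)
  refine ⟨(equivOfHom Y (X.pullback R) Φ (fun e => rfl) (fun z => ?_)).symm⟩
  apply Subtype.ext
  apply Prod.ext
  · apply Subtype.ext
    apply Prod.ext
    · rfl
    · show algebraMap R Rhat (Y.proj (Y.incl z)) = 0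
      rw [proj_incl, map_zero]
  · show Y.proj (Y.incl z) = 0
    exact proj_incl Y z

end main

end Groth.Agent.Lib.Helper9.ExalCompletion
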