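import Mathlib
import Groth.Prelude.Def_Exal2
import Groth.Agent.Lib.Helper9.ExalArtinRees
import Groth.Agent.Lib.Helper29.Exal
import Groth.Agent.Lib.Helper76.PSComplete

set_option autoImplicit false
universe u

/-!
# Extensions of a quotient of a power series ring by a simple module
-/

namespace Groth.Agent.Lib.Helper9.ExalPS

open Exal Groth.Agent.Lib.Helper29.ExalLib Groth.Agent.Lib.Helper76.PSComplete
open Groth.Agent.Lib.Helper76.LT

section lifting

variable {Λ P E R : Type u} [CommRing Λ] [CommRing P] [CommRing E] [CommRing R]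
  [Algebra Λ P] [Algebra Λ E] [Algebra Λ R]

/-- Lifting through a fibre-product description: if `I ∩ ker p = 0`, compatible algebra maps to
`E ⧸ I` and `R` which can be lifted pointwise lift to an algebra map to `E`. -/
theorem exists_algHom_of_pointwise (p : E →ₐ[Λ] R) (I : Ideal E)
    (hI : ∀ y ∈ I, p y = 0 → y = 0) (g : P →ₐ[Λ] E ⧸ I) (h : P →ₐ[Λ] R)
    (hex : ∀ F, ∃ y, p y = h F ∧ Ideal.Quotient.mk I y = g F) :
    ∃ u : P →ₐ[Λ] E, (∀ F, p (u F) = h F) ∧ ∀ F, Ideal.Quotient.mk I (u F) = g F := by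
  choose u hu1 hu2 using hex
  have huniq : ∀ F y, p y = h F → Ideal.Quotient.mk I y = g F → u F = y := by
    intro F y h1 h2
    rw [← sub_eq_zero]
    refine hI _ ?_ (by rw [map_sub, hu1, h1, sub_self])
    rw [← Ideal.Quotient.eq, hu2, h2]
  refine ⟨
    { toFun := u
      map_one' := huniq _ _ (by rw [map_one, map_one]) (by rw [map_one, map_one])
      map_mul' := fun F G => huniq _ _ (by rw [map_mul, map_mul, hu1, hu1])
        (by rw [map_mul, map_mul, hu2, hu2])
      map_zero' := huniq _ _ (by rw [map_zero, map_zero]) (by rw [map_zero, map_zero])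
      map_add' := fun F G => huniq _ _ (by rw [map_add, map_add, hu1, hu1])
        (by rw [map_add, map_add, hu2, hu2])
      commutes' := fun a => huniq _ _ (by rw [AlgHom.commutes, AlgHom.commutes])
        (by rw [AlgHom.commutes]; rfl) }, hu1, hu2⟩

end lifting

section PS

variable {Λ : Type u} [CommRing Λ] {d : ℕ}
  (J : Ideal (MvPowerSeries (Fin d) Λ))
  {L : Type u} [AddCommGroup L] [Module (MvPowerSeries (Fin d) Λ ⧸ J) L]
  [Module (MvPowerSeries (Fin d) Λ) L]
  [IsScalarTower (MvPowerSeries (Fin d) Λ) (MvPowerSeries (Fin d) Λ ⧸ J) L]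

local notation "PΛ" => MvPowerSeries (Fin d) Λ

/-- The ideal of `P ⧸ J` generated by the variables kills `L`. -/
lemma map_varIdeal_smul (hL : ∀ (i : Fin d) (z : L), (MvPowerSeries.X i : PΛ) • z = 0)
    {r : PΛ ⧸ J} (hr : r ∈ (varIdeal (Fin d) Λ).map (Ideal.Quotient.mk J)) (z : L) :
    r • z = 0 := by
  have h1 : (varIdeal (Fin d) Λ).map (Ideal.Quotient.mk J) ≤ Module.annihilator (PΛ ⧸ J) L := by
    unfold varIdeal
    rw [Ideal.map_span, Ideal.span_le]
    rintro _ ⟨_, ⟨i, rfl⟩, rfl⟩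
    rw [SetLike.mem_coe, Module.mem_annihilator]
    intro z
    have := hL i z
    rwa [← Ideal.Quotient.algebraMap_eq, algebraMap_smul]
  exact Module.mem_annihilator.mp (h1 hr) z

lemma sub_truncTotal_mem (N : ℕ) (F : PΛ) :
    F - ((MvPowerSeries.truncTotal N F : MvPolynomial (Fin d) Λ) : PΛ) ∈
      varIdeal (Fin d) Λ ^ N := by
  refine mem_varIdeal_pow_of_ord fun e he => ?_
  rw [map_sub, MvPolynomial.coeff_coe, MvPowerSeries.coeff_truncTotal _ he, sub_self]

/-- Part (a): the quotient map lifts to every extension by `L`. -/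
theorem exists_lift [IsNoetherianRing Λ] (hL : ∀ (i : Fin d) (z : L), (MvPowerSeries.X i : PΛ) • z = 0)
    (X : Ext Λ (PΛ ⧸ J) L) :
    ∃ u : PΛ →ₐ[Λ] X.E, ∀ F, X.proj (u F) = Ideal.Quotient.mk J F := by
  classical
  set 𝔟 : Ideal (PΛ ⧸ J) := (varIdeal (Fin d) Λ).map (Ideal.Quotient.mk J) with h𝔟
  let x : Fin d → PΛ ⧸ J := fun i => Ideal.Quotient.mk J (MvPowerSeries.X i)
  have hx : Ideal.span (Set.range x) = 𝔟 := by
    rw [h𝔟]
    unfold varIdeal
    rw [Ideal.map_span, ← Set.range_comp]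
    rfl
  obtain ⟨c, hc⟩ := ExalArtinRees.exists_pow_inter_ker (PΛ ⧸ J) 𝔟 x hx
  choose e he using fun i => X.isExtension.proj_surjective (x i)
  have hK : ∀ u w : X.E, (X.proj : X.E →+* PΛ ⧸ J) u = 0 →
      (X.proj : X.E →+* PΛ ⧸ J) w ∈ 𝔟 → u * w = 0 := by
    intro u w hu hw
    obtain ⟨z, rfl⟩ := (X.isExtension.exact u).mp hu
    rw [mul_comm, X.isExtension.mul_incl]
    have : X.proj w • z = 0 := map_varIdeal_smul J hL hw z
    rw [this, map_zero]
  have hI := hc (X.proj : X.E →+* PΛ ⧸ J) X.isExtension.proj_surjective hK e he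
  set 𝔞 : Ideal X.E := Ideal.span (Set.range e) with h𝔞
  have hmap : Ideal.map (X.proj : X.E →+* PΛ ⧸ J) 𝔞 = 𝔟 := by
    rw [h𝔞, Ideal.map_span, ← Set.range_comp, ← hx]
    congr 2
    funext i
    exact he i
  have he𝔞 : ∀ i, e i ∈ 𝔞 := fun i => Ideal.subset_span ⟨i, rfl⟩
  obtain ⟨u, hu, -⟩ := exists_algHom_of_pointwise X.proj (𝔞 ^ (c + 1 + 1)) hI
    (evCn 𝔞 e he𝔞 (c + 1 + 1)) (Ideal.Quotient.mkₐ Λ J) (fun F => by
      set N := c + 1 + 1
      set y₀ : X.E := MvPolynomial.aeval e (MvPowerSeries.truncTotal N F) with hy₀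
      have h1 : X.proj y₀ = Ideal.Quotient.mk J
          ((MvPowerSeries.truncTotal N F : MvPolynomial (Fin d) Λ) : PΛ) := by
        have : X.proj.comp (MvPolynomial.aeval e) =
            (Ideal.Quotient.mkₐ Λ J).comp (MvPolynomial.coeToMvPowerSeries.algHom Λ) := by
          refine MvPolynomial.algHom_ext fun i => ?_
          simp only [AlgHom.comp_apply, MvPolynomial.aeval_X, he,
            MvPolynomial.coeToMvPowerSeries.algHom_apply, Algebra.algebraMap_self,
            MvPolynomial.map_id, RingHom.id_apply, MvPolynomial.coe_X, Ideal.Quotient.mkₐ_eq_mk]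
          rfl
        have h3 := congrArg (fun f => f (MvPowerSeries.truncTotal N F)) this
        simp only [AlgHom.comp_apply, MvPolynomial.coeToMvPowerSeries.algHom_apply,
          Algebra.algebraMap_self, MvPolynomial.map_id, Ideal.Quotient.mkₐ_eq_mk] at h3
        exact h3
      have h2 : Ideal.Quotient.mk J (F - ((MvPowerSeries.truncTotal N F :
          MvPolynomial (Fin d) Λ) : PΛ)) ∈ Ideal.map (X.proj : X.E →+* PΛ ⧸ J) (𝔞 ^ N) := by
        rw [Ideal.map_pow, hmap, h𝔟, ← Ideal.map_pow]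
        exact Ideal.mem_map_of_mem _ (sub_truncTotal_mem N F)
      obtain ⟨j, hj, hj'⟩ := (Ideal.mem_map_iff_of_surjective (X.proj : X.E →+* PΛ ⧸ J)
        X.isExtension.proj_surjective).mp h2
      refine ⟨y₀ + j, ?_, ?_⟩
      · rw [map_add, h1]
        have : X.proj j = Ideal.Quotient.mk J (F - ((MvPowerSeries.truncTotal N F :
          MvPolynomial (Fin d) Λ) : PΛ)) := hj'
        rw [this, map_sub]
        simp
      · rw [map_add, Ideal.Quotient.eq_zero_iff_mem.mpr hj, add_zero]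
        rfl)
  exact ⟨u, hu⟩

/-- Part (b), forward direction. -/
theorem agree_of_equiv (hL : ∀ (i : Fin d) (z : L), (MvPowerSeries.X i : PΛ) • z = 0)
    (hJ : J ≤ varIdeal (Fin d) Λ ^ 2) (X X' : Ext Λ (PΛ ⧸ J) L)
    (u : PΛ →ₐ[Λ] X.E) (u' : PΛ →ₐ[Λ] X'.E)
    (hu : ∀ F, X.proj (u F) = Ideal.Quotient.mk J F)
    (hu' : ∀ F, X'.proj (u' F) = Ideal.Quotient.mk J F)
    (θ : X.Equiv X') : ∀ j ∈ J, ∃ z : L, X.incl z = u j ∧ X'.incl z = u' j := by
  have hkill : ∀ F ∈ varIdeal (Fin d) Λ, ∀ z : L, Ideal.Quotient.mk J F • z = 0 :=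
    fun F hF z => map_varIdeal_smul J hL (Ideal.mem_map_of_mem _ hF) z
  have hD : ∀ F G, F ∈ varIdeal (Fin d) Λ → G ∈ varIdeal (Fin d) Λ →
      θ.toAlgEquiv (u (F * G)) = u' (F * G) := by
    intro F G hF hG
    obtain ⟨z₁, hz₁⟩ := exists_incl_of_proj_eq X' (x := θ.toAlgEquiv (u F)) (y := u' F)
      (by rw [θ.proj_apply, hu, hu'])
    obtain ⟨z₂, hz₂⟩ := exists_incl_of_proj_eq X' (x := θ.toAlgEquiv (u G)) (y := u' G)
      (by rw [θ.proj_apply, hu, hu'])
    rw [map_mul, map_mul, map_mul, hz₁, hz₂]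
    have e1 : u' F * X'.incl z₂ = 0 := by
      rw [X'.isExtension.mul_incl, hu', hkill F hF, map_zero]
    have e2 : u' G * X'.incl z₁ = 0 := by
      rw [X'.isExtension.mul_incl, hu', hkill G hG, map_zero]
    have e3 := incl_mul_incl X' z₁ z₂
    linear_combination e1 + e2 + e3
  have hsq : ∀ F ∈ varIdeal (Fin d) Λ ^ 2, θ.toAlgEquiv (u F) = u' F := by
    intro F hF
    rw [pow_two] at hF
    refine Submodule.mul_induction_on hF (fun a ha b hb => hD a b ha hb)
      (fun a b ha hb => by rw [map_add, map_add, ha, hb, map_add])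
  intro j hj
  have h0 : X.proj (u j) = 0 := by
    rw [hu, Ideal.Quotient.eq_zero_iff_mem]
    exact hj
  obtain ⟨z, hz⟩ := (X.isExtension.exact _).mp h0
  refine ⟨z, hz, ?_⟩
  rw [← θ.apply_incl, hz, hsq j (hJ hj)]

/-- Part (b), backward direction. -/
theorem equiv_of_agree (X X' : Ext Λ (PΛ ⧸ J) L)
    (u : PΛ →ₐ[Λ] X.E) (u' : PΛ →ₐ[Λ] X'.E)
    (hu : ∀ F, X.proj (u F) = Ideal.Quotient.mk J F)
    (hu' : ∀ F, X'.proj (u' F) = Ideal.Quotient.mk J F)
    (hag : ∀ j ∈ J, ∃ z : L, X.incl z = u j ∧ X'.incl z = u' j) : Nonempty (X.Equiv X') := by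
  classical
  have hrep : ∀ y : X.E, ∃ (F : PΛ) (z : L), y = u F + X.incl z := by
    intro y
    obtain ⟨F, hF⟩ := Ideal.Quotient.mk_surjective (X.proj y)
    obtain ⟨z, hz⟩ := exists_incl_of_proj_eq X (x := y) (y := u F) (by rw [hu, hF])
    exact ⟨F, z, hz⟩
  have hwd : ∀ (F₁ : PΛ) (z₁ : L) (F₂ : PΛ) (z₂ : L), u F₁ + X.incl z₁ = u F₂ + X.incl z₂ →
      u' F₁ + X'.incl z₁ = u' F₂ + X'.incl z₂ := by
    intro F₁ z₁ F₂ z₂ h
    have h1 : u (F₁ - F₂) = X.incl (z₂ - z₁) := by
      rw [map_sub, map_sub]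
      linear_combination h
    have hj : F₁ - F₂ ∈ J := by
      rw [← Ideal.Quotient.eq_zero_iff_mem, ← hu, h1, proj_incl]
    obtain ⟨z, hz, hz'⟩ := hag _ hj
    have : z = z₂ - z₁ := X.isExtension.incl_injective (by rw [hz, h1])
    rw [this, map_sub, map_sub] at hz'
    linear_combination -hz'
  choose Fy zy hy using hrep
  have key : ∀ (y : X.E) (F : PΛ) (z : L), y = u F + X.incl z →
      u' (Fy y) + X'.incl (zy y) = u' F + X'.incl z := by
    intro y F z h
    exact hwd _ _ _ _ (by rw [← hy y, h])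
  have hmulX : ∀ (F₁ : PΛ) (z₁ : L) (F₂ : PΛ) (z₂ : L),
      (u F₁ + X.incl z₁) * (u F₂ + X.incl z₂) =
        u (F₁ * F₂) + X.incl (Ideal.Quotient.mk J F₁ • z₂ + Ideal.Quotient.mk J F₂ • z₁) := by
    intro F₁ z₁ F₂ z₂
    have e1 : u F₁ * X.incl z₂ = X.incl (Ideal.Quotient.mk J F₁ • z₂) := by
      rw [X.isExtension.mul_incl, hu]
    have e2 : u F₂ * X.incl z₁ = X.incl (Ideal.Quotient.mk J F₂ • z₁) := by
      rw [X.isExtension.mul_incl, hu]
    have e3 := incl_mul_incl X z₁ z₂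
    rw [map_add, map_mul, ← e1, ← e2]
    linear_combination e3
  have hmulX' : ∀ (F₁ : PΛ) (z₁ : L) (F₂ : PΛ) (z₂ : L),
      (u' F₁ + X'.incl z₁) * (u' F₂ + X'.incl z₂) =
        u' (F₁ * F₂) + X'.incl (Ideal.Quotient.mk J F₁ • z₂ + Ideal.Quotient.mk J F₂ • z₁) := by
    intro F₁ z₁ F₂ z₂
    have e1 : u' F₁ * X'.incl z₂ = X'.incl (Ideal.Quotient.mk J F₁ • z₂) := by
      rw [X'.isExtension.mul_incl, hu']
    have e2 : u' F₂ * X'.incl z₁ = X'.incl (Ideal.Quotient.mk J F₂ • z₁) := by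
      rw [X'.isExtension.mul_incl, hu']
    have e3 := incl_mul_incl X' z₁ z₂
    rw [map_add, map_mul, ← e1, ← e2]
    linear_combination e3
  let Θ : X.E →ₐ[Λ] X'.E :=
    { toFun := fun y => u' (Fy y) + X'.incl (zy y)
      map_one' := by
        rw [key 1 1 0 (by rw [map_one, map_zero, add_zero]), map_one, map_zero, add_zero]
      map_mul' := by
        intro y₁ y₂
        rw [key (y₁ * y₂) (Fy y₁ * Fy y₂)
          (Ideal.Quotient.mk J (Fy y₁) • zy y₂ + Ideal.Quotient.mk J (Fy y₂) • zy y₁)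
          (by rw [← hmulX, ← hy, ← hy]), hmulX']
      map_zero' := by
        rw [key 0 0 0 (by rw [map_zero, map_zero, add_zero]), map_zero, map_zero, add_zero]
      map_add' := by
        intro y₁ y₂
        rw [key (y₁ + y₂) (Fy y₁ + Fy y₂) (zy y₁ + zy y₂)
          (by rw [map_add, map_add]; nth_rw 1 [hy y₁, hy y₂]; ring), map_add, map_add]
        ring
      commutes' := by
        intro a
        rw [key (algebraMap Λ X.E a) (algebraMap Λ PΛ a) 0
          (by rw [AlgHom.commutes, map_zero, add_zero]), AlgHom.commutes, map_zero, add_zero] }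
  have hΘ : ∀ (F : PΛ) (z : L), Θ (u F + X.incl z) = u' F + X'.incl z :=
    fun F z => key _ F z rfl
  refine ⟨equivOfHom X X' Θ ?_ ?_⟩
  · intro y
    rw [hy y, hΘ, map_add, map_add, hu, hu', proj_incl, proj_incl]
  · intro z
    have := hΘ 0 z
    rwa [map_zero, map_zero, zero_add, zero_add] at this

attribute [local instance] Exal.opModule Exal.isCentralScalar_opModule in
/-- Part (c), the zero map: the trivial extension. -/
theorem exists_ext_of_zero :
    ∃ (X : Ext Λ (PΛ ⧸ J) L) (u : PΛ →ₐ[Λ] X.E),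
      (∀ F, X.proj (u F) = Ideal.Quotient.mk J F) ∧ ∀ j : J, X.incl (0 : L) = u j := by
  let u : PΛ →ₐ[Λ] (Ext.trivial Λ (PΛ ⧸ J) L).E :=
    { toRingHom := ((TrivSqZeroExt.inlHom (PΛ ⧸ J) L).comp (Ideal.Quotient.mk J) :
        PΛ →+* Ext.TrivCarrier Λ (PΛ ⧸ J) L)
      commutes' := fun a => rfl }
  refine ⟨Ext.trivial Λ (PΛ ⧸ J) L, u, fun F => rfl, fun j => ?_⟩
  have h1 : u (j : PΛ) = TrivSqZeroExt.inl (Ideal.Quotient.mk J (j : PΛ)) := rfl
  rw [map_zero, h1, Ideal.Quotient.eq_zero_iff_mem.mpr j.2]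
  rfl

/-- Part (c), a surjective map: the extension `P ⧸ ker δ`. -/
theorem exists_ext_of_surjective (δ : J →ₗ[PΛ] L) (hsurj : Function.Surjective δ) :
    ∃ (X : Ext Λ (PΛ ⧸ J) L) (u : PΛ →ₐ[Λ] X.E),
      (∀ F, X.proj (u F) = Ideal.Quotient.mk J F) ∧ ∀ j : J, X.incl (δ j) = u j := by
  classical
  let J' : Ideal PΛ := Submodule.map J.subtype (LinearMap.ker δ)
  have hle : J' ≤ J := by
    rintro _ ⟨j, -, rfl⟩
    exact j.2
  have hmk : ∀ j j' : J, δ j = δ j' →
      Ideal.Quotient.mk J' (j : PΛ) = Ideal.Quotient.mk J' (j' : PΛ) := by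
    intro j j' h
    rw [Ideal.Quotient.eq]
    exact ⟨j - j', by rw [SetLike.mem_coe, LinearMap.mem_ker, map_sub, h, sub_self], rfl⟩
  have hmk' : ∀ j j' : J, Ideal.Quotient.mk J' (j : PΛ) = Ideal.Quotient.mk J' (j' : PΛ) →
      δ j = δ j' := by
    intro j j' h
    rw [Ideal.Quotient.eq] at h
    obtain ⟨j'', hj'', hj⟩ := h
    have : j'' = j - j' := Subtype.ext hj
    rw [this, SetLike.mem_coe, LinearMap.mem_ker, map_sub, sub_eq_zero] at hj''
    exact hj''
  let s : L → J := Function.surjInv hsurj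
  have hs : ∀ z, δ (s z) = z := Function.surjInv_eq hsurj
  let incl : L →+ PΛ ⧸ J' :=
    { toFun := fun z => Ideal.Quotient.mk J' (s z : PΛ)
      map_zero' := by
        have := hmk (s 0) 0 (by rw [hs, map_zero])
        rw [this]
        simp
      map_add' := fun z z' => by
        have := hmk (s (z + z')) (s z + s z') (by rw [hs, map_add, hs, hs])
        rw [this]
        simp }
  have hincl : ∀ z, incl z = Ideal.Quotient.mk J' (s z : PΛ) := fun z => rfl
  have hinclδ : ∀ j : J, incl (δ j) = Ideal.Quotient.mk J' (j : PΛ) := fun j =>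
    hmk _ _ (hs _)
  let proj : (PΛ ⧸ J') →ₐ[Λ] (PΛ ⧸ J) := Ideal.Quotient.factorₐ Λ hle
  have hproj : ∀ F, proj (Ideal.Quotient.mk J' F) = Ideal.Quotient.mk J F := fun F => rfl
  let X : Ext Λ (PΛ ⧸ J) L :=
    { E := PΛ ⧸ J'
      proj := proj
      incl := incl
      isExtension :=
        { proj_surjective := fun r => by
            obtain ⟨F, rfl⟩ := Ideal.Quotient.mk_surjective r
            exact ⟨Ideal.Quotient.mk J' F, hproj F⟩
          incl_injective := fun z z' h => by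
            have := hmk' _ _ h
            rwa [hs, hs] at this
          exact := fun y => by
            obtain ⟨F, rfl⟩ := Ideal.Quotient.mk_surjective y
            rw [hproj, Ideal.Quotient.eq_zero_iff_mem]
            constructor
            · intro hF
              exact ⟨δ ⟨F, hF⟩, hinclδ ⟨F, hF⟩⟩
            · rintro ⟨z, hz⟩
              have h1 : proj (incl z) = Ideal.Quotient.mk J F := by rw [hz, hproj]
              rw [hincl, hproj, Ideal.Quotient.eq_zero_iff_mem.mpr (s z).2] at h1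
              exact Ideal.Quotient.eq_zero_iff_mem.mp h1.symm
          mul_incl := fun y z => by
            obtain ⟨F, rfl⟩ := Ideal.Quotient.mk_surjective y
            rw [hproj, hincl, hincl, ← map_mul]
            have h1 : F * (s z : PΛ) = ((F • s z : J) : PΛ) := rfl
            rw [h1]
            refine hmk _ _ ?_
            rw [map_smul, hs, hs, ← Ideal.Quotient.algebraMap_eq, algebraMap_smul] } }
  refine ⟨X, Ideal.Quotient.mkₐ Λ J', fun F => rfl, fun j => hinclδ j⟩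

/-- Part (c). -/
theorem exists_ext_of_linearMap [IsSimpleModule (PΛ ⧸ J) L] (δ : J →ₗ[PΛ] L) :
    ∃ (X : Ext Λ (PΛ ⧸ J) L) (u : PΛ →ₐ[Λ] X.E),
      (∀ F, X.proj (u F) = Ideal.Quotient.mk J F) ∧ ∀ j : J, X.incl (δ j) = u j := by
  classical
  by_cases h0 : δ = 0
  · subst h0
    obtain ⟨X, u, h1, h2⟩ := exists_ext_of_zero J (Λ := Λ) (L := L)
    exact ⟨X, u, h1, fun j => by rw [LinearMap.zero_apply]; exact h2 j⟩
  · refine exists_ext_of_surjective J δ ?_
    obtain ⟨j₀, hj₀⟩ : ∃ j₀, δ j₀ ≠ 0 := by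
      by_contra hcon
      push Not at hcon
      exact h0 (LinearMap.ext hcon)
    intro z
    obtain ⟨r, hr⟩ := IsSimpleModule.toSpanSingleton_surjective (PΛ ⧸ J) hj₀ z
    obtain ⟨F, rfl⟩ := Ideal.Quotient.mk_surjective r
    refine ⟨F • j₀, ?_⟩
    rw [map_smul, ← hr, LinearMap.toSpanSingleton_apply, ← Ideal.Quotient.algebraMap_eq,
      algebraMap_smul]

end PS

end Groth.Agent.Lib.Helper9.ExalPS
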