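import Mathlib

set_option autoImplicit false
universe u

/-!
# Automorphisms of a flat deformation along a small extension

`A` local Artinian, `t` in the socle, `B` flat over `A`.  Lifts of an automorphism of `B/tB` to `B`
form a torsor under the derivations of `B/𝔪B`.
-/

namespace Groth.Agent.Lib.Helper9.SmallExtAut

section basic

variable {A : Type u} [CommRing A] [IsLocalRing A]
  (t : A) (ht0 : t ≠ 0) (htm : ∀ a ∈ IsLocalRing.maximalIdeal A, a * t = 0)
  {B : Type u} [CommRing B] [Algebra A B]

include htm in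
lemma T_mul_of_mem {x : B} (hx : x ∈ (IsLocalRing.maximalIdeal A).map (algebraMap A B)) :
    algebraMap A B t * x = 0 := by
  rw [Ideal.map] at hx
  refine Submodule.span_induction ?_ ?_ ?_ ?_ hx
  · rintro _ ⟨a, ha, rfl⟩
    rw [← map_mul, mul_comm, htm a ha, map_zero]
  · simp
  · intro x y _ _ hx hy
    rw [mul_add, hx, hy, add_zero]
  · intro r x _ hx
    rw [smul_eq_mul, mul_left_comm, hx, mul_zero]

include htm in
lemma T_mul_congr {x y : B}
    (h : Ideal.Quotient.mk ((IsLocalRing.maximalIdeal A).map (algebraMap A B)) x =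
      Ideal.Quotient.mk ((IsLocalRing.maximalIdeal A).map (algebraMap A B)) y) :
    algebraMap A B t * x = algebraMap A B t * y := by
  have := T_mul_of_mem t htm (Ideal.Quotient.eq.mp h)
  rw [mul_sub] at this
  exact sub_eq_zero.mp this

include ht0 in
lemma mem_of_T_mul [Module.Flat A B] {b : B} (h : algebraMap A B t * b = 0) :
    b ∈ (IsLocalRing.maximalIdeal A).map (algebraMap A B) := by
  obtain ⟨n, a, y, hb, ha⟩ := Module.Flat.isTrivialRelation_of_sum_smul_eq_zero
    (R := A) (M := B) (ι := Unit) (f := fun _ => t) (x := fun _ => b)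
    (by simp [Algebra.smul_def, h])
  have hb' := hb ()
  simp only at hb'
  rw [hb']
  refine Ideal.sum_mem _ fun j _ => ?_
  rw [Algebra.smul_def]
  refine Ideal.mul_mem_right _ _ (Ideal.mem_map_of_mem _ ?_)
  by_contra hu
  have hunit : IsUnit (a () j) := by
    by_contra h'
    exact hu ((IsLocalRing.mem_maximalIdeal _).mpr h')
  have h2 := ha j
  simp only [Finset.univ_unique, Finset.sum_singleton] at h2
  exact ht0 (hunit.mul_left_eq_zero.mp h2)

end basic


section main

variable {k : Type u} [Field k]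
  {A : Type u} [CommRing A] [Algebra k A] [IsLocalRing A]
  (hres : ∀ a : A, ∃ c : k, a - algebraMap k A c ∈ IsLocalRing.maximalIdeal A)
  (t : A) (ht : t ∈ IsLocalRing.maximalIdeal A) (ht0 : t ≠ 0)
  (htm : ∀ a ∈ IsLocalRing.maximalIdeal A, a * t = 0)
  {B : Type u} [CommRing B] [Algebra A B] [Module.Flat A B] [Algebra k B] [IsScalarTower k A B]

local notation "𝔪B" => Ideal.map (algebraMap A B) (IsLocalRing.maximalIdeal A)
local notation "π" => Ideal.Quotient.mk (Ideal.map (algebraMap A B) (IsLocalRing.maximalIdeal A))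
local notation "T" => algebraMap A B t

omit [Module.Flat A B] in
include ht htm in
lemma T_mul_T : T * T = 0 := by
  rw [← map_mul, htm t ht, map_zero]

omit [Module.Flat A B] in
include ht in
lemma T_mem : T ∈ 𝔪B := Ideal.mem_map_of_mem _ ht

omit [Module.Flat A B] in
include hres in
lemma pi_algebraMap (a : A) : ∃ c : k, π (algebraMap A B a) = algebraMap k (B ⧸ 𝔪B) c := by
  obtain ⟨c, hc⟩ := hres a
  refine ⟨c, ?_⟩
  have h1 : algebraMap A B a = algebraMap A B (a - algebraMap k A c) + algebraMap k B c := by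
    rw [IsScalarTower.algebraMap_apply k A B, ← map_add, sub_add_cancel]
  rw [h1, map_add, Ideal.Quotient.eq_zero_iff_mem.mpr (Ideal.mem_map_of_mem _ hc), zero_add]
  rfl

include ht ht0 htm in
/-- Part 1: a lift `η` of `σ` determines a unique derivation. -/
theorem existsUnique_derivation
    (τ η : B ≃ₐ[A] B)
    (hητ : ∀ b : B, Ideal.Quotient.mk (Ideal.span {T}) (η b) = Ideal.Quotient.mk (Ideal.span {T}) (τ b))
    (hτ0 : ∀ b : B, τ b - b ∈ 𝔪B) :
    ∃! d : Derivation k (B ⧸ 𝔪B) (B ⧸ 𝔪B),
      ∀ b b' : B, π b' = d (π b) → η b = τ b + T * b' := by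
  classical
  have hdiff : ∀ b, ∃ c, η b = τ b + T * c := by
    intro b
    have h1 := hητ b
    rw [Ideal.Quotient.eq, Ideal.mem_span_singleton'] at h1
    obtain ⟨c, hc⟩ := h1
    exact ⟨c, by rw [mul_comm, hc]; ring⟩
  choose c hc using hdiff
  have huniq : ∀ b c', η b = τ b + T * c' → π c' = π (c b) := by
    intro b c' h
    rw [Ideal.Quotient.eq]
    apply mem_of_T_mul t ht0
    have h2 := hc b
    rw [h] at h2
    rw [mul_sub]
    linear_combination h2
  have hπτ : ∀ b, π (τ b) = π b := fun b => Ideal.Quotient.eq.mpr (hτ0 b)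
  have hTT := T_mul_T t ht htm (B := B)
  have D_zero : π (c 0) = 0 := by
    rw [← huniq 0 0 (by simp), map_zero]
  have D_add : ∀ b b', π (c (b + b')) = π (c b) + π (c b') := by
    intro b b'
    rw [← map_add, ← huniq (b + b') (c b + c b') (by rw [map_add, map_add, hc b, hc b']; ring)]
  have D_mul : ∀ b b', π (c (b * b')) = π b * π (c b') + π b' * π (c b) := by
    intro b b'
    rw [← huniq (b * b') (τ b * c b' + τ b' * c b)
      (by rw [map_mul, map_mul, hc b, hc b']; linear_combination (c b * c b') * hTT)]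
    rw [map_add, map_mul, map_mul, hπτ, hπτ]
  have D_algA : ∀ (a : A) b, π (c (algebraMap A B a * b)) = π (algebraMap A B a) * π (c b) := by
    intro a b
    rw [← map_mul, ← huniq (algebraMap A B a * b) (algebraMap A B a * c b)
      (by rw [map_mul, map_mul, AlgEquiv.commutes, AlgEquiv.commutes, hc b]; ring)]
  have D_mem : ∀ x ∈ 𝔪B, π (c x) = 0 := by
    intro x hx
    rw [Ideal.map] at hx
    refine Submodule.span_induction ?_ ?_ ?_ ?_ hx
    · rintro _ ⟨a, ha, rfl⟩
      have := D_algA a 1
      rw [mul_one] at this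
      rw [this, Ideal.Quotient.eq_zero_iff_mem.mpr (Ideal.mem_map_of_mem _ ha), zero_mul]
    · exact D_zero
    · intro x y _ _ hx hy
      rw [D_add, hx, hy, add_zero]
    · intro r x hx' hx
      rw [smul_eq_mul, D_mul, hx, mul_zero, zero_add]
      have : π x = 0 := Ideal.Quotient.eq_zero_iff_mem.mpr (by rw [Ideal.map]; exact hx')
      rw [this, zero_mul]
  have D_congr : ∀ b b', π b = π b' → π (c b) = π (c b') := by
    intro b b' h
    have h1 : b = b' + (b - b') := by ring
    rw [h1, D_add, D_mem _ (Ideal.Quotient.eq.mp h), add_zero]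
  let s : B ⧸ 𝔪B → B := Function.surjInv Ideal.Quotient.mk_surjective
  have hs : ∀ x, π (s x) = x := Function.surjInv_eq _
  have hd : ∀ b, π (c (s (π b))) = π (c b) := fun b => D_congr _ _ (hs _)
  let dl : (B ⧸ 𝔪B) →ₗ[k] (B ⧸ 𝔪B) :=
    { toFun := fun x => π (c (s x))
      map_add' := by
        intro x y
        obtain ⟨b, rfl⟩ := Ideal.Quotient.mk_surjective x
        obtain ⟨b', rfl⟩ := Ideal.Quotient.mk_surjective y
        rw [← map_add, hd, hd, hd, D_add]
      map_smul' := by
        intro r x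
        obtain ⟨b, rfl⟩ := Ideal.Quotient.mk_surjective x
        have h1 : r • π b = π (algebraMap A B (algebraMap k A r) * b) := by
          rw [Algebra.smul_def, map_mul, ← IsScalarTower.algebraMap_apply k A B]
          rfl
        rw [h1, hd, hd, D_algA, RingHom.id_apply, Algebra.smul_def,
          ← IsScalarTower.algebraMap_apply k A B]
        rfl }
  have hdl : ∀ b, dl (π b) = π (c b) := hd
  let d : Derivation k (B ⧸ 𝔪B) (B ⧸ 𝔪B) := Derivation.mk' dl (by
    intro x y
    obtain ⟨b, rfl⟩ := Ideal.Quotient.mk_surjective x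
    obtain ⟨b', rfl⟩ := Ideal.Quotient.mk_surjective y
    rw [← map_mul, hdl, hdl, hdl, D_mul, smul_eq_mul, smul_eq_mul])
  have hdd : ∀ b, d (π b) = π (c b) := hd
  refine ⟨d, ?_, ?_⟩
  · intro b b' h
    rw [hdd] at h
    rw [hc b, T_mul_congr t htm h]
  · intro d' hd'
    refine Derivation.ext fun x => ?_
    obtain ⟨b, rfl⟩ := Ideal.Quotient.mk_surjective x
    obtain ⟨b', hb'⟩ := Ideal.Quotient.mk_surjective (d' (π b))
    rw [hdd, ← hb']
    exact huniq b b' (hd' b b' hb')

omit [Module.Flat A B] in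
include hres ht htm in
/-- Part 2: every derivation comes from a lift. -/
theorem exists_lift_of_derivation
    (τ : B ≃ₐ[A] B) (hτ0 : ∀ b : B, τ b - b ∈ 𝔪B)
    (d : Derivation k (B ⧸ 𝔪B) (B ⧸ 𝔪B)) :
    ∃ η : B ≃ₐ[A] B,
      (∀ b : B, Ideal.Quotient.mk (Ideal.span {T}) (η b) =
        Ideal.Quotient.mk (Ideal.span {T}) (τ b)) ∧
      ∀ b b' : B, π b' = d (π b) → η b = τ b + T * b' := by
  classical
  have hπτ : ∀ b, π (τ b) = π b := fun b => Ideal.Quotient.eq.mpr (hτ0 b)
  have hTT := T_mul_T t ht htm (B := B)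
  have hπT : π T = 0 := Ideal.Quotient.eq_zero_iff_mem.mpr (T_mem t ht)
  let s : B ⧸ 𝔪B → B := Function.surjInv Ideal.Quotient.mk_surjective
  have hs : ∀ x, π (s x) = x := Function.surjInv_eq _
  let δ : B → B := fun b => T * s (d (π b))
  have hδ : ∀ b b', π b' = d (π b) → δ b = T * b' :=
    fun b b' h => T_mul_congr t htm (by rw [hs, h])
  have hδ0 : ∀ b, d (π b) = 0 → δ b = 0 := by
    intro b h
    rw [hδ b 0 (by rw [map_zero, h]), mul_zero]
  let ηh : B →ₐ[A] B :=
    { toFun := fun b => τ b + δ b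
      map_one' := by
        show τ 1 + δ 1 = 1
        rw [hδ0 1 (by rw [map_one]; exact d.map_one_eq_zero), map_one, add_zero]
      map_mul' := by
        intro b b'
        show τ (b * b') + δ (b * b') = (τ b + δ b) * (τ b' + δ b')
        rw [hδ (b * b') (τ b * s (d (π b')) + τ b' * s (d (π b)))
          (by rw [map_add, map_mul, map_mul, hs, hs, hπτ, hπτ, map_mul, d.leibniz,
                smul_eq_mul, smul_eq_mul]), map_mul]
        show _ = (τ b + T * s (d (π b))) * (τ b' + T * s (d (π b')))
        linear_combination (- s (d (π b)) * s (d (π b'))) * hTT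
      map_zero' := by
        show τ 0 + δ 0 = 0
        rw [hδ0 0 (by rw [map_zero, map_zero]), map_zero, add_zero]
      map_add' := by
        intro b b'
        show τ (b + b') + δ (b + b') = (τ b + δ b) + (τ b' + δ b')
        rw [hδ (b + b') (s (d (π b)) + s (d (π b')))
          (by rw [map_add, hs, hs, map_add, map_add]), map_add]
        show _ = (τ b + T * s (d (π b))) + (τ b' + T * s (d (π b')))
        ring
      commutes' := by
        intro a
        show τ (algebraMap A B a) + δ (algebraMap A B a) = algebraMap A B a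
        obtain ⟨r, hr⟩ := pi_algebraMap hres (B := B) a
        rw [hδ0 _ (by rw [hr]; exact d.map_algebraMap r), AlgEquiv.commutes, add_zero] }
  have hη : ∀ b, ηh b = τ b + T * s (d (π b)) := fun b => rfl
  have hπη : ∀ b, π (ηh b) = π b := by
    intro b
    rw [hη, map_add, map_mul, hπT, zero_mul, add_zero, hπτ]
  have hinj : Function.Injective ηh := by
    rw [injective_iff_map_eq_zero]
    intro x hx
    have h1 : π x = 0 := by rw [← hπη, hx, map_zero]
    have h2 : T * s (d (π x)) = 0 := hδ0 x (by rw [h1, map_zero])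
    rw [hη, h2, add_zero] at hx
    exact (map_eq_zero_iff τ τ.injective).mp hx
  have hsurj : Function.Surjective ηh := by
    intro b
    refine ⟨τ.symm b - T * s (d (π (τ.symm b))), ?_⟩
    have h1 : π (τ.symm b - T * s (d (π (τ.symm b)))) = π (τ.symm b) := by
      rw [map_sub, map_mul, hπT, zero_mul, sub_zero]
    rw [hη, h1, map_sub, map_mul, AlgEquiv.apply_symm_apply, AlgEquiv.commutes]
    have h2 : T * τ (s (d (π (τ.symm b)))) = T * s (d (π (τ.symm b))) :=
      T_mul_congr t htm (hπτ _)
    rw [h2]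
    ring
  refine ⟨AlgEquiv.ofBijective ηh ⟨hinj, hsurj⟩, ?_, ?_⟩
  · intro b
    show Ideal.Quotient.mk _ (ηh b) = _
    rw [hη, map_add, add_eq_left, Ideal.Quotient.eq_zero_iff_mem]
    exact Ideal.mul_mem_right _ _ (Ideal.subset_span rfl)
  · intro b b' h
    show ηh b = _
    rw [hη]
    congr 1
    exact hδ b b' h

end main

end Groth.Agent.Lib.Helper9.SmallExtAut
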