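import Mathlib
import Groth.Agent.Lib.Helper9.ExalPS
import Groth.Agent.Lib.Helper9.SmallExtAut

set_option autoImplicit false
universe u

/-!
# Sections of small thickenings of a flat algebra with formally smooth closed fibre
-/

namespace Groth.Agent.Lib.Helper9.FlatSmoothLift

open IsLocalRing

section core

variable {k : Type u} [Field k] {A : Type u} [CommRing A] [Algebra k A] [IsLocalRing A]
  (hres : ∀ a : A, ∃ c : k, a - algebraMap k A c ∈ maximalIdeal A)
  {B : Type u} [CommRing B] [Algebra A B] [Module.Flat A B] [Algebra k B] [IsScalarTower k A B]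
  {E : Type u} [CommRing E] [Algebra A E] (p : E →ₐ[A] B) (hp : Function.Surjective p)
  (hKm : ∀ (a : A) (x : E), a ∈ maximalIdeal A → p x = 0 → a • x = 0)

include hp hKm in
/-- `ker p ∩ 𝔪 E = 0` by flatness of `B`. -/
lemma eq_zero_of_mem_map (x : E) (hx : x ∈ (maximalIdeal A).map (algebraMap A E))
    (hpx : p x = 0) : x = 0 := by
  classical
  have hx' : x ∈ (maximalIdeal A • ⊤ : Submodule A E) := by
    rw [Ideal.smul_top_eq_map]
    exact hx
  have htop : (⊤ : Submodule A E) = Submodule.span A (Set.range (id : E → E)) := by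
    rw [Set.range_id, Submodule.span_univ]
  rw [htop, Submodule.mem_ideal_smul_span_iff_exists_sum] at hx'
  obtain ⟨a, ha, hsum⟩ := hx'
  have hsum' : x = ∑ z : a.support, a z • (z : E) := by
    rw [← hsum, Finsupp.sum, ← Finset.sum_coe_sort a.support (fun z => a z • (id z : E))]
    rfl
  have hrel : ∑ z : a.support, (fun z : a.support => a z) z • (fun z : a.support => p z) z = 0 := by
    have := congrArg p hsum'
    rw [hpx, map_sum] at this
    rw [this]
    exact Finset.sum_congr rfl fun z _ => (map_smul p _ _).symm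
  obtain ⟨n, C, v, hv, hC⟩ := Module.Flat.isTrivialRelation_of_sum_smul_eq_zero
    (R := A) (M := B) (f := fun z : a.support => a z) (x := fun z : a.support => p z) hrel
  choose v' hv' using fun j => hp (v j)
  have hκ : ∀ z : a.support, a z • ((z : E) - ∑ j, C z j • v' j) = 0 := by
    intro z
    refine hKm _ _ (ha z) ?_
    have hvz : p (z : E) = ∑ j, C z j • v j := hv z
    rw [map_sub, map_sum, hvz, sub_eq_zero]
    exact Finset.sum_congr rfl fun j _ => by rw [map_smul, hv']
  have h1 : ∀ z : a.support, a z • (z : E) = ∑ j, (a z * C z j) • v' j := by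
    intro z
    have := hκ z
    rw [smul_sub, sub_eq_zero] at this
    rw [this, Finset.smul_sum]
    exact Finset.sum_congr rfl fun j _ => by rw [smul_smul]
  rw [hsum', Finset.sum_congr rfl fun z _ => h1 z, Finset.sum_comm]
  refine Finset.sum_eq_zero fun j _ => ?_
  rw [← Finset.sum_smul, hC j, zero_smul]

end core

section sectionThm

variable {k : Type u} [Field k] {A : Type u} [CommRing A] [Algebra k A] [IsLocalRing A]
  {B : Type u} [CommRing B] [Algebra A B] [Module.Flat A B] [Algebra k B] [IsScalarTower k A B]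
  {E : Type u} [CommRing E] [Algebra A E]

/-- A surjection `p : E → B` of `A`-algebras with square-zero kernel killed by `𝔪_A` has an
`A`-algebra section when `B` is flat over `A` with formally smooth closed fibre. -/
theorem exists_section
    (hres : ∀ a : A, ∃ c : k, a - algebraMap k A c ∈ maximalIdeal A)
    (hsm : Algebra.FormallySmooth k (B ⧸ (maximalIdeal A).map (algebraMap A B)))
    (p : E →ₐ[A] B) (hp : Function.Surjective p)
    (hK2 : ∀ x y : E, p x = 0 → p y = 0 → x * y = 0)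
    (hKm : ∀ (a : A) (x : E), a ∈ maximalIdeal A → p x = 0 → a • x = 0) :
    ∃ s : B →ₐ[A] E, ∀ b, p (s b) = b := by
  classical
  letI : Algebra k E := ((algebraMap A E).comp (algebraMap k A)).toAlgebra
  haveI : IsScalarTower k A E := IsScalarTower.of_algebraMap_eq (fun _ => rfl)
  set 𝔪E : Ideal E := (maximalIdeal A).map (algebraMap A E) with h𝔪E
  set 𝔪B : Ideal B := (maximalIdeal A).map (algebraMap A B) with h𝔪B
  have hmap : Ideal.map (p : E →+* B) 𝔪E = 𝔪B := by
    rw [h𝔪E, h𝔪B, Ideal.map_map]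
    congr 1
    exact p.comp_algebraMap
  have hle : 𝔪E ≤ Ideal.comap (p.restrictScalars k) 𝔪B := by
    intro x hx
    rw [Ideal.mem_comap, ← hmap]
    exact Ideal.mem_map_of_mem (p : E →+* B) hx
  let p₀ : (E ⧸ 𝔪E) →ₐ[k] (B ⧸ 𝔪B) := Ideal.quotientMapₐ 𝔪B (p.restrictScalars k) hle
  have hp₀ : ∀ e : E, p₀ (Ideal.Quotient.mk 𝔪E e) = Ideal.Quotient.mk 𝔪B (p e) := fun e => rfl
  have hp₀surj : Function.Surjective p₀ := by
    intro y
    obtain ⟨b, rfl⟩ := Ideal.Quotient.mk_surjective y
    obtain ⟨e, rfl⟩ := hp b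
    exact ⟨Ideal.Quotient.mk 𝔪E e, hp₀ e⟩
  -- elements of the kernel of `p₀` come from the kernel of `p`
  have hker : ∀ y : E ⧸ 𝔪E, p₀ y = 0 → ∃ κ : E, p κ = 0 ∧ Ideal.Quotient.mk 𝔪E κ = y := by
    intro y hy
    obtain ⟨e, rfl⟩ := Ideal.Quotient.mk_surjective y
    rw [hp₀, Ideal.Quotient.eq_zero_iff_mem, ← hmap] at hy
    obtain ⟨e', he', hpe'⟩ := (Ideal.mem_map_iff_of_surjective (p : E →+* B) hp).mp hy
    refine ⟨e - e', ?_, ?_⟩
    · rw [map_sub]
      have : p e' = p e := hpe'
      rw [this, sub_self]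
    · rw [map_sub, Ideal.Quotient.eq_zero_iff_mem.mpr he', sub_zero]
  have hnil : IsNilpotent (RingHom.ker (p₀ : (E ⧸ 𝔪E) →+* (B ⧸ 𝔪B))) := by
    refine ⟨2, ?_⟩
    rw [Ideal.zero_eq_bot, pow_two, eq_bot_iff]
    refine Ideal.mul_le.mpr fun x hx y hy => ?_
    obtain ⟨κ, hκ, rfl⟩ := hker x hx
    obtain ⟨κ', hκ', rfl⟩ := hker y hy
    rw [← map_mul, hK2 κ κ' hκ hκ', map_zero]
    exact Ideal.zero_mem _
  let s₀ : (B ⧸ 𝔪B) →ₐ[k] (E ⧸ 𝔪E) :=
    Algebra.FormallySmooth.liftOfSurjective (AlgHom.id k (B ⧸ 𝔪B)) p₀ hp₀surj hnil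
  have hs₀ : ∀ x, p₀ (s₀ x) = x := fun x =>
    Algebra.FormallySmooth.liftOfSurjective_apply (AlgHom.id k (B ⧸ 𝔪B)) p₀ hp₀surj hnil x
  -- the `A`-algebra map `B → E ⧸ 𝔪E`
  let g : B →ₐ[A] (E ⧸ 𝔪E) :=
    { toRingHom := (s₀ : (B ⧸ 𝔪B) →+* (E ⧸ 𝔪E)).comp (Ideal.Quotient.mk 𝔪B)
      commutes' := fun a => by
        obtain ⟨c, hc⟩ := hres a
        show s₀ (Ideal.Quotient.mk 𝔪B (algebraMap A B a)) = Ideal.Quotient.mk 𝔪E (algebraMap A E a)
        have h1 : Ideal.Quotient.mk 𝔪B (algebraMap A B a) = algebraMap k (B ⧸ 𝔪B) c := by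
          have : algebraMap A B a = algebraMap A B (a - algebraMap k A c) + algebraMap k B c := by
            rw [IsScalarTower.algebraMap_apply k A B, ← map_add, sub_add_cancel]
          rw [this, map_add, Ideal.Quotient.eq_zero_iff_mem.mpr (Ideal.mem_map_of_mem _ hc),
            zero_add]
          rfl
        have h2 : Ideal.Quotient.mk 𝔪E (algebraMap A E a) = algebraMap k (E ⧸ 𝔪E) c := by
          have : algebraMap A E a = algebraMap A E (a - algebraMap k A c) + algebraMap k E c := by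
            rw [IsScalarTower.algebraMap_apply k A E, ← map_add, sub_add_cancel]
          rw [this, map_add, Ideal.Quotient.eq_zero_iff_mem.mpr (Ideal.mem_map_of_mem _ hc),
            zero_add]
          rfl
        rw [h1, h2, AlgHom.commutes] }
  have hg : ∀ b, g b = s₀ (Ideal.Quotient.mk 𝔪B b) := fun b => rfl
  obtain ⟨s, hs, -⟩ := ExalPS.exists_algHom_of_pointwise p 𝔪E
    (fun y hy hpy => eq_zero_of_mem_map p hp hKm y hy hpy) g (AlgHom.id A B) (fun b => by
      obtain ⟨e₂, he₂⟩ := Ideal.Quotient.mk_surjective (s₀ (Ideal.Quotient.mk 𝔪B b))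
      have h1 : Ideal.Quotient.mk 𝔪B (p e₂) = Ideal.Quotient.mk 𝔪B b := by
        rw [← hp₀, he₂, hs₀]
      rw [Ideal.Quotient.eq, ← hmap] at h1
      obtain ⟨e₃, he₃, hpe₃⟩ := (Ideal.mem_map_iff_of_surjective (p : E →+* B) hp).mp h1
      refine ⟨e₂ - e₃, ?_, ?_⟩
      · rw [map_sub]
        have : p e₃ = p e₂ - b := hpe₃
        rw [this]
        simp
      · rw [map_sub, Ideal.Quotient.eq_zero_iff_mem.mpr he₃, sub_zero, he₂, hg])
  exact ⟨s, hs⟩

end sectionThm

section autLift

variable {k : Type u} [Field k] {A : Type u} [CommRing A] [Algebra k A] [IsLocalRing A]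
  {B : Type u} [CommRing B] [Algebra A B] [Module.Flat A B] [Algebra k B] [IsScalarTower k A B]

local notation "T" t => algebraMap A B t

/-- Step 1: an `A`-algebra endomorphism of `B` inducing `σ`. -/
theorem exists_algHom_lift
    (hres : ∀ a : A, ∃ c : k, a - algebraMap k A c ∈ maximalIdeal A)
    (t : A) (ht : t ∈ maximalIdeal A) (htm : ∀ a ∈ maximalIdeal A, a * t = 0)
    (hsm : Algebra.FormallySmooth k (B ⧸ (maximalIdeal A).map (algebraMap A B)))
    (σ : (B ⧸ Ideal.span {algebraMap A B t}) ≃ₐ[A] (B ⧸ Ideal.span {algebraMap A B t})) :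
    ∃ τ : B →ₐ[A] B, ∀ b : B, Ideal.Quotient.mk (Ideal.span {algebraMap A B t}) (τ b) =
      σ (Ideal.Quotient.mk (Ideal.span {algebraMap A B t}) b) := by
  classical
  let I : Ideal B := Ideal.span {algebraMap A B t}
  have hI : I = Ideal.span {algebraMap A B t} := rfl
  let q : B →ₐ[A] (B ⧸ I) := Ideal.Quotient.mkₐ A I
  let S : Subalgebra A (B × B) :=
    AlgHom.equalizer (((σ : (B ⧸ I) →ₐ[A] (B ⧸ I)).comp q).comp (AlgHom.fst A B B))
      (q.comp (AlgHom.snd A B B))
  have hS : ∀ x : B × B, x ∈ S ↔ σ (Ideal.Quotient.mk I x.1) = Ideal.Quotient.mk I x.2 :=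
    fun x => Iff.rfl
  let p : S →ₐ[A] B := (AlgHom.fst A B B).comp S.val
  have hp : Function.Surjective p := by
    intro b
    obtain ⟨y, hy⟩ := Ideal.Quotient.mk_surjective (σ (Ideal.Quotient.mk I b))
    exact ⟨⟨(b, y), (hS _).mpr hy.symm⟩, rfl⟩
  have hTT : algebraMap A B t * algebraMap A B t = 0 := by
    rw [← map_mul, htm t ht, map_zero]
  -- elements of the kernel
  have hkerp : ∀ x : S, p x = 0 → ∃ z : B, (x : B × B) = (0, algebraMap A B t * z) := by
    intro x hx
    have hx1 : (x : B × B).1 = 0 := hx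
    have hx2 := (hS _).mp x.2
    rw [hx1, map_zero, map_zero] at hx2
    have : (x : B × B).2 ∈ I := Ideal.Quotient.eq_zero_iff_mem.mp hx2.symm
    rw [hI, Ideal.mem_span_singleton'] at this
    obtain ⟨z, hz⟩ := this
    exact ⟨z, Prod.ext hx1 (by rw [← hz, mul_comm])⟩
  obtain ⟨s, hs⟩ := exists_section hres hsm p hp (fun x y hx hy => by
      obtain ⟨z, hz⟩ := hkerp x hx
      obtain ⟨z', hz'⟩ := hkerp y hy
      apply Subtype.ext
      show (x : B × B) * (y : B × B) = 0
      rw [hz, hz']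
      refine Prod.ext (by simp) ?_
      show algebraMap A B t * z * (algebraMap A B t * z') = 0
      linear_combination (z * z') * hTT) (fun a x ha hx => by
      obtain ⟨z, hz⟩ := hkerp x hx
      apply Subtype.ext
      show a • (x : B × B) = 0
      rw [hz]
      refine Prod.ext (by simp) ?_
      show a • (algebraMap A B t * z) = 0
      rw [Algebra.smul_def, ← mul_assoc, ← map_mul, htm a ha, map_zero, zero_mul])
  refine ⟨(AlgHom.snd A B B).comp (S.val.comp s), fun b => ?_⟩
  have h1 := (hS _).mp (s b).2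
  have h2 : ((s b : S) : B × B).1 = b := hs b
  rw [h2] at h1
  exact h1.symm

/-- Every `A`-algebra automorphism of `B ⧸ tB` lifts to an `A`-algebra automorphism of `B`. -/
theorem exists_algEquiv_lift
    (hres : ∀ a : A, ∃ c : k, a - algebraMap k A c ∈ maximalIdeal A)
    (t : A) (ht : t ∈ maximalIdeal A) (htm : ∀ a ∈ maximalIdeal A, a * t = 0)
    (hsm : Algebra.FormallySmooth k (B ⧸ (maximalIdeal A).map (algebraMap A B)))
    (σ : (B ⧸ Ideal.span {algebraMap A B t}) ≃ₐ[A] (B ⧸ Ideal.span {algebraMap A B t})) :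
    ∃ τ : B ≃ₐ[A] B, ∀ b : B, Ideal.Quotient.mk (Ideal.span {algebraMap A B t}) (τ b) =
      σ (Ideal.Quotient.mk (Ideal.span {algebraMap A B t}) b) := by
  classical
  obtain ⟨τ₀, hτ₀⟩ := exists_algHom_lift hres t ht htm hsm σ
  have hTT : algebraMap A B t * algebraMap A B t = 0 := by
    rw [← map_mul, htm t ht, map_zero]
  have hτT : ∀ z, τ₀ (algebraMap A B t * z) = algebraMap A B t * τ₀ z := by
    intro z
    rw [map_mul, AlgHom.commutes]
  have hsurj : Function.Surjective τ₀ := by
    have key : ∀ y, ∃ x z, y = τ₀ x + algebraMap A B t * z := by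
      intro y
      obtain ⟨x, hx⟩ := Ideal.Quotient.mk_surjective
        (σ.symm (Ideal.Quotient.mk (Ideal.span {algebraMap A B t}) y))
      have h1 : Ideal.Quotient.mk (Ideal.span {algebraMap A B t}) (y - τ₀ x) = 0 := by
        rw [map_sub, hτ₀, hx, AlgEquiv.apply_symm_apply, sub_self]
      rw [Ideal.Quotient.eq_zero_iff_mem, Ideal.mem_span_singleton'] at h1
      obtain ⟨z, hz⟩ := h1
      exact ⟨x, z, by rw [mul_comm, hz]; ring⟩
    intro y
    obtain ⟨x, z, rfl⟩ := key y
    obtain ⟨x', z', rfl⟩ := key z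
    refine ⟨x + algebraMap A B t * x', ?_⟩
    rw [map_add, hτT]
    linear_combination (-z') * hTT
  have hinj : Function.Injective τ₀ := by
    rw [injective_iff_map_eq_zero]
    intro x hx
    have h1 : Ideal.Quotient.mk (Ideal.span {algebraMap A B t}) x = 0 := by
      have := hτ₀ x
      rw [hx, map_zero] at this
      exact (map_eq_zero_iff σ σ.injective).mp this.symm
    rw [Ideal.Quotient.eq_zero_iff_mem, Ideal.mem_span_singleton'] at h1
    obtain ⟨z, rfl⟩ := h1
    by_cases ht0 : t = 0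
    · rw [ht0, map_zero, mul_zero]
    have h2 : algebraMap A B t * τ₀ z = 0 := by
      rw [← hτT, mul_comm]
      exact hx
    have h3 : τ₀ z ∈ (maximalIdeal A).map (algebraMap A B) := SmallExtAut.mem_of_T_mul t ht0 h2
    -- the ideal `𝔪 (B ⧸ tB)` is stable under `σ⁻¹`
    set 𝔪q : Ideal (B ⧸ Ideal.span {algebraMap A B t}) :=
      (maximalIdeal A).map (algebraMap A (B ⧸ Ideal.span {algebraMap A B t})) with h𝔪q
    have hmapq : Ideal.map (Ideal.Quotient.mk (Ideal.span {algebraMap A B t}))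
        ((maximalIdeal A).map (algebraMap A B)) = 𝔪q := by
      rw [Ideal.map_map]
      rfl
    have hσsymm : Ideal.map (σ.symm : (B ⧸ Ideal.span {algebraMap A B t}) →+*
        (B ⧸ Ideal.span {algebraMap A B t})) 𝔪q = 𝔪q := by
      rw [h𝔪q, Ideal.map_map]
      congr 1
      exact (σ.symm.toAlgHom).comp_algebraMap
    have h4 : Ideal.Quotient.mk (Ideal.span {algebraMap A B t}) z ∈ 𝔪q := by
      have h5 : σ (Ideal.Quotient.mk (Ideal.span {algebraMap A B t}) z) ∈ 𝔪q := by
        rw [← hτ₀, ← hmapq]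
        exact Ideal.mem_map_of_mem _ h3
      have h6 := Ideal.mem_map_of_mem (σ.symm : (B ⧸ Ideal.span {algebraMap A B t}) →+*
        (B ⧸ Ideal.span {algebraMap A B t})) h5
      rw [hσsymm] at h6
      have h7 : (σ.symm : (B ⧸ Ideal.span {algebraMap A B t}) →+* _)
          (σ (Ideal.Quotient.mk (Ideal.span {algebraMap A B t}) z)) =
          Ideal.Quotient.mk (Ideal.span {algebraMap A B t}) z := σ.symm_apply_apply _
      rwa [h7] at h6
    rw [← hmapq] at h4
    obtain ⟨w, hw, hwz⟩ := (Ideal.mem_map_iff_of_surjective _ Ideal.Quotient.mk_surjective).mp h4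
    have h8 : z - w ∈ Ideal.span {algebraMap A B t} := by
      rw [← Ideal.Quotient.eq, hwz]
    have h9 : Ideal.span {algebraMap A B t} ≤ (maximalIdeal A).map (algebraMap A B) := by
      rw [Ideal.span_singleton_le_iff_mem]
      exact Ideal.mem_map_of_mem _ ht
    have h10 : z ∈ (maximalIdeal A).map (algebraMap A B) := by
      have := Ideal.add_mem _ (h9 h8) hw
      rwa [sub_add_cancel] at this
    rw [mul_comm]
    exact SmallExtAut.T_mul_of_mem t htm h10
  exact ⟨AlgEquiv.ofBijective τ₀ ⟨hinj, hsurj⟩, hτ₀⟩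

end autLift

end Groth.Agent.Lib.Helper9.FlatSmoothLift
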