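import Mathlib
import Groth.Prelude.Def_Frob
import Groth.Prelude.Def_FrobAlg
import Groth.Agent.Lib.Helper27.RelFrobA
import Groth.Agent.S14036

/-! helper9: the relative Frobenius of a smooth morphism is flat (scheme level), via the affine
identification with the ring-level relative Frobenius. -/

set_option autoImplicit false
universe u

namespace Groth.Agent.Lib.Helper9.FrobFlat
open AlgebraicGeometry CategoryTheory Limits FrobSch

variable (p : ℕ) [Fact p.Prime]

/-- functoriality of the relative Frobenius in commutative squares -/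
theorem relFrob_comp_map {U V X S : Scheme.{u}} [IsCharP S p] [IsCharP V p] (g : U ⟶ V)
    (f : X ⟶ S) (j : U ⟶ X) (i : V ⟶ S) (h : g ≫ i = j ≫ f) :
    relFrob g p ≫ pullback.map g (frob V p) f (frob S p) j i i h (frob_comp p i) =
      j ≫ relFrob f p := by
  haveI : IsCharP X p := IsCharP.of_hom f p
  haveI : IsCharP U p := IsCharP.of_hom g p
  apply pullback.hom_ext
  · simp only [pullback.map, Category.assoc, pullback.lift_fst, relFrob_fst, relFrob_fst_assoc,
      frob_comp]
  · simp only [pullback.map, Category.assoc, pullback.lift_snd, relFrob_snd, relFrob_snd_assoc, h]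

/-- the absolute Frobenius of an affine scheme -/
theorem frob_Spec (R : CommRingCat.{u}) (h : (p : R) = 0) [IsCharP (Spec R) p] :
    frob (Spec R) p = Spec.map (CommRingCat.ofHom (powHom p R h)) := by
  apply ext_of_isAffine
  ext s
  rw [frob_appTop]
  have h1 := Scheme.ΓSpecIso_inv_naturality (CommRingCat.ofHom (powHom p R h))
  obtain ⟨r, rfl⟩ : ∃ r : R, (Scheme.ΓSpecIso R).inv r = s :=
    ⟨(Scheme.ΓSpecIso R).hom s, by simp⟩
  have h2 := ConcreteCategory.congr_hom h1 r
  simp only [CommRingCat.comp_apply] at h2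
  erw [← h2]
  simp only [CommRingCat.hom_ofHom, powHom_apply, map_pow]
  rfl

open TensorProduct in
/-- the relative Frobenius of `Spec B → Spec A` is `Spec` of the ring-level relative Frobenius -/
theorem relFrob_Spec_eq (A B : Type u) [CommRing A] [CommRing B] [Algebra A B] [CharP A p]
    [CharP B p] :
    Spec.map (CommRingCat.ofHom (FrobAlg.relFrob p A B)) ≫
      (pullbackSpecIso A B (FrobAlg.Twist p A)).inv ≫
      pullback.map (Spec.map (CommRingCat.ofHom (algebraMap A B)))
        (Spec.map (CommRingCat.ofHom (algebraMap A (FrobAlg.Twist p A))))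
        (Spec.map (CommRingCat.ofHom (algebraMap A B))) (frob (Spec (CommRingCat.of A)) p)
        (𝟙 _) (Spec.map (CommRingCat.ofHom (FrobAlg.toTwist p A : A →+* FrobAlg.Twist p A))) (𝟙 _)
        (by simp) (by
          rw [frob_Spec p (CommRingCat.of A) (CharP.cast_eq_zero A p), Category.comp_id,
            ← Spec.map_comp]
          rfl) =
      relFrob (Spec.map (CommRingCat.ofHom (algebraMap A B))) p := by
  apply pullback.hom_ext
  · simp only [pullback.map, Category.assoc, pullback.lift_fst, pullbackSpecIso_inv_fst_assoc, pullbackSpecIso_inv_fst,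
      Category.comp_id]
    rw [relFrob_fst, frob_Spec p (CommRingCat.of B) (CharP.cast_eq_zero B p), ← Spec.map_comp]
    congr 1
    ext b
    exact Groth.Agent.Lib.Helper27.RelFrob.relFrob_tmul_one p A B b
  · simp only [pullback.map, Category.assoc, pullback.lift_snd, pullbackSpecIso_inv_snd_assoc, pullbackSpecIso_inv_snd,
      Category.comp_id]
    rw [relFrob_snd, ← Spec.map_comp, ← Spec.map_comp]
    congr 1
    ext a
    exact (Groth.Agent.Lib.Helper27.RelFrob.relFrob_one_tmul p A B (FrobAlg.toTwist p A a)).trans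
      (by rw [RingEquiv.symm_apply_apply]; rfl)

theorem flat_relFrob_Spec (A B : Type u) [CommRing A] [CommRing B] [Algebra A B] [CharP A p]
    [CharP B p] (hfl : (FrobAlg.relFrob p A B).Flat) :
    Flat (relFrob (Spec.map (CommRingCat.ofHom (algebraMap A B))) p) := by
  rw [← relFrob_Spec_eq p A B]
  haveI : Flat (Spec.map (CommRingCat.ofHom (FrobAlg.relFrob p A B))) :=
    (HasRingHomProperty.Spec_iff (P := @Flat)).mpr hfl
  haveI : IsIso (CommRingCat.ofHom (FrobAlg.toTwist p A : A →+* FrobAlg.Twist p A)) :=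
    (RingEquiv.toCommRingCatIso (FrobAlg.toTwist p A)).isIso_hom
  infer_instance

theorem flat_relFrob_of_isAffine {U V : Scheme.{u}} [IsAffine U] [IsAffine V] [IsCharP V p]
    [Nonempty U] (g : U ⟶ V) [Smooth g] : Flat (relFrob g p) := by
  haveI : IsCharP U p := IsCharP.of_hom g p
  letI : Algebra Γ(V, ⊤) Γ(U, ⊤) := g.appTop.hom.toAlgebra
  haveI : Nonempty (⊤ : U.Opens) := ⟨⟨Classical.arbitrary U, trivial⟩⟩
  haveI : Nontrivial Γ(U, ⊤) := inferInstance
  haveI : Nontrivial Γ(V, ⊤) := g.appTop.hom.domain_nontrivial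
  haveI : CharP Γ(V, ⊤) p :=
    (CharP.charP_iff_prime_eq_zero Fact.out).2 (IsCharP.natCast_eq_zero (X := V) (p := p))
  haveI : CharP Γ(U, ⊤) p :=
    (CharP.charP_iff_prime_eq_zero Fact.out).2 (IsCharP.natCast_eq_zero (X := U) (p := p))
  haveI : Algebra.Smooth Γ(V, ⊤) Γ(U, ⊤) :=
    (HasRingHomProperty.iff_of_isAffine (P := @Smooth)).mp inferInstance
  have hfl := Groth.Agent.S14036.result p Γ(V, ⊤) Γ(U, ⊤)
  have h1 := flat_relFrob_Spec p Γ(V, ⊤) Γ(U, ⊤) hfl
  have hsq : g ≫ V.isoSpec.hom =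
      U.isoSpec.hom ≫ Spec.map (CommRingCat.ofHom (algebraMap Γ(V, ⊤) Γ(U, ⊤))) :=
    (Scheme.isoSpec_hom_naturality g).symm
  have h2 := relFrob_comp_map p g _ U.isoSpec.hom V.isoSpec.hom hsq
  have h3 : Flat (relFrob g p ≫ pullback.map g (frob V p) _ (frob _ p) U.isoSpec.hom
      V.isoSpec.hom V.isoSpec.hom hsq (frob_comp p V.isoSpec.hom)) := by
    rw [h2]
    infer_instance
  have h4 : relFrob g p = (relFrob g p ≫ pullback.map g (frob V p) _ (frob _ p) U.isoSpec.hom
      V.isoSpec.hom V.isoSpec.hom hsq (frob_comp p V.isoSpec.hom)) ≫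
      inv (pullback.map g (frob V p) _ (frob _ p) U.isoSpec.hom
      V.isoSpec.hom V.isoSpec.hom hsq (frob_comp p V.isoSpec.hom)) := by
    rw [Category.assoc, IsIso.hom_inv_id, Category.comp_id]
  rw [h4]
  infer_instance

theorem flat_relFrob {X S : Scheme.{u}} [IsCharP S p] (f : X ⟶ S) [Smooth f] :
    Flat (relFrob f p) := by
  have key : ∀ x : X, ∃ U : X.Opens, x ∈ U ∧ Flat (U.ι ≫ relFrob f p) := by
    intro x
    obtain ⟨V, hV, hxV, -⟩ := exists_isAffineOpen_mem_and_subset (x := f x) (U := ⊤) trivial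
    obtain ⟨U, hU, hxU, hUV⟩ := exists_isAffineOpen_mem_and_subset (x := x) (U := f ⁻¹ᵁ V) hxV
    refine ⟨U, hxU, ?_⟩
    haveI : IsAffine U := hU
    haveI : IsAffine V := hV
    haveI : IsCharP V p := IsCharP.of_hom V.ι p
    haveI : Nonempty U := ⟨⟨x, hxU⟩⟩
    have hsq : f.resLE V U hUV ≫ V.ι = U.ι ≫ f := Scheme.Hom.resLE_comp_ι f hUV
    have h2 := relFrob_comp_map p (f.resLE V U hUV) f U.ι V.ι hsq
    rw [← h2]
    haveI := flat_relFrob_of_isAffine p (f.resLE V U hUV)
    infer_instance
  choose U hxU hU using key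
  refine IsZariskiLocalAtSource.of_iSup_eq_top (P := @Flat) U ?_ hU
  rw [eq_top_iff]
  intro x _
  exact TopologicalSpace.Opens.mem_iSup.mpr ⟨x, hxU x⟩

end Groth.Agent.Lib.Helper9.FrobFlat
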