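import Mathlib

/-!
# Base change of `H¹(L)` along an étale lift

If `R → S` is surjective with kernel `I`, `S → T` is flat and `Q` is a flat, formally étale
`R`-algebra with a surjection `Q → T` whose kernel is `I Q`, then
`T ⊗[S] H¹(L_{S/R}) → H¹(L_{T/R})` is bijective.
-/

namespace Groth.Agent.Lib.Helper9.H1EtaleLift

open Algebra TensorProduct

universe u

variable {R S T : Type u} [CommRing R] [CommRing S] [CommRing T]
  [Algebra R S] [Algebra R T] [Algebra S T] [IsScalarTower R S T]

set_option backward.isDefEq.respectTransparency false in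
/-- The canonical hom from the standard extension to any extension. -/
noncomputable def homSelf (P : Extension.{u} R S) : (Generators.self R S).toExtension.Hom P where
  toRingHom := (MvPolynomial.aeval P.σ).toRingHom
  toRingHom_algebraMap := (MvPolynomial.aeval P.σ).commutes
  algebraMap_toRingHom := by
    have : (IsScalarTower.toAlgHom R P.Ring S).comp (MvPolynomial.aeval P.σ) =
        IsScalarTower.toAlgHom _ (Generators.self R S).toExtension.Ring _ := by
      ext i
      change _ = algebraMap (Generators.self R S).Ring _ (.X i)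
      simp
    exact DFunLike.congr_fun this

theorem equiv_symm_apply (P : Extension.{u} R S) [FormallySmooth R P.Ring]
    (y : Algebra.H1Cotangent R S) :
    P.equivH1CotangentOfFormallySmooth.symm y = Extension.H1Cotangent.map (homSelf P) y := by
  have : FormallySmooth R (Generators.self R S).toExtension.Ring :=
    inferInstanceAs (FormallySmooth R (MvPolynomial S R))
  rw [Extension.equivH1CotangentOfFormallySmooth, Extension.H1Cotangent.equivOfFormallySmooth_symm,
    Extension.H1Cotangent.equivOfFormallySmooth_apply (f := homSelf P)]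

/-- Naturality of `equivH1CotangentOfFormallySmooth`. -/
theorem map_equiv {P : Extension.{u} R S} {Q : Extension.{u} R T}
    [FormallySmooth R P.Ring] [FormallySmooth R Q.Ring] (f : P.Hom Q) (x : P.H1Cotangent) :
    Algebra.H1Cotangent.map R R S T (P.equivH1CotangentOfFormallySmooth x) =
      Q.equivH1CotangentOfFormallySmooth (Extension.H1Cotangent.map f x) := by
  have : FormallySmooth R (Generators.self R S).toExtension.Ring :=
    inferInstanceAs (FormallySmooth R (MvPolynomial S R))
  have : FormallySmooth R (Generators.self R T).toExtension.Ring :=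
    inferInstanceAs (FormallySmooth R (MvPolynomial T R))
  obtain ⟨y, rfl⟩ := P.equivH1CotangentOfFormallySmooth.symm.surjective x
  rw [LinearEquiv.apply_symm_apply, ← LinearEquiv.symm_apply_eq, equiv_symm_apply, equiv_symm_apply,
    Algebra.H1Cotangent.map, ← (Extension.H1Cotangent.map (homSelf Q)).coe_restrictScalars S,
    ← (Extension.H1Cotangent.map f).coe_restrictScalars S,
    ← LinearMap.comp_apply, ← LinearMap.comp_apply, ← Extension.H1Cotangent.map_comp,
    ← Extension.H1Cotangent.map_comp, Extension.H1Cotangent.map_eq]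

set_option backward.isDefEq.respectTransparency false in
/-- Base change of `H¹(L_{S/R})` along `S → T` when `T` lifts to a flat formally étale
`R`-algebra `Q` with `Q / I Q = T`, where `I = ker (R → S)` and `R → S` is surjective. -/
theorem bijective_liftBaseChange [Module.Flat S T]
    (hS : Function.Surjective (algebraMap R S))
    (Q : Type u) [CommRing Q] [Algebra R Q] [Algebra.FormallyEtale R Q] [Module.Flat R Q]
    (π : Q →ₐ[R] T) (hπ : Function.Surjective π)
    (hker : RingHom.ker π ≤ (RingHom.ker (algebraMap R S)).map (algebraMap R Q)) :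
    Function.Bijective ((Algebra.H1Cotangent.map R R S T).liftBaseChange T) := by
  let P : Extension.{u} R S := Extension.ofSurjective (Algebra.ofId R S) hS
  let Qe : Extension.{u} R T := Extension.ofSurjective π hπ
  let f : P.Hom Qe :=
    { toRingHom := algebraMap R Q
      toRingHom_algebraMap := fun x => rfl
      algebraMap_toRingHom := fun x => by
        change π (algebraMap R Q x) = algebraMap S T (algebraMap R S x)
        rw [AlgHom.commutes, ← IsScalarTower.algebraMap_apply] }
  haveI : FormallySmooth R P.Ring := (inferInstance : FormallySmooth R R)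
  haveI : FormallySmooth R Qe.Ring := (inferInstance : FormallySmooth R Q)
  letI : Algebra P.Ring Qe.Ring := (inferInstance : Algebra R Q)
  have H₁ : f.toRingHom.FormallyEtale :=
    RingHom.formallyEtale_algebraMap.mpr (inferInstance : FormallyEtale R Q)
  have H₂ : Function.Bijective ((f.mapKer rfl).liftBaseChange Qe.Ring) := by
    have hval : ∀ z : Qe.Ring ⊗[P.Ring] P.ker,
        (((f.mapKer rfl).liftBaseChange Qe.Ring z : Qe.ker) : Qe.Ring) =
          (TensorProduct.rid P.Ring Qe.Ring)
            ((LinearMap.lTensor Qe.Ring (Submodule.subtype P.ker)) z) := by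
      intro z
      induction z with
      | zero => simp
      | add x y hx hy => simp only [map_add, Submodule.coe_add, hx, hy]
      | tmul q i =>
        simp only [LinearMap.liftBaseChange_tmul, LinearMap.lTensor_tmul, Submodule.subtype_apply,
          TensorProduct.rid_tmul]
        rw [Submodule.coe_smul, smul_eq_mul, Extension.Hom.mapKer_apply_coe, Algebra.smul_def,
          mul_comm]
        rfl
    constructor
    · intro z₁ z₂ h
      have h' := congrArg (fun w : Qe.ker => (w : Qe.Ring)) h
      simp only [hval] at h'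
      have : Module.Flat P.Ring Qe.Ring := (inferInstance : Module.Flat R Q)
      exact Module.Flat.lTensor_preserves_injective_linearMap (M := Qe.Ring) _
        (Submodule.injective_subtype _) ((TensorProduct.rid P.Ring Qe.Ring).injective h')
    · rintro ⟨w, hw⟩
      have hw' : (w : Q) ∈ (RingHom.ker (algebraMap R S)).map (algebraMap R Q) := hker hw
      have claim : ∀ w : Q, w ∈ (RingHom.ker (algebraMap R S)).map (algebraMap R Q) →
          ∃ z : Qe.Ring ⊗[P.Ring] P.ker,
            (((f.mapKer rfl).liftBaseChange Qe.Ring z : Qe.ker) : Qe.Ring) = w := by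
        intro w hw
        rw [Ideal.map] at hw
        induction hw using Submodule.span_induction with
        | mem x hx =>
          obtain ⟨r, hr, rfl⟩ := hx
          refine ⟨(1 : Qe.Ring) ⊗ₜ[P.Ring] (⟨r, hr⟩ : P.ker), ?_⟩
          rw [LinearMap.liftBaseChange_tmul, one_smul, Extension.Hom.mapKer_apply_coe]
          rfl
        | zero => exact ⟨0, by simp⟩
        | add x y _ _ hx hy =>
          obtain ⟨zx, hzx⟩ := hx
          obtain ⟨zy, hzy⟩ := hy
          exact ⟨zx + zy, by rw [map_add, Submodule.coe_add, hzx, hzy]⟩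
        | smul a x _ hx =>
          obtain ⟨zx, hzx⟩ := hx
          let a' : Qe.Ring := a
          exact ⟨a' • zx, by rw [map_smul, Submodule.coe_smul, hzx]⟩
      obtain ⟨z, hz⟩ := claim w hw'
      exact ⟨z, Subtype.ext hz⟩
  let e := Extension.tensorH1CotangentOfFormallyEtale f rfl H₁ H₂
  let e₀ : T ⊗[S] Algebra.H1Cotangent R S ≃ₗ[T] T ⊗[S] P.H1Cotangent :=
    TensorProduct.AlgebraTensorModule.congr (LinearEquiv.refl T T)
      P.equivH1CotangentOfFormallySmooth.symm
  have key : (Algebra.H1Cotangent.map R R S T).liftBaseChange T =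
      Qe.equivH1CotangentOfFormallySmooth.toLinearMap ∘ₗ e.toLinearMap ∘ₗ e₀.toLinearMap := by
    ext y
    simp only [AlgebraTensorModule.curry_apply, curry_apply, LinearMap.coe_restrictScalars,
      LinearMap.liftBaseChange_tmul, one_smul, LinearMap.coe_comp, LinearEquiv.coe_coe,
      Function.comp_apply, e₀, AlgebraTensorModule.congr_tmul, LinearEquiv.refl_apply, e,
      Extension.tensorH1CotangentOfFormallyEtale, LinearEquiv.ofBijective_apply]
    rw [← map_equiv f, LinearEquiv.apply_symm_apply]
  rw [key]
  exact Qe.equivH1CotangentOfFormallySmooth.bijective.comp (e.bijective.comp e₀.bijective)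

/-- Version with an explicit primitive element: `T` is generated over `R` by a root `θ` of a monic
polynomial `f` with `f'(θ)` invertible, and the polynomials vanishing at `θ` lie in `(f) + I[X]`. -/
theorem bijective_of_primitive [Module.Flat S T]
    (hS : Function.Surjective (algebraMap R S))
    (θ : T) (f : Polynomial R) (hf : f.Monic) (h0 : Polynomial.aeval θ f = 0)
    (hu : IsUnit (Polynomial.aeval θ (Polynomial.derivative f)))
    (hsurj : ∀ t : T, ∃ p : Polynomial R, Polynomial.aeval θ p = t)
    (hk : ∀ p : Polynomial R, Polynomial.aeval θ p = 0 →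
      p ∈ Ideal.span {f} ⊔ (RingHom.ker (algebraMap R S)).map Polynomial.C) :
    Function.Bijective ((Algebra.H1Cotangent.map R R S T).liftBaseChange T) := by
  let P₀ : StandardEtalePair R := ⟨f, hf, Polynomial.derivative f, ⟨1, 0, 1, by simp⟩⟩
  have hmap : P₀.HasMap θ := ⟨h0, hu⟩
  let PP : StandardEtalePresentation R P₀.Ring :=
    ⟨P₀, P₀.X, P₀.hasMap_X, by simpa [StandardEtalePair.lift_X_left] using Function.bijective_id⟩
  have hπX : ∀ p : Polynomial R, P₀.lift θ hmap (Polynomial.aeval P₀.X p) = Polynomial.aeval θ p := by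
    intro p
    rw [← Polynomial.aeval_algHom_apply, StandardEtalePair.lift_X]
  refine bijective_liftBaseChange hS P₀.Ring (P₀.lift θ hmap) ?_ ?_
  · intro t
    obtain ⟨p, rfl⟩ := hsurj t
    exact ⟨Polynomial.aeval P₀.X p, hπX p⟩
  · intro q hq
    rw [RingHom.mem_ker] at hq
    obtain ⟨p, n, hpn⟩ := PP.exists_mul_aeval_x_g_pow_eq_aeval_x q
    change q * (Polynomial.aeval P₀.X (Polynomial.derivative f)) ^ n = Polynomial.aeval P₀.X p at hpn
    have hp0 : Polynomial.aeval θ p = 0 := by
      rw [← hπX p, ← hpn, map_mul]
      change P₀.lift θ hmap q * _ = 0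
      rw [hq, zero_mul]
    have hmem := hk p hp0
    obtain ⟨a, ha, r, hr, rfl⟩ := Submodule.mem_sup.mp hmem
    obtain ⟨h, rfl⟩ := Ideal.mem_span_singleton'.mp ha
    have hle : (RingHom.ker (algebraMap R S)).map (Polynomial.C : R →+* Polynomial R) ≤
        ((RingHom.ker (algebraMap R S)).map (algebraMap R P₀.Ring)).comap
          (Polynomial.aeval P₀.X : Polynomial R →ₐ[R] P₀.Ring).toRingHom := by
      rw [Ideal.map_le_iff_le_comap]
      intro x hx
      rw [Ideal.mem_comap, Ideal.mem_comap]
      change Polynomial.aeval P₀.X (Polynomial.C x) ∈ _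
      rw [Polynomial.aeval_C]
      exact Ideal.mem_map_of_mem _ hx
    have hr' : Polynomial.aeval P₀.X r ∈
        (RingHom.ker (algebraMap R S)).map (algebraMap R P₀.Ring) := hle hr
    have hfX : Polynomial.aeval P₀.X f = 0 := P₀.hasMap_X.1
    have hunit : IsUnit (Polynomial.aeval P₀.X (Polynomial.derivative f)) := P₀.hasMap_X.2
    rw [map_add, map_mul, hfX, mul_zero, zero_add] at hpn
    obtain ⟨u, hu'⟩ := hunit.pow n
    have : q = Polynomial.aeval P₀.X r * ↑u⁻¹ := by
      rw [← hpn, ← hu', mul_assoc, Units.mul_inv, mul_one]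
    rw [this]
    exact Ideal.mul_mem_right _ _ hr'

open Polynomial in
/-- Primitive element data for a finite separable extension `k / F` of a residue field `F` of `Λ`. -/
theorem exists_primitive_data {Λ F k : Type u} [CommRing Λ] [Field F] [Field k]
    [Algebra Λ F] [Algebra F k] [Algebra Λ k] [IsScalarTower Λ F k]
    (hF : Function.Surjective (algebraMap Λ F)) [FiniteDimensional F k] [Algebra.IsSeparable F k] :
    ∃ (θ : k) (f : Λ[X]), f.Monic ∧ aeval θ f = 0 ∧ IsUnit (aeval θ (derivative f)) ∧
      (∀ t : k, ∃ p : Λ[X], aeval θ p = t) ∧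
      ∀ p : Λ[X], aeval θ p = 0 →
        p ∈ Ideal.span {f} ⊔ (RingHom.ker (algebraMap Λ F)).map (C : Λ →+* Λ[X]) := by
  obtain ⟨θ, hθ⟩ := Field.exists_primitive_element F k
  have hint : IsIntegral F θ := Algebra.IsIntegral.isIntegral θ
  set g := minpoly F θ with hg
  have hgm : g.Monic := minpoly.monic hint
  have hlift : ∀ q : F[X], ∃ p : Λ[X], p.map (algebraMap Λ F) = q :=
    Polynomial.map_surjective _ hF
  obtain ⟨f, hfg, -, hfm⟩ := Polynomial.lifts_and_natDegree_eq_and_monic
    (f := algebraMap Λ F) (p := g) ((Polynomial.mem_lifts g).mpr (hlift g)) hgm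
  have haeval : ∀ p : Λ[X], aeval θ (p.map (algebraMap Λ F)) = aeval θ p :=
    fun p => Polynomial.aeval_map_algebraMap F θ p
  refine ⟨θ, f, hfm, ?_, ?_, ?_, ?_⟩
  · rw [← haeval, hfg]; exact minpoly.aeval F θ
  · rw [← haeval, ← Polynomial.derivative_map, hfg]
    exact IsUnit.mk0 _ ((Algebra.IsSeparable.isSeparable F θ).aeval_derivative_ne_zero
      (minpoly.aeval F θ))
  · intro t
    have ht : t ∈ (IntermediateField.adjoin F {θ}).toSubalgebra := by rw [hθ]; trivial
    rw [IntermediateField.adjoin_simple_toSubalgebra_of_isAlgebraic hint.isAlgebraic,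
      Algebra.adjoin_singleton_eq_range_aeval] at ht
    obtain ⟨q, rfl⟩ := ht
    obtain ⟨p, rfl⟩ := hlift q
    exact ⟨p, (haeval p).symm⟩
  · intro p hp
    have hdvd : g ∣ p.map (algebraMap Λ F) := minpoly.dvd F θ (by rw [haeval, hp])
    obtain ⟨h', hh'⟩ := hdvd
    obtain ⟨h, rfl⟩ := hlift h'
    have hr : p - f * h ∈ (RingHom.ker (algebraMap Λ F)).map (C : Λ →+* Λ[X]) := by
      rw [Ideal.mem_map_C_iff]
      intro n
      rw [RingHom.mem_ker, ← Polynomial.coeff_map, Polynomial.map_sub, Polynomial.map_mul, hfg, hh',
        sub_self, Polynomial.coeff_zero]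
    have : p = f * h + (p - f * h) := by ring
    rw [this]
    exact Submodule.add_mem_sup (Ideal.mem_span_singleton'.mpr ⟨h, mul_comm h f⟩) hr

end Groth.Agent.Lib.Helper9.H1EtaleLift
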