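import Mathlib
import Groth.Prelude.Def_RegImm
import Groth.Prelude.Def_LCI2
import Groth.Agent.Lib.Helper8.SyntLCI
import Groth.Agent.Lib.Helper8.LCIFib
import Groth.Agent.Lib.Helper9.LCICover

/-! helper9: base change of syntomic ring maps (along pushouts) and of syntomic morphisms of schemes
(along arbitrary pullback squares). -/

set_option autoImplicit false
universe u

namespace Groth.Agent.Lib.Helper9.SyntBC
open AlgebraicGeometry CategoryTheory Limits TensorProduct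

/-- base change of a syntomic ring map along a pushout square of commutative rings -/
theorem isSyntomic_of_isPushout {R S R' S' : CommRingCat.{u}} (φ : R ⟶ S) (ψ : R ⟶ R')
    (inl : S ⟶ S') (inr : R' ⟶ S') (H : IsPushout φ ψ inl inr)
    (h : @Synt.IsSyntomic R _ S _ φ.hom.toAlgebra) :
    @Synt.IsSyntomic R' _ S' _ inr.hom.toAlgebra := by
  letI : Algebra R S := φ.hom.toAlgebra
  letI : Algebra R R' := ψ.hom.toAlgebra
  letI : Algebra S S' := inl.hom.toAlgebra
  letI : Algebra R' S' := inr.hom.toAlgebra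
  letI : Algebra R S' := (inl.hom.comp φ.hom).toAlgebra
  haveI : IsScalarTower R S S' := IsScalarTower.of_algebraMap_eq' rfl
  haveI : IsScalarTower R R' S' := IsScalarTower.of_algebraMap_eq' (by
    show inl.hom.comp φ.hom = inr.hom.comp ψ.hom
    rw [← CommRingCat.hom_comp, ← CommRingCat.hom_comp, H.w])
  have hP : Algebra.IsPushout R S R' S' := CommRingCat.isPushout_iff_isPushout.mp H
  have hP' : Algebra.IsPushout R R' S S' := hP.symm
  obtain ⟨hfl, hl⟩ := (Groth.Agent.Lib.Helper8.SyntLCI.isSyntomic_iff R S).mp h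
  haveI := hfl
  let e : R' ⊗[R] S ≃ₐ[R'] S' := Algebra.IsPushout.equiv R R' S S'
  refine (Groth.Agent.Lib.Helper8.SyntLCI.isSyntomic_iff R' S').mpr ⟨?_, ?_⟩
  · exact Module.Flat.of_linearEquiv e.symm.toLinearEquiv
  · exact Groth.Agent.Lib.Helper9.LCICover.isLCI_of_algEquiv e
      (Groth.Agent.Lib.Helper8.LCIFib.isLCI_baseChange R S hl R')

/-- base change of syntomic morphisms of schemes -/
theorem isSyntomicMor_of_isPullback {X Y X' Y' : Scheme.{u}} (f : X ⟶ Y) (g : Y' ⟶ Y)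
    (g' : X' ⟶ X) (f' : X' ⟶ Y') (H : IsPullback g' f' f g) (hf : Synt.IsSyntomicMor f) :
    Synt.IsSyntomicMor f' := by
  intro x'
  obtain ⟨U, V, e, hxU, hsyn⟩ := hf (g' x')
  have hy : g (f' x') ∈ V.1 := by
    have h0 : g (f' x') = f (g' x') := by
      rw [← Scheme.Hom.comp_apply, ← Scheme.Hom.comp_apply, H.w]
    rw [h0]
    exact e hxU
  obtain ⟨V', hV', hyV', hV'V⟩ :=
    exists_isAffineOpen_mem_and_subset (x := f' x') (U := g ⁻¹ᵁ V.1) hy
  obtain ⟨UY, hUY⟩ : ∃ UY : X'.Opens, UY = g' ⁻¹ᵁ U.1 ⊓ f' ⁻¹ᵁ V' := ⟨_, rfl⟩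
  have hiso := isIso_pushoutSection_of_isAffineOpen H hV'V e hUY V.2 hV' U.2
  have hpo := (isIso_pushoutSection_iff H hV'V e hUY).mp hiso
  haveI : IsAffine U.1 := U.2
  haveI : IsAffine V.1 := V.2
  haveI : IsAffine V' := hV'
  have hUYaff : IsAffineOpen UY :=
    .of_isIso (Scheme.Hom.isPullback_resLE H hV'V e hUY).isoPullback.hom
  have e' : UY ≤ f' ⁻¹ᵁ V' := by
    rw [hUY]
    exact inf_le_right
  refine ⟨⟨UY, hUYaff⟩, ⟨V', hV'⟩, e', ?_, ?_⟩
  · show x' ∈ UY
    rw [hUY]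
    exact ⟨hxU, hyV'⟩
  · exact isSyntomic_of_isPushout _ _ _ _ hpo hsyn

end Groth.Agent.Lib.Helper9.SyntBC
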