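import Mathlib
import Groth.Agent.Lib.Helper9.SyntBC
import Groth.Agent.S9758
import Groth.Agent.S9368
import Groth.Agent.S9379
import Groth.Agent.S9365

/-! helper9: for flat lfp morphisms, Koszul at every point iff all fibre local rings are complete
intersections (two directions, used for S8660). -/

set_option autoImplicit false
universe u
open CategoryTheory CategoryTheory.Limits AlgebraicGeometry

namespace Groth.Agent.Lib.Helper9.KoszulCI

theorem fwd {X Y : Scheme.{u}} (f : X ⟶ Y) [Flat f] [LocallyOfFinitePresentation f]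
    (h : ∀ x : X, Synt.IsKoszulAt f x) (x : X) :
    Pi1.IsCompleteIntersection (CInt.fiberStalk f x) := by
  have hsyn : Synt.IsSyntomicMor f := (Groth.Agent.S9758.result f).mp ⟨inferInstance, h⟩
  have hfib : Synt.IsSyntomicMor (f.fiberToSpecResidueField (f x)) :=
    Groth.Agent.Lib.Helper9.SyntBC.isSyntomicMor_of_isPullback f (Y.fromSpecResidueField (f x))
      (f.fiberι (f x)) (f.fiberToSpecResidueField (f x)) (IsPullback.of_hasPullback _ _) hsyn
  haveI : LocallyOfFiniteType (f.fiberToSpecResidueField (f x)) :=
    inferInstanceAs (LocallyOfFiniteType (pullback.snd f (Y.fromSpecResidueField (f x))))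
  have h02 := (Groth.Agent.S9368.result (Y.residueField (f x)) (f.fiber (f x))
    (f.fiberToSpecResidueField (f x))).out 0 2 rfl rfl
  have h3 := h02.mp hfib (f.asFiber x)
  exact (Groth.Agent.S9379.isCIOver_fiberStalk_iff f x).mp h3

theorem bwd {X Y : Scheme.{u}} (f : X ⟶ Y) [Flat f] [LocallyOfFinitePresentation f]
    (h : ∀ x : X, Pi1.IsCompleteIntersection (CInt.fiberStalk f x)) (x : X) :
    Synt.IsKoszulAt f x := by
  refine ((Groth.Agent.S9758.result f).mpr (Groth.Agent.S9365.result f ?_)).2 x
  intro s
  haveI : LocallyOfFiniteType (f.fiberToSpecResidueField s) :=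
    inferInstanceAs (LocallyOfFiniteType (pullback.snd f (Y.fromSpecResidueField s)))
  have h02 := (Groth.Agent.S9368.result (Y.residueField s) (f.fiber s)
    (f.fiberToSpecResidueField s)).out 0 2 rfl rfl
  refine h02.mpr ?_
  clear h02
  intro z
  have hx : f (f.fiberι s z) = s := by
    have : f.fiberι s z ∈ Set.range (f.fiberι s) := ⟨z, rfl⟩
    rw [Scheme.Hom.range_fiberι] at this
    exact this
  generalize hx' : f.fiberι s z = x' at hx
  subst hx
  have hz : z = f.asFiber x' := by
    apply (f.fiberι (f x')).isEmbedding.injective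
    rw [hx', Scheme.Hom.fiberι_asFiber]
  subst hz
  exact (Groth.Agent.S9379.isCIOver_fiberStalk_iff f x').mpr (h x')

end Groth.Agent.Lib.Helper9.KoszulCI
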