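import Mathlib
import Groth.Agent.Lib.Helper9.HDGen
import Groth.Agent.Lib.Helper9.SmoothLCI
import Groth.Agent.Lib.Helper9.SmoothLCI0
import Groth.Agent.Lib.Helper8.LCIFib

/-! helper9: a flat lci quotient of a smooth algebra is locally cut out by a regular sequence
(ring level), via the generalised fibrewise criterion `HDGen.local_main`. -/

set_option autoImplicit false
universe u

namespace Groth.Agent.Lib.Helper9.RegSm
open TensorProduct RingTheory.Sequence Groth.Agent.Lib.Helper9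

variable {A B : Type u} [CommRing A] [CommRing B] [Algebra A B]

/-- the fibre ideal of a quotient of a smooth algebra with lci fibre is Koszul-regular -/
theorem isKoszulRegularIdeal_fibre_of_smooth [Algebra.Smooth A B] (I : Ideal B) (κ : Type u)
    [CommRing κ] [Algebra A κ] (h : LCI.IsLCI κ (κ ⊗[A] (B ⧸ I))) :
    LCI.IsKoszulRegularIdeal
      (I.map (Algebra.TensorProduct.includeRight (R := A) (A := κ) (B := B))) := by
  let ψ : κ ⊗[A] B →ₐ[κ] κ ⊗[A] (B ⧸ I) :=
    Algebra.TensorProduct.map (AlgHom.id κ κ) (Ideal.Quotient.mkₐ A I)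
  have hψ : Function.Surjective ψ :=
    LinearMap.lTensor_surjective κ (g := (Ideal.Quotient.mkₐ A I).toLinearMap)
      (Ideal.Quotient.mkₐ_surjective A I)
  have hker : RingHom.ker ψ = I.map
      (Algebra.TensorProduct.includeRight (R := A) (A := κ) (B := B)) := by
    have h0 := Algebra.TensorProduct.lTensor_ker (A := κ) (Ideal.Quotient.mkₐ A I)
      (Ideal.Quotient.mkₐ_surjective A I)
    have h1 : RingHom.ker (Ideal.Quotient.mkₐ A I) = I := by
      ext x
      rw [RingHom.mem_ker]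
      exact Ideal.Quotient.eq_zero_iff_mem
    rw [h1] at h0
    rw [← h0]
    ext x
    rw [RingHom.mem_ker, RingHom.mem_ker]
    rfl
  letI : Algebra (κ ⊗[A] B) (κ ⊗[A] (B ⧸ I)) := ψ.toRingHom.toAlgebra
  haveI : IsScalarTower κ (κ ⊗[A] B) (κ ⊗[A] (B ⧸ I)) :=
    IsScalarTower.of_algebraMap_eq' ψ.comp_algebraMap.symm
  have h1 : LCI.IsLCI (κ ⊗[A] B) (κ ⊗[A] (B ⧸ I)) :=
    SmoothLCI.isLCI_cancel_smooth (κ ⊗[A] B) (κ ⊗[A] (B ⧸ I)) h
  have h2 := (SmoothLCI0.isLCI_iff_ker (A := κ ⊗[A] B) (C := κ ⊗[A] (B ⧸ I)) hψ).mp h1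
  rw [← hker]
  exact h2

/-- a flat lci quotient of a smooth algebra is, locally, cut out by a regular sequence -/
theorem exists_regular_away [Algebra.Smooth A B] (I : Ideal B) (hIfg : I.FG)
    [Module.Flat A (B ⧸ I)] (hl : LCI.IsLCI A (B ⧸ I)) (𝔮 : Ideal B) [𝔮.IsPrime] (hI𝔮 : I ≤ 𝔮) :
    ∃ (f : List B) (g : B), g ∉ 𝔮 ∧ (∀ x ∈ f, x ∈ I) ∧
      IsWeaklyRegular (Localization.Away g) (f.map (algebraMap B (Localization.Away g))) ∧
      I.map (algebraMap B (Localization.Away g)) =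
        Ideal.ofList (f.map (algebraMap B (Localization.Away g))) := by
  haveI : (𝔮.under A).IsPrime := Ideal.comap_isPrime _ _
  haveI : 𝔮.LiesOver (𝔮.under A) := ⟨rfl⟩
  have hfib := isKoszulRegularIdeal_fibre_of_smooth I (𝔮.under A).ResidueField
    (Groth.Agent.Lib.Helper8.LCIFib.isLCI_baseChange A (B ⧸ I) hl (𝔮.under A).ResidueField)
  haveI : Module.Flat A B := Algebra.Smooth.flat A B
  haveI : Algebra.FinitePresentation A B := Algebra.Smooth.finitePresentation
  obtain ⟨f, g, hg, hfI, hWR, hspan, -⟩ :=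
    HDGen.local_main I hIfg (𝔮.under A) 𝔮 hI𝔮 hfib
  exact ⟨f, g, hg, hfI, hWR, hspan⟩

end Groth.Agent.Lib.Helper9.RegSm
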