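import Mathlib
import Groth.Prelude.Def_Mor2
import Groth.Prelude.Def_CInt
import Groth.Agent.Lib.Helper9.RegSm
import Groth.Agent.Lib.Helper9.KoszulCI
import Groth.Agent.Lib.Helper9.LciMor3
import Groth.Agent.Lib.Helper9.LCICover
import Groth.Agent.Lib.Helper8.LCIFieldSch
import Groth.Agent.Lib.Helper91.RegIdealTransport

/-! helper9: a closed subscheme, flat lfp with complete intersection fibres over S, of a smooth
S-scheme is regularly immersed (regular sequences on affine opens). -/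

set_option autoImplicit false
universe u

namespace Groth.Agent.Lib.Helper9.RegSm2
open AlgebraicGeometry CategoryTheory RingTheory.Sequence Groth.Agent.Lib.Helper9

/-- ring-to-scheme transport: a weakly regular list in `Localization.Away g` generating `I B_g`
gives a regular list of sections over the basic open generating the restricted ideal -/
theorem regular_on_basicOpen {X : Scheme.{u}} {U : X.Opens} (hU : IsAffineOpen U) (g : Γ(X, U))
    (I : Ideal Γ(X, U)) (f : List Γ(X, U))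
    (hWR : IsWeaklyRegular (Localization.Away g) (f.map (algebraMap Γ(X, U) (Localization.Away g))))
    (hspan : I.map (algebraMap Γ(X, U) (Localization.Away g)) =
      Ideal.ofList (f.map (algebraMap Γ(X, U) (Localization.Away g))))
    (hne : I.map (X.presheaf.map (homOfLE (X.basicOpen_le g)).op).hom ≠ ⊤) :
    IsRegular Γ(X, X.basicOpen g) (f.map (X.presheaf.map (homOfLE (X.basicOpen_le g)).op).hom) ∧
      I.map (X.presheaf.map (homOfLE (X.basicOpen_le g)).op).hom =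
        Ideal.ofList (f.map (X.presheaf.map (homOfLE (X.basicOpen_le g)).op).hom) := by
  set ρ := (X.presheaf.map (homOfLE (X.basicOpen_le g)).op).hom with hρ
  letI : Algebra Γ(X, U) Γ(X, X.basicOpen g) := ρ.toAlgebra
  haveI : IsLocalization.Away g Γ(X, X.basicOpen g) := hU.isLocalization_basicOpen g
  let e : Localization.Away g ≃ₐ[Γ(X, U)] Γ(X, X.basicOpen g) :=
    IsLocalization.algEquiv (Submonoid.powers g) _ _
  have he : ∀ b : Γ(X, U), e (algebraMap Γ(X, U) (Localization.Away g) b) = ρ b := fun b =>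
    e.commutes b
  have hlist : (f.map (algebraMap Γ(X, U) (Localization.Away g))).map e.toRingEquiv = f.map ρ := by
    rw [List.map_map]
    apply List.map_congr_left
    intro b _
    exact he b
  have hspan' : I.map ρ = Ideal.ofList (f.map ρ) := by
    have h1 : (I.map (algebraMap Γ(X, U) (Localization.Away g))).map
        (e.toRingEquiv : Localization.Away g →+* Γ(X, X.basicOpen g)) = I.map ρ := by
      rw [Ideal.map_map]
      congr 1
      ext b
      exact he b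
    rw [← h1, hspan, Ideal.map_ofList]
    congr 1
  refine ⟨⟨?_, ?_⟩, hspan'⟩
  · have h2 : IsWeaklyRegular (R := Γ(X, X.basicOpen g)) Γ(X, X.basicOpen g)
        ((f.map (algebraMap Γ(X, U) (Localization.Away g))).map e.toRingEquiv) := by
      refine (e.toRingEquiv.toAddEquiv.isWeaklyRegular_congr
        (as := f.map (algebraMap Γ(X, U) (Localization.Away g)))
        (bs := (f.map (algebraMap Γ(X, U) (Localization.Away g))).map e.toRingEquiv) ?_).mp hWR
      exact List.forall₂_map_right_iff.mpr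
        (List.forall₂_same.mpr fun r _ x => map_mul e.toRingEquiv r x)
    rw [hlist] at h2
    exact h2
  · rw [← hspan', smul_eq_mul, Ideal.mul_top]
    exact hne.symm

theorem isRegularClosedImmersion {X Y S : Scheme.{u}} (p : X ⟶ S) [Smooth p] (i : Y ⟶ X)
    [IsClosedImmersion i] (hY : CInt.IsCIMorphism (i ≫ p)) : Mor2.IsRegularClosedImmersion i := by
  refine ⟨inferInstance, fun y => ?_⟩
  obtain ⟨hflat, hfp, hci⟩ := hY
  haveI := hflat
  haveI := hfp
  have hK : ∀ y, Synt.IsKoszulAt (i ≫ p) y := fun y => KoszulCI.bwd (i ≫ p) hci y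
  obtain ⟨V, hV, hsV, -⟩ := exists_isAffineOpen_mem_and_subset (x := p (i y)) (U := ⊤) trivial
  obtain ⟨U, hU, hxU, hUV⟩ :=
    exists_isAffineOpen_mem_and_subset (x := i y) (U := p ⁻¹ᵁ V) hsV
  have hW : IsAffineOpen (i ⁻¹ᵁ U) := hU.preimage i
  have eW : i ⁻¹ᵁ U ≤ (i ≫ p) ⁻¹ᵁ V := fun z hz => hUV hz
  letI algAB : Algebra Γ(S, V) Γ(X, U) := (p.appLE V U hUV).hom.toAlgebra
  letI algAC : Algebra Γ(S, V) Γ(Y, i ⁻¹ᵁ U) := ((i ≫ p).appLE V (i ⁻¹ᵁ U) eW).hom.toAlgebra
  haveI hsm : Algebra.Smooth Γ(S, V) Γ(X, U) := p.smooth_appLE hV hU hUV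
  have hL : LCI.IsLCI Γ(S, V) Γ(Y, i ⁻¹ᵁ U) :=
    LciMor3.isLCI_appLE_of_isKoszulAt (i ≫ p) hK _ V hW hV eW
  have hFl : Module.Flat Γ(S, V) Γ(Y, i ⁻¹ᵁ U) := Flat.flat_appLE (i ≫ p) hV hW eW
  haveI hFPC : Algebra.FinitePresentation Γ(S, V) Γ(Y, i ⁻¹ᵁ U) :=
    HasRingHomProperty.appLE (P := @LocallyOfFinitePresentation) (i ≫ p) inferInstance
      ⟨V, hV⟩ ⟨_, hW⟩ eW
  haveI hFPB : Algebra.FinitePresentation Γ(S, V) Γ(X, U) := Algebra.Smooth.finitePresentation
  let φ : Γ(X, U) →ₐ[Γ(S, V)] Γ(Y, i ⁻¹ᵁ U) :=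
    { (i.app U).hom with
      commutes' := fun a => by
        show (i.app U).hom ((p.appLE V U hUV).hom a) = ((i ≫ p).appLE V (i ⁻¹ᵁ U) eW).hom a
        rw [Scheme.Hom.app_eq_appLE, ← Scheme.Hom.appLE_comp_appLE i p V U (i ⁻¹ᵁ U) hUV le_rfl]
        rfl }
  have hφ : Function.Surjective φ := i.app_surjective U hU
  obtain ⟨I, hI⟩ : ∃ I : Ideal Γ(X, U), I = RingHom.ker φ.toRingHom := ⟨_, rfl⟩
  have hkerφ : I = RingHom.ker (i.app U).hom := by
    rw [hI]
  let e0 : (Γ(X, U) ⧸ I) ≃ₐ[Γ(S, V)] Γ(Y, i ⁻¹ᵁ U) :=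
    (Ideal.quotientEquivAlgOfEq Γ(S, V) hI).trans (Ideal.quotientKerAlgEquivOfSurjective hφ)
  haveI : Module.Flat Γ(S, V) (Γ(X, U) ⧸ I) := Module.Flat.of_linearEquiv e0.toLinearEquiv
  have hl' : LCI.IsLCI Γ(S, V) (Γ(X, U) ⧸ I) := LCICover.isLCI_of_algEquiv e0.symm hL
  have hIfg : I.FG := by
    rw [hI]
    exact Algebra.FinitePresentation.ker_fG_of_surjective φ hφ
  have hI𝔮 : I ≤ (hU.primeIdealOf ⟨i y, hxU⟩).asIdeal := by
    intro b hb
    by_contra hb'
    have h1 : i y ∈ X.basicOpen b :=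
      (Groth.Agent.Lib.Helper8.LCIFieldSch.mem_basicOpen_iff hU hxU b).mpr hb'
    have h2 : y ∈ i ⁻¹ᵁ X.basicOpen b := h1
    rw [Scheme.preimage_basicOpen] at h2
    have h3 : (i.app U).hom b = 0 := by
      rw [hkerφ] at hb
      exact hb
    have h4 : Y.basicOpen ((i.app U).hom b) = ⊥ := by
      rw [h3]
      exact Scheme.basicOpen_zero Y _
    rw [h4] at h2
    exact h2
  obtain ⟨f, g, hg, hfI, hWR, hspan⟩ :=
    RegSm.exists_regular_away I hIfg hl' (hU.primeIdealOf ⟨i y, hxU⟩).asIdeal hI𝔮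
  have hyg : i y ∈ X.basicOpen g :=
    (Groth.Agent.Lib.Helper8.LCIFieldSch.mem_basicOpen_iff hU hxU g).mpr hg
  have hker : i.ker.ideal ⟨U, hU⟩ = I := by
    rw [hkerφ]
    exact Scheme.Hom.ker_apply i ⟨U, hU⟩
  have hres : i.ker.ideal (X.affineBasicOpen (U := ⟨U, hU⟩) g) =
      I.map (X.presheaf.map (homOfLE (X.basicOpen_le g)).op).hom := by
    rw [← hker]
    exact (i.ker.map_ideal_basicOpen ⟨U, hU⟩ g).symm
  have hne : I.map (X.presheaf.map (homOfLE (X.basicOpen_le g)).op).hom ≠ ⊤ := by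
    rw [← hres, Scheme.Hom.ker_apply]
    haveI : Nonempty ↥(i ⁻¹ᵁ (X.affineBasicOpen (U := ⟨U, hU⟩) g).1) := ⟨⟨y, hyg⟩⟩
    exact RingHom.ker_ne_top _
  obtain ⟨hreg, hsp⟩ := regular_on_basicOpen hU g I f hWR hspan hne
  refine ⟨X.basicOpen g, hU.basicOpen g, hyg, _, hreg, ?_⟩
  rw [← hsp, ← hres]
  rfl

end Groth.Agent.Lib.Helper9.RegSm2
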