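import Groth.Agent.Lib.Helper46.TorLES
import Groth.Agent.Lib.Helper46.TorBaseChange
import Mathlib

/-! helper9: vanishing of `Tor` for quotients by sequences that are weakly regular in both orders (first-variable long exact sequence of helper46); `Tor` vanishes if it does after localizing at every maximal ideal. -/

set_option autoImplicit false
set_option backward.isDefEq.respectTransparency false
set_option backward.defeqAttrib.useBackward true
universe u
namespace Groth.Agent.Lib.Helper9.TorVan
open CategoryTheory Limits MonoidalCategory RingTheory.Sequence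
open Groth.Agent.Lib.Helper46
open scoped TensorProduct Pointwise

variable {A : Type u} [CommRing A]

/-- the sequence `0 → N --g--> N → N/gN → 0` -/
noncomputable def sc (g : A) (N : ModuleCat.{u} A) : ShortComplex (ModuleCat.{u} A) :=
  ModuleCat.shortComplexOfCompEqZero (LinearMap.lsmul A N g)
    (Submodule.mkQ (g • (⊤ : Submodule A N))) (by
      ext x
      simp only [LinearMap.coe_comp, Function.comp_apply, LinearMap.lsmul_apply,
        Submodule.mkQ_apply, LinearMap.zero_apply, Submodule.Quotient.mk_eq_zero]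
      exact Submodule.smul_mem_pointwise_smul x g ⊤ Submodule.mem_top)

theorem sc_shortExact (g : A) (N : ModuleCat.{u} A) (hg : IsSMulRegular N g) :
    (sc g N).ShortExact := by
  refine ModuleCat.shortComplex_shortExact _ ?_ ?_ ?_
  · intro y
    change (Submodule.mkQ (g • (⊤ : Submodule A N))) y = 0 ↔ y ∈ Set.range (LinearMap.lsmul A N g)
    rw [Submodule.mkQ_apply, Submodule.Quotient.mk_eq_zero]
    constructor
    · intro hy
      obtain ⟨x, -, rfl⟩ := (Submodule.mem_smul_pointwise_iff_exists _ _ _).1 hy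
      exact ⟨x, rfl⟩
    · rintro ⟨x, rfl⟩
      exact Submodule.smul_mem_pointwise_smul x g ⊤ Submodule.mem_top
  · exact hg
  · exact Submodule.mkQ_surjective _


/-- one step: if `Tor_{n+1}(N, P) = 0` for all `n` and `g` is regular on `N` and on `N ⊗ P`
then `Tor_{n+1}(N/gN, P) = 0` for all `n` -/
theorem isZero_tor_quotSMulTop (P N : ModuleCat.{u} A) (g : A)
    (hN : ∀ n : ℕ, IsZero (((Tor (ModuleCat.{u} A) (n + 1)).obj N).obj P))
    (hg : IsSMulRegular N g) (hgP : IsSMulRegular (N ⊗[A] P) g) (n : ℕ) :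
    IsZero (((Tor (ModuleCat.{u} A) (n + 1)).obj (ModuleCat.of A (QuotSMulTop g N))).obj P) := by
  have hS := sc_shortExact g N hg
  cases n with
  | zero =>
    have hex3 := TorLES.exact₃ (sc g N) hS P 0
    have hex1 := TorLES.exact₁ (sc g N) hS P 0
    have hmono : Mono ((TorLES.δ (sc g N) hS 0).app P) :=
      hex3.mono_g ((hN 0).eq_of_src _ _)
    have hmono2 : Mono (((Tor (ModuleCat.{u} A) 0).map (sc g N).f).app P) := by
      have h := TorLES.torZeroIso_hom_naturality (sc g N).f P
      have h1 : Mono ((sc g N).f ▷ P) := by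
        rw [ModuleCat.mono_iff_injective]
        have e : ((sc g N).f ▷ P).hom = LinearMap.lsmul A (N ⊗[A] P) g := by
          apply TensorProduct.ext'
          intro a b
          rfl
        intro x y hxy
        apply hgP
        have hx : ((sc g N).f ▷ P).hom x = ((sc g N).f ▷ P).hom y := hxy
        rw [e] at hx
        exact hx
      have : Mono (((Tor (ModuleCat.{u} A) 0).map (sc g N).f).app P ≫
          (TorLES.torZeroIso (sc g N).X₂).hom.app P) := by
        rw [h]
        haveI : Mono ((TorLES.torZeroIso (sc g N).X₁).hom.app P) := IsIso.mono_of_iso _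
        exact mono_comp _ _
      exact mono_of_mono _ ((TorLES.torZeroIso (sc g N).X₂).hom.app P)
    have hzero : (TorLES.δ (sc g N) hS 0).app P = 0 := by
      have := TorLES.δ_map_f (sc g N) hS P 0
      exact zero_of_comp_mono _ this
    exact IsZero.of_mono_eq_zero _ hzero
  | succ n =>
    have hex3 := TorLES.exact₃ (sc g N) hS P (n + 1)
    exact hex3.isZero_of_both_zeros ((hN (n + 1)).eq_of_src _ _) ((hN n).eq_of_tgt _ _)


/-- `Tor` in positive degrees is invariant under isomorphism in the first variable -/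
theorem isZero_tor_of_iso {M M' : ModuleCat.{u} A} (e : M ≅ M') (P : ModuleCat.{u} A) (n : ℕ)
    (h : IsZero (((Tor (ModuleCat.{u} A) n).obj M').obj P)) :
    IsZero (((Tor (ModuleCat.{u} A) n).obj M).obj P) :=
  h.of_iso (((Tor (ModuleCat.{u} A) n).mapIso e).app P)

theorem isZero_tor_of_iso_right (M : ModuleCat.{u} A) {P P' : ModuleCat.{u} A} (e : P ≅ P') (n : ℕ)
    (h : IsZero (((Tor (ModuleCat.{u} A) n).obj M).obj P')) :
    IsZero (((Tor (ModuleCat.{u} A) n).obj M).obj P) :=
  h.of_iso (((Tor (ModuleCat.{u} A) n).obj M).mapIso e)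

/-- if `Tor_{>0}(N, P) = 0` and `fs` is weakly regular on `N` and on `N ⊗ P`, then
`Tor_{>0}(N/(fs)N, P) = 0` -/
theorem isZero_tor_quot_ofList (P : ModuleCat.{u} A) : ∀ (fs : List A) (N : ModuleCat.{u} A),
    (∀ n : ℕ, IsZero (((Tor (ModuleCat.{u} A) (n + 1)).obj N).obj P)) →
    IsWeaklyRegular N fs → IsWeaklyRegular (N ⊗[A] P) fs → ∀ n : ℕ,
    IsZero (((Tor (ModuleCat.{u} A) (n + 1)).obj
      (ModuleCat.of A (N ⧸ (Ideal.ofList fs • (⊤ : Submodule A N))))).obj P) := by
  intro fs
  induction fs with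
  | nil =>
    intro N hN _ _ n
    have e : (N ⧸ (Ideal.ofList ([] : List A) • (⊤ : Submodule A N))) ≃ₗ[A] N :=
      Submodule.quotEquivOfEqBot _ (by rw [Ideal.ofList_nil, Submodule.bot_smul])
    exact isZero_tor_of_iso e.toModuleIso P (n + 1) (hN n)
  | cons g fs ih =>
    intro N hN h1 h2 n
    rw [isWeaklyRegular_cons_iff] at h1 h2
    have hN' := isZero_tor_quotSMulTop P N g hN h1.1 h2.1
    have h3 : IsWeaklyRegular (QuotSMulTop g N ⊗[A] P) fs :=
      ((QuotSMulTop.quotSMulTopTensorEquivQuotSMulTop g P N).isWeaklyRegular_congr fs).2 h2.2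
    have := ih (ModuleCat.of A (QuotSMulTop g N)) hN' h1.2 h3 n
    exact isZero_tor_of_iso
      (Submodule.quotOfListConsSMulTopEquivQuotSMulTopInner N g fs).toModuleIso P (n + 1) this

/-- Tor-independence of quotients by lists which together form a weakly regular sequence in both
orders -/
theorem isZero_tor_of_isWeaklyRegular (fs gs : List A)
    (hfg : IsWeaklyRegular A (fs ++ gs)) (hgf : IsWeaklyRegular A (gs ++ fs))
    (M N : ModuleCat.{u} A)
    (eM : M ≅ ModuleCat.of A (A ⧸ (Ideal.ofList fs • (⊤ : Submodule A A))))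
    (eN : N ≅ ModuleCat.of A (A ⧸ (Ideal.ofList gs • (⊤ : Submodule A A)))) (n : ℕ) :
    IsZero (((Tor (ModuleCat.{u} A) (n + 1)).obj M).obj N) := by
  rw [isWeaklyRegular_append_iff] at hfg hgf
  refine isZero_tor_of_iso eM N (n + 1) ?_
  refine isZero_tor_of_iso_right _ eN (n + 1) ?_
  set P := ModuleCat.of A (A ⧸ (Ideal.ofList gs • (⊤ : Submodule A A))) with hP
  haveI : Module.Flat A (ModuleCat.of A A) := inferInstanceAs (Module.Flat A A)
  have h0 : ∀ n : ℕ, IsZero (((Tor (ModuleCat.{u} A) (n + 1)).obj (ModuleCat.of A A)).obj P) :=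
    fun n => TorLES.isZero_tor_succ_of_flat_left (ModuleCat.of A A) P n
  have h2 : IsWeaklyRegular ((ModuleCat.of A A) ⊗[A] P) fs :=
    ((TensorProduct.lid A P).isWeaklyRegular_congr fs).2 hgf.2
  exact isZero_tor_quot_ofList P fs (ModuleCat.of A A) h0 hfg.1 h2 n


section Local

variable {R : Type u} [CommRing R]

theorem exists_smul_eq_zero (Q : Ideal R) [Q.IsPrime] (A : Type u) [CommRing A] [Algebra R A]
    [IsLocalization.AtPrime A Q] (T : Type u) [AddCommGroup T] [Module R T]
    (hT : Subsingleton (A ⊗[R] T)) (x : T) : ∃ s : R, s ∉ Q ∧ s • x = 0 := by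
  haveI : IsLocalizedModule Q.primeCompl (TensorProduct.mk R A T 1) :=
    (isLocalizedModule_iff_isBaseChange Q.primeCompl A _).2 (TensorProduct.isBaseChange R T A)
  obtain ⟨s, hs⟩ := (IsLocalizedModule.eq_zero_iff Q.primeCompl (TensorProduct.mk R A T 1)).1
    (Subsingleton.elim (TensorProduct.mk R A T 1 x) 0)
  exact ⟨s.1, s.2, hs⟩

/-- `Tor` vanishes if it vanishes after base change to (some model of) the localization at each
maximal ideal -/
theorem isZero_tor_of_forall_maximal (M N : ModuleCat.{u} R) (i : ℕ)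
    (h : ∀ (Q : Ideal R) [Q.IsMaximal], ∃ (A : Type u) (_ : CommRing A) (_ : Algebra R A),
      IsLocalization.AtPrime A Q ∧
        IsZero (((Tor (ModuleCat.{u} A) i).obj ((TorBaseChange.bc R A).obj M)).obj
          ((TorBaseChange.bc R A).obj N))) :
    IsZero (((Tor (ModuleCat.{u} R) i).obj M).obj N) := by
  set T := ((Tor (ModuleCat.{u} R) i).obj M).obj N with hT
  haveI : Subsingleton T := by
    rw [subsingleton_iff_forall_eq 0]
    intro x
    by_contra hx
    let 𝔞 : Ideal R := LinearMap.ker (LinearMap.toSpanSingleton R T x)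
    have h𝔞 : 𝔞 ≠ ⊤ := by
      intro htop
      have h1 : (1 : R) ∈ 𝔞 := htop ▸ Submodule.mem_top
      have h2 : (1 : R) • x = 0 := h1
      rw [one_smul] at h2
      exact hx h2
    obtain ⟨Q, hQ, hle⟩ := Ideal.exists_le_maximal 𝔞 h𝔞
    obtain ⟨A, _, _, hloc, hz⟩ := h Q
    haveI : Module.Flat R A := IsLocalization.flat A Q.primeCompl
    have e := TorBaseChange.torFlatBaseChangeIso R A M N i
    have hz' : IsZero ((TorBaseChange.bc R A).obj T) := hz.of_iso e
    have hsub : Subsingleton (A ⊗[R] T) := ModuleCat.subsingleton_of_isZero hz'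
    obtain ⟨s, hsQ, hs⟩ := exists_smul_eq_zero Q A T hsub x
    exact hsQ (hle (show s ∈ 𝔞 from hs))
  exact ModuleCat.isZero_of_subsingleton _


/-- if `I ⊄ Q` then `R/I` dies in the localization at `Q` -/
theorem isZero_bc_quot (Q : Ideal R) [Q.IsPrime] (A : Type u) [CommRing A] [Algebra R A]
    [IsLocalization.AtPrime A Q] (I : Ideal R) (hI : ¬ I ≤ Q) :
    IsZero ((TorBaseChange.bc R A).obj (ModuleCat.of R (R ⧸ I))) := by
  obtain ⟨g, hgI, hgQ⟩ := Set.not_subset.1 hI
  have hu : IsUnit (algebraMap R A g) :=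
    IsLocalization.map_units A (⟨g, hgQ⟩ : Q.primeCompl)
  haveI : Subsingleton (A ⊗[R] (R ⧸ I)) := by
    rw [subsingleton_iff_forall_eq 0]
    intro t
    have h1 : ∀ t : A ⊗[R] (R ⧸ I), g • t = 0 := by
      intro t
      induction t using TensorProduct.induction_on with
      | zero => simp
      | tmul a m =>
        obtain ⟨r, rfl⟩ := Ideal.Quotient.mk_surjective m
        have hz : g • (Ideal.Quotient.mk I r) = 0 := by
          rw [Algebra.smul_def, Ideal.Quotient.algebraMap_eq, ← map_mul]
          exact Ideal.Quotient.eq_zero_iff_mem.2 (I.mul_mem_right r hgI)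
        rw [TensorProduct.smul_tmul', TensorProduct.smul_tmul, hz, TensorProduct.tmul_zero]
      | add x y hx hy => rw [smul_add, hx, hy, add_zero]
    have h2 : (algebraMap R A g) • t = 0 := by
      rw [algebraMap_smul]; exact h1 t
    have h3 : ((hu.unit⁻¹ : Aˣ) : A) • ((algebraMap R A g) • t) = t := by
      rw [smul_smul, IsUnit.val_inv_mul, one_smul]
    rw [← h3, h2, smul_zero]
  haveI : Subsingleton ((TorBaseChange.bc R A).obj (ModuleCat.of R (R ⧸ I))) := this
  exact ModuleCat.isZero_of_subsingleton _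

/-- base change of `R/I` is the quotient by the extended ideal -/
noncomputable def bcQuotIso (A : Type u) [CommRing A] [Algebra R A] (I : Ideal R) (l : List A)
    (h : I.map (algebraMap R A) = Ideal.ofList l) :
    (TorBaseChange.bc R A).obj (ModuleCat.of R (R ⧸ I)) ≅
      ModuleCat.of A (A ⧸ (Ideal.ofList l • (⊤ : Submodule A A))) :=
  ((Algebra.TensorProduct.quotIdealMapEquivTensorQuot A I).symm.toLinearEquiv ≪≫ₗ
    Submodule.quotEquivOfEq _ _ (by rw [h, smul_eq_mul, Ideal.mul_top])).toModuleIso

theorem isZero_tor_succ_of_isZero_left (M N : ModuleCat.{u} A) (hM : IsZero M) (n : ℕ) :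
    IsZero (((Tor (ModuleCat.{u} A) (n + 1)).obj M).obj N) := by
  haveI : Subsingleton M := ModuleCat.subsingleton_of_isZero hM
  exact TorLES.isZero_tor_succ_of_flat_left M N n

theorem isZero_tor_succ_of_isZero_right (M N : ModuleCat.{u} A) (hN : IsZero N) (n : ℕ) :
    IsZero (((Tor (ModuleCat.{u} A) (n + 1)).obj M).obj N) := by
  haveI : Subsingleton N := ModuleCat.subsingleton_of_isZero hN
  exact TorLES.isZero_tor_succ_of_flat_right N n M


/-- a surjective ring map `φ : R → M` identifies `M` (as an `R`-module through `φ`) with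
`R/ker φ` -/
theorem nonempty_iso_quot_ker {M : Type u} [CommRing M] (φ : R →+* M)
    (hφ : Function.Surjective φ) :
    Nonempty (@ModuleCat.of R _ M _ φ.toModule ≅ ModuleCat.of R (R ⧸ RingHom.ker φ)) := by
  letI := φ.toModule
  let e0 := RingHom.quotientKerEquivOfSurjective hφ
  let e : (R ⧸ RingHom.ker φ) ≃ₗ[R] M :=
    { e0.toAddEquiv with
      map_smul' := fun r x => by
        obtain ⟨s, rfl⟩ := Ideal.Quotient.mk_surjective x
        change e0 (r • Ideal.Quotient.mk _ s) = φ r * e0 (Ideal.Quotient.mk _ s)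
        rw [Algebra.smul_def, Ideal.Quotient.algebraMap_eq, map_mul]
        congr 1 }
  exact ⟨e.symm.toModuleIso⟩

end Local

end Groth.Agent.Lib.Helper9.TorVan
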