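import Groth.Agent.Lib.Helper9.NoEmb
import Groth.Agent.Lib.Helper9.RegSm2
import Groth.Agent.Lib.Helper9.CMReg
import Groth.Agent.Lib.Helper9.TorVan
import Mathlib

/-! helper9: scheme-theoretic intersection of two regularly immersed closed subschemes of a Cohen–Macaulay scheme in the expected codimension: ideal sheaf of the intersection is the sum (`ker_inter`), it is regularly immersed (`part1`) and the square is Tor-independent (`part2`). -/

set_option autoImplicit false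
universe u
namespace Groth.Agent.Lib.Helper9.InterSch
open AlgebraicGeometry CategoryTheory Limits RingTheory.Sequence

variable {X Y Z : Scheme.{u}}

/-- the ideal sheaf of the scheme-theoretic intersection of two closed subschemes is the sum -/
theorem ker_inter (iY : Y ⟶ X) (iZ : Z ⟶ X) [IsClosedImmersion iY] [IsClosedImmersion iZ] :
    (pullback.fst iY iZ ≫ iY).ker = iY.ker ⊔ iZ.ker := by
  apply le_antisymm
  · let T := iY.ker ⊔ iZ.ker
    have hY : iY.ker ≤ T.subschemeι.ker := by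
      rw [Scheme.IdealSheafData.ker_subschemeι]; exact le_sup_left
    have hZ : iZ.ker ≤ T.subschemeι.ker := by
      rw [Scheme.IdealSheafData.ker_subschemeι]; exact le_sup_right
    let lY := IsClosedImmersion.lift iY T.subschemeι hY
    let lZ := IsClosedImmersion.lift iZ T.subschemeι hZ
    have hl : lY ≫ iY = lZ ≫ iZ := by
      rw [IsClosedImmersion.lift_fac, IsClosedImmersion.lift_fac]
    let l := pullback.lift lY lZ hl
    have h1 : l ≫ (pullback.fst iY iZ ≫ iY) = T.subschemeι := by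
      rw [← Category.assoc, pullback.lift_fst, IsClosedImmersion.lift_fac]
    have h2 := Scheme.Hom.le_ker_comp l (pullback.fst iY iZ ≫ iY)
    rw [h1, Scheme.IdealSheafData.ker_subschemeι] at h2
    exact h2
  · apply sup_le
    · exact Scheme.Hom.le_ker_comp _ _
    · rw [pullback.condition]
      exact Scheme.Hom.le_ker_comp _ _


theorem map_germ_ideal_of_le (I : X.IdealSheafData) (W U : X.affineOpens) (hle : W ≤ U) (x : X)
    (hx : x ∈ W.1) :
    (I.ideal U).map (X.presheaf.germ U.1 x (hle hx)).hom =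
      (I.ideal W).map (X.presheaf.germ W.1 x hx).hom := by
  rw [← I.map_ideal hle, Ideal.map_map, ← CommRingCat.hom_comp]
  congr 2
  exact (X.presheaf.germ_res (homOfLE hle) x hx).symm

/-- the ideal generated in the stalk by the sections of an ideal sheaf over an affine open
neighbourhood does not depend on the neighbourhood -/
theorem map_germ_ideal_eq (I : X.IdealSheafData) (U₁ U₂ : X.affineOpens) (x : X)
    (h₁ : x ∈ U₁.1) (h₂ : x ∈ U₂.1) :
    (I.ideal U₁).map (X.presheaf.germ U₁.1 x h₁).hom =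
      (I.ideal U₂).map (X.presheaf.germ U₂.1 x h₂).hom := by
  obtain ⟨V, hV, hxV, hle⟩ :=
    exists_isAffineOpen_mem_and_subset (x := x) (U := U₁.1 ⊓ U₂.1) ⟨h₁, h₂⟩
  rw [map_germ_ideal_of_le I ⟨V, hV⟩ U₁ (fun y hy => (hle hy).1) x hxV,
    map_germ_ideal_of_le I ⟨V, hV⟩ U₂ (fun y hy => (hle hy).2) x hxV]


/-- pointwise dimension bound along a closed subscheme gives a height bound for its ideals -/
theorem le_height_ker {W : Scheme.{u}} (w : W ⟶ X) [IsClosedImmersion w] (n : ℕ)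
    (hcodim : ∀ z : W, (n : WithBot ℕ∞) ≤ ringKrullDim (X.presheaf.stalk (w.base z)))
    (U : X.affineOpens) : (n : ℕ∞) ≤ (w.ker.ideal U).height := by
  rw [Ideal.height_eq_inf_minimalPrimes]
  refine le_iInf₂ fun q hq => ?_
  haveI : q.IsPrime := hq.1.1
  let y : PrimeSpectrum Γ(X, U.1) := ⟨q, hq.1.1⟩
  have hyU : U.2.fromSpec y ∈ U.1 := by
    have : U.2.fromSpec y ∈ Set.range U.2.fromSpec := Set.mem_range_self y
    rw [U.2.range_fromSpec] at this
    exact this
  have hy0 : U.2.fromSpec y ∈ X.zeroLocus (U := U.1) (w.ker.ideal U) ∩ U.1 := by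
    rw [← U.2.fromSpec_image_zeroLocus]
    exact ⟨y, hq.1.2, rfl⟩
  have hsupp : U.2.fromSpec y ∈ (w.ker.support : Set X) :=
    (Scheme.IdealSheafData.mem_support_iff_of_mem hyU).2 hy0.1
  rw [Scheme.Hom.support_ker] at hsupp
  have hcl : closure (Set.range w) = Set.range w := w.isClosedEmbedding.isClosed_range.closure_eq
  have hsupp' : U.2.fromSpec y ∈ Set.range w := by
    rw [← hcl]; exact hsupp
  obtain ⟨z, hz⟩ := hsupp'
  have h1 := hcodim z
  have hz' : w.base z = U.2.fromSpec y := hz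
  rw [hz'] at h1
  letI := TopCat.Presheaf.algebra_section_stalk X.presheaf ⟨U.2.fromSpec y, hyU⟩
  haveI : IsLocalization.AtPrime (X.presheaf.stalk (U.2.fromSpec y)) q :=
    U.2.isLocalization_stalk' y hyU
  rw [IsLocalization.AtPrime.ringKrullDim_eq_height q (X.presheaf.stalk (U.2.fromSpec y))] at h1
  exact_mod_cast h1


/-- around a point of a regularly immersed closed subscheme of codimension `a`, the ideal is
generated in the stalk by `a` elements -/
theorem exists_list_stalk (i : Y ⟶ X) [IsClosedImmersion i] (a : ℕ)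
    (hi : RegImm.IsRegularImmersionOfCodim RegImm.Kind.regular a i) (y : Y) (x : X)
    (hxy : i.base y = x) (U : X.affineOpens) (hx : x ∈ U.1) :
    ∃ l : List (X.presheaf.stalk x), l.length = a ∧
      (i.ker.ideal U).map (X.presheaf.germ U.1 x hx).hom = Ideal.ofList l := by
  subst hxy
  obtain ⟨U', hyU', hcl, rs, hlen, hreg, hker⟩ := hi.2 y
  refine ⟨rs.map (X.presheaf.germ U'.1 (i.base y) hyU').hom, by simp [hlen], ?_⟩
  rw [map_germ_ideal_eq i.ker U U' (i.base y) hx hyU', Scheme.Hom.ker_apply, hker, Ideal.map_ofList]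


theorem ideal_le_primeIdealOf {W : Scheme.{u}} (w : W ⟶ X) [QuasiCompact w] (z : W) (x : X)
    (hxz : w.base z = x) (U : X.affineOpens) (hx : x ∈ U.1) :
    w.ker.ideal U ≤ (U.2.primeIdealOf ⟨x, hx⟩).asIdeal := by
  subst hxz
  have h1 : w.base z ∈ (w.ker.support : Set X) := w.range_subset_ker_support ⟨z, rfl⟩
  have h2 := (Scheme.IdealSheafData.mem_support_iff_of_mem hx).1 h1
  intro g hg
  by_contra hgQ
  have h3 := (Groth.Agent.Lib.Helper8.LCIFieldSch.mem_basicOpen_iff U.2 hx g).2 hgQ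
  exact ((Scheme.mem_zeroLocus_iff X _ _).1 h2) g hg h3


/-- a point of an affine open whose prime contains the ideal of a closed subscheme lies on it -/
theorem exists_preimage_of_ker_le {W : Scheme.{u}} (w : W ⟶ X) [IsClosedImmersion w]
    (U : X.affineOpens) (y : PrimeSpectrum Γ(X, U.1)) (h : w.ker.ideal U ≤ y.asIdeal) :
    ∃ z : W, w.base z = U.2.fromSpec y := by
  have hyU : U.2.fromSpec y ∈ U.1 := by
    have : U.2.fromSpec y ∈ Set.range U.2.fromSpec := Set.mem_range_self y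
    rw [U.2.range_fromSpec] at this
    exact this
  have hy0 : U.2.fromSpec y ∈ X.zeroLocus (U := U.1) (w.ker.ideal U) ∩ U.1 := by
    rw [← U.2.fromSpec_image_zeroLocus]
    exact ⟨y, h, rfl⟩
  have hsupp : U.2.fromSpec y ∈ (w.ker.support : Set X) :=
    (Scheme.IdealSheafData.mem_support_iff_of_mem hyU).2 hy0.1
  rw [Scheme.Hom.support_ker] at hsupp
  have hcl : closure (Set.range w) = Set.range w := w.isClosedEmbedding.isClosed_range.closure_eq
  rw [hcl] at hsupp
  exact hsupp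

section Key

variable [IsLocallyNoetherian X]
  (hCM : ∀ x : X, LocCoh.IsCohenMacaulayLocalRing (X.presheaf.stalk x))
  (iY : Y ⟶ X) (iZ : Z ⟶ X) [IsClosedImmersion iY] [IsClosedImmersion iZ] (a b : ℕ)
  (hY : RegImm.IsRegularImmersionOfCodim RegImm.Kind.regular a iY)
  (hZ : RegImm.IsRegularImmersionOfCodim RegImm.Kind.regular b iZ)
  (hcodim : ∀ w : ↥(pullback iY iZ), ((a + b : ℕ) : WithBot ℕ∞) ≤
      ringKrullDim (X.presheaf.stalk ((pullback.fst iY iZ ≫ iY).base w)))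

include hCM hY hZ hcodim in
/-- at a point of the intersection, the two ideals are generated in the stalk by `a`, resp. `b`
elements which together form a weakly regular sequence in both orders -/
theorem key (z : ↥(pullback iY iZ)) (x : X) (hxz : (pullback.fst iY iZ ≫ iY).base z = x)
    (U : X.affineOpens) (hx : x ∈ U.1) :
    ∃ lY lZ : List (X.presheaf.stalk x), lY.length = a ∧ lZ.length = b ∧
      (iY.ker.ideal U).map (X.presheaf.germ U.1 x hx).hom = Ideal.ofList lY ∧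
      (iZ.ker.ideal U).map (X.presheaf.germ U.1 x hx).hom = Ideal.ofList lZ ∧
      IsWeaklyRegular (X.presheaf.stalk x) (lY ++ lZ) ∧
      IsWeaklyRegular (X.presheaf.stalk x) (lZ ++ lY) := by
  have hxy : iY.base ((pullback.fst iY iZ).base z) = x := by rw [← hxz]; rfl
  have hxz' : iZ.base ((pullback.snd iY iZ).base z) = x := by
    rw [← hxz]
    have := congrArg (fun f => f.base z) (pullback.condition (f := iY) (g := iZ))
    exact this.symm
  obtain ⟨lY, hlY, hIY⟩ := exists_list_stalk iY a hY _ x hxy U hx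
  obtain ⟨lZ, hlZ, hIZ⟩ := exists_list_stalk iZ b hZ _ x hxz' U hx
  refine ⟨lY, lZ, hlY, hlZ, hIY, hIZ, ?_⟩
  haveI : LocCoh.IsCohenMacaulayRing Γ(X, U.1) :=
    Groth.Agent.Lib.Helper9.NoEmb.isCohenMacaulayRing_of_stalks hCM U.2
  letI := TopCat.Presheaf.algebra_section_stalk X.presheaf ⟨x, hx⟩
  haveI : IsLocalization.AtPrime (X.presheaf.stalk x) (U.2.primeIdealOf ⟨x, hx⟩).asIdeal :=
    U.2.isLocalization_stalk ⟨x, hx⟩
  haveI := hCM x
  have hK := le_height_ker (pullback.fst iY iZ ≫ iY) (a + b) hcodim U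
  have hKQ := ideal_le_primeIdealOf (pullback.fst iY iZ ≫ iY) z x hxz U hx
  have hsup : ((pullback.fst iY iZ ≫ iY).ker.ideal U).map
      (algebraMap Γ(X, U.1) (X.presheaf.stalk x)) = Ideal.ofList lY ⊔ Ideal.ofList lZ := by
    rw [ker_inter, Scheme.IdealSheafData.ideal_sup, Pi.sup_apply, Ideal.map_sup, ← hIY, ← hIZ]
    rfl
  constructor
  · refine Groth.Agent.Lib.Helper9.CMReg.isWeaklyRegular_of_isLocalization Γ(X, U.1)
      ((pullback.fst iY iZ ≫ iY).ker.ideal U) (a + b) hK _ hKQ (X.presheaf.stalk x) (lY ++ lZ)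
      (by simp [hlY, hlZ]) ?_
    rw [hsup, Ideal.ofList_append]
  · refine Groth.Agent.Lib.Helper9.CMReg.isWeaklyRegular_of_isLocalization Γ(X, U.1)
      ((pullback.fst iY iZ ≫ iY).ker.ideal U) (a + b) hK _ hKQ (X.presheaf.stalk x) (lZ ++ lY)
      (by simp [hlY, hlZ, add_comm]) ?_
    rw [hsup, Ideal.ofList_append, sup_comm]


include hCM hY hZ hcodim in
theorem part1_aux (z : ↥(pullback iY iZ)) (x : X) (hxz : (pullback.fst iY iZ ≫ iY).base z = x) :
    ∃ U : X.affineOpens, x ∈ U.1 ∧ ∃ rs : List Γ(X, U.1), rs.length = a + b ∧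
      IsRegular Γ(X, U.1) rs ∧
      RingHom.ker ((pullback.fst iY iZ ≫ iY).app U.1).hom = Ideal.ofList rs := by
  obtain ⟨U₀, hU₀, hx, -⟩ := exists_isAffineOpen_mem_and_subset (x := x) (U := ⊤) trivial
  obtain ⟨lY, lZ, hlY, hlZ, hIY, hIZ, hreg, -⟩ :=
    key hCM iY iZ a b hY hZ hcodim z x hxz ⟨U₀, hU₀⟩ hx
  haveI : IsNoetherianRing Γ(X, U₀) := IsLocallyNoetherian.component_noetherian ⟨U₀, hU₀⟩
  letI := TopCat.Presheaf.algebra_section_stalk X.presheaf ⟨x, hx⟩
  haveI : IsLocalization.AtPrime (X.presheaf.stalk x)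
      (hU₀.primeIdealOf ⟨x, hx⟩).asIdeal := hU₀.isLocalization_stalk ⟨x, hx⟩
  have hsup : ((pullback.fst iY iZ ≫ iY).ker.ideal ⟨U₀, hU₀⟩).map
      (algebraMap Γ(X, U₀) (X.presheaf.stalk x)) = Ideal.ofList (lY ++ lZ) := by
    rw [ker_inter, Scheme.IdealSheafData.ideal_sup, Pi.sup_apply, Ideal.map_sup,
      Ideal.ofList_append, ← hIY, ← hIZ]
    rfl
  obtain ⟨bs, hbs, hbl⟩ := Groth.Agent.Lib.Helper9.RegAway.exists_list_base
    (hU₀.primeIdealOf ⟨x, hx⟩).asIdeal.primeCompl (X.presheaf.stalk x) (lY ++ lZ)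
  haveI : LocCoh.IsCohenMacaulayRing Γ(X, U₀) :=
    Groth.Agent.Lib.Helper9.NoEmb.isCohenMacaulayRing_of_stalks hCM hU₀
  haveI := hCM x
  have hK := le_height_ker (pullback.fst iY iZ ≫ iY) (a + b) hcodim ⟨U₀, hU₀⟩
  have hKQ := ideal_le_primeIdealOf (pullback.fst iY iZ ≫ iY) z x hxz ⟨U₀, hU₀⟩ hx
  have hIb : ((pullback.fst iY iZ ≫ iY).ker.ideal ⟨U₀, hU₀⟩).map
      (algebraMap Γ(X, U₀) (X.presheaf.stalk x)) =
      Ideal.ofList (bs.map (algebraMap Γ(X, U₀) (X.presheaf.stalk x))) := by rw [hsup, hbl]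
  have hwr : IsWeaklyRegular (X.presheaf.stalk x)
      (bs.map (algebraMap Γ(X, U₀) (X.presheaf.stalk x))) :=
    Groth.Agent.Lib.Helper9.CMReg.isWeaklyRegular_of_isLocalization Γ(X, U₀)
      ((pullback.fst iY iZ ≫ iY).ker.ideal ⟨U₀, hU₀⟩) (a + b) hK _ hKQ (X.presheaf.stalk x) _
      (by simp [hbs, hlY, hlZ]) hIb
  obtain ⟨G, hGQ, hG⟩ := Groth.Agent.Lib.Helper91.RegSpread.exists_away Γ(X, U₀)
    (hU₀.primeIdealOf ⟨x, hx⟩).asIdeal (X.presheaf.stalk x)
    ((pullback.fst iY iZ ≫ iY).ker.ideal ⟨U₀, hU₀⟩) bs hwr hIb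
  obtain ⟨hWR, hspan⟩ := hG (Localization.Away G)
  have hxG : x ∈ X.basicOpen G :=
    (Groth.Agent.Lib.Helper8.LCIFieldSch.mem_basicOpen_iff hU₀ hx G).2 hGQ
  have hmap := (pullback.fst iY iZ ≫ iY).ker.map_ideal_basicOpen ⟨U₀, hU₀⟩ G
  have hne : ((pullback.fst iY iZ ≫ iY).ker.ideal ⟨U₀, hU₀⟩).map
      (X.presheaf.map (homOfLE (X.basicOpen_le G)).op).hom ≠ ⊤ := by
    rw [hmap]
    intro htop
    have h1 := ideal_le_primeIdealOf (pullback.fst iY iZ ≫ iY) z x hxz (X.affineBasicOpen (U := ⟨U₀, hU₀⟩) G) hxG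
    rw [htop] at h1
    exact ((X.affineBasicOpen (U := ⟨U₀, hU₀⟩) G).2.primeIdealOf ⟨x, hxG⟩).isPrime.ne_top (top_le_iff.1 h1)
  obtain ⟨hR, hI⟩ := Groth.Agent.Lib.Helper9.RegSm2.regular_on_basicOpen hU₀ G
    ((pullback.fst iY iZ ≫ iY).ker.ideal ⟨U₀, hU₀⟩) bs hWR hspan hne
  refine ⟨X.affineBasicOpen (U := ⟨U₀, hU₀⟩) G, hxG,
    bs.map (X.presheaf.map (homOfLE (X.basicOpen_le G)).op).hom,
    by rw [List.length_map, hbs, List.length_append, hlY, hlZ], hR, ?_⟩
  rw [← Scheme.Hom.ker_apply, ← hmap]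
  exact hI


include hCM hY hZ hcodim in
theorem part1 : RegImm.IsRegularImmersionOfCodim RegImm.Kind.regular (a + b)
    (pullback.fst iY iZ ≫ iY) := by
  refine ⟨inferInstance, fun z => ?_⟩
  obtain ⟨U, hxU, rs, hlen, hreg, hker⟩ := part1_aux hCM iY iZ a b hY hZ hcodim z _ rfl
  exact ⟨U, hxU, inferInstance, rs, hlen, hreg, hker⟩


include hCM hY hZ hcodim in
theorem part2 (U : X.Opens) (hU : IsAffineOpen U) (i : ℕ) (hi : 0 < i) :
    Subsingleton (@DRing.Tor Γ(X, U) _ i Γ(Y, iY ⁻¹ᵁ U) Γ(Z, iZ ⁻¹ᵁ U) _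
      (iY.app U).hom.toModule _ (iZ.app U).hom.toModule) := by
  obtain ⟨n, rfl⟩ : ∃ n, i = n + 1 := ⟨i - 1, by omega⟩
  have hsY : Function.Surjective (iY.app U).hom :=
    Groth.Agent.Lib.Helper91.ImmStalk.app_surjective_of_restrict iY ⟨U, hU⟩
  have hsZ : Function.Surjective (iZ.app U).hom :=
    Groth.Agent.Lib.Helper91.ImmStalk.app_surjective_of_restrict iZ ⟨U, hU⟩
  obtain ⟨eM⟩ := Groth.Agent.Lib.Helper9.TorVan.nonempty_iso_quot_ker (iY.app U).hom hsY
  obtain ⟨eN⟩ := Groth.Agent.Lib.Helper9.TorVan.nonempty_iso_quot_ker (iZ.app U).hom hsZ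
  apply ModuleCat.subsingleton_of_isZero
  refine Groth.Agent.Lib.Helper9.TorVan.isZero_tor_of_iso eM _ _ ?_
  refine Groth.Agent.Lib.Helper9.TorVan.isZero_tor_of_iso_right _ eN _ ?_
  apply Groth.Agent.Lib.Helper9.TorVan.isZero_tor_of_forall_maximal
  intro Q hQ
  haveI : Q.IsPrime := hQ.isPrime
  let y : PrimeSpectrum Γ(X, U) := ⟨Q, hQ.isPrime⟩
  have hyU : hU.fromSpec y ∈ U := by
    have : hU.fromSpec y ∈ Set.range hU.fromSpec := Set.mem_range_self y
    rw [hU.range_fromSpec] at this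
    exact this
  letI alg := TopCat.Presheaf.algebra_section_stalk X.presheaf ⟨hU.fromSpec y, hyU⟩
  haveI loc : IsLocalization.AtPrime (X.presheaf.stalk (hU.fromSpec y)) Q :=
    hU.isLocalization_stalk' y hyU
  refine ⟨X.presheaf.stalk (hU.fromSpec y), inferInstance, alg, loc, ?_⟩
  by_cases hIQ : RingHom.ker (iY.app U).hom ≤ Q
  · by_cases hJQ : RingHom.ker (iZ.app U).hom ≤ Q
    · have hKQ : (pullback.fst iY iZ ≫ iY).ker.ideal ⟨U, hU⟩ ≤ y.asIdeal := by
        rw [ker_inter, Scheme.IdealSheafData.ideal_sup, Pi.sup_apply, Scheme.Hom.ker_apply,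
          Scheme.Hom.ker_apply]
        exact sup_le hIQ hJQ
      obtain ⟨z, hz⟩ := exists_preimage_of_ker_le (pullback.fst iY iZ ≫ iY) ⟨U, hU⟩ y hKQ
      obtain ⟨lY, lZ, -, -, hIY, hIZ, hfg, hgf⟩ :=
        key hCM iY iZ a b hY hZ hcodim z (hU.fromSpec y) hz ⟨U, hU⟩ hyU
      rw [Scheme.Hom.ker_apply] at hIY hIZ
      exact Groth.Agent.Lib.Helper9.TorVan.isZero_tor_of_isWeaklyRegular lY lZ hfg hgf _ _
        (Groth.Agent.Lib.Helper9.TorVan.bcQuotIso _ _ lY hIY)
        (Groth.Agent.Lib.Helper9.TorVan.bcQuotIso _ _ lZ hIZ) n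
    · exact Groth.Agent.Lib.Helper9.TorVan.isZero_tor_succ_of_isZero_right _ _
        (Groth.Agent.Lib.Helper9.TorVan.isZero_bc_quot Q _ _ hJQ) n
  · exact Groth.Agent.Lib.Helper9.TorVan.isZero_tor_succ_of_isZero_left _ _
      (Groth.Agent.Lib.Helper9.TorVan.isZero_bc_quot Q _ _ hIQ) n

end Key

end Groth.Agent.Lib.Helper9.InterSch
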