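import Mathlib
import Groth.Agent.Lib.Helper91.RegSpread
import Groth.Agent.Lib.Helper91.KRegDesc1
import Groth.Agent.Lib.Helper8.LCIFieldSch
import Groth.Agent.Lib.Helper24.Lim8Flat
import Groth.Agent.Lib.Helper24.Lim8

/-!
# Weakly regular sequences and limits of schemes (helper9)

* `isWeaklyRegular_of_family`, `isWeaklyRegular_of_faithfullyFlat`: descent of weakly regular sequences along
  (jointly) faithfully flat ring maps
* `WRAt`, `isWeaklyRegular_iff_wrAt`, `forall_affine_iff_forall_wrAt`: stalkwise criterion on schemes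
* `wrAt_iff_of_flat`: invariance under flat morphisms; `isOpen_wrAt`: openness (locally Noetherian)
* `wrAt_limit_iff`: limit of schemes with flat affine transition maps
-/

set_option autoImplicit false
set_option linter.style.haveILetI false
universe u

open RingTheory.Sequence TensorProduct

namespace Groth.Agent.Lib.Helper9.LimReg

section Algebra

variable {A : Type u} [CommRing A]

/-- `1 ⊗ x = 0` in `B ⊗ M` with `B` flat: the annihilator of `x` generates the unit ideal of `B`. -/
theorem map_torsionOf_eq_top {B : Type u} [CommRing B] [Algebra A B] [Module.Flat A B]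
    {M : Type u} [AddCommGroup M] [Module A M] (x : M) (h : (1 : B) ⊗ₜ[A] x = 0) :
    Ideal.map (algebraMap A B) (Ideal.torsionOf A M x) = ⊤ := by
  set I := Ideal.torsionOf A M x with hI
  let ψ : (A ⧸ I) →ₗ[A] M := Submodule.liftQ I (LinearMap.toSpanSingleton A M x) (le_of_eq rfl)
  have hψ : Function.Injective ψ := by
    rw [← LinearMap.ker_eq_bot]
    exact Submodule.ker_liftQ_eq_bot _ _ _ (le_of_eq rfl)
  have hinj := Module.Flat.lTensor_preserves_injective_linearMap (M := B) ψ hψ
  have h1 : (1 : B) ⊗ₜ[A] (Ideal.Quotient.mk I 1) = 0 := by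
    apply hinj
    rw [map_zero, LinearMap.lTensor_tmul]
    have : ψ (Ideal.Quotient.mk I 1) = x := by
      show Submodule.liftQ I (LinearMap.toSpanSingleton A M x) _ (Submodule.Quotient.mk 1) = x
      rw [Submodule.liftQ_apply]
      simp
    rw [this, h]
  have h2 := congrArg (TensorProduct.tensorQuotEquivQuotSMul B I) h1
  rw [TensorProduct.tensorQuotEquivQuotSMul_tmul_mk, map_zero, one_smul,
    Submodule.Quotient.mk_eq_zero] at h2
  rw [Ideal.eq_top_iff_one]
  have h3 : (I • ⊤ : Submodule A B) = (Ideal.map (algebraMap A B) I).restrictScalars A := by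
    rw [Ideal.smul_top_eq_map]
  rw [h3] at h2
  exact h2

/-- descent of regular elements along a jointly faithfully flat family -/
theorem isSMulRegular_of_family {ι : Type*} (B : ι → Type u) [∀ i, CommRing (B i)]
    [∀ i, Algebra A (B i)] [∀ i, Module.Flat A (B i)]
    (hcov : ∀ m : Ideal A, m.IsMaximal → ∃ i, Ideal.map (algebraMap A (B i)) m ≠ ⊤)
    (M : Type u) [AddCommGroup M] [Module A M] (r : A)
    (h : ∀ i, IsSMulRegular (B i ⊗[A] M) r) : IsSMulRegular M r := by
  rw [isSMulRegular_iff_right_eq_zero_of_smul (M := M)]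
  intro x hx
  by_contra hne
  have hI : Ideal.torsionOf A M x ≠ ⊤ := by
    intro htop
    apply hne
    have : (1 : A) ∈ Ideal.torsionOf A M x := by rw [htop]; trivial
    rw [Ideal.mem_torsionOf_iff, one_smul] at this
    exact this
  obtain ⟨m, hm, hle⟩ := Ideal.exists_le_maximal _ hI
  obtain ⟨i, hi⟩ := hcov m hm
  apply hi
  apply top_le_iff.mp
  have h1 : (1 : B i) ⊗ₜ[A] x = 0 := by
    have h0 := h i
    rw [isSMulRegular_iff_right_eq_zero_of_smul (M := B i ⊗[A] M)] at h0
    apply h0
    rw [TensorProduct.smul_tmul', TensorProduct.smul_tmul, hx, TensorProduct.tmul_zero]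
  rw [← map_torsionOf_eq_top (A := A) (B := B i) (M := M) x h1]
  exact Ideal.map_mono hle

/-- descent of weakly regular sequences along a jointly faithfully flat family (module form) -/
theorem isWeaklyRegular_of_family_module {ι : Type*} (B : ι → Type u) [∀ i, CommRing (B i)]
    [∀ i, Algebra A (B i)] [∀ i, Module.Flat A (B i)]
    (hcov : ∀ m : Ideal A, m.IsMaximal → ∃ i, Ideal.map (algebraMap A (B i)) m ≠ ⊤)
    (rs : List A) : ∀ (M : Type u) [AddCommGroup M] [Module A M],
      (∀ i, IsWeaklyRegular (B i ⊗[A] M) rs) → IsWeaklyRegular M rs := by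
  induction rs with
  | nil => intro M _ _ _; exact IsWeaklyRegular.nil _ _
  | cons r rs ih =>
    intro M _ _ h
    rw [isWeaklyRegular_cons_iff]
    refine ⟨isSMulRegular_of_family B hcov M r fun i => ((isWeaklyRegular_cons_iff _ _ _).mp (h i)).1,
      ih _ fun i => ?_⟩
    have h2 := ((isWeaklyRegular_cons_iff _ _ _).mp (h i)).2
    exact ((QuotSMulTop.tensorQuotSMulTopEquivQuotSMulTop r (B i) M).isWeaklyRegular_congr rs).mpr h2

/-- descent of weakly regular sequences along a jointly faithfully flat family of algebras -/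
theorem isWeaklyRegular_of_family {ι : Type*} (B : ι → Type u) [∀ i, CommRing (B i)]
    [∀ i, Algebra A (B i)] [∀ i, Module.Flat A (B i)]
    (hcov : ∀ m : Ideal A, m.IsMaximal → ∃ i, Ideal.map (algebraMap A (B i)) m ≠ ⊤)
    (rs : List A) (h : ∀ i, IsWeaklyRegular (B i) (rs.map (algebraMap A (B i)))) :
    IsWeaklyRegular A rs := by
  apply isWeaklyRegular_of_family_module B hcov rs A
  intro i
  have h1 : IsWeaklyRegular (B i) rs := (isWeaklyRegular_map_algebraMap_iff (B i) (B i) rs).mp (h i)
  exact ((TensorProduct.rid A (B i)).isWeaklyRegular_congr rs).mpr h1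

/-- descent of weakly regular sequences along a faithfully flat ring map -/
theorem isWeaklyRegular_of_faithfullyFlat (B : Type u) [CommRing B] [Algebra A B]
    [Module.FaithfullyFlat A B] (rs : List A)
    (h : IsWeaklyRegular B (rs.map (algebraMap A B))) : IsWeaklyRegular A rs := by
  apply isWeaklyRegular_of_family (ι := Unit) (fun _ => B) ?_ rs (fun _ => h)
  intro m hm
  refine ⟨(), ?_⟩
  have := Module.FaithfullyFlat.submodule_ne_top (R := A) (M := B) hm
  intro htop
  apply this
  rw [Ideal.smul_top_eq_map, htop]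
  rfl

end Algebra

section Schemes

open AlgebraicGeometry CategoryTheory TopologicalSpace

/-- the global sections `fs` form a weakly regular sequence in the stalk at `x` -/
def WRAt (X : Scheme.{u}) (fs : List Γ(X, ⊤)) (x : X) : Prop :=
  IsWeaklyRegular (X.presheaf.stalk x) (fs.map (X.presheaf.germ ⊤ x trivial).hom)

theorem map_germ_res {X : Scheme.{u}} (fs : List Γ(X, ⊤)) (U : X.Opens) (x : X) (hx : x ∈ U) :
    (fs.map (X.presheaf.map (homOfLE (le_top : U ≤ ⊤)).op).hom).map (X.presheaf.germ U x hx).hom =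
      fs.map (X.presheaf.germ ⊤ x trivial).hom := by
  rw [List.map_map]
  apply List.map_congr_left
  intro f _
  exact TopCat.Presheaf.germ_res_apply X.presheaf (homOfLE (le_top : U ≤ ⊤)) x hx f

theorem wrAt_of_isWeaklyRegular {X : Scheme.{u}} (fs : List Γ(X, ⊤)) (U : X.affineOpens)
    (h : IsWeaklyRegular Γ(X, U.1) (fs.map (X.presheaf.map (homOfLE (le_top : U.1 ≤ ⊤)).op).hom))
    (x : X) (hx : x ∈ U.1) : WRAt X fs x := by
  letI : Algebra Γ(X, U.1) (X.presheaf.stalk x) :=
    TopCat.Presheaf.algebra_section_stalk X.presheaf ⟨x, hx⟩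
  haveI := U.2.isLocalization_stalk ⟨x, hx⟩
  haveI : Module.Flat Γ(X, U.1) (X.presheaf.stalk x) :=
    IsLocalization.flat (X.presheaf.stalk x) (U.2.primeIdealOf ⟨x, hx⟩).asIdeal.primeCompl
  have h1 := h.of_flat (S := X.presheaf.stalk x)
  unfold WRAt
  rw [← map_germ_res fs U.1 x hx]
  exact h1

theorem isWeaklyRegular_of_wrAt {X : Scheme.{u}} (fs : List Γ(X, ⊤)) (U : X.affineOpens)
    (h : ∀ x ∈ U.1, WRAt X fs x) :
    IsWeaklyRegular Γ(X, U.1) (fs.map (X.presheaf.map (homOfLE (le_top : U.1 ≤ ⊤)).op).hom) := by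
  letI alg : ∀ x : U.1, Algebra Γ(X, U.1) (X.presheaf.stalk x.1) := fun x =>
    TopCat.Presheaf.algebra_section_stalk X.presheaf x
  haveI loc : ∀ x : U.1, IsLocalization.AtPrime (X.presheaf.stalk x.1)
      (U.2.primeIdealOf x).asIdeal := fun x => U.2.isLocalization_stalk x
  haveI : ∀ x : U.1, Module.Flat Γ(X, U.1) (X.presheaf.stalk x.1) := fun x =>
    IsLocalization.flat (X.presheaf.stalk x.1) (U.2.primeIdealOf x).asIdeal.primeCompl
  apply isWeaklyRegular_of_family (ι := U.1) (fun x => X.presheaf.stalk x.1)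
  · intro m hm
    have hmem : U.2.fromSpec ⟨m, hm.isPrime⟩ ∈ U.1 := by
      rw [← SetLike.mem_coe, ← U.2.range_fromSpec]
      exact Set.mem_range_self _
    set x0 : U.1 := ⟨_, hmem⟩ with hx0
    refine ⟨x0, ?_⟩
    have hp : U.2.primeIdealOf x0 = ⟨m, hm.isPrime⟩ :=
      Groth.Agent.Lib.Helper91.KRegDesc.primeIdealOf_fromSpec U.2 ⟨m, hm.isPrime⟩ hmem
    have h1 := IsLocalization.AtPrime.map_eq_maximalIdeal
      (U.2.primeIdealOf x0).asIdeal (X.presheaf.stalk x0.1)
    rw [hp] at h1
    rw [h1]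
    exact (IsLocalRing.maximalIdeal.isMaximal _).ne_top
  · intro x
    have := h x.1 x.2
    unfold WRAt at this
    rw [← map_germ_res fs U.1 x.1 x.2] at this
    exact this

theorem isWeaklyRegular_iff_wrAt {X : Scheme.{u}} (fs : List Γ(X, ⊤)) (U : X.affineOpens) :
    IsWeaklyRegular Γ(X, U.1) (fs.map (X.presheaf.map (homOfLE (le_top : U.1 ≤ ⊤)).op).hom) ↔
      ∀ x ∈ U.1, WRAt X fs x :=
  ⟨fun h x hx => wrAt_of_isWeaklyRegular fs U h x hx, isWeaklyRegular_of_wrAt fs U⟩

theorem forall_affine_iff_forall_wrAt {X : Scheme.{u}} (fs : List Γ(X, ⊤)) :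
    (∀ U : X.affineOpens, IsWeaklyRegular Γ(X, U.1)
      (fs.map (X.presheaf.map (homOfLE (le_top : U.1 ≤ ⊤)).op).hom)) ↔ ∀ x : X, WRAt X fs x := by
  constructor
  · intro h x
    obtain ⟨U, hU, hx, -⟩ := exists_isAffineOpen_mem_and_subset (x := x) (U := ⊤) trivial
    exact wrAt_of_isWeaklyRegular fs ⟨U, hU⟩ (h ⟨U, hU⟩) x hx
  · intro h U
    exact isWeaklyRegular_of_wrAt fs U fun x _ => h x

/-- weak regularity at a stalk is insensitive to flat morphisms -/
theorem wrAt_iff_of_flat {X Y : Scheme.{u}} (f : X ⟶ Y) [Flat f] (fs : List Γ(Y, ⊤)) (x : X) :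
    WRAt X (fs.map f.appTop.hom) x ↔ WRAt Y fs (f x) := by
  unfold WRAt
  algebraize [(f.stalkMap x).hom]
  haveI : Module.Flat (Y.presheaf.stalk (f x)) (X.presheaf.stalk x) := Flat.stalkMap f x
  haveI : Module.FaithfullyFlat (Y.presheaf.stalk (f x)) (X.presheaf.stalk x) :=
    @Module.FaithfullyFlat.of_flat_of_isLocalHom _ _ _ _ _ _ _
      (Flat.stalkMap f x) (f.toLRSHom.prop x)
  have hmap : (fs.map f.appTop.hom).map (X.presheaf.germ ⊤ x trivial).hom =
      (fs.map (Y.presheaf.germ ⊤ (f x) trivial).hom).map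
        (algebraMap (Y.presheaf.stalk (f x)) (X.presheaf.stalk x)) := by
    rw [List.map_map, List.map_map]
    apply List.map_congr_left
    intro s _
    exact (Scheme.Hom.germ_stalkMap_apply f ⊤ x trivial s).symm
  rw [hmap]
  constructor
  · intro h
    exact isWeaklyRegular_of_faithfullyFlat (X.presheaf.stalk x) _ h
  · intro h
    exact h.of_flat

/-- on a locally Noetherian scheme, the locus where given global sections are weakly regular in the
stalk is open -/
theorem isOpen_wrAt {X : Scheme.{u}} [IsLocallyNoetherian X] (fs : List Γ(X, ⊤)) :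
    IsOpen {x : X | WRAt X fs x} := by
  rw [isOpen_iff_forall_mem_open]
  intro x hx
  obtain ⟨U, hU, hxU, -⟩ := exists_isAffineOpen_mem_and_subset (x := x) (U := ⊤) trivial
  haveI : IsNoetherianRing Γ(X, U) := IsLocallyNoetherian.component_noetherian ⟨U, hU⟩
  letI : Algebra Γ(X, U) (X.presheaf.stalk x) :=
    TopCat.Presheaf.algebra_section_stalk X.presheaf ⟨x, hxU⟩
  haveI := hU.isLocalization_stalk ⟨x, hxU⟩
  set b := fs.map (X.presheaf.map (homOfLE (le_top : U ≤ ⊤)).op).hom with hb
  have hreg : IsWeaklyRegular (X.presheaf.stalk x) (b.map (algebraMap Γ(X, U) (X.presheaf.stalk x))) := by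
    have := hx
    change WRAt X fs x at this
    unfold WRAt at this
    rw [← map_germ_res fs U x hxU] at this
    exact this
  obtain ⟨g, hg, hS⟩ := Groth.Agent.Lib.Helper91.RegSpread.exists_away Γ(X, U)
    (hU.primeIdealOf ⟨x, hxU⟩).asIdeal (X.presheaf.stalk x) (Ideal.ofList b) b hreg
    (Ideal.map_ofList _ _)
  haveI := hU.isLocalization_basicOpen g
  obtain ⟨hw, -⟩ := hS Γ(X, X.basicOpen g)
  have hle : X.basicOpen g ≤ U := X.basicOpen_le g
  have hw' : IsWeaklyRegular Γ(X, X.basicOpen g)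
      (fs.map (X.presheaf.map (homOfLE (le_top : X.basicOpen g ≤ ⊤)).op).hom) := by
    convert hw using 1
    rw [hb, List.map_map]
    apply List.map_congr_left
    intro s _
    show _ = (X.presheaf.map (homOfLE hle).op).hom ((X.presheaf.map (homOfLE le_top).op).hom s)
    rw [← CommRingCat.comp_apply, ← Functor.map_comp]
    rfl
  refine ⟨X.basicOpen g, fun y hy => ?_, (X.basicOpen g).2, ?_⟩
  · exact wrAt_of_isWeaklyRegular fs ⟨X.basicOpen g, hU.basicOpen g⟩ hw' y hy
  · exact (Groth.Agent.Lib.Helper8.LCIFieldSch.mem_basicOpen_iff hU hxU g).mpr hg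

section Limit

open CategoryTheory.Limits Groth.Agent.Lib.Helper24.Lim8

variable {I : Type u} [SmallCategory I] [IsCofiltered I]
    (D : I ⥤ Scheme.{u}) (c : Limits.Cone D) (hc : Limits.IsLimit c)
    [∀ {i j : I} (f : i ⟶ j), IsAffineHom (D.map f)]

include hc in
/-- weak regularity (stalkwise) of sections from a quasi-compact stage: at the limit iff at a
finite stage, for flat affine transition maps (locally Noetherian stages or surjective maps) -/
theorem wrAt_limit_iff (hflat : ∀ (i j : I) (f : i ⟶ j), Flat (D.map f))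
    (hcase : (∀ i : I, IsLocallyNoetherian (D.obj i)) ∨
      ∀ (i j : I) (f : i ⟶ j), Surjective (D.map f))
    (i₀ : I) [CompactSpace (D.obj i₀)] (fs : List Γ(D.obj i₀, ⊤)) :
    (∀ x : c.pt, WRAt c.pt (fs.map (c.π.app i₀).appTop.hom) x) ↔
      ∃ (j : I) (φ : j ⟶ i₀), ∀ x : D.obj j, WRAt (D.obj j) (fs.map (D.map φ).appTop.hom) x := by
  have hflatπ : ∀ i, Flat (c.π.app i) := fun i => flat_π_app D c hc i (fun j φ => hflat j i φ)
  constructor
  · intro h
    rcases hcase with hN | hS
    · haveI := hN i₀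
      have hZ : IsClosed {s : D.obj i₀ | WRAt (D.obj i₀) fs s}ᶜ := (isOpen_wrAt fs).isClosed_compl
      have hgood : IsGood ({s : D.obj i₀ | WRAt (D.obj i₀) fs s}ᶜ) := by
        have := (IsGood.of_isCompact_isOpen (isCompact_univ (X := D.obj i₀)) isOpen_univ).inter_isClosed hZ
        rwa [Set.univ_inter] at this
      obtain ⟨j, φ, hj⟩ := exists_preimage_eq_empty_of_isGood D c hc _ hgood (by
        rw [Set.preimage_compl, Set.compl_empty_iff, Set.eq_univ_iff_forall]
        intro σ
        haveI := hflatπ i₀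
        exact (wrAt_iff_of_flat (c.π.app i₀) fs σ).mp (h σ))
      refine ⟨j, φ, fun x => ?_⟩
      rw [Set.preimage_compl, Set.compl_empty_iff, Set.eq_univ_iff_forall] at hj
      haveI := hflat j i₀ φ
      exact (wrAt_iff_of_flat (D.map φ) fs x).mpr (hj x)
    · refine ⟨i₀, 𝟙 i₀, fun x => ?_⟩
      haveI := hflat i₀ i₀ (𝟙 i₀)
      rw [wrAt_iff_of_flat (D.map (𝟙 i₀)) fs x]
      obtain ⟨σ, hσ⟩ := exists_π_app_eq D c hc (D.map (𝟙 i₀) x)
        (fun j φ => (hS j i₀ φ).surj _)
      rw [← hσ]
      haveI := hflatπ i₀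
      exact (wrAt_iff_of_flat (c.π.app i₀) fs σ).mp (h σ)
  · rintro ⟨j, φ, h⟩ σ
    haveI := hflatπ j
    have h1 := (wrAt_iff_of_flat (c.π.app j) (fs.map (D.map φ).appTop.hom) σ).mpr (h _)
    have e : (fs.map (D.map φ).appTop.hom).map (c.π.app j).appTop.hom =
        fs.map (c.π.app i₀).appTop.hom := by
      rw [List.map_map]
      apply List.map_congr_left
      intro s _
      have hw : c.π.app j ≫ D.map φ = c.π.app i₀ := c.w φ
      rw [← hw, Scheme.Hom.comp_appTop]
      rfl
    rw [e] at h1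
    exact h1

end Limit

end Schemes

end Groth.Agent.Lib.Helper9.LimReg
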