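import Mathlib
import Groth.Agent.Lib.Helper9.LimReg

/-!
# Stalkwise "weakly regular generators of an ideal" and limits of schemes (helper9)

* `ideal_le_of_family`: comparison of ideals along a jointly faithfully flat family
* `GAt`: germs of `rs` weakly regular and generating the image of `K` in the stalk
* `gAt_of_sections`, `sections_of_gAt`, `gAt_iff_of_flat`, `gAt_res`, `isOpen_gAt`, `gAt_descend`
-/

set_option autoImplicit false
set_option linter.style.haveILetI false
universe u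

open RingTheory.Sequence TensorProduct

namespace Groth.Agent.Lib.Helper9.LimReg2

open Groth.Agent.Lib.Helper9.LimReg

section Algebra

variable {A : Type u} [CommRing A]

/-- `x ∈ J B` for a flat algebra `B`: the colon ideal `(J : x)` generates the unit ideal of `B` -/
theorem map_colon_eq_top {B : Type u} [CommRing B] [Algebra A B] [Module.Flat A B]
    (J : Ideal A) (x : A) (h : algebraMap A B x ∈ Ideal.map (algebraMap A B) J) :
    Ideal.map (algebraMap A B) (Ideal.torsionOf A (A ⧸ J) (Ideal.Quotient.mk J x)) = ⊤ := by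
  apply map_torsionOf_eq_top
  apply (TensorProduct.tensorQuotEquivQuotSMul B J).injective
  rw [TensorProduct.tensorQuotEquivQuotSMul_tmul_mk, map_zero, Submodule.Quotient.mk_eq_zero]
  have h3 : (J • ⊤ : Submodule A B) = (Ideal.map (algebraMap A B) J).restrictScalars A := by
    rw [Ideal.smul_top_eq_map]
  rw [h3, Algebra.smul_def, mul_one]
  exact h

theorem ideal_le_of_family {ι : Type*} (B : ι → Type u) [∀ i, CommRing (B i)]
    [∀ i, Algebra A (B i)] [∀ i, Module.Flat A (B i)]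
    (hcov : ∀ m : Ideal A, m.IsMaximal → ∃ i, Ideal.map (algebraMap A (B i)) m ≠ ⊤)
    (K J : Ideal A) (h : ∀ i, K.map (algebraMap A (B i)) ≤ J.map (algebraMap A (B i))) : K ≤ J := by
  intro x hx
  by_contra hne
  have hI : Ideal.torsionOf A (A ⧸ J) (Ideal.Quotient.mk J x) ≠ ⊤ := by
    intro htop
    apply hne
    have : (1 : A) ∈ Ideal.torsionOf A (A ⧸ J) (Ideal.Quotient.mk J x) := by rw [htop]; trivial
    rw [Ideal.mem_torsionOf_iff, one_smul, Ideal.Quotient.eq_zero_iff_mem] at this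
    exact this
  obtain ⟨m, hm, hle⟩ := Ideal.exists_le_maximal _ hI
  obtain ⟨i, hi⟩ := hcov m hm
  apply hi
  apply top_le_iff.mp
  rw [← map_colon_eq_top (B := B i) J x (h i (Ideal.mem_map_of_mem _ hx))]
  exact Ideal.map_mono hle

end Algebra

section Schemes

open AlgebraicGeometry CategoryTheory TopologicalSpace

/-- at the stalk at `x`, the germs of `rs` are weakly regular and generate the image of `K` -/
def GAt (X : Scheme.{u}) (U : X.Opens) (K : Ideal Γ(X, U)) (rs : List Γ(X, U)) (x : X)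
    (hx : x ∈ U) : Prop :=
  IsWeaklyRegular (X.presheaf.stalk x) (rs.map (X.presheaf.germ U x hx).hom) ∧
    K.map (X.presheaf.germ U x hx).hom = Ideal.ofList (rs.map (X.presheaf.germ U x hx).hom)

theorem gAt_of_sections {X : Scheme.{u}} (U : X.affineOpens) (K : Ideal Γ(X, U.1))
    (rs : List Γ(X, U.1)) (hw : IsWeaklyRegular Γ(X, U.1) rs) (hK : K = Ideal.ofList rs)
    (x : X) (hx : x ∈ U.1) : GAt X U.1 K rs x hx := by
  letI : Algebra Γ(X, U.1) (X.presheaf.stalk x) :=
    TopCat.Presheaf.algebra_section_stalk X.presheaf ⟨x, hx⟩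
  haveI := U.2.isLocalization_stalk ⟨x, hx⟩
  haveI : Module.Flat Γ(X, U.1) (X.presheaf.stalk x) :=
    IsLocalization.flat (X.presheaf.stalk x) (U.2.primeIdealOf ⟨x, hx⟩).asIdeal.primeCompl
  refine ⟨hw.of_flat (S := X.presheaf.stalk x), ?_⟩
  rw [hK, Ideal.map_ofList]

theorem sections_of_gAt {X : Scheme.{u}} (U : X.affineOpens) (K : Ideal Γ(X, U.1))
    (rs : List Γ(X, U.1)) (h : ∀ (x : X) (hx : x ∈ U.1), GAt X U.1 K rs x hx) :
    IsWeaklyRegular Γ(X, U.1) rs ∧ K = Ideal.ofList rs := by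
  letI alg : ∀ x : U.1, Algebra Γ(X, U.1) (X.presheaf.stalk x.1) := fun x =>
    TopCat.Presheaf.algebra_section_stalk X.presheaf x
  haveI loc : ∀ x : U.1, IsLocalization.AtPrime (X.presheaf.stalk x.1)
      (U.2.primeIdealOf x).asIdeal := fun x => U.2.isLocalization_stalk x
  haveI : ∀ x : U.1, Module.Flat Γ(X, U.1) (X.presheaf.stalk x.1) := fun x =>
    IsLocalization.flat (X.presheaf.stalk x.1) (U.2.primeIdealOf x).asIdeal.primeCompl
  have hcov : ∀ m : Ideal Γ(X, U.1), m.IsMaximal →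
      ∃ x : U.1, Ideal.map (algebraMap Γ(X, U.1) (X.presheaf.stalk x.1)) m ≠ ⊤ := by
    intro m hm
    have hmem : U.2.fromSpec ⟨m, hm.isPrime⟩ ∈ U.1 := by
      rw [← SetLike.mem_coe, ← U.2.range_fromSpec]
      exact Set.mem_range_self _
    set x0 : U.1 := ⟨_, hmem⟩ with hx0
    refine ⟨x0, ?_⟩
    have hp : U.2.primeIdealOf x0 = ⟨m, hm.isPrime⟩ :=
      Groth.Agent.Lib.Helper91.KRegDesc.primeIdealOf_fromSpec U.2 ⟨m, hm.isPrime⟩ hmem
    have h1 := IsLocalization.AtPrime.map_eq_maximalIdeal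
      (U.2.primeIdealOf x0).asIdeal (X.presheaf.stalk x0.1)
    rw [hp] at h1
    rw [h1]
    exact (IsLocalRing.maximalIdeal.isMaximal _).ne_top
  refine ⟨isWeaklyRegular_of_family (ι := U.1) (fun x => X.presheaf.stalk x.1) hcov rs
    (fun x => (h x.1 x.2).1), le_antisymm ?_ ?_⟩
  · apply ideal_le_of_family (ι := U.1) (fun x => X.presheaf.stalk x.1) hcov
    intro x
    have := (h x.1 x.2).2
    rw [Ideal.map_ofList]
    exact le_of_eq this
  · apply ideal_le_of_family (ι := U.1) (fun x => X.presheaf.stalk x.1) hcov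
    intro x
    have := (h x.1 x.2).2
    rw [Ideal.map_ofList]
    exact le_of_eq this.symm

theorem germ_appLE {X Y : Scheme.{u}} (f : X ⟶ Y) (U : Y.Opens) (V : X.Opens)
    (e : V ≤ f ⁻¹ᵁ U) (x : X) (hx : x ∈ V) (s : Γ(Y, U)) :
    (X.presheaf.germ V x hx).hom ((f.appLE U V e).hom s) =
      (f.stalkMap x).hom ((Y.presheaf.germ U (f x) (e hx)).hom s) := by
  rw [Scheme.Hom.appLE]
  have h1 := Scheme.Hom.germ_stalkMap_apply f U x (e hx) s
  have h2 := TopCat.Presheaf.germ_res_apply X.presheaf (homOfLE e) x hx ((f.app U).hom s)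
  rw [CommRingCat.comp_apply]
  exact h2.trans h1.symm

/-- invariance of `GAt` under flat morphisms -/
theorem gAt_iff_of_flat {X Y : Scheme.{u}} (f : X ⟶ Y) [Flat f] (U : Y.Opens) (V : X.Opens)
    (e : V ≤ f ⁻¹ᵁ U) (K : Ideal Γ(Y, U)) (rs : List Γ(Y, U)) (x : X) (hx : x ∈ V) :
    GAt X V (K.map (f.appLE U V e).hom) (rs.map (f.appLE U V e).hom) x hx ↔
      GAt Y U K rs (f x) (e hx) := by
  unfold GAt
  algebraize [(f.stalkMap x).hom]
  haveI : Module.Flat (Y.presheaf.stalk (f x)) (X.presheaf.stalk x) := Flat.stalkMap f x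
  haveI : Module.FaithfullyFlat (Y.presheaf.stalk (f x)) (X.presheaf.stalk x) :=
    @Module.FaithfullyFlat.of_flat_of_isLocalHom _ _ _ _ _ _ _
      (Flat.stalkMap f x) (f.toLRSHom.prop x)
  have hcomp : (X.presheaf.germ V x hx).hom.comp (f.appLE U V e).hom =
      (algebraMap (Y.presheaf.stalk (f x)) (X.presheaf.stalk x)).comp
        (Y.presheaf.germ U (f x) (e hx)).hom := by
    ext s
    exact germ_appLE f U V e x hx s
  have hmap : (rs.map (f.appLE U V e).hom).map (X.presheaf.germ V x hx).hom =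
      (rs.map (Y.presheaf.germ U (f x) (e hx)).hom).map
        (algebraMap (Y.presheaf.stalk (f x)) (X.presheaf.stalk x)) := by
    rw [List.map_map, List.map_map]
    apply List.map_congr_left
    intro s _
    exact germ_appLE f U V e x hx s
  have hK : (K.map (f.appLE U V e).hom).map (X.presheaf.germ V x hx).hom =
      (K.map (Y.presheaf.germ U (f x) (e hx)).hom).map
        (algebraMap (Y.presheaf.stalk (f x)) (X.presheaf.stalk x)) := by
    rw [Ideal.map_map, Ideal.map_map, hcomp]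
  rw [hmap, hK, ← Ideal.map_ofList]
  constructor
  · rintro ⟨h1, h2⟩
    refine ⟨isWeaklyRegular_of_faithfullyFlat (X.presheaf.stalk x) _ h1, ?_⟩
    have := congrArg (Ideal.comap (algebraMap (Y.presheaf.stalk (f x)) (X.presheaf.stalk x))) h2
    rwa [Ideal.comap_map_eq_self_of_faithfullyFlat, Ideal.comap_map_eq_self_of_faithfullyFlat] at this
  · rintro ⟨h1, h2⟩
    exact ⟨h1.of_flat, by rw [h2]⟩

theorem gAt_res {X : Scheme.{u}} (U V : X.Opens) (hVU : V ≤ U) (K : Ideal Γ(X, U))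
    (rs : List Γ(X, U)) (x : X) (hx : x ∈ V) :
    GAt X V (K.map (X.presheaf.map (homOfLE hVU).op).hom)
      (rs.map (X.presheaf.map (homOfLE hVU).op).hom) x hx ↔ GAt X U K rs x (hVU hx) := by
  unfold GAt
  have hcomp : (X.presheaf.germ V x hx).hom.comp (X.presheaf.map (homOfLE hVU).op).hom =
      (X.presheaf.germ U x (hVU hx)).hom := by
    ext s
    exact TopCat.Presheaf.germ_res_apply X.presheaf (homOfLE hVU) x hx s
  have hmap : (rs.map (X.presheaf.map (homOfLE hVU).op).hom).map (X.presheaf.germ V x hx).hom =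
      rs.map (X.presheaf.germ U x (hVU hx)).hom := by
    rw [List.map_map]
    apply List.map_congr_left
    intro s _
    exact TopCat.Presheaf.germ_res_apply X.presheaf (homOfLE hVU) x hx s
  rw [hmap, Ideal.map_map, hcomp]

/-- on a locally Noetherian scheme the locus of `GAt` is open -/
theorem isOpen_gAt {X : Scheme.{u}} [IsLocallyNoetherian X] (U : X.affineOpens)
    (K : Ideal Γ(X, U.1)) (rs : List Γ(X, U.1)) :
    IsOpen {x : X | ∃ hx : x ∈ U.1, GAt X U.1 K rs x hx} := by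
  rw [isOpen_iff_forall_mem_open]
  rintro x ⟨hxU, hx⟩
  haveI : IsNoetherianRing Γ(X, U.1) := IsLocallyNoetherian.component_noetherian U
  letI : Algebra Γ(X, U.1) (X.presheaf.stalk x) :=
    TopCat.Presheaf.algebra_section_stalk X.presheaf ⟨x, hxU⟩
  haveI := U.2.isLocalization_stalk ⟨x, hxU⟩
  obtain ⟨g, hg, hS⟩ := Groth.Agent.Lib.Helper91.RegSpread.exists_away Γ(X, U.1)
    (U.2.primeIdealOf ⟨x, hxU⟩).asIdeal (X.presheaf.stalk x) K rs hx.1 hx.2
  haveI := U.2.isLocalization_basicOpen g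
  obtain ⟨hw, hK⟩ := hS Γ(X, X.basicOpen g)
  have hle : X.basicOpen g ≤ U.1 := X.basicOpen_le g
  refine ⟨X.basicOpen g, fun y hy => ⟨hle hy, ?_⟩, (X.basicOpen g).2, ?_⟩
  · rw [← gAt_res U.1 (X.basicOpen g) hle K rs y hy]
    exact gAt_of_sections ⟨X.basicOpen g, U.2.basicOpen g⟩ _ _ hw hK y hy
  · exact (Groth.Agent.Lib.Helper8.LCIFieldSch.mem_basicOpen_iff U.2 hxU g).mpr hg

section Limit

open CategoryTheory.Limits Groth.Agent.Lib.Helper24.Lim8

variable {I : Type u} [SmallCategory I] [IsCofiltered I]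
    (D : I ⥤ Scheme.{u}) (c : Limits.Cone D) (hc : Limits.IsLimit c)
    [∀ {i j : I} (f : i ⟶ j), IsAffineHom (D.map f)]

include hc in
/-- `GAt` on the preimage in the limit of an affine open of a stage descends to a finite stage -/
theorem gAt_descend (hflat : ∀ (i j : I) (f : i ⟶ j), Flat (D.map f))
    (hcase : (∀ i : I, IsLocallyNoetherian (D.obj i)) ∨
      ∀ (i j : I) (f : i ⟶ j), Surjective (D.map f))
    (j : I) (U : (D.obj j).affineOpens) (K : Ideal Γ(D.obj j, U.1)) (rs : List Γ(D.obj j, U.1))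
    (W : c.pt.Opens) (hW : W = c.π.app j ⁻¹ᵁ U.1)
    (h : ∀ (σ : c.pt) (hσ : σ ∈ W),
      GAt c.pt W (K.map ((c.π.app j).appLE U.1 W (le_of_eq hW)).hom)
        (rs.map ((c.π.app j).appLE U.1 W (le_of_eq hW)).hom) σ hσ) :
    ∃ (k : I) (f : k ⟶ j),
      IsWeaklyRegular Γ(D.obj k, D.map f ⁻¹ᵁ U.1) (rs.map ((D.map f).app U.1).hom) ∧
      K.map ((D.map f).app U.1).hom = Ideal.ofList (rs.map ((D.map f).app U.1).hom) := by
  have hflatπ : ∀ i, Flat (c.π.app i) := fun i => flat_π_app D c hc i (fun j φ => hflat j i φ)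
  have hlim : ∀ σ : c.pt, ∀ hσ : c.π.app j σ ∈ U.1, GAt (D.obj j) U.1 K rs (c.π.app j σ) hσ := by
    intro σ hσ
    have hσW : σ ∈ W := by rw [hW]; exact hσ
    haveI := hflatπ j
    exact (gAt_iff_of_flat (c.π.app j) U.1 W (le_of_eq hW) K rs σ hσW).mp (h σ hσW)
  have claim : ∃ (k : I) (f : k ⟶ j), ∀ (x : D.obj k) (hx : D.map f x ∈ U.1),
      GAt (D.obj j) U.1 K rs (D.map f x) hx := by
    rcases hcase with hN | hS
    · haveI := hN j
      have hgood : IsGood ((U.1 : Set (D.obj j)) ∩ {x | ∃ hx : x ∈ U.1, GAt (D.obj j) U.1 K rs x hx}ᶜ) :=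
        IsGood.base _ _ U.1.2 U.2.isCompact (isOpen_gAt U K rs).isClosed_compl
      obtain ⟨k, f, hk⟩ := exists_preimage_eq_empty_of_isGood D c hc _ hgood (by
        rw [Set.eq_empty_iff_forall_notMem]
        rintro σ ⟨hσ1, hσ2⟩
        exact hσ2 ⟨hσ1, hlim σ hσ1⟩)
      refine ⟨k, f, fun x hx => ?_⟩
      by_contra hcon
      have : x ∈ D.map f ⁻¹' ((U.1 : Set (D.obj j)) ∩
          {x | ∃ hx : x ∈ U.1, GAt (D.obj j) U.1 K rs x hx}ᶜ) :=
        ⟨hx, fun ⟨_, h'⟩ => hcon h'⟩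
      rw [hk] at this
      exact this
    · refine ⟨j, 𝟙 j, fun x hx => ?_⟩
      obtain ⟨σ, hσ⟩ := exists_π_app_eq D c hc (D.map (𝟙 j) x) (fun l φ => (hS l j φ).surj _)
      have := hlim σ (by rw [hσ]; exact hx)
      convert this using 1
      exact hσ.symm
  obtain ⟨k, f, hk⟩ := claim
  refine ⟨k, f, ?_⟩
  haveI := hflat k j f
  have hall : ∀ (x : D.obj k) (hx : x ∈ D.map f ⁻¹ᵁ U.1),
      GAt (D.obj k) (D.map f ⁻¹ᵁ U.1) (K.map ((D.map f).app U.1).hom)
        (rs.map ((D.map f).app U.1).hom) x hx := by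
    intro x hx
    have := (gAt_iff_of_flat (D.map f) U.1 (D.map f ⁻¹ᵁ U.1) le_rfl K rs x hx).mpr (hk x hx)
    rwa [← Scheme.Hom.app_eq_appLE] at this
  exact sections_of_gAt ⟨D.map f ⁻¹ᵁ U.1, U.2.preimage (D.map f)⟩ _ _ hall

end Limit

end Schemes

end Groth.Agent.Lib.Helper9.LimReg2
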