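import Mathlib
import Groth.Agent.Lib.Helper24.Lim8

/-!
# Sections over preimages of affine opens in a cofiltered limit of schemes come from a stage (helper9)
-/

set_option autoImplicit false
set_option linter.style.haveILetI false
universe u

open AlgebraicGeometry CategoryTheory CategoryTheory.Limits TopologicalSpace

namespace Groth.Agent.Lib.Helper9.LimSec

variable {I : Type u} [SmallCategory I] [IsCofiltered I]
    (D : I ⥤ Scheme.{u}) (c : Limits.Cone D) (hc : Limits.IsLimit c)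
    [∀ {i j : I} (f : i ⟶ j), IsAffineHom (D.map f)]

include hc in
/-- sections of the limit over the preimage of an affine open of a stage come from a later stage -/
theorem exists_appLE_π_eq (i : I) (U : (D.obj i).Opens) (hU : IsAffineOpen U) (W : c.pt.Opens)
    (hW : W = c.π.app i ⁻¹ᵁ U) (s : Γ(c.pt, W)) :
    ∃ (j : I) (f : j ⟶ i) (t : Γ(D.obj j, D.map f ⁻¹ᵁ U)),
      ((c.π.app j).appLE (D.map f ⁻¹ᵁ U) W
        (by rw [hW, ← Scheme.Hom.comp_preimage, c.w])).hom t = s := by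
  subst hW
  have aff (j : Over i) : IsAffine ((opensDiagram D i U).obj j) := hU.preimage (D.map _)
  obtain ⟨j, t, hj⟩ := exists_appTop_π_eq_of_isAffine_of_isLimit _ _
    (isLimitOpensCone D c hc i U) ((c.π.app i ⁻¹ᵁ U).topIso.inv s)
  refine ⟨j.left, j.hom, (D.map j.hom ⁻¹ᵁ U).topIso.hom t, ?_⟩
  have h1 : ((opensCone D c i U).π.app j).appTop =
      (D.map j.hom ⁻¹ᵁ U).topIso.hom ≫ (c.π.app j.left).appLE (D.map j.hom ⁻¹ᵁ U)
        (c.π.app i ⁻¹ᵁ U) (by rw [← Scheme.Hom.comp_preimage, c.w]) ≫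
        (c.π.app i ⁻¹ᵁ U).topIso.inv := by
    exact Scheme.Hom.resLE_app_top (c.π.app j.left) _
  rw [h1] at hj
  have hj' : (c.π.app i ⁻¹ᵁ U).topIso.inv
      (((c.π.app j.left).appLE (D.map j.hom ⁻¹ᵁ U) (c.π.app i ⁻¹ᵁ U)
        (by rw [← Scheme.Hom.comp_preimage, c.w])).hom ((D.map j.hom ⁻¹ᵁ U).topIso.hom t)) =
      (c.π.app i ⁻¹ᵁ U).topIso.inv s := hj
  exact (ConcreteCategory.bijective_of_isIso (c.π.app i ⁻¹ᵁ U).topIso.inv).1 hj'

theorem appLE_congr_hom {X Y : Scheme.{u}} {f f' : X ⟶ Y} (h : f = f') (U : Y.Opens) (V : X.Opens)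
    (e : V ≤ f ⁻¹ᵁ U) : f.appLE U V e = f'.appLE U V (h ▸ e) := by
  subst h; rfl

/-- composition of the transition map with the projection, on sections -/
theorem π_appLE_comp {i : I} (U : (D.obj i).Opens) (W : c.pt.Opens) (hW : W = c.π.app i ⁻¹ᵁ U)
    {j k : Over i} (θ : k ⟶ j) :
    (D.map θ.left).appLE (D.map j.hom ⁻¹ᵁ U) (D.map k.hom ⁻¹ᵁ U)
        (by rw [← Scheme.Hom.comp_preimage, ← D.map_comp, Over.w θ]) ≫
      (c.π.app k.left).appLE (D.map k.hom ⁻¹ᵁ U) W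
        (by rw [hW, ← Scheme.Hom.comp_preimage, c.w]) =
      (c.π.app j.left).appLE (D.map j.hom ⁻¹ᵁ U) W
        (by rw [hW, ← Scheme.Hom.comp_preimage, c.w]) := by
  rw [Scheme.Hom.appLE_comp_appLE]
  exact appLE_congr_hom (c.w θ.left) _ _ _

include hc in
/-- finite lists of sections of the limit over the preimage of an affine open come from a stage -/
theorem exists_list_appLE_π_eq (i : I) (U : (D.obj i).Opens) (hU : IsAffineOpen U) (W : c.pt.Opens)
    (hW : W = c.π.app i ⁻¹ᵁ U) (l : List Γ(c.pt, W)) :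
    ∃ (j : Over i) (t : List Γ(D.obj j.left, D.map j.hom ⁻¹ᵁ U)),
      t.map ((c.π.app j.left).appLE (D.map j.hom ⁻¹ᵁ U) W
        (by rw [hW, ← Scheme.Hom.comp_preimage, c.w])).hom = l := by
  induction l with
  | nil => exact ⟨Over.mk (𝟙 i), [], rfl⟩
  | cons s l ih =>
    obtain ⟨j₁, t₁, h₁⟩ := ih
    obtain ⟨j₂, f₂, s₂, h₂⟩ := exists_appLE_π_eq D c hc i U hU W hW s
    let j₂' : Over i := Over.mk f₂
    let k : Over i := IsCofiltered.min j₁ j₂'
    let θ₁ : k ⟶ j₁ := IsCofiltered.minToLeft j₁ j₂'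
    let θ₂ : k ⟶ j₂' := IsCofiltered.minToRight j₁ j₂'
    refine ⟨k, ((D.map θ₂.left).appLE (D.map j₂'.hom ⁻¹ᵁ U) (D.map k.hom ⁻¹ᵁ U)
        (by rw [← Scheme.Hom.comp_preimage, ← D.map_comp, Over.w θ₂])).hom s₂ ::
      t₁.map ((D.map θ₁.left).appLE (D.map j₁.hom ⁻¹ᵁ U) (D.map k.hom ⁻¹ᵁ U)
        (by rw [← Scheme.Hom.comp_preimage, ← D.map_comp, Over.w θ₁])).hom, ?_⟩
    rw [List.map_cons, List.map_map]
    congr 1
    · rw [← h₂, ← CommRingCat.comp_apply, π_appLE_comp D c U W hW θ₂]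
      rfl
    · rw [← h₁]
      apply List.map_congr_left
      intro a _
      rw [Function.comp_apply, ← CommRingCat.comp_apply, π_appLE_comp D c U W hW θ₁]

end Groth.Agent.Lib.Helper9.LimSec
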