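import Mathlib
import Groth.Prelude.Def_RegImm
import Groth.Agent.Lib.Helper9.LimReg2
import Groth.Agent.Lib.Helper9.LimSec
import Groth.Agent.Lib.Helper91.RegBC3
import Groth.Agent.Lib.Helper91.ImmRestrict
import Groth.Agent.Lib.Helper24.Lim8Descend

/-!
# Regular immersions descend from a cofiltered limit of schemes to a finite stage (helper9)

* `isRegularImmersionAt_of_isPullback_of_flat`, `isRegularImmersionAt_of_chart`, `isOpen_regularAt`,
  `regular_snd_iff_fst`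
* `descend_at`, `exists_stage`: flat affine transition maps; stages locally Noetherian or transition maps
  surjective
-/

set_option autoImplicit false
set_option linter.style.haveILetI false
universe u

open RingTheory.Sequence AlgebraicGeometry CategoryTheory CategoryTheory.Limits TopologicalSpace

namespace Groth.Agent.Lib.Helper9.LimRegImm

open Groth.Agent.Lib.Helper9.LimReg Groth.Agent.Lib.Helper9.LimReg2 Groth.Agent.Lib.Helper9.LimSec
open Groth.Agent.Lib.Helper91.RegBC Groth.Agent.Lib.Helper24.Lim8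

section BC

variable {Z X Z' X' : Scheme.{u}} {i : Z ⟶ X} {g : X' ⟶ X} {i' : Z' ⟶ X'} {g' : Z' ⟶ Z}

/-- pointwise flat base change of regular immersions -/
theorem isRegularImmersionAt_of_isPullback_of_flat (H : IsPullback g' i' i g) [Flat g]
    (z' : Z') (hz : RegImm.IsRegularImmersionAt .regular i (g' z')) :
    RegImm.IsRegularImmersionAt .regular i' z' := by
  obtain ⟨U, hzU, hcl, rs, hseq, hker⟩ := hz
  haveI := hcl
  have hmem : i' z' ∈ g ⁻¹ᵁ U.1 := by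
    show g (i' z') ∈ U.1
    have : g (i' z') = i (g' z') := by
      rw [← Scheme.Hom.comp_apply, ← Scheme.Hom.comp_apply, H.w]
    rw [this]
    exact hzU
  obtain ⟨W, hW, hx, hWle⟩ := exists_isAffineOpen_mem_and_subset (x := i' z')
    (U := g ⁻¹ᵁ U.1) hmem
  obtain ⟨hcl', hker'⟩ := chart H U ⟨W, hW⟩ hWle
  refine ⟨⟨W, hW⟩, hx, hcl', rs.map (g.appLE U.1 W hWle).hom, ?_, ?_⟩
  · apply seq_map_of_flat _ (Flat.flat_appLE g U.2 hW hWle) .regular rs hseq
    rw [← Ideal.map_ofList, ← hker, ← hker']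
    intro htop
    have h1 : (1 : Γ(X', W)) ∈ RingHom.ker (i'.app W).hom := by rw [htop]; trivial
    rw [RingHom.mem_ker, map_one] at h1
    haveI : Nonempty ↥(i' ⁻¹ᵁ W) := ⟨⟨z', hx⟩⟩
    haveI : Nontrivial Γ(Z', i' ⁻¹ᵁ W) := inferInstance
    exact one_ne_zero h1
  · rw [hker', hker, Ideal.map_ofList]

/-- a chart with weakly regular generators gives regularity at each of its points -/
theorem isRegularImmersionAt_of_chart (i : Z ⟶ X) (U : X.affineOpens)
    (hcl : IsClosedImmersion (i ∣_ U.1)) (rs : List Γ(X, U.1)) (hw : IsWeaklyRegular Γ(X, U.1) rs)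
    (hker : RingHom.ker (i.app U.1).hom = Ideal.ofList rs) (z : Z) (hz : i z ∈ U.1) :
    RegImm.IsRegularImmersionAt .regular i z := by
  refine ⟨U, hz, hcl, rs, ⟨hw, ?_⟩, hker⟩
  intro htop
  have h2 : (Ideal.ofList rs • ⊤ : Submodule Γ(X, U.1) Γ(X, U.1)) = Ideal.ofList rs := by simp
  rw [h2] at htop
  have h1 : (1 : Γ(X, U.1)) ∈ RingHom.ker (i.app U.1).hom := by
    rw [hker, ← htop]; trivial
  rw [RingHom.mem_ker, map_one] at h1
  haveI : Nonempty ↥(i ⁻¹ᵁ U.1) := ⟨⟨z, hz⟩⟩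
  haveI : Nontrivial Γ(Z, i ⁻¹ᵁ U.1) := inferInstance
  exact one_ne_zero h1

/-- the locus of regularity is open -/
theorem isOpen_regularAt (k : RegImm.Kind) (i : Z ⟶ X) :
    IsOpen {z : Z | RegImm.IsRegularImmersionAt k i z} := by
  rw [isOpen_iff_forall_mem_open]
  rintro z ⟨U, hzU, hcl, rs, hseq, hker⟩
  exact ⟨i ⁻¹ᵁ U.1, fun z' hz' => ⟨U, hz', hcl, rs, hseq, hker⟩, (i ⁻¹ᵁ U.1).2, hzU⟩

/-- regular immersions and the symmetry of fibre products -/
theorem regular_snd_iff_fst {A B S : Scheme.{u}} (k : RegImm.Kind) (f : A ⟶ S) (g : B ⟶ S) :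
    RegImm.IsRegularImmersion k (pullback.snd f g) ↔
      RegImm.IsRegularImmersion k (pullback.fst g f) := by
  constructor
  · intro h
    have H : IsPullback (pullbackSymmetry g f).hom (pullback.fst g f) (pullback.snd f g) (𝟙 B) :=
      IsPullback.of_horiz_isIso ⟨by simp⟩
    exact isRegularImmersion_of_isPullback_of_flat H k h
  · intro h
    have H : IsPullback (pullbackSymmetry f g).hom (pullback.snd f g) (pullback.fst g f) (𝟙 B) :=
      IsPullback.of_horiz_isIso ⟨by simp⟩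
    exact isRegularImmersion_of_isPullback_of_flat H k h

end BC

section Limit

variable {I : Type u} [SmallCategory I] [IsCofiltered I]
    (D : I ⥤ Scheme.{u}) (c : Limits.Cone D) (hc : Limits.IsLimit c)
    [∀ {i j : I} (f : i ⟶ j), IsAffineHom (D.map f)]

include hc in
/-- a point of regularity of the base change to the limit descends to a finite stage -/
theorem descend_at (hflat : ∀ (i j : I) (f : i ⟶ j), Flat (D.map f))
    (hcase : (∀ i : I, IsLocallyNoetherian (D.obj i)) ∨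
      ∀ (i j : I) (f : i ⟶ j), Surjective (D.map f))
    (i₀ : I) {X₀ : Scheme.{u}} (j₀ : X₀ ⟶ D.obj i₀) [IsImmersion j₀]
    (z : ↥(pullback (c.π.app i₀) j₀))
    (hz : RegImm.IsRegularImmersionAt .regular (pullback.fst (c.π.app i₀) j₀) z) :
    ∃ T : Over i₀, RegImm.IsRegularImmersionAt .regular (pullback.fst (D.map T.hom) j₀)
      ((pbCone D c i₀ j₀).π.app T z) := by
  haveI := isAffineHom_π_app D c hc
  set i : pullback (c.π.app i₀) j₀ ⟶ c.pt := pullback.fst (c.π.app i₀) j₀ with hi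
  replace hz : RegImm.IsRegularImmersionAt .regular i z := hz
  have Binf : IsPullback (pullback.snd (c.π.app i₀) j₀) i j₀ (c.π.app i₀) :=
    (IsPullback.of_hasPullback _ _).flip
  set z₀ := pullback.snd (c.π.app i₀) j₀ z with hz₀
  -- an affine chart at stage `i₀` over which `j₀` is a closed immersion
  obtain ⟨V₀, hV₀, hzV₀, hV₀le⟩ := exists_isAffineOpen_mem_and_subset (x := j₀ z₀)
    (U := j₀.coborderRange) (Groth.Agent.Lib.Helper91.ImmRestrict.mem_coborderRange j₀ z₀)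
  haveI hcl₀ : IsClosedImmersion (j₀ ∣_ V₀) :=
    Groth.Agent.Lib.Helper91.ImmRestrict.isClosedImmersion_restrict j₀ V₀ hV₀le
  set W := c.π.app i₀ ⁻¹ᵁ V₀ with hWdef
  have hWaff : IsAffineOpen W := hV₀.preimage (c.π.app i₀)
  have hizW : i z ∈ W := by
    show c.π.app i₀ (i z) ∈ V₀
    have : c.π.app i₀ (i z) = j₀ z₀ := by
      rw [← Scheme.Hom.comp_apply, ← Scheme.Hom.comp_apply, Binf.w]
    rw [this]; exact hzV₀
  obtain ⟨U, hzU, hclU, rs, hreg, hker⟩ := hz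
  haveI := hclU
  -- a basic open of `W` inside `U`
  obtain ⟨g, hgle, hzg⟩ := hWaff.exists_basicOpen_le (V := U.1 ⊓ W) ⟨i z, hzU, hizW⟩ hizW
  obtain ⟨j, f, g₁, hg₁⟩ := exists_appLE_π_eq D c hc i₀ V₀ hV₀ W rfl g
  have hVj : IsAffineOpen (D.map f ⁻¹ᵁ V₀) := hV₀.preimage (D.map f)
  set U₁ := (D.obj j).basicOpen g₁ with hU₁def
  have hU₁ : IsAffineOpen U₁ := hVj.basicOpen g₁
  have hU₁le : U₁ ≤ D.map f ⁻¹ᵁ V₀ := (D.obj j).basicOpen_le g₁
  set W₁ := c.pt.basicOpen g with hW₁def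
  have hW₁aff : IsAffineOpen W₁ := hWaff.basicOpen g
  have hW₁ : W₁ = c.π.app j ⁻¹ᵁ U₁ := by
    rw [hW₁def, ← hg₁, Scheme.basicOpen_appLE]
    apply inf_eq_right.mpr
    intro x hx
    show c.π.app i₀ x ∈ V₀
    have h1 : D.map f (c.π.app j x) ∈ V₀ := hU₁le hx
    rwa [← Scheme.Hom.comp_apply, c.w] at h1
  have hW₁U : W₁ ≤ (𝟙 c.pt) ⁻¹ᵁ U.1 := hgle.trans inf_le_left
  have hW₁W : W₁ ≤ c.π.app i₀ ⁻¹ᵁ V₀ := hgle.trans inf_le_right
  set res := (Scheme.Hom.appLE (𝟙 c.pt) U.1 W₁ hW₁U).hom with hres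
  have hresflat : res.Flat := Flat.flat_appLE (𝟙 c.pt) U.2 hW₁aff hW₁U
  have hw' : IsWeaklyRegular Γ(c.pt, W₁) (rs.map res) := by
    letI := res.toAlgebra
    haveI : Module.Flat Γ(c.pt, U.1) Γ(c.pt, W₁) := hresflat
    exact (IsRegular.toIsWeaklyRegular (show IsRegular Γ(c.pt, U.1) rs from hreg)).of_flat
      (S := Γ(c.pt, W₁))
  -- kernels on `W₁`
  have Hid : IsPullback (𝟙 _) i i (𝟙 c.pt) := IsPullback.id_horiz i
  obtain ⟨-, hker1⟩ := chart Hid U ⟨W₁, hW₁aff⟩ hW₁U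
  obtain ⟨-, hker2⟩ := chart Binf ⟨V₀, hV₀⟩ ⟨W₁, hW₁aff⟩ hW₁W
  set I₀ := RingHom.ker (j₀.app V₀).hom with hI₀
  -- descend the generators
  obtain ⟨t, rs₂, hrs₂⟩ := exists_list_appLE_π_eq D c hc j U₁ hU₁ W₁ hW₁ (rs.map res)
  have hU₂ : IsAffineOpen (D.map t.hom ⁻¹ᵁ U₁) := hU₁.preimage (D.map t.hom)
  have e₂ : (D.map t.hom ⁻¹ᵁ U₁) ≤ D.map (t.hom ≫ f) ⁻¹ᵁ V₀ := by
    intro x hx
    have h1 : D.map f (D.map t.hom x) ∈ V₀ := hU₁le hx
    show D.map (t.hom ≫ f) x ∈ V₀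
    rwa [D.map_comp, Scheme.Hom.comp_apply]
  set K₂ := I₀.map ((D.map (t.hom ≫ f)).appLE V₀ (D.map t.hom ⁻¹ᵁ U₁) e₂).hom with hK₂
  have hW₁₂ : W₁ = c.π.app t.left ⁻¹ᵁ (D.map t.hom ⁻¹ᵁ U₁) := by
    rw [hW₁, ← Scheme.Hom.comp_preimage, c.w]
  have hKmap : K₂.map ((c.π.app t.left).appLE (D.map t.hom ⁻¹ᵁ U₁) W₁ (le_of_eq hW₁₂)).hom =
      Ideal.ofList (rs.map res) := by
    have h1 : Ideal.ofList (rs.map res) = (RingHom.ker (i.app U.1).hom).map res := by
      rw [hker, Ideal.map_ofList]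
    rw [hK₂, Ideal.map_map, ← CommRingCat.hom_comp, Scheme.Hom.appLE_comp_appLE, h1,
      ← hker1, hker2]
    congr 2
    exact appLE_congr_hom (c.w (t.hom ≫ f)) _ _ _
  obtain ⟨k, f'', hwk, hKk⟩ := gAt_descend D c hc hflat hcase t.left ⟨(D.map t.hom ⁻¹ᵁ U₁), hU₂⟩ K₂ rs₂ W₁ hW₁₂
    (by
      intro σ hσ
      rw [hKmap]
      have := gAt_of_sections ⟨W₁, hW₁aff⟩ (Ideal.ofList (rs.map res)) (rs.map res) hw' rfl σ hσ
      convert this using 2)
  -- the final stage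
  refine ⟨Over.mk (f'' ≫ t.hom ≫ f), ?_⟩
  set ψ := f'' ≫ t.hom ≫ f with hψ
  set U₃ := D.map f'' ⁻¹ᵁ (D.map t.hom ⁻¹ᵁ U₁) with hU₃def
  have hU₃ : IsAffineOpen U₃ := hU₂.preimage (D.map f'')
  have e₃ : U₃ ≤ D.map ψ ⁻¹ᵁ V₀ := by
    intro x hx
    have h1 : D.map (t.hom ≫ f) (D.map f'' x) ∈ V₀ := e₂ hx
    show D.map ψ x ∈ V₀
    rwa [hψ, D.map_comp, Scheme.Hom.comp_apply]
  have BT : IsPullback (pullback.snd (D.map ψ) j₀) (pullback.fst (D.map ψ) j₀) j₀ (D.map ψ) :=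
    (IsPullback.of_hasPullback _ _).flip
  obtain ⟨hcl3, hker3⟩ := chart BT ⟨V₀, hV₀⟩ ⟨U₃, hU₃⟩ e₃
  have hker3' : RingHom.ker ((pullback.fst (D.map ψ) j₀).app U₃).hom =
      Ideal.ofList (rs₂.map ((D.map f'').app (D.map t.hom ⁻¹ᵁ U₁)).hom) := by
    have happ : (D.map f'').app (D.map t.hom ⁻¹ᵁ U₁) = (D.map f'').appLE (D.map t.hom ⁻¹ᵁ U₁) U₃ le_rfl := Scheme.Hom.app_eq_appLE _
    rw [hker3, ← hKk, hK₂, Ideal.map_map, ← CommRingCat.hom_comp, happ,
      Scheme.Hom.appLE_comp_appLE]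
    congr 2
    exact appLE_congr_hom (D.map_comp f'' (t.hom ≫ f)) _ _ _
  apply isRegularImmersionAt_of_chart (pullback.fst (D.map ψ) j₀) ⟨U₃, hU₃⟩ hcl3 _ hwk hker3'
  -- the point
  have hpt : pullback.fst (D.map ψ) j₀ ((pbCone D c i₀ j₀).π.app (Over.mk ψ) z) =
      c.π.app k (i z) := by
    have hw := (isPullback_pbCone_π D c i₀ j₀ (Over.mk ψ)).w
    have := congrArg (fun h : pullback (c.π.app i₀) j₀ ⟶ D.obj k => h z) hw
    exact this
  show pullback.fst (D.map ψ) j₀ ((pbCone D c i₀ j₀).π.app (Over.mk ψ) z) ∈ U₃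
  rw [hpt]
  show D.map t.hom (D.map f'' (c.π.app k (i z))) ∈ U₁
  have h1 : c.π.app j (i z) ∈ U₁ := by
    have : i z ∈ W₁ := hzg
    rw [hW₁] at this
    exact this
  have h2 : D.map t.hom (D.map f'' (c.π.app k (i z))) = c.π.app j (i z) := by
    rw [← Scheme.Hom.comp_apply, ← Scheme.Hom.comp_apply, ← D.map_comp, c.w]
  rw [h2]; exact h1

include hc in
/-- regular immersions descend from the limit to a finite stage -/
theorem exists_stage (hflat : ∀ (i j : I) (f : i ⟶ j), Flat (D.map f))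
    (hcase : (∀ i : I, IsLocallyNoetherian (D.obj i)) ∨
      ∀ (i j : I) (f : i ⟶ j), Surjective (D.map f))
    (i₀ : I) {X₀ : Scheme.{u}} (j₀ : X₀ ⟶ D.obj i₀) [CompactSpace X₀] [IsImmersion j₀]
    (h : RegImm.IsRegularImmersion .regular (pullback.fst (c.π.app i₀) j₀)) :
    ∃ T : Over i₀, RegImm.IsRegularImmersion .regular (pullback.fst (D.map T.hom) j₀) := by
  by_contra H
  push_neg at H
  have hne : ∀ T : Over i₀, ∃ z : ↥(pullback (D.map T.hom) j₀),
      ¬ RegImm.IsRegularImmersionAt .regular (pullback.fst (D.map T.hom) j₀) z := by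
    intro T
    by_contra hcon
    push_neg at hcon
    exact H T ⟨inferInstance, hcon⟩
  have hcpt : ∀ T : Over i₀, CompactSpace ↥((pbDiagram D i₀ j₀).obj T) := fun T =>
    compactSpace_pbDiagram_obj D i₀ j₀ T
  obtain ⟨s, hs⟩ := exists_mem_of_isClosed_of_nonempty (pbDiagram D i₀ j₀) (pbCone D c i₀ j₀)
    (isLimitPbCone D c hc i₀ j₀)
    (fun T => {z : ↥(pullback (D.map T.hom) j₀) |
      RegImm.IsRegularImmersionAt .regular (pullback.fst (D.map T.hom) j₀) z}ᶜ)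
    (fun T => (isOpen_regularAt _ _).isClosed_compl)
    (fun T => hne T)
    (fun T => by
      haveI := hcpt T
      exact ((isOpen_regularAt RegImm.Kind.regular (pullback.fst (D.map T.hom) j₀)).isClosed_compl).isCompact)
    (fun {T T'} θ z hz hcon => by
      haveI := hflat _ _ θ.left
      exact hz (isRegularImmersionAt_of_isPullback_of_flat (isPullback_pbDiagram_map D i₀ j₀ θ) z hcon))
  obtain ⟨T, hT⟩ := descend_at D c hc hflat hcase i₀ j₀ s (h.2 s)
  exact hs T hT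

end Limit

end Groth.Agent.Lib.Helper9.LimRegImm
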