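import Mathlib
import Groth.Prelude.Def_ArtFun4
import Groth.Agent.Lib.Helper64.ComplCRing
import Groth.Agent.Lib.Helper9.ArtObs

/-! The local functor of a locally Noetherian `k`-scheme at a rational point is pro-represented by
the completed local ring (helper9). -/

set_option autoImplicit false
universe u
open CategoryTheory AlgebraicGeometry

namespace Groth.Agent.Lib.Helper9.LocalFunctor

open ArtFun ArtFun.Art IsLocalRing
open Groth.Agent.Lib.Helper64 Groth.Agent.Lib.Helper76.PSComplete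

variable {k : Type u} [Field k]

/-- An object of `Art` as a coefficient ring. -/
noncomputable def artCRing (A : Art k k) : CRing k k :=
  { carrier := A
    res := A.res
    res_surjective := A.res_surjective
    isAdicComplete := by
      obtain ⟨N, hN⟩ := art_exists_pow_maximalIdeal_eq_bot A
      exact isAdicComplete_of_pow_eq_bot hN }

variable (M : Scheme.{u}) (m : M ⟶ Spec (CommRingCat.of k))
  (x₀ : Spec (CommRingCat.of k) ⟶ M)

/-- The image point. -/
noncomputable abbrev pt : M := x₀ (closedPoint (CommRingCat.of k))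

/-- The structure map of the stalk. -/
noncomputable def ρ : CommRingCat.of k ⟶ M.presheaf.stalk (pt M x₀) :=
  Spec.preimage (M.fromSpecStalk (pt M x₀) ≫ m)

lemma map_ρ : Spec.map (ρ M m x₀) = M.fromSpecStalk (pt M x₀) ≫ m := Spec.map_preimage _

/-- The augmentation of the stalk. -/
noncomputable def φ₀ : M.presheaf.stalk (pt M x₀) ⟶ CommRingCat.of k :=
  Scheme.stalkClosedPointTo x₀

instance : IsLocalHom (φ₀ M x₀).hom := Scheme.isLocalHom_stalkClosedPointTo' x₀

lemma map_φ₀ : Spec.map (φ₀ M x₀) ≫ M.fromSpecStalk (pt M x₀) = x₀ :=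
  Scheme.Spec_stalkClosedPointTo_fromSpecStalk x₀

lemma ρ_φ₀ (hx₀ : x₀ ≫ m = 𝟙 _) : ρ M m x₀ ≫ φ₀ M x₀ = 𝟙 _ := by
  apply Spec.map_injective
  rw [Spec.map_comp, map_ρ, ← Category.assoc, map_φ₀, hx₀, Spec.map_id]

/-- The stalk, remembering the structure morphism. -/
def OstA (M : Scheme.{u}) (_m : M ⟶ Spec (CommRingCat.of k))
    (x₀ : Spec (CommRingCat.of k) ⟶ M) : Type u := ↑(M.presheaf.stalk (pt M x₀))

noncomputable instance : CommRing (OstA M m x₀) := inferInstanceAs (CommRing ↑(M.presheaf.stalk (pt M x₀)))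
instance : IsLocalRing (OstA M m x₀) :=
  inferInstanceAs (IsLocalRing ↑(M.presheaf.stalk (pt M x₀)))
instance [IsLocallyNoetherian M] : IsNoetherianRing (OstA M m x₀) :=
  inferInstanceAs (IsNoetherianRing ↑(M.presheaf.stalk (pt M x₀)))
noncomputable instance : Algebra k (OstA M m x₀) := (ρ M m x₀).hom.toAlgebra

lemma algebraMap_OstA (c : k) : algebraMap k (OstA M m x₀) c = (ρ M m x₀).hom c := rfl

/-- The augmentation as an algebra map. -/
noncomputable def ev (hx₀ : x₀ ≫ m = 𝟙 _) : OstA M m x₀ →ₐ[k] k :=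
  { (φ₀ M x₀).hom with
    commutes' := fun c => by
      change (φ₀ M x₀).hom ((ρ M m x₀).hom c) = c
      have h := congrArg (fun f : CommRingCat.of k ⟶ CommRingCat.of k => f.hom c) (ρ_φ₀ M m x₀ hx₀)
      exact h }

lemma ev_apply (hx₀ : x₀ ≫ m = 𝟙 _) (a : OstA M m x₀) : ev M m x₀ hx₀ a = (φ₀ M x₀).hom a := rfl

lemma ev_surjective (hx₀ : x₀ ≫ m = 𝟙 _) : Function.Surjective (ev M m x₀ hx₀) := fun c =>
  ⟨algebraMap k _ c, (ev M m x₀ hx₀).commutes c⟩

variable {M m x₀}

/-- An algebra map out of the stalk as a morphism of rings. -/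
noncomputable def homOf {A : Art k k} (ψ : OstA M m x₀ →ₐ[k] A) :
    M.presheaf.stalk (pt M x₀) ⟶ CommRingCat.of A :=
  CommRingCat.ofHom (R := ↑(M.presheaf.stalk (pt M x₀))) (S := A) ψ.toRingHom

lemma homOf_apply {A : Art k k} (ψ : OstA M m x₀ →ₐ[k] A) (a : OstA M m x₀) :
    (homOf ψ).hom a = ψ a := rfl

/-- The morphism attached to an algebra map out of the stalk. -/
noncomputable def toSch {A : Art k k} (ψ : OstA M m x₀ →ₐ[k] A) : spec A ⟶ M :=
  Spec.map (homOf ψ) ≫ M.fromSpecStalk (pt M x₀)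

lemma toSch_comp_m {A : Art k k} (ψ : OstA M m x₀ →ₐ[k] A) :
    toSch ψ ≫ m = specMap (ofBase A) := by
  unfold toSch
  rw [Category.assoc, ← map_ρ, ← Spec.map_comp]
  congr 1
  ext c
  exact ψ.commutes c

lemma specRes_toSch (hx₀ : x₀ ≫ m = 𝟙 _) {A : Art k k} (ψ : OstA M m x₀ →ₐ[k] A)
    (hψ : A.res.comp ψ = ev M m x₀ hx₀) : specRes A ≫ toSch ψ = x₀ := by
  unfold toSch
  rw [← Category.assoc, ← Spec.map_comp]
  have h : homOf ψ ≫ CommRingCat.ofHom A.res.toRingHom = φ₀ M x₀ := by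
    ext a
    exact congrArg (fun f : OstA M m x₀ →ₐ[k] k => f a) hψ
  rw [h, map_φ₀]

lemma toSch_map {A B : Art k k} (h : A ⟶ B) (ψ : OstA M m x₀ →ₐ[k] A) :
    toSch (h.toAlgHom.comp ψ) = specMap h ≫ toSch ψ := by
  unfold toSch
  rw [← Category.assoc, ← Spec.map_comp]
  rfl

lemma isLocalHom_of_res (hx₀ : x₀ ≫ m = 𝟙 _) {A : Art k k} (ψ : OstA M m x₀ →ₐ[k] A)
    (hψ : A.res.comp ψ = ev M m x₀ hx₀) : IsLocalHom (homOf ψ).hom := by
  refine ⟨fun a ha => ?_⟩
  have ha' : IsUnit (ψ a) := ha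
  have h1 : IsUnit (A.res (ψ a)) := ha'.map A.res
  have h2 : A.res (ψ a) = (φ₀ M x₀).hom a :=
    congrArg (fun f : OstA M m x₀ →ₐ[k] k => f a) hψ
  rw [h2] at h1
  exact isUnit_of_map_unit (φ₀ M x₀).hom a h1

/-- Injectivity of `ψ ↦ Spec ψ ≫ fromSpecStalk` on local homomorphisms. -/
lemma hom_eq_of_spec_eq {X : Scheme.{u}} {x : X} {R : CommRingCat.{u}} [IsLocalRing R]
    (f₁ f₂ : X.presheaf.stalk x ⟶ R) [h₁ : IsLocalHom f₁.hom] [h₂ : IsLocalHom f₂.hom]
    (h : Spec.map f₁ ≫ X.fromSpecStalk x = Spec.map f₂ ≫ X.fromSpecStalk x) : f₁ = f₂ := by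
  have h' : (SpecToEquivOfLocalRing X R).symm ⟨x, f₁, h₁⟩ =
      (SpecToEquivOfLocalRing X R).symm ⟨x, f₂, h₂⟩ := h
  have h'' := (SpecToEquivOfLocalRing X R).symm.injective h'
  obtain ⟨h1, h2⟩ := SpecToEquivOfLocalRing_eq_iff.1 h''
  have h3 : f₁ = (X.presheaf.stalkCongr (Inseparable.refl x)).hom ≫ f₂ := h2
  rw [h3, TopCat.Presheaf.stalkCongr_hom, TopCat.Presheaf.stalkSpecializes_refl,
    Category.id_comp]

instance isLocalHom_res (A : Art k k) : IsLocalHom (CommRingCat.ofHom A.res.toRingHom).hom := by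
  refine ⟨fun a ha => ?_⟩
  have ha' : IsUnit (A.res a) := ha
  by_contra hu
  have : a ∈ maximalIdeal A := (IsLocalRing.mem_maximalIdeal _).2 hu
  rw [Art.mem_maximalIdeal_iff] at this
  rw [this] at ha'
  exact not_isUnit_zero ha'

/-- Every morphism from an Artinian thickening with the right closed point comes from the stalk. -/
lemma exists_of_sch (hx₀ : x₀ ≫ m = 𝟙 _) {A : Art k k} (g : spec A ⟶ M)
    (h1 : g ≫ m = specMap (ofBase A)) (h2 : specRes A ≫ g = x₀) :
    ∃ ψ : OstA M m x₀ →ₐ[k] A, A.res.comp ψ = ev M m x₀ hx₀ ∧ toSch ψ = g := by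
  obtain ⟨⟨x', f, hf⟩, rfl⟩ := (SpecToEquivOfLocalRing M (CommRingCat.of A)).symm.surjective g
  rw [SpecToEquivOfLocalRing_symm_apply] at h1 h2 ⊢
  change (Spec.map f ≫ M.fromSpecStalk x') ≫ m = specMap (ofBase A) at h1
  change specRes A ≫ Spec.map f ≫ M.fromSpecStalk x' = x₀ at h2
  haveI : IsLocalHom f.hom := hf
  have hx' : pt M x₀ = x' := by
    have h3 : (specRes A ≫ Spec.map f ≫ M.fromSpecStalk x')
        (closedPoint (CommRingCat.of k)) = pt M x₀ := by rw [h2]
    have h4 : (M.fromSpecStalk x') ((Spec.map f) ((specRes A)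
        (closedPoint (CommRingCat.of k)))) = pt M x₀ := h3
    have e1 : specRes A (closedPoint (CommRingCat.of k)) = closedPoint (CommRingCat.of A) :=
      Spec_closedPoint (f := CommRingCat.ofHom A.res.toRingHom)
    have e2 : Spec.map f (closedPoint (CommRingCat.of A)) = closedPoint (M.presheaf.stalk x') :=
      Spec_closedPoint (f := f)
    have e3 : (M.fromSpecStalk x') (closedPoint (M.presheaf.stalk x')) = x' :=
      Scheme.fromSpecStalk_closedPoint
    calc pt M x₀ = (M.fromSpecStalk x') ((Spec.map f) ((specRes A)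
          (closedPoint (CommRingCat.of k)))) := h4.symm
      _ = (M.fromSpecStalk x') ((Spec.map f) (closedPoint (CommRingCat.of A))) :=
          congrArg (fun t => (M.fromSpecStalk x') ((Spec.map f) t)) e1
      _ = (M.fromSpecStalk x') (closedPoint (M.presheaf.stalk x')) :=
          congrArg (fun t => (M.fromSpecStalk x') t) e2
      _ = x' := e3
  subst hx'
  have hρf : ρ M m x₀ ≫ f = CommRingCat.ofHom (Algebra.ofId k A).toRingHom := by
    apply Spec.map_injective
    rw [Spec.map_comp, map_ρ, ← Category.assoc]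
    exact h1
  let ψ : OstA M m x₀ →ₐ[k] A :=
    { f.hom with
      commutes' := fun c =>
        congrArg (fun t : CommRingCat.of k ⟶ CommRingCat.of A => t.hom c) hρf }
  have hψf : homOf ψ = f := by
    ext a
    rfl
  have hfres : f ≫ CommRingCat.ofHom A.res.toRingHom = φ₀ M x₀ := by
    haveI : IsLocalHom (f ≫ CommRingCat.ofHom A.res.toRingHom).hom := by
      rw [CommRingCat.hom_comp]
      infer_instance
    apply hom_eq_of_spec_eq
    rw [Spec.map_comp, Category.assoc, map_φ₀]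
    exact h2
  refine ⟨ψ, ?_, ?_⟩
  · apply AlgHom.ext
    intro a
    exact congrArg (fun t : M.presheaf.stalk (pt M x₀) ⟶ CommRingCat.of k => t.hom a) hfres
  · unfold toSch
    rw [hψf]

variable (M m x₀)

/-- **Pro-representability of the local functor** of a locally Noetherian `k`-scheme at a rational
point. -/
theorem exists_prorep [IsLocallyNoetherian M] (hx₀ : x₀ ≫ m = 𝟙 _) :
    ∃ (R : CRing k k)
      (e : ∀ A : Art k k, HomSet R.carrier R.res A ≃
        {g : spec A ⟶ M // g ≫ m = specMap (ofBase A) ∧ specRes A ≫ g = x₀}),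
      ∀ (A B : Art k k) (h : A ⟶ B) (φ : HomSet R.carrier R.res A),
        ((e B) (HomSet.map h φ)).1 = specMap h ≫ ((e A) φ).1 := by
  have hπ := ev_surjective M m x₀ hx₀
  have hfg : (augIdeal (OstA M m x₀) (ev M m x₀ hx₀)).FG := IsNoetherian.noetherian _
  set R : CRing k k := gcCRing (ev M m x₀ hx₀) hπ hfg with hR
  have hres : ∀ (A : Art k k) (φ : HomSet R.carrier R.res A),
      A.res.comp (φ.1.comp (gcOf (ev M m x₀ hx₀) hπ hfg)) = ev M m x₀ hx₀ := by
    intro A φ
    rw [← AlgHom.comp_assoc, φ.2]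
    exact gcRes_comp_gcOf (ev M m x₀ hx₀) hπ hfg
  let F : ∀ A : Art k k, HomSet R.carrier R.res A →
      {g : spec A ⟶ M // g ≫ m = specMap (ofBase A) ∧ specRes A ≫ g = x₀} := fun A φ =>
    ⟨toSch (φ.1.comp (gcOf (ev M m x₀ hx₀) hπ hfg)), toSch_comp_m _,
      specRes_toSch hx₀ _ (hres A φ)⟩
  have hF : ∀ A : Art k k, Function.Bijective (F A) := by
    intro A
    constructor
    · intro φ₁ φ₂ h12
      have h3 : toSch (φ₁.1.comp (gcOf (ev M m x₀ hx₀) hπ hfg)) =
          toSch (φ₂.1.comp (gcOf (ev M m x₀ hx₀) hπ hfg)) := congrArg Subtype.val h12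
      unfold toSch at h3
      haveI := isLocalHom_of_res hx₀ _ (hres A φ₁)
      haveI := isLocalHom_of_res hx₀ _ (hres A φ₂)
      have h4 := hom_eq_of_spec_eq _ _ h3
      have h5 : φ₁.1.comp (gcOf (ev M m x₀ hx₀) hπ hfg) =
          φ₂.1.comp (gcOf (ev M m x₀ hx₀) hπ hfg) := by
        apply AlgHom.ext
        intro a
        exact congrArg (fun t : M.presheaf.stalk (pt M x₀) ⟶ CommRingCat.of A => t.hom a) h4
      apply Subtype.ext
      exact gc_extend_unique (ev M m x₀ hx₀) hπ hfg (artCRing A) φ₁.1 φ₂.1 φ₁.2 φ₂.2 h5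
    · rintro ⟨g, h1, h2⟩
      obtain ⟨ψ, hψ, hψg⟩ := exists_of_sch hx₀ g h1 h2
      obtain ⟨g', hg'1, hg'2⟩ := gc_exists_extend (ev M m x₀ hx₀) hπ hfg (artCRing A) ψ hψ
      refine ⟨⟨g', hg'1⟩, ?_⟩
      apply Subtype.ext
      change toSch (g'.comp (gcOf (ev M m x₀ hx₀) hπ hfg)) = g
      rw [hg'2, hψg]
  refine ⟨R, fun A => Equiv.ofBijective (F A) (hF A), ?_⟩
  intro A B h φ
  change toSch ((HomSet.map h φ).1.comp (gcOf (ev M m x₀ hx₀) hπ hfg)) =
    specMap h ≫ toSch (φ.1.comp (gcOf (ev M m x₀ hx₀) hπ hfg))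
  rw [← toSch_map]
  rfl

end Groth.Agent.Lib.Helper9.LocalFunctor
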