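import Groth.Prelude.Def_ArtFun3
import Groth.Agent.Lib.Helper64.ArtLength
import Groth.Agent.Lib.Helper64.ArtThicken
import Groth.Agent.Lib.Helper9.ArtFun
import Groth.Agent.Lib.Helper9.ArtTangent
import Groth.Agent.S12707

/-!
# Endomorphisms of an object of `Art Λ k` fixing an element of `F`: lengths of ranges and the
Fitting idempotent (helper9)
-/

set_option autoImplicit false
universe u v
open CategoryTheory

namespace Groth.Agent.Lib.Helper9.MinVersal

open ArtFun ArtFun.Art IsLocalRing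

variable {Λ : Type u} {k : Type u} [CommRing Λ] [Field k] [Algebra Λ k]

/-- The range of a morphism as a `Λ`-submodule. -/
def rng {A B : Art Λ k} (σ : A ⟶ B) : Submodule Λ B := LinearMap.range σ.toAlgHom.toLinearMap

lemma mem_rng {A B : Art Λ k} {σ : A ⟶ B} {b : B} : b ∈ rng σ ↔ ∃ a : A, σ a = b :=
  LinearMap.mem_range

lemma rng_comp_le {A B C : Art Λ k} (τ : A ⟶ B) (σ : B ⟶ C) : rng (τ ≫ σ) ≤ rng σ := by
  intro c hc
  obtain ⟨a, rfl⟩ := mem_rng.1 hc
  exact mem_rng.2 ⟨τ a, rfl⟩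

/-- The `Λ`-length of the range. -/
noncomputable def len {A B : Art Λ k} (σ : A ⟶ B) : ℕ∞ := Module.length Λ (rng σ)

lemma len_comp_le_right {A B C : Art Λ k} (τ : A ⟶ B) (σ : B ⟶ C) : len (τ ≫ σ) ≤ len σ :=
  Module.length_le_of_injective (Submodule.inclusion (rng_comp_le τ σ))
    (Submodule.inclusion_injective _)

lemma len_comp_le_left {A B C : Art Λ k} (τ : A ⟶ B) (σ : B ⟶ C) : len (τ ≫ σ) ≤ len τ := by
  let f : rng τ →ₗ[Λ] rng (τ ≫ σ) :=
    (σ.toAlgHom.toLinearMap.domRestrict (rng τ)).codRestrict (rng (τ ≫ σ)) (by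
      rintro ⟨b, hb⟩
      obtain ⟨a, rfl⟩ := mem_rng.1 hb
      exact mem_rng.2 ⟨a, rfl⟩)
  refine Module.length_le_of_surjective f ?_
  rintro ⟨c, hc⟩
  obtain ⟨a, rfl⟩ := mem_rng.1 hc
  exact ⟨⟨τ a, mem_rng.2 ⟨a, rfl⟩⟩, Subtype.ext rfl⟩

section Finite

variable [IsNoetherianRing Λ] [Module.Finite Λ k]

lemma rng_eq_of_le_of_len_le {A A' B : Art Λ k} {σ : A ⟶ B} {τ : A' ⟶ B} (h : rng σ ≤ rng τ)
    (hl : len τ ≤ len σ) : rng σ = rng τ := by
  haveI : IsArtinian Λ B := Groth.Agent.Lib.Helper64.isArtinian_art B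
  haveI : Module.Finite Λ B := Groth.Agent.Lib.Helper64.finite_art B
  by_contra hne
  have hlt : rng σ < rng τ := lt_of_le_of_ne h hne
  have := Submodule.height_strictMono hlt
  rw [← Module.length_submodule, ← Module.length_submodule] at this
  exact absurd hl (not_le.2 this)

lemma len_ne_top {A B : Art Λ k} (σ : A ⟶ B) : len σ ≠ ⊤ := by
  haveI : IsArtinian Λ B := Groth.Agent.Lib.Helper64.isArtinian_art B
  haveI : Module.Finite Λ B := Groth.Agent.Lib.Helper64.finite_art B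
  exact Module.length_ne_top

end Finite

/-- The Fitting idempotent of an endomorphism `σ` fixing `x` with `σ²(A) = σ(A)`. -/
theorem exists_fitting {F : Art Λ k ⥤ Type v} {A : Art Λ k} (x : F.obj A) (σ : A ⟶ A)
    (hσ : F.map σ x = x) (hr : rng (σ ≫ σ) = rng σ) :
    ∃ p b : A ⟶ A, F.map p x = x ∧ F.map b x = x ∧ p ≫ p = p ∧ σ ≫ b = p ∧ b ≫ σ = p ∧
      σ ≫ p = σ ∧ p ≫ σ = σ := by
  have hK : RingHom.ker σ.toAlgHom ≤ maximalIdeal A := art_ker_le_maximalIdeal σ
  set Q := quot A (RingHom.ker σ.toAlgHom) hK with hQ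
  set q : A ⟶ Q := quotMk A _ hK with hq
  set j : Q ⟶ A := quotFactor hK σ le_rfl with hj
  have hqj : q ≫ j = σ := quotMk_quotFactor hK σ le_rfl
  set α : Q ⟶ Q := j ≫ q with hα
  have hαq : ∀ s : A, α (q s) = q (σ s) := fun s => by
    change q (j (q s)) = q (σ s)
    have : j (q s) = σ s := by
      change (q ≫ j) s = σ s
      rw [hqj]
    rw [this]
  have hsurj : Function.Surjective α := by
    intro y
    obtain ⟨r, rfl⟩ := quotMk_surjective A _ hK y
    have hmem : σ r ∈ rng (σ ≫ σ) := by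
      rw [hr]
      exact mem_rng.2 ⟨r, rfl⟩
    obtain ⟨r', hr'⟩ := mem_rng.1 hmem
    have hr'' : σ (σ r') = σ r := hr'
    refine ⟨q r', ?_⟩
    rw [hαq]
    change Ideal.Quotient.mk _ (σ r') = Ideal.Quotient.mk _ r
    rw [Ideal.Quotient.eq, RingHom.mem_ker, map_sub, sub_eq_zero]
    exact hr''
  have hinj : Function.Injective α :=
    injective_of_surjective_ringEnd (α.toAlgHom : Q →+* Q) hsurj
  haveI : IsIso α := Groth.Agent.S12707.isIso_of_bijective α ⟨hinj, hsurj⟩
  have e : ∀ {Z : Art Λ k} (h : Q ⟶ Z), j ≫ q ≫ h = α ≫ h := fun h => by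
    rw [← Category.assoc]
  have e' : ∀ {Z : Art Λ k} (h : A ⟶ Z), q ≫ j ≫ h = σ ≫ h := fun h => by
    rw [← Category.assoc, hqj]
  -- the element z
  have hz : F.map α (F.map q x) = F.map q x := by
    rw [← Functor.map_comp_apply, hα, ← Category.assoc, hqj, Functor.map_comp_apply, hσ]
  have hz' : F.map (inv α) (F.map q x) = F.map q x := by
    have := congrArg (F.map (inv α)) hz
    rw [← Functor.map_comp_apply, IsIso.hom_inv_id, Functor.map_id_apply] at this
    exact this.symm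
  have hjz : F.map j (F.map q x) = x := by
    rw [← Functor.map_comp_apply, hqj, hσ]
  refine ⟨q ≫ inv α ≫ j, q ≫ inv α ≫ inv α ≫ j, ?_, ?_, ?_, ?_, ?_, ?_, ?_⟩
  · rw [Functor.map_comp_apply, Functor.map_comp_apply, hz', hjz]
  · rw [Functor.map_comp_apply, Functor.map_comp_apply, Functor.map_comp_apply, hz', hz', hjz]
  · simp only [Category.assoc, e, IsIso.hom_inv_id_assoc]
  · rw [← hqj]
    simp only [Category.assoc, e, IsIso.hom_inv_id_assoc]
  · simp only [Category.assoc, e', ← hqj]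
    simp only [Category.assoc, e, IsIso.inv_hom_id_assoc]
  · rw [← hqj]
    simp only [Category.assoc, e, IsIso.hom_inv_id_assoc]
  · simp only [Category.assoc, ← hqj]
    simp only [Category.assoc, e, IsIso.inv_hom_id_assoc]

end Groth.Agent.Lib.Helper9.MinVersal
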