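import Groth.Agent.Lib.Helper9.MinVersalTower
import Groth.Agent.Lib.Helper76.PSArt
import Groth.Agent.S12720

/-!
# Existence of a minimal versal family inside a versal one, and the power series structure
(helper9)
-/

set_option autoImplicit false
universe u v
open CategoryTheory

namespace Groth.Agent.Lib.Helper9.MinVersal

open ArtFun ArtFun.Art IsLocalRing
open Groth.Agent.Lib.Helper9
open Groth.Agent.Lib.Helper63.ArtFunLib

variable {Λ : Type u} {k : Type u} [CommRing Λ] [Field k] [Algebra Λ k]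

/-- An augmented endomorphism of a coefficient ring which is onto modulo the square of the maximal
ideal is onto. -/
theorem cring_endo_surjective (S : CRing Λ k) (θ : S.carrier →ₐ[Λ] S.carrier)
    (hθ : S.res.comp θ = S.res)
    (h : ∀ s : S.carrier, ∃ t : S.carrier, s - θ t ∈ maximalIdeal S.carrier ^ 2) :
    Function.Surjective θ := by
  haveI := S.isAdicComplete
  have hres : ∀ t, S.res (θ t) = S.res t := fun t => AlgHom.congr_fun hθ t
  have hle : (maximalIdeal S.carrier).map (θ : S.carrier →+* S.carrier) ≤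
      maximalIdeal S.carrier := by
    rw [Ideal.map_le_iff_le_comap]
    intro t ht
    rw [Ideal.mem_comap, CRing.mem_maximalIdeal_iff]
    change S.res (θ t) = 0
    rw [hres, ← CRing.mem_maximalIdeal_iff]
    exact ht
  have hmap : (maximalIdeal S.carrier).map (θ : S.carrier →+* S.carrier) =
      maximalIdeal S.carrier := by
    apply Groth.Agent.Lib.Helper76.PSCRing.eq_maximalIdeal_of_le_sup_sq _ hle
    intro s hs
    obtain ⟨t, ht⟩ := h s
    have htm : t ∈ maximalIdeal S.carrier := by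
      have h1 : s - θ t ∈ maximalIdeal S.carrier := Ideal.pow_le_self two_ne_zero ht
      rw [CRing.mem_maximalIdeal_iff] at h1 hs ⊢
      rw [map_sub, hs, hres, zero_sub, neg_eq_zero] at h1
      exact h1
    have : s = θ t + (s - θ t) := by ring
    rw [this]
    exact Ideal.add_mem _ (Ideal.mem_sup_left (Ideal.mem_map_of_mem _ htm))
      (Ideal.mem_sup_right ht)
  refine Groth.Agent.Lib.Helper76.PSCRing.surjective_of_map_maximalIdeal
    (θ : S.carrier →+* S.carrier) hmap fun s => ?_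
  obtain ⟨t, ht⟩ := h s
  exact ⟨t, Ideal.pow_le_self two_ne_zero ht⟩

section Limit

variable [IsNoetherianRing Λ] [Module.Finite Λ k]
variable {R : CRing Λ k} {F : Art Λ k ⥤ Type v} (ξ : Family R.carrier R.res F)

/-- The idempotent endomorphism of `R` fixing the versal family, with minimal image. -/
theorem exists_idempotent (hξ : IsVersal ξ) :
    ∃ (P : R.carrier →ₐ[Λ] R.carrier) (hP : R.res.comp P = R.res),
      P.comp P = P ∧ (ξ.along P hP).toFormalElt = ξ.toFormalElt ∧
      ∀ (ψ : R.carrier →ₐ[Λ] R.carrier) (hψ : R.res.comp ψ = R.res),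
        (ξ.along ψ hψ).toFormalElt = ξ.toFormalElt → P.comp ψ = ψ →
        ∀ r : R.carrier, ∃ r' : R.carrier, P r - ψ r' ∈ maximalIdeal R.carrier ^ 2 := by
  obtain ⟨p, hgood, hcoh⟩ := exists_coherent ξ hξ
  let φ : ∀ m, HomSet R.carrier R.res (R.trunc m) := fun m => HomSet.map (p m) (R.truncHom m)
  have hφ : ∀ m, HomSet.map (R.truncMap m) (φ (m + 1)) = φ m := by
    intro m
    change HomSet.map (R.truncMap m) (HomSet.map (p (m + 1)) (R.truncHom (m + 1))) = _
    rw [← homSet_map_comp, hcoh, homSet_map_comp, CRing.truncMap_truncHom]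
  obtain ⟨P, hP, hPn⟩ := exists_lift_of_compatible R φ hφ
  have hPn' : ∀ n (r : R.carrier), (R.truncHom n).1 (P r) = p n ((R.truncHom n).1 r) :=
    fun n r => AlgHom.congr_fun (hPn n) r
  refine ⟨P, hP, ?_, ?_, ?_⟩
  · apply algHom_ext_of_truncHom R
    intro n
    apply AlgHom.ext
    intro r
    change (R.truncHom n).1 (P (P r)) = (R.truncHom n).1 (P r)
    rw [hPn', hPn']
    change (p n ≫ p n) _ = _
    rw [(hgood n).2]
  · apply FormalElt.ext'
    intro n
    change ξ.app (R.trunc n) ⟨(R.truncHom n).1.comp P, _⟩ = ξ.app _ (R.truncHom n)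
    have e : (⟨(R.truncHom n).1.comp P, by rw [← AlgHom.comp_assoc, (R.truncHom n).2, hP]⟩ :
        HomSet R.carrier R.res (R.trunc n)) = φ n := Subtype.ext (hPn n)
    rw [e, app_map_truncHom]
    exact (hgood n).1.1
  · intro ψ hψ hψξ hPψ r
    set ψ₁ := CRing.truncMapOfHom ψ hψ 1 with hψ₁
    have hψ₁mk : ∀ s : R.carrier, ψ₁ ((R.truncHom 1).1 s) = (R.truncHom 1).1 (ψ s) := fun s => rfl
    have hfix : Fix ξ 1 ψ₁ := by
      have h1 := congrArg (fun t : FormalElt F R => t.elt 1) hψξ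
      rw [along_toFormalElt_eq_push] at h1
      exact h1
    have hle : rng ψ₁ ≤ rng (p 1) := by
      intro x hx
      obtain ⟨y, rfl⟩ := mem_rng.1 hx
      obtain ⟨s, rfl⟩ := truncHom_surjective R 1 y
      rw [hψ₁mk]
      have : ψ s = P (ψ s) := by
        have := AlgHom.congr_fun hPψ s
        exact this.symm
      rw [this, hPn']
      exact mem_rng.2 ⟨_, rfl⟩
    have heq : rng ψ₁ = rng (p 1) := rng_eq_of_le_of_len_le hle ((hgood 1).1.2 ψ₁ hfix)
    have hmem : p 1 ((R.truncHom 1).1 r) ∈ rng ψ₁ := by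
      rw [heq]
      exact mem_rng.2 ⟨_, rfl⟩
    obtain ⟨y, hy⟩ := mem_rng.1 hmem
    obtain ⟨r', rfl⟩ := truncHom_surjective R 1 y
    refine ⟨r', ?_⟩
    rw [hψ₁mk, ← hPn'] at hy
    have hy' : Ideal.Quotient.mk (CRing.mpow R 1) (ψ r') = Ideal.Quotient.mk (CRing.mpow R 1) (P r) :=
      hy
    rw [Ideal.Quotient.eq] at hy'
    have := (CRing.mpow R 1).neg_mem hy'
    rw [neg_sub] at this
    exact this

end Limit

section Pre

variable {R S T : Type u} [CommRing R] [Algebra Λ R] [CommRing S] [Algebra Λ S]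
  [CommRing T] [Algebra Λ T]
  {resR : R →ₐ[Λ] k} {resS : S →ₐ[Λ] k} {resT : T →ₐ[Λ] k} {F : Art Λ k ⥤ Type v}

/-- Precomposition `h_S → h_R` with an augmented map `α : R → S`. -/
def pre (α : R →ₐ[Λ] S) (hα : resS.comp α = resR) {A : Art Λ k} (φ : HomSet S resS A) :
    HomSet R resR A :=
  ⟨φ.1.comp α, by rw [← AlgHom.comp_assoc, φ.2, hα]⟩

lemma pre_apply (α : R →ₐ[Λ] S) (hα : resS.comp α = resR) {A : Art Λ k} (φ : HomSet S resS A)
    (r : R) : (pre α hα φ).1 r = φ.1 (α r) := rfl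

lemma along_app (ξ : Family R resR F) (α : R →ₐ[Λ] S) (hα : resS.comp α = resR) {A : Art Λ k}
    (φ : HomSet S resS A) : (ξ.along α hα).app A φ = ξ.app A (pre α hα φ) := rfl

lemma map_pre (α : R →ₐ[Λ] S) (hα : resS.comp α = resR) {A B : Art Λ k} (f : A ⟶ B)
    (φ : HomSet S resS A) : HomSet.map f (pre α hα φ) = pre α hα (HomSet.map f φ) :=
  Subtype.ext rfl

lemma pre_pre (α : R →ₐ[Λ] S) (hα : resS.comp α = resR) (β : S →ₐ[Λ] T)
    (hβ : resT.comp β = resS) {A : Art Λ k} (φ : HomSet T resT A) :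
    pre α hα (pre β hβ φ) = pre (β.comp α) (by rw [← AlgHom.comp_assoc, hβ, hα]) φ :=
  Subtype.ext rfl

lemma pre_congr {α β : R →ₐ[Λ] S} (h : α = β) (hα : resS.comp α = resR)
    (hβ : resS.comp β = resR) {A : Art Λ k} (φ : HomSet S resS A) : pre α hα φ = pre β hβ φ := by
  subst h
  rfl

lemma pre_id (h : resR.comp (AlgHom.id Λ R) = resR) {A : Art Λ k} (φ : HomSet R resR A) :
    pre (AlgHom.id Λ R) h φ = φ := Subtype.ext rfl

end Pre

section Main

variable [IsNoetherianRing Λ] [Module.Finite Λ k]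
variable {R : CRing Λ k} {F : Art Λ k ⥤ Type v} (ξ : Family R.carrier R.res F)

/-- A retract `R'` of `R` cut out by an idempotent fixing the versal family and with minimal image
carries a minimal versal family. -/
theorem isMinimalVersal_of_retract (h0 : H0 F) (hξ : IsVersal ξ)
    (P : R.carrier →ₐ[Λ] R.carrier) (hP : R.res.comp P = R.res)
    (hPξ : (ξ.along P hP).toFormalElt = ξ.toFormalElt)
    (hPmin : ∀ (ψ : R.carrier →ₐ[Λ] R.carrier) (hψ : R.res.comp ψ = R.res),
        (ξ.along ψ hψ).toFormalElt = ξ.toFormalElt → P.comp ψ = ψ →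
        ∀ r : R.carrier, ∃ r' : R.carrier, P r - ψ r' ∈ maximalIdeal R.carrier ^ 2)
    (R' : CRing Λ k) (g : R'.carrier →ₐ[Λ] R.carrier) (hg : R.res.comp g = R'.res)
    (π : R.carrier →ₐ[Λ] R'.carrier) (hπ : R'.res.comp π = R.res)
    (hπsurj : Function.Surjective π)
    (hπg : π.comp g = AlgHom.id Λ R'.carrier) (hgπ : g.comp π = P) :
    (ξ.along π hπ).IsMinimalVersal ∧
      ((ξ.along π hπ).along g hg).toFormalElt = ξ.toFormalElt ∧
      ∀ (A : Art Λ k) (φ : HomSet R.carrier R.res A),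
        ξ.app A (pre π hπ (pre g hg φ)) = ξ.app A φ := by
  have hPfam : ξ.along P hP = ξ := Groth.Agent.Lib.Helper64.Family.toFormalElt_injective hPξ
  have hPapp : ∀ (A : Art Λ k) (φ : HomSet R.carrier R.res A),
      ξ.app A (pre P hP φ) = ξ.app A φ := fun A φ => by
    have := congrArg (fun η : Family R.carrier R.res F => η.app A φ) hPfam
    exact this
  have hπga : ∀ x, π (g x) = x := fun x => AlgHom.congr_fun hπg x
  have hgπa : ∀ r, g (π r) = P r := fun r => AlgHom.congr_fun hgπ r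
  have hinv : ∀ (A : Art Λ k) (φ : HomSet R.carrier R.res A),
      ξ.app A (pre π hπ (pre g hg φ)) = ξ.app A φ := by
    intro A φ
    rw [pre_pre, pre_congr hgπ _ hP, hPapp]
  set ξ' : Family R'.carrier R'.res F := ξ.along π hπ with hξ'
  have hξ'app : ∀ (A : Art Λ k) (χ : HomSet R'.carrier R'.res A),
      ξ'.app A χ = ξ.app A (pre π hπ χ) := fun A χ => rfl
  have hpreg : ∀ (A : Art Λ k) (χ : HomSet R'.carrier R'.res A),
      pre g hg (pre π hπ χ) = χ := by
    intro A χ
    rw [pre_pre, pre_congr hπg _ (by rw [AlgHom.comp_id]), pre_id]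
  -- versality of ξ'
  have hξ'vers : IsVersal ξ' := by
    intro B A μ hμ χ y hy
    rw [hξ'app] at hy
    obtain ⟨ψ, hψ1, hψ2⟩ := hξ μ hμ _ y hy
    refine ⟨pre g hg ψ, ?_, ?_⟩
    · rw [map_pre, hψ1, hpreg]
    · rw [hξ'app, hinv, hψ2]
  refine ⟨⟨hξ'vers, ?_⟩, ?_, hinv⟩
  · -- minimality
    intro R'' u f hf hpush
    obtain ⟨h, hh, hhu⟩ := Groth.Agent.S12720.result h0 R' ξ' hξ'vers R'' u
    set θ : R'.carrier →ₐ[Λ] R'.carrier := f.comp h with hθdef
    have hθ : R'.res.comp θ = R'.res := by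
      rw [hθdef, ← AlgHom.comp_assoc, hf, hh]
    have hθξ : (ξ'.along θ hθ).toFormalElt = ξ'.toFormalElt := by
      rw [← hpush, ← hhu]
      apply FormalElt.ext'
      intro n
      change ξ'.app (R'.trunc n) (pre θ hθ (R'.truncHom n)) =
        F.map (CRing.truncMapOfHom f hf n) (ξ'.app (R''.trunc n) (pre h hh (R''.truncHom n)))
      rw [← ξ'.natural]
      congr 1
    have hθfam : ξ'.along θ hθ = ξ' :=
      Groth.Agent.Lib.Helper64.Family.toFormalElt_injective hθξ
    have hθapp : ∀ (A : Art Λ k) (χ : HomSet R'.carrier R'.res A),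
        ξ'.app A (pre θ hθ χ) = ξ'.app A χ := fun A χ => by
      have := congrArg (fun η : Family R'.carrier R'.res F => η.app A χ) hθfam
      exact this
    set ψ : R.carrier →ₐ[Λ] R.carrier := g.comp (θ.comp π) with hψdef
    have hψ : R.res.comp ψ = R.res := by
      rw [hψdef, ← AlgHom.comp_assoc, hg, ← AlgHom.comp_assoc, hθ, hπ]
    have hψξ : (ξ.along ψ hψ).toFormalElt = ξ.toFormalElt := by
      apply FormalElt.ext'
      intro n
      change ξ.app (R.trunc n) (pre ψ hψ (R.truncHom n)) = ξ.app _ (R.truncHom n)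
      have e1 : pre ψ hψ (R.truncHom n) = pre π hπ (pre θ hθ (pre g hg (R.truncHom n))) :=
        Subtype.ext rfl
      rw [e1, ← hξ'app, hθapp, hξ'app, hinv]
    have hPψ : P.comp ψ = ψ := by
      apply AlgHom.ext
      intro r
      change P (g (θ (π r))) = g (θ (π r))
      rw [← hgπa, hπga]
    have key := hPmin ψ hψ hψξ hPψ
    have hθsurj : Function.Surjective θ := by
      apply cring_endo_surjective R' θ hθ
      intro s
      obtain ⟨r, rfl⟩ := hπsurj s
      obtain ⟨r', hr'⟩ := key r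
      refine ⟨π r', ?_⟩
      have h1 : π (P r - ψ r') = π r - θ (π r') := by
        rw [map_sub, ← hgπa, hπga]
        change π r - π (g (θ (π r'))) = _
        rw [hπga]
      rw [← h1]
      have h2 : (maximalIdeal R.carrier ^ 2).map (π : R.carrier →+* R'.carrier) ≤
          maximalIdeal R'.carrier ^ 2 := by
        rw [Ideal.map_pow]
        exact Ideal.pow_right_mono
          (Ideal.map_le_iff_le_comap.2 (CRing.maximalIdeal_le_comap π hπ)) 2
      exact h2 (Ideal.mem_map_of_mem _ hr')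
    intro x
    obtain ⟨y, hy⟩ := hθsurj x
    exact ⟨h y, hy⟩
  · apply FormalElt.ext'
    intro n
    change ξ'.app (R.trunc n) (pre g hg (R.truncHom n)) = ξ.app _ (R.truncHom n)
    rw [hξ'app, hinv]

/-- A versal family contains a minimal versal family as a retract. -/
theorem exists_minimalVersal_retract (h0 : H0 F) (hξ : IsVersal ξ) :
    ∃ (R' : CRing Λ k) (g : R'.carrier →ₐ[Λ] R.carrier) (hg : R.res.comp g = R'.res)
      (π : R.carrier →ₐ[Λ] R'.carrier) (hπ : R'.res.comp π = R.res),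
      π.comp g = AlgHom.id Λ R'.carrier ∧ (ξ.along π hπ).IsMinimalVersal ∧
      ((ξ.along π hπ).along g hg).toFormalElt = ξ.toFormalElt ∧
      ∀ (A : Art Λ k) (φ : HomSet R.carrier R.res A),
        ξ.app A (pre π hπ (pre g hg φ)) = ξ.app A φ := by
  obtain ⟨P, hP, hPP, hPξ, hPmin⟩ := exists_idempotent ξ hξ
  have hPPa : ∀ r, P (P r) = P r := fun r => AlgHom.congr_fun hPP r
  have hPres : ∀ r, R.res (P r) = R.res r := fun r => AlgHom.congr_fun hP r
  set J : Ideal R.carrier := RingHom.ker (P : R.carrier →+* R.carrier) with hJdef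
  have hJ : J ≤ maximalIdeal R.carrier := by
    intro r hr
    have hr0 : P r = 0 := hr
    rw [CRing.mem_maximalIdeal_iff, ← hPres, hr0, map_zero]
  have hπsurj : Function.Surjective (cringQuotMk R J hJ) := cringQuotMk_surjective R J hJ
  let g : (cringQuot R J hJ).carrier →ₐ[Λ] R.carrier := Ideal.Quotient.liftₐ J P (fun a ha => ha)
  have hgπ : ∀ r, g (cringQuotMk R J hJ r) = P r := fun r => rfl
  have hg : R.res.comp g = (cringQuot R J hJ).res := by
    apply AlgHom.ext
    intro x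
    obtain ⟨r, rfl⟩ := hπsurj x
    change R.res (g (cringQuotMk R J hJ r)) = (cringQuot R J hJ).res (cringQuotMk R J hJ r)
    rw [hgπ, hPres]
    exact (AlgHom.congr_fun (cringQuotMk_res R J hJ) r).symm
  have hπP : ∀ r, cringQuotMk R J hJ (P r) = cringQuotMk R J hJ r := fun r => by
    change Ideal.Quotient.mk J (P r) = Ideal.Quotient.mk J r
    rw [Ideal.Quotient.eq, hJdef, RingHom.mem_ker]
    change P (P r - r) = 0
    rw [map_sub, hPPa, sub_self]
  have hπg : (cringQuotMk R J hJ).comp g = AlgHom.id Λ (cringQuot R J hJ).carrier := by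
    apply AlgHom.ext
    intro x
    obtain ⟨r, rfl⟩ := hπsurj x
    change cringQuotMk R J hJ (g (cringQuotMk R J hJ r)) = cringQuotMk R J hJ r
    rw [hgπ, hπP]
  have hgπc : g.comp (cringQuotMk R J hJ) = P := AlgHom.ext fun r => hgπ r
  obtain ⟨h1, h2, h3⟩ := isMinimalVersal_of_retract ξ h0 hξ P hP hPξ hPmin (cringQuot R J hJ) g hg
    (cringQuotMk R J hJ) (cringQuotMk_res R J hJ) hπsurj hπg hgπc
  exact ⟨cringQuot R J hJ, g, hg, cringQuotMk R J hJ, cringQuotMk_res R J hJ, hπg, h1, h2, h3⟩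

end Main

section PowerSeries

/-- Correcting a lift by a derivation through a retraction: if `π ∘ g = id` then any lift `ψ₀` of
`φ : R → A` along a small extension `B → A` can be modified so that its restriction along `g` is a
prescribed lift `y` of `φ ∘ g`. -/
theorem exists_correct_lift {R R' : Type u} [CommRing R] [Algebra Λ R] [CommRing R']
    [Algebra Λ R'] {resR : R →ₐ[Λ] k} {resR' : R' →ₐ[Λ] k}
    (g : R' →ₐ[Λ] R) (hg : resR.comp g = resR') (π : R →ₐ[Λ] R') (hπ : resR'.comp π = resR)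
    (hπg : π.comp g = AlgHom.id Λ R')
    {B A : Art Λ k} (μ : B ⟶ A) (hμ : IsSemismallExt μ) (ψ₀ : HomSet R resR B)
    (y : HomSet R' resR' B) (hcompat : HomSet.map μ y = pre g hg (HomSet.map μ ψ₀)) :
    ∃ ψ : HomSet R resR B, HomSet.map μ ψ = HomSet.map μ ψ₀ ∧ pre g hg ψ = y := by
  have hc : ∀ r' : R', μ.toAlgHom (y.1 r') = μ.toAlgHom (ψ₀.1 (g r')) := fun r' =>
    congrArg (fun t : HomSet R' resR' A => t.1 r') hcompat
  have hry : ∀ r', B.res (y.1 r') = resR' r' := fun r' => AlgHom.congr_fun y.2 r'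
  have hrψ : ∀ s, B.res (ψ₀.1 s) = resR s := fun s => AlgHom.congr_fun ψ₀.2 s
  have hrg : ∀ r', resR (g r') = resR' r' := fun r' => AlgHom.congr_fun hg r'
  have hrπ : ∀ s, resR' (π s) = resR s := fun s => AlgHom.congr_fun hπ s
  have hπga : ∀ r', π (g r') = r' := fun r' => AlgHom.congr_fun hπg r'
  have hd : ∀ s : R, μ (y.1 (π s) - ψ₀.1 (g (π s))) = 0 := fun s => by
    change μ.toAlgHom (y.1 (π s) - ψ₀.1 (g (π s))) = 0
    rw [map_sub, hc, sub_self]
  have hdres : ∀ s : R, B.res (y.1 (π s) - ψ₀.1 (g (π s))) = 0 := fun s => by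
    rw [map_sub, hry, hrψ, hrg, sub_self]
  let ψ : R →ₐ[Λ] B :=
    { toFun := fun s => ψ₀.1 s + (y.1 (π s) - ψ₀.1 (g (π s)))
      map_one' := by simp
      map_mul' := fun s s' => by
        have E1 : (y.1 (π s) - ψ₀.1 s) * (y.1 (π s') - ψ₀.1 (g (π s'))) = 0 :=
          smallExt_mul_eq_zero hμ (hd s') (by rw [map_sub, hry, hrψ, hrπ, sub_self])
        have E2 : (ψ₀.1 (g (π s')) - ψ₀.1 s') * (y.1 (π s) - ψ₀.1 (g (π s))) = 0 :=
          smallExt_mul_eq_zero hμ (hd s) (by rw [map_sub, hrψ, hrψ, hrg, hrπ, sub_self])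
        have E3 : (y.1 (π s) - ψ₀.1 (g (π s))) * (y.1 (π s') - ψ₀.1 (g (π s'))) = 0 :=
          smallExt_mul_eq_zero hμ (hd s') (hdres s)
        simp only [map_mul]
        linear_combination E1 + E2 - E3
      map_zero' := by simp
      map_add' := fun s s' => by
        simp only [map_add]
        ring
      commutes' := fun c => by
        simp only [AlgHom.commutes]
        ring }
  have hψ : ∀ s, ψ s = ψ₀.1 s + (y.1 (π s) - ψ₀.1 (g (π s))) := fun s => rfl
  refine ⟨⟨ψ, ?_⟩, ?_, ?_⟩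
  · apply AlgHom.ext
    intro s
    change B.res (ψ s) = resR s
    rw [hψ, map_add, hdres, add_zero, hrψ]
  · apply Subtype.ext
    apply AlgHom.ext
    intro s
    change μ.toAlgHom (ψ s) = μ.toAlgHom (ψ₀.1 s)
    rw [hψ, map_add]
    have := hd s
    change μ.toAlgHom _ = 0 at this
    rw [this, add_zero]
  · apply Subtype.ext
    apply AlgHom.ext
    intro r'
    change ψ (g r') = y.1 r'
    rw [hψ, hπga]
    ring

variable {R : CRing Λ k} {F : Art Λ k ⥤ Type v} (ξ : Family R.carrier R.res F)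

section
variable [IsNoetherianRing Λ] [Module.Finite Λ k]

/-- If `R'` is a retract of `R` compatibly with a versal family on `R`, then `h_R → h_{R'}` is
smooth. -/
theorem isVersal_self_along (hξ : IsVersal ξ) (R' : CRing Λ k)
    (g : R'.carrier →ₐ[Λ] R.carrier) (hg : R.res.comp g = R'.res)
    (π : R.carrier →ₐ[Λ] R'.carrier) (hπ : R'.res.comp π = R.res)
    (hπg : π.comp g = AlgHom.id Λ R'.carrier)
    (hinv : ∀ (A : Art Λ k) (φ : HomSet R.carrier R.res A),
        ξ.app A (pre π hπ (pre g hg φ)) = ξ.app A φ) :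
    IsVersal ((Family.self R'.carrier R'.res).along g hg) := by
  apply isVersal_of_smallExt
  intro B A μ hμ φ y0 hy0
  obtain ⟨y, rfl⟩ : ∃ y : HomSet R'.carrier R'.res B, y = y0 := ⟨y0, rfl⟩
  have hy : HomSet.map μ y = pre g hg φ := hy0
  have hz : F.map μ (ξ.app B (pre π hπ y)) = ξ.app A φ := by
    rw [← ξ.natural, map_pre, hy, hinv]
  obtain ⟨ψ₀, hψ₀, -⟩ := hξ μ hμ.1 φ _ hz
  obtain ⟨ψ, hψ1, hψ2⟩ := exists_correct_lift g hg π hπ hπg μ hμ.isSemismallExt ψ₀ y
    (by rw [hψ₀, hy])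
  exact ⟨ψ, hψ1.trans hψ₀, hψ2⟩

/-- `R ≅ R'[[X₁, …, Xₙ]]` over `R'`. -/
theorem exists_powerSeries (hξ : IsVersal ξ) (R' : CRing Λ k)
    (g : R'.carrier →ₐ[Λ] R.carrier) (hg : R.res.comp g = R'.res)
    (π : R.carrier →ₐ[Λ] R'.carrier) (hπ : R'.res.comp π = R.res)
    (hπg : π.comp g = AlgHom.id Λ R'.carrier)
    (hinv : ∀ (A : Art Λ k) (φ : HomSet R.carrier R.res A),
        ξ.app A (pre π hπ (pre g hg φ)) = ξ.app A φ) :
    ∃ (n : ℕ) (e : R.carrier ≃ₐ[Λ] MvPowerSeries (Fin n) R'.carrier),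
      ∀ a : R'.carrier, e (g a) = algebraMap R'.carrier (MvPowerSeries (Fin n) R'.carrier) a := by
  letI : Algebra R'.carrier R.carrier := g.toRingHom.toAlgebra
  haveI : IsScalarTower Λ R'.carrier R.carrier :=
    IsScalarTower.of_algebraMap_eq (fun c => (g.commutes c).symm)
  have hto : IsScalarTower.toAlgHom Λ R'.carrier R.carrier = g := AlgHom.ext fun _ => rfl
  have hRS : R.res.comp (IsScalarTower.toAlgHom Λ R'.carrier R.carrier) = R'.res := by
    rw [hto]
    exact hg
  have hV : IsVersal ((Family.self R'.carrier R'.res).along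
      (IsScalarTower.toAlgHom Λ R'.carrier R.carrier) hRS) := by
    have := isVersal_self_along ξ hξ R' g hg π hπ hπg hinv
    have hgen : ∀ (α : R'.carrier →ₐ[Λ] R.carrier) (hα : R.res.comp α = R'.res), α = g →
        IsVersal ((Family.self R'.carrier R'.res).along α hα) := by
      intro α hα h
      subst h
      exact this
    exact hgen _ hRS hto
  obtain ⟨n, ⟨e'⟩⟩ := Groth.Agent.Lib.Helper76.PSArt.exists_algEquiv_of_isVersal R' R hRS hV
  refine ⟨n, e'.restrictScalars Λ, fun a => ?_⟩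
  exact e'.commutes a

end

end PowerSeries

end Groth.Agent.Lib.Helper9.MinVersal
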