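import Groth.Prelude.Def_W4sfdMinVersal
import Groth.Agent.Lib.Helper9.MinVersalLevel
import Groth.Agent.Lib.Helper9.CRingQuot
import Groth.Agent.Lib.Helper9.ArtVersal
import Groth.Agent.Lib.Helper9.ArtCRing
import Groth.Agent.Lib.Helper63.ArtFun
import Groth.Agent.Lib.Helper64.FormalFamily

/-!
# The tower of truncations of a versal family: coherent minimal idempotents (helper9)
-/

set_option autoImplicit false
universe u v
open CategoryTheory

namespace Groth.Agent.Lib.Helper9.MinVersal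

open ArtFun ArtFun.Art IsLocalRing
open Groth.Agent.Lib.Helper9

variable {Λ : Type u} {k : Type u} [CommRing Λ] [Field k] [Algebra Λ k]

section Tower

variable (R : CRing Λ k)

lemma truncMap_surjective (m : ℕ) : Function.Surjective (R.truncMap m) := by
  intro x
  obtain ⟨s, rfl⟩ := Ideal.Quotient.mk_surjective x
  exact ⟨Ideal.Quotient.mk _ s, rfl⟩

lemma truncHom_surjective (m : ℕ) : Function.Surjective (R.truncHom m).1 :=
  Ideal.Quotient.mk_surjective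

lemma truncMap_epi {m : ℕ} {C : Art Λ k} (a b : R.trunc m ⟶ C)
    (h : R.truncMap m ≫ a = R.truncMap m ≫ b) : a = b := by
  apply Art.hom_ext
  apply AlgHom.ext
  intro x
  obtain ⟨y, rfl⟩ := truncMap_surjective R m x
  have := congrArg (fun t : R.trunc (m + 1) ⟶ C => t y) h
  exact this

lemma maximalIdeal_trunc_pow (m : ℕ) : maximalIdeal (R.trunc m) ^ (m + 1) = ⊥ := by
  rw [← le_bot_iff]
  calc maximalIdeal (R.carrier ⧸ CRing.mpow R m) ^ (m + 1)
      ≤ ((maximalIdeal R.carrier).map (Ideal.Quotient.mk (CRing.mpow R m))) ^ (m + 1) :=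
        Ideal.pow_right_mono (CRing.maximalIdeal_quot_le R m) _
    _ = (CRing.mpow R m).map (Ideal.Quotient.mk (CRing.mpow R m)) := by rw [← Ideal.map_pow]
    _ = ⊥ := Ideal.map_quotient_self _

/-- Every map `R → R/m^(m+1)` kills `m^(m+1)`. -/
lemma homSet_kills {m : ℕ} (φ : HomSet R.carrier R.res (R.trunc m)) :
    ∀ x ∈ CRing.mpow R m, φ.1 x = 0 := by
  intro x hx
  have h1 : φ.1 x ∈ (maximalIdeal R.carrier ^ (m + 1)).map (φ.1 : R.carrier →+* R.trunc m) :=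
    Ideal.mem_map_of_mem _ hx
  rw [Ideal.map_pow] at h1
  have h2 : (maximalIdeal R.carrier).map (φ.1 : R.carrier →+* R.trunc m) ≤
      maximalIdeal (R.trunc m) := by
    rw [Ideal.map_le_iff_le_comap]
    exact fun r hr => Groth.Agent.Lib.Helper64.HomSet.map_mem_maximalIdeal R φ r hr
  have h3 := Ideal.pow_right_mono h2 (m + 1) h1
  rw [maximalIdeal_trunc_pow] at h3
  exact h3

/-- Every element of `h_R(R/m^(m+1))` is an endomorphism of `R/m^(m+1)`. -/
lemma exists_endo_of_homSet {m : ℕ} (φ : HomSet R.carrier R.res (R.trunc m)) :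
    ∃ σ : R.trunc m ⟶ R.trunc m, HomSet.map σ (R.truncHom m) = φ :=
  ⟨Groth.Agent.Lib.Helper64.facTrunc R φ m (homSet_kills R φ),
    Groth.Agent.Lib.Helper64.facTrunc_truncHom R φ m _⟩

/-- Truncation of endomorphisms. -/
theorem exists_trunc_level (m : ℕ) (σ : R.trunc (m + 1) ⟶ R.trunc (m + 1)) :
    ∃ σ' : R.trunc m ⟶ R.trunc m, σ ≫ R.truncMap m = R.truncMap m ≫ σ' := by
  obtain ⟨σ', hσ'⟩ := exists_endo_of_homSet R
    (HomSet.map (σ ≫ R.truncMap m) (R.truncHom (m + 1)))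
  refine ⟨σ', ?_⟩
  apply hom_ext_of_homSet_surjective (R.truncHom (m + 1)) (truncHom_surjective R (m + 1))
  rw [← hσ', homSet_map_comp (R.truncMap m) σ', CRing.truncMap_truncHom]

variable {R} {F : Art Λ k ⥤ Type v} (ξ : Family R.carrier R.res F)

/-- The `m`-th level of the formal element. -/
noncomputable def lvl (m : ℕ) : F.obj (R.trunc m) := ξ.app _ (R.truncHom m)

lemma map_truncMap_lvl (m : ℕ) : F.map (R.truncMap m) (lvl ξ (m + 1)) = lvl ξ m := by
  unfold lvl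
  rw [← ξ.natural, CRing.truncMap_truncHom]

lemma app_map_truncHom {m : ℕ} {C : Art Λ k} (σ : R.trunc m ⟶ C) :
    ξ.app _ (HomSet.map σ (R.truncHom m)) = F.map σ (lvl ξ m) := ξ.natural σ _

/-- Truncations of endomorphisms fixing the formal element fix it. -/
lemma fix_of_trunc {m : ℕ} {σ : R.trunc (m + 1) ⟶ R.trunc (m + 1)} {σ' : R.trunc m ⟶ R.trunc m}
    (h : σ ≫ R.truncMap m = R.truncMap m ≫ σ') (hσ : F.map σ (lvl ξ (m + 1)) = lvl ξ (m + 1)) :
    F.map σ' (lvl ξ m) = lvl ξ m := by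
  rw [← map_truncMap_lvl, ← Functor.map_comp_apply, ← h, Functor.map_comp_apply, hσ]

/-- Lifting endomorphisms fixing the formal element one level up (versality). -/
theorem exists_lift_level (hξ : IsVersal ξ) (m : ℕ) (σ' : R.trunc m ⟶ R.trunc m)
    (hσ' : F.map σ' (lvl ξ m) = lvl ξ m) :
    ∃ σ : R.trunc (m + 1) ⟶ R.trunc (m + 1), F.map σ (lvl ξ (m + 1)) = lvl ξ (m + 1) ∧
      σ ≫ R.truncMap m = R.truncMap m ≫ σ' := by
  set φ := HomSet.map σ' (R.truncHom m) with hφ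
  have hφξ : ξ.app _ φ = lvl ξ m := by rw [hφ, app_map_truncHom, hσ']
  obtain ⟨ψ, hψ1, hψ2⟩ := hξ (R.truncMap m) (truncMap_surjective R m) φ (lvl ξ (m + 1))
    (by rw [map_truncMap_lvl, hφξ])
  obtain ⟨σ, hσ⟩ := exists_endo_of_homSet R ψ
  refine ⟨σ, ?_, ?_⟩
  · rw [← app_map_truncHom, hσ, hψ2]
  · apply hom_ext_of_homSet_surjective (R.truncHom (m + 1)) (truncHom_surjective R (m + 1))
    rw [homSet_map_comp, hσ, hψ1, homSet_map_comp, CRing.truncMap_truncHom]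

end Tower

section Good

variable [IsNoetherianRing Λ] [Module.Finite Λ k]
variable {R : CRing Λ k} {F : Art Λ k ⥤ Type v} (ξ : Family R.carrier R.res F)

/-- An endomorphism of level `m` fixing the formal element. -/
def Fix (m : ℕ) (σ : R.trunc m ⟶ R.trunc m) : Prop := F.map σ (lvl ξ m) = lvl ξ m

lemma fix_comp {m : ℕ} {σ τ : R.trunc m ⟶ R.trunc m} (hσ : Fix ξ m σ) (hτ : Fix ξ m τ) :
    Fix ξ m (σ ≫ τ) := by
  unfold Fix at *
  rw [Functor.map_comp_apply, hσ, hτ]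

lemma fix_id (m : ℕ) : Fix ξ m (𝟙 _) := by
  unfold Fix
  rw [Functor.map_id_apply]

/-- A minimal-length endomorphism fixing the formal element. -/
def IsMin (m : ℕ) (τ : R.trunc m ⟶ R.trunc m) : Prop :=
  Fix ξ m τ ∧ ∀ σ : R.trunc m ⟶ R.trunc m, Fix ξ m σ → len τ ≤ len σ

/-- A minimal-length idempotent fixing the formal element. -/
def IsGood (m : ℕ) (p : R.trunc m ⟶ R.trunc m) : Prop := IsMin ξ m p ∧ p ≫ p = p

theorem exists_isMin (m : ℕ) : ∃ τ : R.trunc m ⟶ R.trunc m, IsMin ξ m τ := by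
  classical
  let S : Set ℕ∞ := {n | ∃ σ : R.trunc m ⟶ R.trunc m, Fix ξ m σ ∧ len σ = n}
  have hS : S.Nonempty := ⟨_, 𝟙 _, fix_id ξ m, rfl⟩
  obtain ⟨n, ⟨τ, hτ, rfl⟩, hmin⟩ := wellFounded_lt.has_min S hS
  refine ⟨τ, hτ, fun σ hσ => ?_⟩
  exact not_lt.1 (hmin (len σ) ⟨σ, hσ, rfl⟩)

lemma IsMin.rng_sq {m : ℕ} {τ : R.trunc m ⟶ R.trunc m} (h : IsMin ξ m τ) :
    rng (τ ≫ τ) = rng τ :=
  rng_eq_of_le_of_len_le (rng_comp_le τ τ) (h.2 _ (fix_comp ξ h.1 h.1))

lemma IsMin.of_le {m : ℕ} {τ σ : R.trunc m ⟶ R.trunc m} (h : IsMin ξ m τ) (hσ : Fix ξ m σ)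
    (hl : len σ ≤ len τ) : IsMin ξ m σ :=
  ⟨hσ, fun ρ hρ => hl.trans (h.2 ρ hρ)⟩

theorem exists_isGood (m : ℕ) : ∃ p : R.trunc m ⟶ R.trunc m, IsGood ξ m p := by
  obtain ⟨τ, hτ⟩ := exists_isMin ξ m
  obtain ⟨p, b, hp, -, hpp, hτb, -, -, -⟩ := exists_fitting (lvl ξ m) τ hτ.1 (hτ.rng_sq ξ)
  refine ⟨p, hτ.of_le ξ hp ?_, hpp⟩
  rw [← hτb]
  exact len_comp_le_left τ b

/-- The inductive step: a good idempotent lifts to a good idempotent one level up. -/
theorem exists_isGood_succ (hξ : IsVersal ξ) (m : ℕ) (p : R.trunc m ⟶ R.trunc m)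
    (hp : IsGood ξ m p) :
    ∃ p' : R.trunc (m + 1) ⟶ R.trunc (m + 1), IsGood ξ (m + 1) p' ∧
      p' ≫ R.truncMap m = R.truncMap m ≫ p := by
  obtain ⟨⟨hpfix, hpmin⟩, hpp⟩ := hp
  set t := R.truncMap m with ht
  -- step 1
  obtain ⟨ρ, hρfix, hρt⟩ := exists_lift_level ξ hξ m p hpfix
  obtain ⟨τ, hτ⟩ := exists_isMin ξ (m + 1)
  obtain ⟨τ', hτt⟩ := exists_trunc_level R m τ
  have hτ'fix : Fix ξ m τ' := fix_of_trunc ξ hτt hτ.1
  set a := ρ ≫ τ ≫ ρ with ha
  have hafix : Fix ξ (m + 1) a := fix_comp ξ hρfix (fix_comp ξ hτ.1 hρfix)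
  have halen : len a ≤ len τ := by
    rw [ha, ← Category.assoc]
    exact (len_comp_le_left _ _).trans (len_comp_le_right _ _)
  set c := p ≫ τ' ≫ p with hc
  have hat : a ≫ t = t ≫ c := by
    rw [ha, hc, Category.assoc, Category.assoc, hρt, ← Category.assoc τ, hτt, Category.assoc,
      ← Category.assoc ρ, hρt, Category.assoc]
  have hcfix : Fix ξ m c := fix_comp ξ hpfix (fix_comp ξ hτ'fix hpfix)
  -- step 2
  have hclen : len c ≤ len p := by
    rw [hc, ← Category.assoc]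
    exact len_comp_le_right _ _
  have hcmin : IsMin ξ m c := IsMin.of_le ξ ⟨hpfix, hpmin⟩ hcfix hclen
  obtain ⟨p₁, b, hp₁fix, hbfix, hp₁p₁, hcb, hbc, -, -⟩ :=
    exists_fitting (lvl ξ m) c hcfix (hcmin.rng_sq ξ)
  have hpc : p ≫ c = c := by rw [hc, ← Category.assoc, hpp]
  have hcp : c ≫ p = c := by rw [hc, Category.assoc, Category.assoc, hpp]
  have h1 : p₁ ≫ p = p₁ := by rw [← hbc, Category.assoc, hcp]
  have h2 : p ≫ p₁ = p₁ := by rw [← hcb, ← Category.assoc, hpc]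
  have hrng : rng p₁ = rng p := by
    apply rng_eq_of_le_of_len_le
    · rw [← h1]
      exact rng_comp_le _ _
    · exact hpmin p₁ hp₁fix
  have h3 : p ≫ p₁ = p := by
    apply Art.hom_ext
    apply AlgHom.ext
    intro x
    change p₁ (p x) = p x
    have hx : p x ∈ rng p₁ := by
      rw [hrng]
      exact mem_rng.2 ⟨x, rfl⟩
    obtain ⟨y, hy⟩ := mem_rng.1 hx
    rw [← hy]
    change (p₁ ≫ p₁) y = p₁ y
    rw [hp₁p₁]
  have hp₁ : p₁ = p := h2.symm.trans h3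
  rw [hp₁] at hcb
  -- step 3
  obtain ⟨ρ', hρ'fix, hρ't⟩ := exists_lift_level ξ hξ m b hbfix
  set a' := a ≫ ρ' with ha'
  have ha'fix : Fix ξ (m + 1) a' := fix_comp ξ hafix hρ'fix
  have ha'len : len a' ≤ len τ := (len_comp_le_left _ _).trans halen
  have ha't : a' ≫ t = t ≫ p := by
    rw [ha', Category.assoc, hρ't, ← Category.assoc, hat, Category.assoc, hcb]
  have ha'min : IsMin ξ (m + 1) a' := IsMin.of_le ξ hτ ha'fix ha'len
  -- step 4
  obtain ⟨p₂, b₂, hp₂fix, hb₂fix, hp₂p₂, ha'b₂, -, ha'p₂, -⟩ :=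
    exists_fitting (lvl ξ (m + 1)) a' ha'fix (ha'min.rng_sq ξ)
  obtain ⟨β, hβ⟩ := exists_trunc_level R m b₂
  have hp₂t : p₂ ≫ t = t ≫ p ≫ β := by
    rw [← ha'b₂, Category.assoc, hβ, ← Category.assoc, ha't, Category.assoc]
  have hpβ : p ≫ β = p := by
    apply truncMap_epi R
    have e1 : (a' ≫ p₂) ≫ t = t ≫ p := by rw [ha'p₂, ha't]
    rw [Category.assoc, hp₂t, ← Category.assoc, ha't, Category.assoc, ← Category.assoc p,
      hpp] at e1
    exact e1
  refine ⟨p₂, ⟨IsMin.of_le ξ ha'min hp₂fix ?_, hp₂p₂⟩, ?_⟩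
  · rw [← ha'b₂]
    exact len_comp_le_left _ _
  · rw [hp₂t, hpβ]

/-- A coherent sequence of good idempotents. -/
theorem exists_coherent (hξ : IsVersal ξ) :
    ∃ P : ∀ m, R.trunc m ⟶ R.trunc m, (∀ m, IsGood ξ m (P m)) ∧
      ∀ m, P (m + 1) ≫ R.truncMap m = R.truncMap m ≫ P m := by
  classical
  let seq : ∀ m, {p : R.trunc m ⟶ R.trunc m // IsGood ξ m p} := fun m =>
    Nat.rec ⟨Classical.choose (exists_isGood ξ 0), Classical.choose_spec (exists_isGood ξ 0)⟩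
      (fun m q => ⟨Classical.choose (exists_isGood_succ ξ hξ m q.1 q.2),
        (Classical.choose_spec (exists_isGood_succ ξ hξ m q.1 q.2)).1⟩) m
  refine ⟨fun m => (seq m).1, fun m => (seq m).2, fun m => ?_⟩
  exact (Classical.choose_spec (exists_isGood_succ ξ hξ m (seq m).1 (seq m).2)).2

end Good

end Groth.Agent.Lib.Helper9.MinVersal
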