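import Mathlib.Algebra.Module.LocalizedModule.Basic
import Mathlib.RingTheory.Ideal.Operations
import Mathlib.LinearAlgebra.Quotient.Basic

/-!
Helper lemma shared by S18364 / S18365: membership of a class of `M ⧸ πM` in the kernel of the
localisation map at a prime, in elementary terms.
-/

set_option autoImplicit false

namespace Groth.Agent.Lib.Helper9

universe u v

lemma mem_span_singleton_smul_top_iff {A : Type u} [CommRing A] (π : A) {M : Type v}
    [AddCommGroup M] [Module A M] (x : M) :
    x ∈ Ideal.span {π} • (⊤ : Submodule A M) ↔ ∃ m' : M, x = π • m' := by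
  rw [Submodule.ideal_span_singleton_smul, Submodule.mem_smul_pointwise_iff_exists]
  constructor
  · rintro ⟨b, -, hb⟩
    exact ⟨b, hb.symm⟩
  · rintro ⟨b, hb⟩
    exact ⟨b, Submodule.mem_top, hb.symm⟩

lemma mkQ_mem_ker_iff {A : Type u} [CommRing A] (π : A) (P : Ideal A) [P.IsPrime] {M : Type v}
    [AddCommGroup M] [Module A M] (x : M) :
    Submodule.mkQ (Ideal.span {π} • (⊤ : Submodule A M)) x ∈
      LinearMap.ker (LocalizedModule.mkLinearMap P.primeCompl
        (M ⧸ Ideal.span {π} • (⊤ : Submodule A M))) ↔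
    ∃ s, s ∉ P ∧ ∃ m' : M, s • x = π • m' := by
  rw [LocalizedModule.mem_ker_mkLinearMap_iff]
  constructor
  · rintro ⟨s, hs, h⟩
    rw [← map_smul, Submodule.mkQ_apply, Submodule.Quotient.mk_eq_zero,
      mem_span_singleton_smul_top_iff] at h
    obtain ⟨b, hb⟩ := h
    exact ⟨s, hs, b, hb⟩
  · rintro ⟨s, hs, m', h⟩
    refine ⟨s, hs, ?_⟩
    rw [← map_smul, Submodule.mkQ_apply, Submodule.Quotient.mk_eq_zero,
      mem_span_singleton_smul_top_iff]
    exact ⟨m', h⟩

end Groth.Agent.Lib.Helper9
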