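import Groth.Agent.Lib.Helper87.CIRing
import Groth.Agent.Lib.Helper91.ImmStalk
import Groth.Prelude.Def_RegImm

/-!
# Regularly immersed closed subschemes of Cohen–Macaulay schemes have no embedded points (helper9)

* `ringKrullDim_eq_zero_of_isAssociatedPrime`: a CM local ring with `𝔪 ∈ Ass` has dimension `0`.
* `hreg_of_isWeaklyRegular`: Mathlib's `IsWeaklyRegular R l` in the colon form of helper87 `CIRing`.
* `isCohenMacaulayRing_of_stalks`: `Γ(X, U)` is a CM ring if all stalks of `X` are CM.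
* `main`: the statement of S15824.
-/

set_option autoImplicit false
universe u

namespace Groth.Agent.Lib.Helper9.NoEmb
open AlgebraicGeometry CategoryTheory IsLocalRing RingTheory.Sequence

/-- a Cohen–Macaulay local ring whose maximal ideal is an associated prime has dimension zero -/
theorem ringKrullDim_eq_zero_of_isAssociatedPrime (S : Type u) [CommRing S] [IsLocalRing S] [IsNoetherianRing S]
    (hS : ringKrullDim S = ((LocCoh.depth S S : ℕ∞) : WithBot ℕ∞))
    (h : IsAssociatedPrime (maximalIdeal S) S) : ringKrullDim S = 0 := by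
  rw [hS]
  have h0 : LocCoh.depth S S = 0 := by
    unfold LocCoh.depth LocCoh.idealDepth
    have hne : maximalIdeal S • (⊤ : Submodule S S) ≠ ⊤ := by
      rw [smul_eq_mul, Ideal.mul_top]
      exact (maximalIdeal.isMaximal S).ne_top
    rw [if_neg hne]
    apply le_antisymm _ bot_le
    apply iSup_le
    intro rs
    apply iSup_le
    rintro ⟨hreg, hmem⟩
    rcases rs with _ | ⟨r, rs⟩
    · simp
    · exfalso
      obtain ⟨-, s, hs⟩ := isAssociatedPrime_iff.1 h
      have hr : r ∈ maximalIdeal S := hmem r (List.mem_cons_self)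
      have hreg' : IsSMulRegular S r := ((isWeaklyRegular_cons_iff S r rs).1 hreg).1
      have hrs : r • s = 0 := by
        have : r ∈ (⊥ : Submodule S S).colon {s} := by rw [← hs]; exact hr
        rw [Submodule.mem_colon_singleton] at this
        exact this
      have hs0 : s = 0 := hreg' (by show r • s = r • 0; rw [hrs, smul_zero])
      have : (1 : S) ∈ maximalIdeal S := by
        rw [hs, Submodule.mem_colon_singleton, hs0, smul_zero]
        exact zero_mem _
      exact (maximalIdeal.isMaximal S).ne_top ((Ideal.eq_top_iff_one _).2 this)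
  rw [h0]
  rfl


/-- weak regularity in the "colon" form used by helper87's `CIRing` -/
theorem hreg_of_isWeaklyRegular {R : Type u} [CommRing R] (l : List R) (h : IsWeaklyRegular R l) :
    ∀ (i : ℕ) (hi : i < l.length) (y : R), l[i] * y ∈ Ideal.ofList (l.take i) →
      y ∈ Ideal.ofList (l.take i) := by
  intro i hi y hy
  have h1 := h.regular_mod_prev i hi
  have hN : (Ideal.ofList (l.take i) • (⊤ : Submodule R R)) = Ideal.ofList (l.take i) := by
    rw [smul_eq_mul, Ideal.mul_top]
  have h2 : l[i] • (Submodule.Quotient.mk y :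
      R ⧸ (Ideal.ofList (l.take i) • (⊤ : Submodule R R))) = l[i] • 0 := by
    rw [smul_zero, ← Submodule.Quotient.mk_smul, Submodule.Quotient.mk_eq_zero, hN]
    exact hy
  have h3 := h1 h2
  rw [Submodule.Quotient.mk_eq_zero, hN] at h3
  exact h3

/-- sections over an affine open of a locally Noetherian scheme with Cohen–Macaulay local rings
form a Cohen–Macaulay ring -/
theorem isCohenMacaulayRing_of_stalks {X : Scheme.{u}} [IsLocallyNoetherian X]
    (hCM : ∀ x : X, LocCoh.IsCohenMacaulayLocalRing (X.presheaf.stalk x)) {U : X.Opens}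
    (hU : IsAffineOpen U) : LocCoh.IsCohenMacaulayRing Γ(X, U) := by
  haveI : IsNoetherianRing Γ(X, U) := IsLocallyNoetherian.component_noetherian ⟨U, hU⟩
  refine LocCoh.IsCohenMacaulayRing.mk ?_
  intro p hp
  let y : PrimeSpectrum Γ(X, U) := ⟨p, hp⟩
  have hy : hU.fromSpec y ∈ U := by
    have : hU.fromSpec y ∈ Set.range hU.fromSpec := Set.mem_range_self y
    rw [hU.range_fromSpec] at this
    exact this
  letI := TopCat.Presheaf.algebra_section_stalk X.presheaf ⟨hU.fromSpec y, hy⟩
  haveI : IsLocalization.AtPrime (X.presheaf.stalk (hU.fromSpec y)) p :=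
    hU.isLocalization_stalk' y hy
  let e : Localization.AtPrime p ≃ₐ[Γ(X, U)] X.presheaf.stalk (hU.fromSpec y) :=
    IsLocalization.algEquiv p.primeCompl _ _
  have h := hCM (hU.fromSpec y)
  haveI := h.toIsNoetherian
  have h1 := h.supportDim_eq_depth
  rw [Module.supportDim_self_eq_ringKrullDim] at h1
  refine LocCoh.IsCohenMacaulayLocalRing.mk ?_
  rw [Module.supportDim_self_eq_ringKrullDim]
  exact Groth.Agent.Lib.Helper49.CMQuot.isCM_of_ringEquiv e.toRingEquiv h1

/-- a regularly immersed closed subscheme of a Cohen–Macaulay scheme has no embedded points -/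
theorem main {X Z : Scheme.{u}}
    [IsLocallyNoetherian X] (hCM : ∀ x : X, LocCoh.IsCohenMacaulayLocalRing (X.presheaf.stalk x))
    (i : Z ⟶ X) [IsClosedImmersion i] (hi : RegImm.IsRegularImmersion RegImm.Kind.regular i) (z : Z)
    (hz : IsAssociatedPrime (IsLocalRing.maximalIdeal (Z.presheaf.stalk z)) (Z.presheaf.stalk z)) :
    ringKrullDim (Z.presheaf.stalk z) = 0 := by
  obtain ⟨U, hzU, hcl, rs, hreg, hker⟩ := hi.2 z
  haveI := hcl
  haveI : IsNoetherianRing Γ(X, U.1) := IsLocallyNoetherian.component_noetherian U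
  have hA : LocCoh.IsCohenMacaulayRing Γ(X, U.1) := isCohenMacaulayRing_of_stalks hCM U.2
  have hreg' : IsWeaklyRegular Γ(X, U.1) rs := hreg.toIsWeaklyRegular
  have h1 := Groth.Agent.Lib.Helper87.CIRing.isCM_quotient_ofList Γ(X, U.1) hA rs
    (hreg_of_isWeaklyRegular rs hreg') rs.length le_rfl
  rw [List.take_length] at h1
  have hsurj := Groth.Agent.Lib.Helper91.ImmStalk.app_surjective_of_restrict i U
  have hV : IsAffineOpen (i ⁻¹ᵁ U.1) :=
    Groth.Agent.Lib.Helper91.ImmStalk.isAffineOpen_preimage_of_restrict i U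
  let e : (Γ(X, U.1) ⧸ Ideal.ofList rs) ≃+* Γ(Z, i ⁻¹ᵁ U.1) :=
    (Ideal.quotEquivOfEq hker.symm).trans (RingHom.quotientKerEquivOfSurjective hsurj)
  have hB : LocCoh.IsCohenMacaulayRing Γ(Z, i ⁻¹ᵁ U.1) :=
    Groth.Agent.Lib.Helper28.CMRingAux.isCohenMacaulayRing_of_ringEquiv e.symm h1
  haveI : IsNoetherianRing Γ(Z, i ⁻¹ᵁ U.1) := hB.toIsNoetherian
  have hzV : z ∈ i ⁻¹ᵁ U.1 := hzU
  letI := TopCat.Presheaf.algebra_section_stalk Z.presheaf ⟨z, hzV⟩
  haveI : IsLocalization.AtPrime (Z.presheaf.stalk z) (hV.primeIdealOf ⟨z, hzV⟩).asIdeal :=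
    hV.isLocalization_stalk ⟨z, hzV⟩
  let e' : Localization.AtPrime (hV.primeIdealOf ⟨z, hzV⟩).asIdeal ≃ₐ[Γ(Z, i ⁻¹ᵁ U.1)]
      Z.presheaf.stalk z := IsLocalization.algEquiv (hV.primeIdealOf ⟨z, hzV⟩).asIdeal.primeCompl _ _
  have hq := hB.isCohenMacaulayLocalRing_localization (hV.primeIdealOf ⟨z, hzV⟩).asIdeal
  haveI : IsNoetherianRing (Z.presheaf.stalk z) :=
    isNoetherianRing_of_ringEquiv _ e'.toRingEquiv
  have h2 := hq.supportDim_eq_depth
  rw [Module.supportDim_self_eq_ringKrullDim] at h2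
  have h3 := Groth.Agent.Lib.Helper49.CMQuot.isCM_of_ringEquiv e'.symm.toRingEquiv h2
  exact ringKrullDim_eq_zero_of_isAssociatedPrime _ h3 hz

end Groth.Agent.Lib.Helper9.NoEmb
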