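import Mathlib
import Groth.Prelude.Def_W4bk4hartshdef114Obs
import Groth.Agent.Lib.Helper76.PSArt

/-! Obstruction theories of a quotient `P/I` of a Noetherian local `k`-algebra, `I ≤ m²`: the
ideal `I` is generated by `dim V` elements (helper9). -/

set_option autoImplicit false
universe u
open scoped TensorProduct

namespace Groth.Agent.Lib.Helper9

open W4bk4hartshdef114 IsLocalRing

section Basic

variable {k : Type u} [Field k]

/-- Two `k`-algebra maps congruent modulo an ideal killed by the images of the maximal ideal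
agree on the square of the maximal ideal. -/
lemma ring_lift_eq_on_sq {S : Type u} [CommRing S] [IsLocalRing S] [Algebra k S] {D : Type u}
    [CommRing D] [Algebra k D] (J : Ideal D) (ψ ψ' : S →ₐ[k] D) (hcong : ∀ s, ψ s - ψ' s ∈ J)
    (hkill : ∀ a ∈ maximalIdeal S, ∀ j ∈ J, ψ a * j = 0)
    (hkill' : ∀ a ∈ maximalIdeal S, ∀ j ∈ J, ψ' a * j = 0)
    {x : S} (hx : x ∈ maximalIdeal S ^ 2) : ψ x = ψ' x := by
  rw [pow_two] at hx
  refine Submodule.mul_induction_on hx ?_ ?_
  · intro a ha b hb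
    have e : ψ (a * b) - ψ' (a * b) = ψ a * (ψ b - ψ' b) + ψ' b * (ψ a - ψ' a) := by
      rw [map_mul, map_mul]; ring
    rw [hkill a ha _ (hcong b), hkill' b hb _ (hcong a), add_zero] at e
    exact sub_eq_zero.1 e
  · intro x y hx hy
    rw [map_add, map_add, hx, hy]

/-- A `k`-algebra map from a local `k`-algebra to a local `k`-algebra with residue field `k`
sends the maximal ideal into the non-units. -/
lemma algHom_mem_nonunits {S : Type u} [CommRing S] [IsLocalRing S] [Algebra k S] {D : Type u}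
    [CommRing D] [Algebra k D] [IsLocalRing D]
    (hD : ∀ x : D, ∃ c : k, x - algebraMap k D c ∈ nonunits D) (ψ : S →ₐ[k] D) {a : S}
    (ha : a ∈ maximalIdeal S) : ψ a ∈ nonunits D := by
  obtain ⟨c, hc⟩ := hD (ψ a)
  by_cases h0 : c = 0
  · rw [h0, map_zero, sub_zero] at hc
    exact hc
  · exfalso
    have hunit : IsUnit (a - algebraMap k S c) := by
      by_contra hnu
      have h1 : a - algebraMap k S c ∈ maximalIdeal S := (mem_maximalIdeal _).2 hnu
      have h2 : algebraMap k S c ∈ maximalIdeal S := by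
        have := Ideal.sub_mem _ ha h1
        rwa [sub_sub_cancel] at this
      exact (mem_maximalIdeal _).1 h2 ((isUnit_iff_ne_zero.2 h0).map (algebraMap k S))
    have h3 := hunit.map ψ
    rw [map_sub, AlgHom.commutes] at h3
    exact hc h3

/-- Small extensions pass to quotients by smaller ideals. -/
lemma isSmallExt_quot {C' : Type u} [CommRing C'] [Algebra k C'] (J K : Ideal C')
    (h : IsSmallExt k C' J) (hK : K ≤ J) :
    IsSmallExt k (C' ⧸ K) (J.map (Ideal.Quotient.mkₐ k K)) := by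
  obtain ⟨hloc, hart, hres, hkill, htop⟩ := h
  haveI := hloc
  haveI := hart
  have hJm : J ≤ maximalIdeal C' := le_maximalIdeal htop
  have hKtop : K ≠ ⊤ := fun hK' => htop (top_le_iff.1 (hK' ▸ hK))
  haveI : IsLocalRing (C' ⧸ K) := Groth.Agent.Lib.Helper76.PSArt.isLocalRing_quot K hKtop
  have hnu : ∀ x₀ : C', Ideal.Quotient.mk K x₀ ∈ nonunits (C' ⧸ K) ↔ x₀ ∈ nonunits C' := by
    intro x₀
    constructor
    · intro hx hu
      exact hx (hu.map (Ideal.Quotient.mk K))
    · intro hx hu
      obtain ⟨y, hy⟩ := hu.exists_right_inv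
      obtain ⟨y₀, rfl⟩ := Ideal.Quotient.mk_surjective y
      rw [← map_mul, ← map_one (Ideal.Quotient.mk K), Ideal.Quotient.eq] at hy
      have h1 : x₀ * y₀ - 1 ∈ maximalIdeal C' := hJm (hK hy)
      have h2 : x₀ * y₀ ∈ maximalIdeal C' :=
        Ideal.mul_mem_right _ _ ((mem_maximalIdeal _).2 hx)
      have h3 : (1 : C') ∈ maximalIdeal C' := by
        have := Ideal.sub_mem _ h2 h1
        rwa [sub_sub_cancel] at this
      exact (mem_maximalIdeal _).1 h3 isUnit_one
  refine ⟨inferInstance, Function.Surjective.isArtinianRing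
    (f := Ideal.Quotient.mk K) Ideal.Quotient.mk_surjective, ?_, ?_, ?_⟩
  · intro x
    obtain ⟨x₀, rfl⟩ := Ideal.Quotient.mk_surjective x
    obtain ⟨c, hc⟩ := hres x₀
    refine ⟨c, ?_⟩
    have : Ideal.Quotient.mk K x₀ - algebraMap k (C' ⧸ K) c =
        Ideal.Quotient.mk K (x₀ - algebraMap k C' c) := by
      rw [map_sub]; rfl
    rw [this, hnu]
    exact hc
  · intro x j hx hj
    obtain ⟨x₀, rfl⟩ := Ideal.Quotient.mk_surjective x
    obtain ⟨j₀, hj₀, rfl⟩ := (Ideal.mem_map_iff_of_surjective (Ideal.Quotient.mkₐ k K)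
      (Ideal.Quotient.mkₐ_surjective k K)).1 hj
    change Ideal.Quotient.mk K x₀ * Ideal.Quotient.mk K j₀ = 0
    rw [← map_mul, hkill x₀ j₀ ((hnu x₀).1 hx) hj₀, map_zero]
  · intro htop'
    have h1 : (1 : C' ⧸ K) ∈ J.map (Ideal.Quotient.mkₐ k K) := by rw [htop']; exact Submodule.mem_top
    obtain ⟨j₀, hj₀, hj1⟩ := (Ideal.mem_map_iff_of_surjective (Ideal.Quotient.mkₐ k K)
      (Ideal.Quotient.mkₐ_surjective k K)).1 h1
    have h2 : j₀ - 1 ∈ K := by
      rw [← Ideal.Quotient.eq]
      exact hj1.trans (map_one _).symm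
    apply htop
    rw [Ideal.eq_top_iff_one]
    have := Ideal.sub_mem _ hj₀ (hK h2)
    rwa [sub_sub_cancel] at this

end Basic

section Lift

variable {k : Type u} [Field k]

/-- A map lifts modulo an ideal of the kernel generated by `dim V` elements. -/
theorem exists_lift_mod_span_ring {A : Type u} [CommRing A] [Algebra k A] {V : Type u}
    [AddCommGroup V] [Module k V] [Module.Finite k V] (T : ObsTheory k A V) (C' : Type u)
    [CommRing C'] [Algebra k C'] (J : Ideal C') (hs : IsSmallExt k C' J) (u : A →ₐ[k] C' ⧸ J) :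
    ∃ (c : Fin (Module.finrank k V) → C') (hc : Ideal.span (Set.range c) ≤ J)
      (u'' : A →ₐ[k] C' ⧸ Ideal.span (Set.range c)),
      ∀ a, Ideal.Quotient.factorₐ k hc (u'' a) = u a := by
  classical
  let b : Module.Basis (Fin (Module.finrank k V)) k V := Module.finBasis k V
  set x := T.obs C' J u with hx
  set c' := TensorProduct.equivFinsuppOfBasisLeft b x with hc'
  have hxc : x = c'.sum fun i n => b i ⊗ₜ[k] n := by
    rw [← TensorProduct.equivFinsuppOfBasisLeft_symm_apply, hc', LinearEquiv.symm_apply_apply]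
  let c : Fin (Module.finrank k V) → C' := fun i => ((c' i : ↥J) : C')
  have hK : Ideal.span (Set.range c) ≤ J := by
    rw [Ideal.span_le]
    rintro _ ⟨i, rfl⟩
    exact (c' i).2
  have hq := isSmallExt_quot J (Ideal.span (Set.range c)) hs hK
  have h0 : T.obs (C' ⧸ Ideal.span (Set.range c))
      (J.map (Ideal.Quotient.mkₐ k (Ideal.span (Set.range c))))
      (((DoubleQuot.quotQuotEquivQuotOfLEₐ k hK).symm : (C' ⧸ J) →ₐ[k] _).comp u) = 0 := by
    rw [T.obs_quot C' J _ hs hK u, ← hx, hxc, map_finsuppSum]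
    apply Finset.sum_eq_zero
    intro i _
    change (LinearMap.lTensor V (idealToQuot k J (Ideal.span (Set.range c)))) (b i ⊗ₜ[k] c' i) = 0
    rw [LinearMap.lTensor_tmul]
    have h1 : idealToQuot k J (Ideal.span (Set.range c)) (c' i) = 0 := by
      apply Subtype.ext
      change Ideal.Quotient.mk _ ((c' i : ↥J) : C') = 0
      rw [Ideal.Quotient.eq_zero_iff_mem]
      exact Ideal.subset_span ⟨i, rfl⟩
    rw [h1, TensorProduct.tmul_zero]
  obtain ⟨u', hu'⟩ := (T.obs_eq_zero_iff _ _ hq _).1 h0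
  refine ⟨c, hK, u', fun a => ?_⟩
  have h2 := congrArg (fun t : A →ₐ[k] _ => (DoubleQuot.quotQuotEquivQuotOfLEₐ k hK) (t a)) hu'
  simp only [AlgHom.comp_apply] at h2
  rw [← DoubleQuot.quotQuotEquivQuotOfLEₐ_comp_mkₐ k hK]
  refine h2.trans ?_
  exact (DoubleQuot.quotQuotEquivQuotOfLEₐ k hK).apply_symm_apply (u a)

end Lift

section Generators

variable {k : Type u} [Field k]

/-- If `P/I`, `I ≤ m²`, has an obstruction theory with values in `V`, then `I` is generated by
`dim V` elements. -/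
theorem exists_generators_of_obsTheory_ring (P : Type u) [CommRing P] [IsLocalRing P]
    [IsNoetherianRing P] [Algebra k P]
    (hres : Function.Surjective (algebraMap k (ResidueField P)))
    (I : Ideal P) (hI : I ≤ maximalIdeal P ^ 2)
    (V : Type u) [AddCommGroup V] [Module k V] [Module.Finite k V]
    (T : ObsTheory k (P ⧸ I) V) :
    ∃ g : Fin (Module.finrank k V) → P, Ideal.span (Set.range g) = I := by
  classical
  set n : Ideal P := maximalIdeal P with hn
  have hPk : ∀ p : P, ∃ c : k, p - algebraMap k P c ∈ n := by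
    intro p
    obtain ⟨c, hc⟩ := hres (residue P p)
    refine ⟨c, ?_⟩
    rw [hn, ← residue_eq_zero_iff, map_sub, ← hc, sub_eq_zero]
    exact IsScalarTower.algebraMap_apply k P (ResidueField P) c
  have hIn : I ≤ n := hI.trans (Ideal.pow_le_self (by norm_num))
  -- Artin–Rees
  obtain ⟨k₀, hk₀⟩ := Ideal.exists_pow_inf_eq_pow_smul n (I : Submodule P P)
  set N := k₀ + 1 with hN
  have hAR : I ⊓ n ^ N ≤ n * I := by
    have h1 := hk₀ N (by omega)
    have h2 : N - k₀ = 1 := by omega
    rw [h2, pow_one] at h1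
    intro s hs
    have h3 : s ∈ (n ^ N • ⊤ ⊓ I : Submodule P P) := by
      refine ⟨?_, hs.1⟩
      rw [smul_eq_mul, Ideal.mul_top]
      exact hs.2
    rw [h1] at h3
    exact Submodule.smul_mono (le_refl n) inf_le_right h3
  set K' : Ideal P := n * I ⊔ n ^ N with hK'
  set K : Ideal P := I ⊔ n ^ N with hK
  have hK'K : K' ≤ K := sup_le_sup_right Ideal.mul_le_right _
  have hKm : K ≤ n := sup_le hIn (Ideal.pow_le_self (by omega))
  have hK'm : K' ≤ n := hK'K.trans hKm
  have hK'top : K' ≠ ⊤ := fun h => (Ideal.IsPrime.ne_top' (I := n)) (top_le_iff.1 (h ▸ hK'm))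
  haveI : IsLocalRing (P ⧸ K') := Groth.Agent.Lib.Helper76.PSArt.isLocalRing_quot K' hK'top
  haveI : IsArtinianRing (P ⧸ K') :=
    Groth.Agent.Lib.Helper76.PSArt.isArtinianRing_quot K' hK'top N le_sup_right
  let β' : P →ₐ[k] P ⧸ K' := Ideal.Quotient.mkₐ k K'
  have hβ' : Function.Surjective β' := Ideal.Quotient.mkₐ_surjective k K'
  have hβ'0 : ∀ s, β' s = 0 ↔ s ∈ K' := fun s => Ideal.Quotient.eq_zero_iff_mem
  set J : Ideal (P ⧸ K') := K.map β' with hJ
  have hJmem : ∀ s, β' s ∈ J ↔ s ∈ K := by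
    intro s
    constructor
    · intro hs
      obtain ⟨q, hq, hqs⟩ := (Ideal.mem_map_iff_of_surjective β' hβ').1 hs
      have h1 : s - q ∈ K' := by
        rw [← hβ'0, map_sub, hqs, sub_self]
      have := Ideal.add_mem _ (hK'K h1) hq
      rwa [sub_add_cancel] at this
    · intro hs
      exact Ideal.mem_map_of_mem _ hs
  have hnu : ∀ p : P, β' p ∈ nonunits (P ⧸ K') → p ∈ n := by
    intro p hp
    rw [hn, mem_maximalIdeal, mem_nonunits_iff]
    exact fun hu => hp (hu.map β')
  have hnu' : ∀ p : P, p ∈ n → β' p ∈ nonunits (P ⧸ K') := by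
    intro p hp hu
    obtain ⟨y, hy⟩ := hu.exists_right_inv
    obtain ⟨y₀, rfl⟩ := hβ' y
    rw [← map_mul, ← map_one β', ← sub_eq_zero, ← map_sub, hβ'0] at hy
    have h2 : p * y₀ ∈ n := Ideal.mul_mem_right _ _ hp
    have h3 : (1 : P) ∈ n := by
      have := Ideal.sub_mem _ h2 (hK'm hy)
      rwa [sub_sub_cancel] at this
    exact (mem_maximalIdeal _).1 h3 isUnit_one
  have hsmall : IsSmallExt k (P ⧸ K') J := by
    refine ⟨inferInstance, inferInstance, ?_, ?_, ?_⟩
    · intro x
      obtain ⟨p, rfl⟩ := hβ' x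
      obtain ⟨c, hc⟩ := hPk p
      refine ⟨c, ?_⟩
      have : β' p - algebraMap k (P ⧸ K') c = β' (p - algebraMap k P c) := by
        rw [map_sub, AlgHom.commutes]
      rw [this]
      exact hnu' _ hc
    · intro x j hx hj
      obtain ⟨p, rfl⟩ := hβ' x
      obtain ⟨q, rfl⟩ := hβ' j
      have hp := hnu p hx
      have hq := (hJmem q).1 hj
      rw [← map_mul, hβ'0]
      have h1 : p * q ∈ n * K := Ideal.mul_mem_mul hp hq
      rw [hK, Ideal.mul_sup] at h1
      have hle : n * I ⊔ n * n ^ N ≤ K' := by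
        apply sup_le_sup_left
        rw [← pow_succ']
        exact Ideal.pow_le_pow_right (by omega)
      exact hle h1
    · intro htop
      have h1 : β' 1 ∈ J := by rw [htop]; exact Submodule.mem_top
      have h2 := hKm ((hJmem 1).1 h1)
      exact (mem_maximalIdeal _).1 h2 isUnit_one
  -- the map `u`
  let u : P ⧸ I →ₐ[k] (P ⧸ K') ⧸ J :=
    Ideal.Quotient.liftₐ I ((Ideal.Quotient.mkₐ k J).comp β') (by
      intro i hi
      change Ideal.Quotient.mk J (β' i) = 0
      rw [Ideal.Quotient.eq_zero_iff_mem, hJmem]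
      exact le_sup_left (a := I) hi)
  have hu : ∀ p : P, u (Ideal.Quotient.mk I p) = Ideal.Quotient.mk J (β' p) := fun p => rfl
  obtain ⟨c, hcJ, u'', hu''⟩ := exists_lift_mod_span_ring T (P ⧸ K') J hsmall u
  have hq := isSmallExt_quot J (Ideal.span (Set.range c)) hsmall hcJ
  haveI := hq.1
  -- `β' j ∈ span c` for `j ∈ I`
  have hJc : ∀ j ∈ I, β' j ∈ Ideal.span (Set.range c) := by
    intro j hj
    let ψ' : P →ₐ[k] (P ⧸ K') ⧸ Ideal.span (Set.range c) := u''.comp (Ideal.Quotient.mkₐ k I)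
    let ψ'' : P →ₐ[k] (P ⧸ K') ⧸ Ideal.span (Set.range c) :=
      (Ideal.Quotient.mkₐ k (Ideal.span (Set.range c))).comp β'
    have hcong : ∀ s, ψ' s - ψ'' s ∈ J.map (Ideal.Quotient.mkₐ k (Ideal.span (Set.range c))) := by
      intro s
      obtain ⟨y, hy⟩ := Ideal.Quotient.mkₐ_surjective k (Ideal.span (Set.range c)) (ψ' s)
      have h1 : Ideal.Quotient.mk J y = Ideal.Quotient.mk J (β' s) := by
        have h2 := hu'' (Ideal.Quotient.mk I s)
        rw [hu] at h2
        rw [← h2]
        change _ = Ideal.Quotient.factorₐ k hcJ (ψ' s)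
        rw [← hy]
        rfl
      have h3 : y - β' s ∈ J := Ideal.Quotient.eq.1 h1
      have h4 : ψ' s - ψ'' s =
          Ideal.Quotient.mkₐ k (Ideal.span (Set.range c)) (y - β' s) := by
        rw [map_sub, hy]
        rfl
      rw [h4]
      exact Ideal.mem_map_of_mem _ h3
    have hkill : ∀ (ψ : P →ₐ[k] (P ⧸ K') ⧸ Ideal.span (Set.range c)), ∀ a ∈ maximalIdeal P,
        ∀ j ∈ J.map (Ideal.Quotient.mkₐ k (Ideal.span (Set.range c))), ψ a * j = 0 :=
      fun ψ a ha j hj => hq.2.2.2.1 _ _ (algHom_mem_nonunits hq.2.2.1 ψ ha) hj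
    have h1 := ring_lift_eq_on_sq _ ψ' ψ'' hcong (hkill ψ') (hkill ψ'') (hI hj)
    have h2 : ψ' j = 0 := by
      change u'' (Ideal.Quotient.mk I j) = 0
      rw [Ideal.Quotient.eq_zero_iff_mem.2 hj, map_zero]
    have h3 : Ideal.Quotient.mk (Ideal.span (Set.range c)) (β' j) = 0 := h1.symm.trans h2
    exact Ideal.Quotient.eq_zero_iff_mem.1 h3
  -- lifts of the `c i`
  choose cl hcl using fun i => hβ' (c i)
  have hclK : ∀ i, cl i ∈ K := by
    intro i
    rw [← hJmem, hcl]
    exact hcJ (Ideal.subset_span ⟨i, rfl⟩)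
  have hsplit : ∀ i, ∃ g ∈ I, ∃ t ∈ n ^ N, g + t = cl i := fun i =>
    Submodule.mem_sup.1 (hclK i)
  choose g hgI t htN hgt using hsplit
  refine ⟨g, le_antisymm ?_ ?_⟩
  · rw [Ideal.span_le]
    rintro _ ⟨i, rfl⟩
    exact hgI i
  · have hstep : I ≤ Ideal.span (Set.range g) ⊔ n • I := by
      intro j hj
      have h1 : β' j ∈ Ideal.map β' (Ideal.span (Set.range cl)) := by
        rw [Ideal.map_span]
        have : (β' : P → P ⧸ K') '' Set.range cl = Set.range c := by
          ext y
          constructor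
          · rintro ⟨_, ⟨i, rfl⟩, rfl⟩
            exact ⟨i, (hcl i).symm⟩
          · rintro ⟨i, rfl⟩
            exact ⟨cl i, ⟨i, rfl⟩, hcl i⟩
        rw [this]
        exact hJc j hj
      obtain ⟨z, hz, hzj⟩ := (Ideal.mem_map_iff_of_surjective β' hβ').1 h1
      have h2 : j - z ∈ K' := by
        rw [← hβ'0, map_sub, sub_eq_zero]
        exact hzj.symm
      have hzle : Ideal.span (Set.range cl) ≤ Ideal.span (Set.range g) ⊔ n ^ N := by
        rw [Ideal.span_le]
        rintro _ ⟨i, rfl⟩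
        rw [← hgt i]
        exact Ideal.add_mem _ (Ideal.mem_sup_left (Ideal.subset_span ⟨i, rfl⟩))
          (Ideal.mem_sup_right (htN i))
      have h3 : j ∈ (Ideal.span (Set.range g) ⊔ n * I) ⊔ n ^ N := by
        have hj' : j = z + (j - z) := by ring
        rw [hj']
        have hle1 : Ideal.span (Set.range g) ⊔ n ^ N ≤
            (Ideal.span (Set.range g) ⊔ n * I) ⊔ n ^ N := sup_le_sup_right le_sup_left _
        have hle2 : K' ≤ (Ideal.span (Set.range g) ⊔ n * I) ⊔ n ^ N :=
          sup_le_sup_right le_sup_right _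
        exact Ideal.add_mem _ (hle1 (hzle hz)) (hle2 h2)
      obtain ⟨x, hx, y, hy, hxy⟩ := Submodule.mem_sup.1 h3
      have hxI : x ∈ I := by
        have hle3 : Ideal.span (Set.range g) ⊔ n * I ≤ I := by
          refine sup_le ?_ Ideal.mul_le_right
          rw [Ideal.span_le]
          rintro _ ⟨i, rfl⟩
          exact hgI i
        exact hle3 hx
      have hyI : y ∈ I := by
        have : y = j - x := by rw [← hxy]; ring
        rw [this]
        exact Ideal.sub_mem _ hj hxI
      have hy' : y ∈ n * I := hAR ⟨hyI, hy⟩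
      rw [← hxy, smul_eq_mul]
      exact Ideal.add_mem _ hx (Ideal.mem_sup_right hy')
    have hfg : (I : Submodule P P).FG := IsNoetherian.noetherian I
    refine Submodule.le_of_le_smul_of_le_jacobson_bot hfg ?_ hstep
    rw [IsLocalRing.jacobson_eq_maximalIdeal ⊥ bot_ne_top]

end Generators

end Groth.Agent.Lib.Helper9
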