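import Mathlib

/-! Ramification groups of a maximal ideal under a finite group action (helper9). -/

set_option autoImplicit false

open scoped Pointwise

namespace Groth.Agent.Lib.Helper9.RamifGroups

variable {B : Type*} [CommRing B] {G : Type*} [Group G] [MulSemiringAction G B] (m : Ideal B)

/-- the wild inertia group -/
abbrev wild : Subgroup G := MulAction.stabilizer G m ⊓ (m ^ 2).inertia G

lemma wild_le_inertia : wild (G := G) m ≤ m.inertia G := by
  intro σ hσ x
  exact Ideal.pow_le_self (by norm_num) (hσ.2 x)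

lemma smul_mem_of_mem_stabilizer {σ : G} (hσ : σ ∈ MulAction.stabilizer G m) {x : B} (hx : x ∈ m) :
    σ • x ∈ m := by
  have h : σ • m = m := hσ
  rw [← h]
  exact Ideal.smul_mem_pointwise_smul _ _ _ hx

lemma smul_mem_pow_of_mem_stabilizer {σ : G} (hσ : σ ∈ MulAction.stabilizer G m) (n : ℕ) {x : B}
    (hx : x ∈ m ^ n) : σ • x ∈ m ^ n := by
  induction n generalizing x with
  | zero => simp
  | succ n ih =>
    rw [pow_succ] at hx ⊢
    refine Submodule.mul_induction_on hx ?_ ?_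
    · intro a ha b hb
      rw [smul_mul']
      exact Ideal.mul_mem_mul (ih ha) (smul_mem_of_mem_stabilizer m hσ hb)
    · intro a b ha hb
      rw [smul_add]
      exact Ideal.add_mem _ ha hb

lemma wild_normal : ((wild (G := G) m).subgroupOf (MulAction.stabilizer G m)).Normal := by
  refine (Subgroup.normal_subgroupOf_iff inf_le_left).mpr fun g s hg hs => ?_
  refine ⟨Subgroup.mul_mem _ (Subgroup.mul_mem _ hs hg.1) (Subgroup.inv_mem _ hs), ?_⟩
  intro x
  have h1 : g • (s⁻¹ • x) - s⁻¹ • x ∈ m ^ 2 := hg.2 (s⁻¹ • x)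
  have h2 := smul_mem_pow_of_mem_stabilizer m hs 2 h1
  have : (s * g * s⁻¹) • x - x = s • (g • (s⁻¹ • x) - s⁻¹ • x) := by
    rw [smul_sub, smul_smul, smul_smul, smul_smul, mul_inv_cancel, one_smul]
  rw [Submodule.mem_toAddSubgroup, this]
  exact h2

section Tame

variable {m}

lemma sub_mem_succ_of_mem_sq {σ : G} (hσ : σ ∈ MulAction.stabilizer G m) {j : ℕ}
    (h : ∀ x, σ • x - x ∈ m ^ j) {y : B} (hy : y ∈ m ^ 2) : σ • y - y ∈ m ^ (j + 1) := by
  rw [pow_two] at hy
  refine Submodule.mul_induction_on hy ?_ ?_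
  · intro a ha b hb
    have : σ • (a * b) - a * b = σ • a * (σ • b - b) + b * (σ • a - a) := by
      rw [smul_mul']; ring
    rw [this, pow_succ']
    exact Ideal.add_mem _ (Ideal.mul_mem_mul (smul_mem_of_mem_stabilizer m hσ ha) (h b))
      (Ideal.mul_mem_mul hb (h a))
  · intro a b ha hb
    have : σ • (a + b) - (a + b) = (σ • a - a) + (σ • b - b) := by
      rw [smul_add]; ring
    rw [this]; exact Ideal.add_mem _ ha hb

lemma pow_smul_sub {σ : G} (hσ : σ ∈ MulAction.stabilizer G m) {j : ℕ} (hj : 2 ≤ j)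
    (h : ∀ x, σ • x - x ∈ m ^ j) (k : ℕ) :
    ∀ x, (σ ^ k) • x - x - (k : B) * (σ • x - x) ∈ m ^ (j + 1) := by
  induction k with
  | zero => intro x; simp
  | succ k ih =>
    intro x
    have hd : σ • x - x ∈ m ^ 2 := Ideal.pow_le_pow_right hj (h x)
    have h1 := ih (σ • x)
    have h2 := sub_mem_succ_of_mem_sq hσ h hd
    have : (σ ^ (k + 1)) • x - x - ((k + 1 : ℕ) : B) * (σ • x - x) =
        ((σ ^ k) • (σ • x) - σ • x - (k : B) * (σ • (σ • x) - σ • x)) +
          (k : B) * (σ • (σ • x - x) - (σ • x - x)) := by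
      rw [pow_succ, mul_smul, smul_sub]; push_cast; ring
    rw [this]
    exact Ideal.add_mem _ h1 (Ideal.mul_mem_left _ _ h2)

lemma sub_mem_succ [m.IsMaximal] {σ : G} (hσ : σ ∈ MulAction.stabilizer G m) {n : ℕ}
    (hn : σ ^ n = 1) (hnm : (n : B) ∉ m) {j : ℕ} (hj : 2 ≤ j)
    (h : ∀ x, σ • x - x ∈ m ^ j) (x : B) : σ • x - x ∈ m ^ (j + 1) := by
  have h1 := pow_smul_sub hσ hj h n x
  rw [hn, one_smul, sub_self, zero_sub, neg_mem_iff] at h1
  obtain ⟨c, i, hi, hci⟩ := Ideal.IsMaximal.exists_inv (I := m) inferInstance hnm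
  have : σ • x - x = c * ((n : B) * (σ • x - x)) + i * (σ • x - x) := by
    have : σ • x - x = (c * (n : B) + i) * (σ • x - x) := by rw [hci, one_mul]
    conv_lhs => rw [this]
    ring
  rw [this, pow_succ']
  exact Ideal.add_mem _ (by rw [← pow_succ']; exact Ideal.mul_mem_left _ _ h1)
    (Ideal.mul_mem_mul hi (h x))

/-- An element of the wild inertia group whose order is prime to the residue characteristic
acts trivially. -/
theorem smul_eq_of_pow_eq_one [IsNoetherianRing B] [IsDomain B] [m.IsMaximal] {σ : G}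
    (hσ : σ ∈ wild (G := G) m) {n : ℕ} (hn : σ ^ n = 1) (hnm : (n : B) ∉ m) (x : B) :
    σ • x = x := by
  have key : ∀ j, 2 ≤ j → ∀ x, σ • x - x ∈ m ^ j := by
    intro j hj
    induction j, hj using Nat.le_induction with
    | base => exact hσ.2
    | succ j hj ih => exact sub_mem_succ hσ.1 hn hnm hj ih
  have h0 : σ • x - x ∈ (⨅ i : ℕ, m ^ i) := by
    rw [Ideal.mem_iInf]
    intro i
    exact Ideal.pow_le_pow_right (Nat.le_add_right i 2) (key (i + 2) (Nat.le_add_left 2 i) x)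
  rw [Ideal.iInf_pow_eq_bot_of_isDomain m (Ideal.IsMaximal.ne_top inferInstance)] at h0
  exact sub_eq_zero.1 h0

end Tame

section Theta

variable {m}
variable [IsDedekindDomain B] [m.IsMaximal] (hm : m ≠ ⊥) {π : B} (hπ : π ∈ m) (hπ2 : π ∉ m ^ 2)

include hm hπ hπ2

lemma exists_decomp {x : B} (hx : x ∈ m) : ∃ b : B, x - b * π ∈ m ^ 2 := by
  obtain ⟨d, e, he, hde⟩ := Ideal.exists_mul_add_mem_pow_succ (P := m) hm (i := 1) π x
    (by simpa using hπ) (by simpa using hπ2) (by simpa using hx)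
  refine ⟨d, ?_⟩
  have : x - d * π = e := by rw [← hde]; ring
  rw [this]; simpa using he

omit hπ in
lemma mem_of_mul_pi_mem {u : B} (hu : u * π ∈ m ^ 2) : u ∈ m := by
  refine Ideal.mem_prime_of_mul_mem_pow (P := m) hm (i := 1) (a := π) (b := u)
    (by simpa using hπ2) ?_
  rw [mul_comm]; simpa using hu

omit hπ hπ2 in
lemma mem_sq_of_mul_mem {u y : B} (hu : u ∉ m) (huy : u * y ∈ m ^ 2) : y ∈ m ^ 2 := by
  by_contra hy
  refine hu (Ideal.mem_prime_of_mul_mem_pow (P := m) hm (i := 1) (a := y) (b := u)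
    (by simpa using hy) ?_)
  rw [mul_comm]; simpa using huy

lemma exists_theta (σ : m.inertia G) : ∃ u : B, (σ : G) • π - u * π ∈ m ^ 2 :=
  exists_decomp hm hπ hπ2
    (smul_mem_of_mem_stabilizer m (Ideal.inertia_le_stabilizer m σ.2) hπ)

/-- the tame character, as a function -/
noncomputable def theta0 (σ : m.inertia G) : B ⧸ m :=
  Ideal.Quotient.mk m (exists_theta hm hπ hπ2 σ).choose

lemma theta0_eq (σ : m.inertia G) {u : B} (hu : (σ : G) • π - u * π ∈ m ^ 2) :
    theta0 hm hπ hπ2 σ = Ideal.Quotient.mk m u := by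
  unfold theta0
  have h1 := (exists_theta hm hπ hπ2 σ).choose_spec
  rw [Ideal.Quotient.mk_eq_mk_iff_sub_mem]
  apply mem_of_mul_pi_mem hm hπ2
  have : ((exists_theta hm hπ hπ2 σ).choose - u) * π =
      ((σ : G) • π - u * π) - ((σ : G) • π - (exists_theta hm hπ hπ2 σ).choose * π) := by ring
  rw [this]
  exact Ideal.sub_mem _ hu h1

/-- the tame character `I → (B/m)` as a monoid hom -/
noncomputable def thetaHom : m.inertia G →* (B ⧸ m) where
  toFun := theta0 hm hπ hπ2
  map_one' := by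
    rw [theta0_eq hm hπ hπ2 1 (u := 1)]
    · rfl
    · simp
  map_mul' σ τ := by
    obtain ⟨u, hu⟩ := exists_theta hm hπ hπ2 σ
    obtain ⟨v, hv⟩ := exists_theta hm hπ hπ2 τ
    rw [theta0_eq hm hπ hπ2 σ hu, theta0_eq hm hπ hπ2 τ hv, ← map_mul]
    apply theta0_eq
    have hσD : (σ : G) ∈ MulAction.stabilizer G m := Ideal.inertia_le_stabilizer m σ.2
    have h1 : (σ : G) • v - v ∈ m := σ.2 v
    have h2 : (σ : G) • π ∈ m := smul_mem_of_mem_stabilizer m hσD hπ
    have h3 := smul_mem_pow_of_mem_stabilizer m hσD 2 hv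
    have : ((σ * τ : m.inertia G) : G) • π - u * v * π =
        ((σ : G) • v - v) * ((σ : G) • π) + v * ((σ : G) • π - u * π) +
          (σ : G) • ((τ : G) • π - v * π) := by
      rw [Subgroup.coe_mul, mul_smul, smul_sub, smul_mul']; ring
    rw [this]
    refine Ideal.add_mem _ (Ideal.add_mem _ ?_ (Ideal.mul_mem_left _ _ hu)) h3
    rw [pow_two]; exact Ideal.mul_mem_mul h1 h2

lemma thetaHom_eq (σ : m.inertia G) {u : B} (hu : (σ : G) • π - u * π ∈ m ^ 2) :
    thetaHom hm hπ hπ2 σ = Ideal.Quotient.mk m u := theta0_eq hm hπ hπ2 σ hu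

lemma thetaHom_eq_one_iff (σ : m.inertia G) :
    thetaHom hm hπ hπ2 σ = 1 ↔ (σ : G) • π - π ∈ m ^ 2 := by
  constructor
  · intro h
    obtain ⟨u, hu⟩ := exists_theta hm hπ hπ2 σ
    rw [thetaHom_eq hm hπ hπ2 σ hu, ← map_one (Ideal.Quotient.mk m),
      Ideal.Quotient.mk_eq_mk_iff_sub_mem] at h
    have : (σ : G) • π - π = ((σ : G) • π - u * π) + (u - 1) * π := by ring
    rw [this]
    refine Ideal.add_mem _ hu ?_
    rw [pow_two]; exact Ideal.mul_mem_mul h hπ
  · intro h
    rw [thetaHom_eq hm hπ hπ2 σ (u := 1) (by simpa using h)]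
    rfl

/-- if `σ ∈ I` fixes `π` mod `m²` then it acts trivially on `m/m²` -/
lemma sub_mem_sq_of_mem (σ : m.inertia G) (h : (σ : G) • π - π ∈ m ^ 2) {x : B} (hx : x ∈ m) :
    (σ : G) • x - x ∈ m ^ 2 := by
  obtain ⟨b, hb⟩ := exists_decomp hm hπ hπ2 hx
  have hσD : (σ : G) ∈ MulAction.stabilizer G m := Ideal.inertia_le_stabilizer m σ.2
  have h3 := smul_mem_pow_of_mem_stabilizer m hσD 2 hb
  have h1 : (σ : G) • b - b ∈ m := σ.2 b
  have : (σ : G) • x - x = (σ : G) • b * ((σ : G) • π - π) + ((σ : G) • b - b) * π +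
      ((σ : G) • (x - b * π) - (x - b * π)) := by
    rw [smul_sub, smul_mul']; ring
  rw [this]
  refine Ideal.add_mem _ (Ideal.add_mem _ (Ideal.mul_mem_left _ _ h) ?_) (Ideal.sub_mem _ h3 hb)
  rw [pow_two]; exact Ideal.mul_mem_mul h1 hπ

end Theta

section Sep

variable {m}
variable {A : Type*} [CommRing A] [Algebra A B] [SMulCommClass G A B]

lemma sub_mem_sq_of_separable [IsDedekindDomain B] [m.IsMaximal] (hm : m ≠ ⊥) (σ : m.inertia G)
    (h : ∀ x ∈ m, (σ : G) • x - x ∈ m ^ 2) (b : B) (F : Polynomial A)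
    (hF : Polynomial.aeval b F ∈ m) (hF' : Polynomial.aeval b (Polynomial.derivative F) ∉ m) :
    (σ : G) • b - b ∈ m ^ 2 := by
  have h1 : Polynomial.aeval ((σ : G) • b) F = (σ : G) • Polynomial.aeval b F :=
    Polynomial.aeval_algHom_apply (MulSemiringAction.toAlgHom A B (σ : G)) b F
  have h2 := h _ hF
  rw [← h1] at h2
  let Q := F.map (algebraMap A B)
  obtain ⟨k, hk⟩ := Polynomial.binomExpansion Q b ((σ : G) • b - b)
  have e1 : Q.eval b = Polynomial.aeval b F := Polynomial.eval_map_algebraMap F b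
  have e2 : Q.eval ((σ : G) • b) = Polynomial.aeval ((σ : G) • b) F :=
    Polynomial.eval_map_algebraMap F _
  have e3 : (Polynomial.derivative Q).eval b = Polynomial.aeval b (Polynomial.derivative F) := by
    rw [Polynomial.derivative_map]; exact Polynomial.eval_map_algebraMap _ b
  have hb : b + ((σ : G) • b - b) = (σ : G) • b := by ring
  rw [hb, e1, e2, e3] at hk
  have hd : (σ : G) • b - b ∈ m := σ.2 b
  apply mem_sq_of_mul_mem hm hF'
  have : Polynomial.aeval b (Polynomial.derivative F) * ((σ : G) • b - b) =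
      (Polynomial.aeval ((σ : G) • b) F - Polynomial.aeval b F) - k * ((σ : G) • b - b) ^ 2 := by
    rw [hk]; ring
  rw [this]
  refine Ideal.sub_mem _ h2 (Ideal.mul_mem_left _ _ ?_)
  exact Ideal.pow_mem_pow hd 2

end Sep

section Kernel

variable {m}
variable {A : Type*} [CommRing A] [Algebra A B] [SMulCommClass G A B]

/-- The tame character: a homomorphism `I → (B/m)ˣ` with kernel the wild inertia group. -/
theorem exists_theta_ker [IsDedekindDomain B] [m.IsMaximal] (hm : m ≠ ⊥)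
    (hsep : ∀ b : B, ∃ F : Polynomial A, Polynomial.aeval b F ∈ m ∧
      Polynomial.aeval b (Polynomial.derivative F) ∉ m) :
    ∃ θ : m.inertia G →* (B ⧸ m)ˣ, θ.ker = (wild (G := G) m).subgroupOf (m.inertia G) := by
  have hlt : m ^ 2 < m := by
    have := Ideal.pow_succ_lt_pow (P := m) hm 1
    simpa using this
  obtain ⟨π, hπ, hπ2⟩ := SetLike.exists_of_lt hlt
  refine ⟨(thetaHom hm hπ hπ2).toHomUnits, ?_⟩
  ext σ
  rw [MonoidHom.mem_ker, Subgroup.mem_subgroupOf, Units.ext_iff, MonoidHom.coe_toHomUnits,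
    Units.val_one, thetaHom_eq_one_iff]
  constructor
  · intro h
    have h1 : ∀ x ∈ m, (σ : G) • x - x ∈ m ^ 2 := fun x hx => sub_mem_sq_of_mem hm hπ hπ2 σ h hx
    refine ⟨Ideal.inertia_le_stabilizer m σ.2, ?_⟩
    intro b
    obtain ⟨F, hF, hF'⟩ := hsep b
    exact sub_mem_sq_of_separable hm σ h1 b F hF hF'
  · intro h
    exact h.2 π

end Kernel

section PGroup

variable {m}
variable [IsNoetherianRing B] [IsDomain B] [m.IsMaximal] [Finite G]
  (hfaith : ∀ σ : G, (∀ x : B, σ • x = x) → σ = 1)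

include hfaith

theorem isPGroup_wild (p : ℕ) (hp : p.Prime) [CharP (B ⧸ m) p] :
    IsPGroup p (wild (G := G) m) := by
  rintro ⟨σ, hσ⟩
  have hn : orderOf σ ≠ 0 := (orderOf_pos σ).ne'
  obtain ⟨a, n', hn', hnn⟩ := Nat.exists_eq_pow_mul_and_not_dvd hn p hp.ne_one
  refine ⟨a, ?_⟩
  have hτ : σ ^ (p ^ a) ∈ wild (G := G) m := Subgroup.pow_mem _ hσ _
  have h1 : (σ ^ (p ^ a)) ^ n' = 1 := by
    rw [← pow_mul, ← hnn]; exact pow_orderOf_eq_one σ
  have h2 : (n' : B) ∉ m := by
    rw [← Ideal.Quotient.eq_zero_iff_mem, map_natCast, CharP.cast_eq_zero_iff (B ⧸ m) p]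
    exact hn'
  have h3 : σ ^ (p ^ a) = 1 := hfaith _ (fun x => smul_eq_of_pow_eq_one hτ h1 h2 x)
  exact Subtype.ext (by simpa using h3)

theorem wild_eq_bot [CharZero (B ⧸ m)] : wild (G := G) m = ⊥ := by
  rw [eq_bot_iff]
  intro σ hσ
  have hn : orderOf σ ≠ 0 := (orderOf_pos σ).ne'
  have h2 : ((orderOf σ : ℕ) : B) ∉ m := by
    rw [← Ideal.Quotient.eq_zero_iff_mem, map_natCast]
    exact Nat.cast_ne_zero.2 hn
  exact hfaith _ (fun x => smul_eq_of_pow_eq_one hσ (pow_orderOf_eq_one σ) h2 x)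

end PGroup

end Groth.Agent.Lib.Helper9.RamifGroups
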