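import Mathlib

/-! Counting for the tame quotient of an inertia group mapping to the units of a domain
(helper9). -/

set_option autoImplicit false

namespace Groth.Agent.Lib.Helper9.TameCount

variable {I₀ : Type*} [Group I₀] [Finite I₀] {l : Type*} [CommRing l] [IsDomain l]
  (θ : I₀ →* lˣ) (N : Subgroup I₀) [N.Normal] (hN : θ.ker = N)

/-- the induced hom on the quotient -/
noncomputable def bar : I₀ ⧸ N →* lˣ :=
  QuotientGroup.lift N θ (fun x hx => by rw [← hN] at hx; exact hx)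

lemma bar_mk (x : I₀) : bar θ N hN (QuotientGroup.mk x) = θ x := rfl

lemma bar_injective : Function.Injective (bar θ N hN) := by
  rw [injective_iff_map_eq_one]
  intro y hy
  induction y using QuotientGroup.induction_on with
  | H x =>
    rw [bar_mk] at hy
    have : x ∈ N := by rw [← hN]; exact hy
    exact (QuotientGroup.eq_one_iff x).2 this

include hN in
lemma isCyclic_quot : IsCyclic (I₀ ⧸ N) :=
  isCyclic_of_injective_ringHom ((Units.coeHom l).comp (bar θ N hN))
    (Units.val_injective.comp (bar_injective θ N hN))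

lemma card_eq : Nat.card I₀ = Nat.card (I₀ ⧸ N) * Nat.card N :=
  Subgroup.card_eq_card_quotient_mul_card_subgroup N

include hN in
lemma not_dvd_card_quot (p : ℕ) (hp : p.Prime) [CharP l p] : ¬ p ∣ Nat.card (I₀ ⧸ N) := by
  intro hdvd
  haveI : Fact p.Prime := ⟨hp⟩
  obtain ⟨x, hx⟩ := exists_prime_orderOf_dvd_card' (G := I₀ ⧸ N) p hdvd
  have h1 : x ^ p = 1 := by rw [← hx]; exact pow_orderOf_eq_one x
  have h2 : x ≠ 1 := by
    intro h
    rw [h, orderOf_one] at hx
    exact hp.one_lt.ne hx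
  set ζ := bar θ N hN x with hζ
  have h3 : ζ ^ p = 1 := by rw [hζ, ← map_pow, h1, map_one]
  have h4 : ((ζ : l) - 1) ^ p = 0 := by
    rw [sub_pow_char, one_pow, ← Units.val_pow_eq_pow_val, h3, Units.val_one, sub_self]
  have h5 : (ζ : l) = 1 := sub_eq_zero.1 (pow_eq_zero_iff hp.ne_zero |>.1 h4)
  have h6 : ζ = 1 := Units.ext h5
  exact h2 (bar_injective θ N hN (by rw [← hζ, h6, map_one]))

include hN in
lemma card_quot_of_pGroup (p : ℕ) (hp : p.Prime) [CharP l p] (hNp : IsPGroup p N) :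
    Nat.card (I₀ ⧸ N) = Nat.card I₀ / p ^ (Nat.card I₀).factorization p := by
  haveI : Fact p.Prime := ⟨hp⟩
  obtain ⟨a, ha⟩ := hNp.exists_card_eq
  have hnd := not_dvd_card_quot θ N hN p hp
  have hpos : Nat.card (I₀ ⧸ N) ≠ 0 := Nat.card_pos.ne'
  have hfac : (Nat.card I₀).factorization p = a := by
    rw [card_eq N, ha, Nat.factorization_mul hpos (pow_ne_zero _ hp.ne_zero)]
    simp [Nat.factorization_eq_zero_of_not_dvd hnd, hp.factorization_pow]
  rw [hfac]
  conv_rhs => rw [card_eq N, ha]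
  exact (Nat.mul_div_cancel _ (pow_pos hp.pos a)).symm

include hN in
/-- if the `e`-th roots of unity are at most as many as the quotient, they are isomorphic -/
lemma nonempty_mulEquiv (h : Nat.card (rootsOfUnity (Nat.card I₀) l) ≤ Nat.card (I₀ ⧸ N)) :
    Nonempty (I₀ ⧸ N ≃* rootsOfUnity (Nat.card I₀) l) := by
  let H := (bar θ N hN).range
  let e1 : I₀ ⧸ N ≃* H := MonoidHom.ofInjective (bar_injective θ N hN)
  have hle : H ≤ rootsOfUnity (Nat.card I₀) l := by
    rintro _ ⟨y, rfl⟩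
    rw [mem_rootsOfUnity, ← map_pow]
    have : y ^ Nat.card I₀ = 1 := by
      rw [card_eq N, pow_mul, pow_card_eq_one', one_pow]
    rw [this, map_one]
  have hc : Nat.card (rootsOfUnity (Nat.card I₀) l) ≤ Nat.card H := by
    rw [← Nat.card_congr e1.toEquiv]; exact h
  haveI : NeZero (Nat.card I₀) := ⟨Nat.card_pos.ne'⟩
  have heq : H = rootsOfUnity (Nat.card I₀) l := Subgroup.eq_of_le_of_card_ge hle hc
  exact ⟨e1.trans (MulEquiv.subgroupCongr heq)⟩

include hN in
lemma card_rootsOfUnity_le_of_pGroup (p : ℕ) (hp : p.Prime) [CharP l p] (hNp : IsPGroup p N) :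
    Nat.card (rootsOfUnity (Nat.card I₀) l) ≤ Nat.card (I₀ ⧸ N) := by
  haveI : Fact p.Prime := ⟨hp⟩
  obtain ⟨a, ha⟩ := hNp.exists_card_eq
  haveI : ExpChar l p := ExpChar.prime hp
  have h1 : rootsOfUnity (Nat.card I₀) l = rootsOfUnity (Nat.card (I₀ ⧸ N)) l := by
    ext ζ
    rw [card_eq N, ha, mul_comm]
    exact mem_rootsOfUnity_prime_pow_mul_iff l p a _
  rw [h1]
  haveI : NeZero (Nat.card (I₀ ⧸ N)) := ⟨Nat.card_pos.ne'⟩
  exact card_rootsOfUnity _ _

lemma card_quot_of_eq_bot (hbot : N = ⊥) : Nat.card (I₀ ⧸ N) = Nat.card I₀ := by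
  rw [card_eq N, hbot]; simp

lemma card_rootsOfUnity_le_of_eq_bot (hbot : N = ⊥) :
    Nat.card (rootsOfUnity (Nat.card I₀) l) ≤ Nat.card (I₀ ⧸ N) := by
  rw [card_quot_of_eq_bot N hbot]
  haveI : NeZero (Nat.card I₀) := ⟨Nat.card_pos.ne'⟩
  exact card_rootsOfUnity _ _

end Groth.Agent.Lib.Helper9.TameCount
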