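import Mathlib
import Groth.Agent.Lib.Helper9.RamifGroups
import Groth.Agent.Lib.Helper9.TameCount

/-! Concrete AKLB input for the ramification group structure theorem (helper9). -/

set_option autoImplicit false
universe u
open scoped Pointwise

namespace Groth.Agent.Lib.Helper9.RamifConcrete

section Sep

variable (A B : Type u) [CommRing A] [CommRing B] [Algebra A B] (m : Ideal B) [m.IsMaximal]
    [(m.comap (algebraMap A B)).IsMaximal]
    [Algebra.IsSeparable (A ⧸ m.comap (algebraMap A B)) (B ⧸ m)]

attribute [local instance] Ideal.Quotient.field in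
theorem exists_sep_poly (b : B) : ∃ F : Polynomial A, Polynomial.aeval b F ∈ m ∧
      Polynomial.aeval b (Polynomial.derivative F) ∉ m := by
  let p : Ideal A := m.comap (algebraMap A B)
  let bb : B ⧸ m := Ideal.Quotient.mk m b
  have hsep : (minpoly (A ⧸ p) bb).Separable := Algebra.IsSeparable.isSeparable (A ⧸ p) bb
  obtain ⟨F, hF⟩ := Polynomial.map_surjective (Ideal.Quotient.mk p) Ideal.Quotient.mk_surjective
    (minpoly (A ⧸ p) bb)
  have key : ∀ Q : Polynomial A, Ideal.Quotient.mk m (Polynomial.aeval b Q) =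
      Polynomial.aeval bb (Q.map (Ideal.Quotient.mk p)) := by
    intro Q
    have h1 : Polynomial.aeval bb (Q.map (algebraMap A (A ⧸ p))) = Polynomial.aeval bb Q :=
      Polynomial.aeval_map_algebraMap (A ⧸ p) bb Q
    have h2 : Polynomial.aeval (algebraMap B (B ⧸ m) b) Q =
        algebraMap B (B ⧸ m) (Polynomial.aeval b Q) := Polynomial.aeval_algebraMap_apply (B ⧸ m) b Q
    exact h2.symm.trans h1.symm
  refine ⟨F, ?_, ?_⟩
  · rw [← Ideal.Quotient.eq_zero_iff_mem, key, hF, minpoly.aeval]
  · rw [← Ideal.Quotient.eq_zero_iff_mem, key, ← Polynomial.derivative_map, hF]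
    exact hsep.aeval_derivative_ne_zero (minpoly.aeval _ _)

end Sep

section AKLB

variable (A K L B : Type u) [CommRing A] [IsDomain A] [IsDiscreteValuationRing A]
    [CommRing B] [IsDomain B] [Field K] [Field L] [Algebra A K] [Algebra B L] [IsFractionRing A K] [IsFractionRing B L]
    [Algebra A B] [Algebra K L] [Algebra A L] [IsScalarTower A K L] [IsScalarTower A B L] [IsIntegralClosure B A L]
    [FiniteDimensional K L] [IsGalois K L] (m : Ideal B) [m.IsMaximal]

include K L in
lemma algebraMap_injective : Function.Injective (algebraMap A B) := by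
  have h : Function.Injective (algebraMap A L) := by
    rw [IsScalarTower.algebraMap_eq A K L]
    exact (algebraMap K L).injective.comp (IsFractionRing.injective A K)
  rw [IsScalarTower.algebraMap_eq A B L] at h
  exact Function.Injective.of_comp h

include K L in
lemma comap_eq : m.comap (algebraMap A B) = IsLocalRing.maximalIdeal A := by
  have hint : Algebra.IsIntegral A B := IsIntegralClosure.isIntegral_algebra A L
  haveI : (m.comap (algebraMap A B)).IsMaximal := Ideal.IsMaximal.under A m
  exact IsLocalRing.eq_maximalIdeal inferInstance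

include A K L in
lemma ne_bot : m ≠ ⊥ := by
  intro h
  have h1 := comap_eq A K L B m
  rw [h, Ideal.comap_bot_of_injective _ (algebraMap_injective A K L B)] at h1
  exact IsDiscreteValuationRing.not_a_field A h1.symm

variable [Algebra.IsSeparable (A ⧸ m.comap (algebraMap A B)) (B ⧸ m)]

attribute [local instance] Ideal.Quotient.field in
theorem card_inertia :
    letI := IsIntegralClosure.MulSemiringAction A K L B
    Nat.card (m.inertia (L ≃ₐ[K] L)) = Ideal.ramificationIdx' (IsLocalRing.maximalIdeal A) m := by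
  letI := IsIntegralClosure.MulSemiringAction A K L B
  have hint : Algebra.IsIntegral A B := IsIntegralClosure.isIntegral_algebra A L
  have hG : IsGaloisGroup (L ≃ₐ[K] L) A B := IsGaloisGroup.of_isFractionRing _ _ _ K L
  haveI := IsIntegralClosure.isDedekindDomain A K L B
  haveI : Module.Finite A B := IsIntegralClosure.finite A K L B
  have hinj : Function.Injective (algebraMap A B) := algebraMap_injective A K L B
  haveI : FaithfulSMul A B := (faithfulSMul_iff_algebraMap_injective A B).2 hinj
  haveI : Module.IsTorsionFree A B := inferInstance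
  haveI : Module.Flat A B := inferInstance
  let p : Ideal A := m.comap (algebraMap A B)
  haveI : m.LiesOver p := ⟨rfl⟩
  haveI : p.IsMaximal := Ideal.IsMaximal.under A m
  have hp : p = IsLocalRing.maximalIdeal A := IsLocalRing.eq_maximalIdeal inferInstance
  haveI : Algebra.IsSeparable (A ⧸ p) (B ⧸ m) := inferInstance
  haveI : Normal (A ⧸ p) (B ⧸ m) := Ideal.Quotient.normal (L ≃ₐ[K] L) p m
  haveI : IsGalois (A ⧸ p) (B ⧸ m) := ⟨⟩
  haveI : Module.Finite (A ⧸ p) (B ⧸ m) := Ideal.Quotient.finite_of_isInvariant (L ≃ₐ[K] L) p m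
  have h1 : Nat.card (MulAction.stabilizer (L ≃ₐ[K] L) m) =
      Nat.card (m.inertia (L ≃ₐ[K] L)) * m.inertiaDeg A := by
    have : Subgroup.index _ = _ := Nat.card_congr
      (Ideal.Quotient.stabilizerQuotientInertiaEquiv (L ≃ₐ[K] L) p m).toEquiv
    rw [Ideal.inertiaDeg_eq_of_isMaximal p m, ← IsGalois.card_aut_eq_finrank (A ⧸ p) (B ⧸ m),
      ← this,
      ← ((m.inertia (L ≃ₐ[K] L)).subgroupOf (MulAction.stabilizer (L ≃ₐ[K] L) m)).card_mul_index,
      Nat.card_congr (Subgroup.subgroupOfEquivOfLe
        (Ideal.inertia_le_stabilizer (M := (L ≃ₐ[K] L)) m)).toEquiv,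
      AddSubgroup.subgroupOf_inertia]
  have h2 : (p.primesOver B).ncard * Nat.card (m.inertia (L ≃ₐ[K] L)) * m.inertiaDeg A =
      Nat.card (L ≃ₐ[K] L) := by
    rw [mul_assoc, ← h1, ← Algebra.IsInvariant.orbit_eq_primesOver A B (L ≃ₐ[K] L) p m]
    simpa using Nat.card_congr (MulAction.orbitProdStabilizerEquivGroup (L ≃ₐ[K] L) m)
  have h3 := Ideal.ncard_primesOver_mul_ramificationIdxIn_mul_inertiaDegIn p B (L ≃ₐ[K] L)
  rw [← Ideal.inertiaDegIn_eq_inertiaDeg p m (L ≃ₐ[K] L)] at h2
  have h4 : (p.primesOver B).ncard ≠ 0 := by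
    have : (p.primesOver B).Nonempty := ⟨m, inferInstance, inferInstance⟩
    have hfin : (p.primesOver B).Finite := Algebra.QuasiFinite.finite_primesOver p
    exact (Set.ncard_pos hfin).2 this |>.ne'
  have h5 : p.inertiaDegIn B ≠ 0 := Ideal.inertiaDegIn_ne_zero (L ≃ₐ[K] L)
  have h6 : Nat.card (m.inertia (L ≃ₐ[K] L)) = p.ramificationIdxIn B := by
    rw [← h3, mul_assoc, mul_right_inj' h4, mul_left_inj' h5] at h2
    exact h2
  rw [h6, Ideal.ramificationIdxIn_eq_ramificationIdx p m (L ≃ₐ[K] L), ← hp]
  have hpne : p ≠ ⊥ := by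
    rw [hp]; exact IsDiscreteValuationRing.not_a_field A
  exact (Ideal.ramificationIdx'_eq_ramificationIdx p m hpne).symm

end AKLB

end Groth.Agent.Lib.Helper9.RamifConcrete
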