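/-
Helper library (helper9): a surjection of regular rings has Koszul-regular kernel
(`isKoszulRegularIdeal_ker_of_isRegularRing`); consequently a finite type algebra between regular
rings is a local complete intersection (`isLCI_of_isRegularRing`).  Also: sections of a locally
Noetherian scheme with regular local stalks over an affine open form a regular ring.
-/
import Mathlib
import Groth.Agent.Lib.Helper9.KoszulQuot
import Groth.Agent.Lib.Helper83.RegQuot
import Groth.Agent.Lib.Helper87.KzBasic

set_option autoImplicit false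
set_option linter.style.haveILetI false
universe u

namespace Groth.Agent.Lib.Helper9.RegLCI

open Groth.Agent.Lib.Helper9 Groth.Agent.Lib.Helper9.KoszulExch
  Groth.Agent.Lib.Helper9.KoszulIndep Groth.Agent.Lib.Helper9.KoszulAppend
open Groth.Agent.Lib.Helper94.KoszulReg Groth.Agent.Lib.Helper87.KzLES
  Groth.Agent.Lib.Helper87.KzMod Groth.Agent.Lib.Helper87.KzBridge Groth.Agent.Lib.Helper33.KoszulBC
open CategoryTheory CategoryTheory.Limits CochainComplex HomologicalComplex

variable {S : Type u} [CommRing S]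

/-- lifting a Koszul-regular generating list on a localization to elements of the ideal -/
theorem exists_lift_list_of_isLocalization (M : Submonoid S) (T : Type u) [CommRing T] [Algebra S T]
    [IsLocalization M T] (J : Ideal S) (l₀ : List T)
    (hl : LCI.IsKoszulRegularSeq T l₀)
    (hJ : J.map (algebraMap S T) = Ideal.span {x | x ∈ l₀}) :
    ∃ l : List S, (∀ a ∈ l, a ∈ J) ∧
      LCI.IsKoszulRegularSeq T (l.map (algebraMap S T)) ∧
      J.map (algebraMap S T) = Ideal.ofList (l.map (algebraMap S T)) := by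
  classical
  have hex : ∀ x : T, x ∈ l₀ → ∃ n : S, n ∈ J ∧
      ∃ e : Tˣ, algebraMap S T n = e * x := by
    intro x hx
    have h1 : x ∈ J.map (algebraMap S T) := by
      rw [hJ]; exact Ideal.subset_span hx
    rw [IsLocalization.mem_map_algebraMap_iff M] at h1
    obtain ⟨⟨⟨n, hn⟩, u⟩, hnu⟩ := h1
    simp only at hnu
    refine ⟨n, hn, (IsLocalization.map_units T u).unit, ?_⟩
    rw [← hnu, mul_comm]
    rfl
  let ψ : T → S := fun x => if hx : x ∈ l₀ then (hex x hx).choose else 0
  have hψJ : ∀ x ∈ l₀, ψ x ∈ J := fun x hx => by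
    simp only [ψ, dif_pos hx]; exact (hex x hx).choose_spec.1
  have hψe : ∀ x ∈ l₀, ∃ e : Tˣ,
      algebraMap S T (ψ x) = e * x := fun x hx => by
    simp only [ψ, dif_pos hx]; exact (hex x hx).choose_spec.2
  have hideal : J.map (algebraMap S T) =
      Ideal.ofList ((l₀.map ψ).map (algebraMap S T)) := by
    rw [hJ]
    apply le_antisymm
    · change sp l₀ ≤ _
      rw [sp_le_iff]
      intro x hx
      obtain ⟨e, he⟩ := hψe x hx
      have : x = ((e⁻¹ : Tˣ) : T) * algebraMap S T (ψ x) := by
        rw [he, ← mul_assoc, Units.inv_mul, one_mul]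
      rw [this]
      refine Ideal.mul_mem_left _ _ (Ideal.subset_span ?_)
      simp only [List.mem_map, Set.mem_ofPred_eq]
      exact ⟨ψ x, ⟨x, hx, rfl⟩, rfl⟩
    · change sp _ ≤ _
      rw [sp_le_iff]
      intro y hy
      simp only [List.mem_map] at hy
      obtain ⟨_, ⟨x, hx, rfl⟩, rfl⟩ := hy
      obtain ⟨e, he⟩ := hψe x hx
      rw [he]
      exact Ideal.mul_mem_left _ _ (Ideal.subset_span hx)
  refine ⟨l₀.map ψ, ?_, ?_, hideal⟩
  · intro a ha
    simp only [List.mem_map] at ha
    obtain ⟨x, hx, rfl⟩ := ha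
    exact hψJ x hx
  · exact KoszulGen.isKoszulRegularSeq_of_length_eq l₀ _ hl hJ.symm hideal.symm (by simp)

/-- Koszul homology of a Noetherian ring is finitely generated -/
theorem finite_homology [IsNoetherianRing S] (l : List S) (i : ℤ) :
    Module.Finite S ((Koszul.koszul S l).homology i : ModuleCat.{u} S) := by
  have key : ∀ K : CochainComplex (ModuleCat.{u} S) ℤ, K = kz (sg S (ModuleCat.of S S)) l →
      Module.Finite S (K.homology i : ModuleCat.{u} S) := by
    rintro K rfl
    haveI := Groth.Agent.Lib.Helper87.KzBasic.KH_isNoetherian (A := S) (M := S) l i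
    exact Module.IsNoetherian.finite S _
  exact key _ (koszul_eq l)

theorem subsingleton_homology (l : List S) (i : ℤ) (hi : 0 < i ∨ i < -(l.length : ℤ)) :
    Subsingleton ((Koszul.koszul S l).homology i : ModuleCat.{u} S) := by
  have key : ∀ K : CochainComplex (ModuleCat.{u} S) ℤ, K = kz (sg S (ModuleCat.of S S)) l →
      Subsingleton (K.homology i : ModuleCat.{u} S) := by
    rintro K rfl
    exact Groth.Agent.Lib.Helper87.KzBasic.KH_subsingleton (A := S) (M := S) l i hi
  exact key _ (koszul_eq l)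


/-- a single function off `p` kills all higher Koszul homology once it vanishes at `p` -/
theorem exists_kill [IsNoetherianRing S] (l : List S) (p : Ideal S) [p.IsPrime]
    (h : LCI.IsKoszulRegularSeq (Localization.AtPrime p)
      (l.map (algebraMap S (Localization.AtPrime p)))) :
    ∃ g : S, g ∉ p ∧ ∀ i : ℤ, i ≠ 0 →
      ∀ z : ((Koszul.koszul S l).homology i : ModuleCat.{u} S), g • z = 0 := by
  classical
  have h1 : ∀ i : ℤ, i ≠ 0 → ∃ g : S, g ∉ p ∧
      ∀ z : ((Koszul.koszul S l).homology i : ModuleCat.{u} S), g • z = 0 := by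
    intro i hi
    set H : ModuleCat.{u} S := (Koszul.koszul S l).homology i with hH
    haveI : Module.Finite S H := finite_homology l i
    have hs := (KoszulLoc.exactAt_baseChange_iff (Localization.AtPrime p) l i).mp
      ((KoszulLoc.isKoszulRegularSeq_iff_exactAt _).mp h i hi)
    have hp : (⟨p, inferInstance⟩ : PrimeSpectrum S) ∉ Module.support S H := by
      rw [Module.notMem_support_iff]
      exact ((IsLocalizedModule.isBaseChange p.primeCompl (Localization.AtPrime p)
        (LocalizedModule.mkLinearMap p.primeCompl H)).equiv.toEquiv.symm.trans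
          (TensorProduct.comm S _ _).toEquiv).subsingleton
    rw [Module.mem_support_iff_of_finite] at hp
    obtain ⟨g, hg, hgp⟩ := Set.not_subset.mp hp
    exact ⟨g, hgp, fun z => Module.mem_annihilator.mp hg z⟩
  have h2 : ∀ s : Finset ℤ, (∀ i ∈ s, i ≠ 0) → ∃ g : S, g ∉ p ∧ ∀ i ∈ s,
      ∀ z : ((Koszul.koszul S l).homology i : ModuleCat.{u} S), g • z = 0 := by
    intro s
    induction s using Finset.induction_on with
    | empty => exact fun _ => ⟨1, (Ideal.ne_top_iff_one p).mp Ideal.IsPrime.ne_top', by simp⟩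
    | insert a s _ ih =>
      intro hs
      obtain ⟨g, hg, hgs⟩ := ih fun i hi => hs i (Finset.mem_insert_of_mem hi)
      obtain ⟨g', hg', hga⟩ := h1 a (hs a (Finset.mem_insert_self a s))
      refine ⟨g * g', fun hmem => (Ideal.IsPrime.mem_or_mem inferInstance hmem).elim hg hg', ?_⟩
      intro i hi z
      rcases Finset.mem_insert.mp hi with rfl | hi
      · rw [mul_smul, hga, smul_zero]
      · rw [mul_comm, mul_smul, hgs i hi, smul_zero]
  obtain ⟨g, hg, hgs⟩ := h2 (Finset.Icc (-(l.length : ℤ)) (-1)) (by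
    intro i hi; have := (Finset.mem_Icc.mp hi).2; omega)
  refine ⟨g, hg, fun i hi z => ?_⟩
  by_cases hmem : i ∈ Finset.Icc (-(l.length : ℤ)) (-1)
  · exact hgs i hmem z
  · haveI := subsingleton_homology l i (by
      rw [Finset.mem_Icc] at hmem
      omega)
    rw [Subsingleton.elim z 0, smul_zero]

/-- if `g` kills the higher Koszul homology then the sequence is Koszul-regular wherever `g` is
invertible -/
theorem isKoszulRegularSeq_of_kill (l : List S) (g : S)
    (hkill : ∀ i : ℤ, i ≠ 0 →
      ∀ z : ((Koszul.koszul S l).homology i : ModuleCat.{u} S), g • z = 0)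
    (T : Type u) [CommRing T] [Algebra S T] [Module.Flat S T] (hu : IsUnit (algebraMap S T g)) :
    LCI.IsKoszulRegularSeq T (l.map (algebraMap S T)) := by
  rw [KoszulLoc.isKoszulRegularSeq_iff_exactAt]
  intro i hi
  rw [KoszulLoc.exactAt_baseChange_iff]
  have h0 : ∀ a : TensorProduct S ((Koszul.koszul S l).homology i : ModuleCat.{u} S) T, a = 0 := by
    intro a
    induction a using TensorProduct.induction_on with
    | zero => rfl
    | tmul z y =>
      obtain ⟨u, hu'⟩ := hu
      have hy : y = g • (((u⁻¹ : Tˣ) : T) * y) := by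
        rw [Algebra.smul_def, ← hu', ← mul_assoc, Units.mul_inv, one_mul]
      rw [hy, TensorProduct.tmul_smul, TensorProduct.smul_tmul', hkill i hi, TensorProduct.zero_tmul]
    | add a b ha hb => rw [ha, hb, add_zero]
  exact ⟨fun a b => by rw [h0 a, h0 b]⟩


/-- kernel of the local homomorphism induced by a surjection -/
theorem ker_localRingHom {P B : Type u} [CommRing P] [CommRing B] (γ : P →+* B)
    (hγ : Function.Surjective γ) (𝔓 : Ideal P) [𝔓.IsPrime] (𝔮 : Ideal B) [𝔮.IsPrime]
    (hcomap : 𝔓 = 𝔮.comap γ) :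
    RingHom.ker (Localization.localRingHom 𝔓 𝔮 γ hcomap) =
      (RingHom.ker γ).map (algebraMap P (Localization.AtPrime 𝔓)) := by
  apply le_antisymm
  · intro x hx
    obtain ⟨a, s, rfl⟩ := IsLocalization.exists_mk'_eq 𝔓.primeCompl x
    rw [RingHom.mem_ker, Localization.localRingHom_mk', IsLocalization.mk'_eq_zero_iff] at hx
    obtain ⟨⟨t, ht⟩, htx⟩ := hx
    obtain ⟨t', rfl⟩ := hγ t
    simp only at htx
    rw [IsLocalization.mk'_mem_map_algebraMap_iff]
    refine ⟨t', ?_, ?_⟩
    · intro hmem
      apply ht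
      rw [hcomap] at hmem
      exact hmem
    · rw [RingHom.mem_ker, map_mul]
      exact htx
  · rw [Ideal.map_le_iff_le_comap]
    intro a ha
    rw [Ideal.mem_comap, RingHom.mem_ker, Localization.localRingHom_to_map,
      (RingHom.mem_ker).mp ha, map_zero]

open RingTheory.Sequence in
/-- **A surjection of regular rings has Koszul-regular kernel.** -/
theorem isKoszulRegularIdeal_ker_of_isRegularRing {P B : Type u} [CommRing P] [CommRing B]
    [IsRegularRing P] [IsRegularRing B] (γ : P →+* B) (hγ : Function.Surjective γ) :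
    LCI.IsKoszulRegularIdeal (RingHom.ker γ) := by
  intro 𝔓 h𝔓
  haveI h𝔮 : (𝔓.asIdeal.map γ).IsPrime := Ideal.map_isPrime_of_surjective hγ h𝔓
  have hcomap : 𝔓.asIdeal = (𝔓.asIdeal.map γ).comap γ := by
    rw [Ideal.comap_map_of_surjective' γ hγ]
    exact (sup_eq_left.mpr h𝔓).symm
  have hφ : Function.Surjective
      (Localization.localRingHom 𝔓.asIdeal (𝔓.asIdeal.map γ) γ hcomap) := by
    have key : ∀ (𝔓' : Ideal P) [𝔓'.IsPrime] (h : 𝔓' = (𝔓.asIdeal.map γ).comap γ),
        Function.Surjective (Localization.localRingHom 𝔓' (𝔓.asIdeal.map γ) γ h) := by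
      rintro _ _ rfl
      exact RingHom.surjective_localRingHom_of_surjective γ hγ _
    exact key _ hcomap
  have hker := ker_localRingHom γ hγ 𝔓.asIdeal (𝔓.asIdeal.map γ) hcomap
  haveI : IsRegularLocalRing (Localization.AtPrime 𝔓.asIdeal ⧸
      RingHom.ker (Localization.localRingHom 𝔓.asIdeal (𝔓.asIdeal.map γ) γ hcomap)) :=
    IsRegularLocalRing.of_ringEquiv (RingHom.quotientKerEquivOfSurjective hφ).symm
  obtain ⟨rs, hrs, hrsI⟩ :=
    Groth.Agent.Lib.Helper83.RegQuot.exists_isRegular_of_isRegularLocalRing_quotient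
      (RingHom.ker (Localization.localRingHom 𝔓.asIdeal (𝔓.asIdeal.map γ) γ hcomap))
  have hK : LCI.IsKoszulRegularSeq (Localization.AtPrime 𝔓.asIdeal) rs :=
    (KoszulSwap.isKoszulRegularSeq_iff rs).mpr
      (kz_single_of_isWeaklyRegular rs (Localization.AtPrime 𝔓.asIdeal) hrs.toIsWeaklyRegular).1
  obtain ⟨l, hlI, hlK, hlgen⟩ := exists_lift_list_of_isLocalization 𝔓.asIdeal.primeCompl
    (Localization.AtPrime 𝔓.asIdeal) (RingHom.ker γ) rs hK (by rw [← hker, ← hrsI])
  obtain ⟨g₂, hg₂, hkill⟩ := exists_kill l 𝔓.asIdeal hlK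
  obtain ⟨g₁, hg₁, hmul⟩ := exists_mul_mem_of_map_le (RingHom.ker γ) (Ideal.ofList l)
    (IsNoetherian.noetherian _) 𝔓.asIdeal (by rw [hlgen, Ideal.map_ofList])
  refine ⟨g₁ * g₂, fun hmem => (Ideal.IsPrime.mem_or_mem inferInstance hmem).elim hg₁ hg₂,
    l.map (algebraMap P (Localization.Away (g₁ * g₂))), ?_, ?_⟩
  · apply isKoszulRegularSeq_of_kill l g₂ hkill
    have := IsLocalization.Away.algebraMap_isUnit (S := Localization.Away (g₁ * g₂)) (g₁ * g₂)
    rw [map_mul] at this
    exact isUnit_of_mul_isUnit_right this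
  · have hg₁u : IsUnit (algebraMap P (Localization.Away (g₁ * g₂)) g₁) := by
      have := IsLocalization.Away.algebraMap_isUnit (S := Localization.Away (g₁ * g₂)) (g₁ * g₂)
      rw [map_mul] at this
      exact isUnit_of_mul_isUnit_left this
    change _ = Ideal.ofList _
    rw [← Ideal.map_ofList]
    apply le_antisymm
    · rw [Ideal.map_le_iff_le_comap]
      intro x hx
      rw [Ideal.mem_comap]
      have h2 := Ideal.mem_map_of_mem (algebraMap P (Localization.Away (g₁ * g₂))) (hmul x hx)
      rw [map_mul] at h2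
      exact (Ideal.unit_mul_mem_iff_mem _ hg₁u).mp h2
    · apply Ideal.map_mono
      exact Ideal.span_le.mpr hlI


/-- **A finite type algebra between regular rings is a local complete intersection.** -/
theorem isLCI_of_isRegularRing (A B : Type u) [CommRing A] [CommRing B] [Algebra A B]
    [IsRegularRing A] [IsRegularRing B] (hft : Algebra.FiniteType A B) : LCI.IsLCI A B := by
  obtain ⟨n, π, hπ⟩ := Algebra.FiniteType.iff_quotient_mvPolynomial''.mp hft
  exact ⟨hft, n, π, hπ, isKoszulRegularIdeal_ker_of_isRegularRing π.toRingHom hπ⟩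

section scheme
open AlgebraicGeometry CategoryTheory

theorem isRegularRing_of_stalks {X : Scheme.{u}} [IsLocallyNoetherian X]
    (hX : ∀ x : X, IsRegularLocalRing ↑(X.presheaf.stalk x)) {U : X.Opens} (hU : IsAffineOpen U) :
    IsRegularRing Γ(X, U) := by
  haveI : IsNoetherianRing Γ(X, U) := IsLocallyNoetherian.component_noetherian ⟨U, hU⟩
  rw [isRegularRing_iff]
  intro p hp
  letI : Algebra Γ(X, U) (X.presheaf.stalk (hU.fromSpec ⟨p, hp⟩)) :=
    TopCat.Presheaf.algebra_section_stalk X.presheaf _
  haveI : IsLocalization.AtPrime (X.presheaf.stalk (hU.fromSpec ⟨p, hp⟩)) p :=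
    hU.isLocalization_stalk' ⟨p, hp⟩ (hU.isoSpec.inv _).2
  haveI := hX (hU.fromSpec ⟨p, hp⟩)
  exact IsRegularLocalRing.of_ringEquiv
    (IsLocalization.algEquiv p.primeCompl (X.presheaf.stalk (hU.fromSpec ⟨p, hp⟩))
      (Localization.AtPrime p)).toRingEquiv


end scheme

end Groth.Agent.Lib.Helper9.RegLCI
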