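import Mathlib
import Groth.Agent.Lib.Helper8.LCILocal
import Groth.Agent.Lib.Helper91.RegImmCompose
import Groth.Agent.Lib.Helper91.RegIdealTransport

/-!
# A regular sequence on a basic open of a polynomial ring gives a global regular sequence in one more
variable (helper9)

* `step2` : `I R_G = (l)` with `l` regular in `R_G` gives a regular sequence `(G X - 1, lifts)` in `R[X]`
  with quotient the localization of `R ⧸ I` at `G`
* `step3` : the same for `R = A[X_1..X_n]`, landing in `A[X_0..X_n]`, as `A`-algebras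
-/


set_option autoImplicit false
set_option linter.style.haveILetI false
universe u

open RingTheory.Sequence Polynomial

namespace Groth.Agent.Lib.Helper9.RegPoly

open Groth.Agent.Lib.Helper8.LCILocal

variable {R : Type u} [CommRing R]

theorem exists_lift_list {A B : Type*} (π : A → B) (hπ : Function.Surjective π) (l : List B) :
    ∃ l' : List A, l'.map π = l := List.map_surjective_iff.mpr hπ l

/-- ring-level step: a regular sequence generating `I` on `D(G)` gives a regular sequence in `R[X]`
whose quotient is the localization of `R ⧸ I` at `G` -/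
theorem step2 (I : Ideal R) (G : R) (l : List (Localization.Away G))
    (hl : IsRegular (Localization.Away G) l)
    (hI : I.map (algebraMap R (Localization.Away G)) = Ideal.ofList l) :
    ∃ (l' : List R[X]), IsRegular R[X] l' ∧
      ∃ ε : Localization.Away (Ideal.Quotient.mk I G) ≃+* R[X] ⧸ Ideal.ofList l',
        ∀ r : R, ε (algebraMap (R ⧸ I) _ (Ideal.Quotient.mk I r)) = Ideal.Quotient.mk _ (C r) := by
  obtain ⟨l₀, hl₀⟩ := exists_lift_list (piHom G) (piHom_surjective G) l
  have hz : (C G * X - 1 : R[X]) ∈ RingHom.ker (piHom G) := by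
    rw [ker_piHom]
    exact Ideal.subset_span (List.mem_singleton.mpr rfl)
  have hmap : ([C G * X - 1] ++ l₀).map (piHom G) = 0 :: l := by
    rw [List.map_append, hl₀, List.map_singleton, RingHom.mem_ker.mp hz]
    rfl
  have hmapI : (Ideal.ofList ([C G * X - 1] ++ l₀)).map (piHom G) = Ideal.ofList l := by
    rw [Ideal.map_ofList, hmap, Ideal.ofList_cons]
    simp
  have hw : IsWeaklyRegular R[X] ([C G * X - 1] ++ l₀) :=
    Groth.Agent.Lib.Helper91.RegImmCompose.isWeaklyRegular_append (piHom G) (piHom_surjective G)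
      [C G * X - 1] l₀ ((isWeaklyRegular_singleton_iff _ _).mpr (isSMulRegular_z G))
      (ker_piHom G) (by rw [hl₀]; exact hl.toIsWeaklyRegular)
  have hne : Ideal.ofList l ≠ ⊤ := by
    intro htop
    apply hl.top_ne_smul
    rw [htop]
    simp
  have hne' : Ideal.ofList ([C G * X - 1] ++ l₀) ≠ ⊤ := by
    intro htop
    apply hne
    rw [← hmapI, htop]
    exact Ideal.map_top _
  refine ⟨[C G * X - 1] ++ l₀, ⟨hw, ?_⟩, ?_⟩
  · intro h
    apply hne'
    have h2 : (Ideal.ofList ([C G * X - 1] ++ l₀) • ⊤ : Submodule R[X] R[X]) =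
        Ideal.ofList ([C G * X - 1] ++ l₀) := by simp
    rw [h2] at h
    exact h.symm
  · have hzJ : Ideal.span {(C G * X - 1 : R[X])} ≤ Ideal.ofList ([C G * X - 1] ++ l₀) := by
      rw [Ideal.span_le]
      rintro _ rfl
      exact Ideal.subset_span (List.mem_append_left _ (List.mem_singleton.mpr rfl))
    let g : Localization.Away G →+* R[X] ⧸ Ideal.ofList ([C G * X - 1] ++ l₀) :=
      (Ideal.Quotient.factor hzJ).comp
        ((Localization.awayEquivAdjoin G).toRingEquiv :
          Localization.Away G →+* AdjoinRoot (C G * X - 1))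
    have hg : ∀ p : R[X], g (piHom G p) = Ideal.Quotient.mk _ p := by
      intro p
      have h1 : (Localization.awayEquivAdjoin G) (piHom G p) = AdjoinRoot.mk (C G * X - 1) p := by
        simp [piHom]
      show (Ideal.Quotient.factor hzJ) ((Localization.awayEquivAdjoin G) (piHom G p)) = _
      rw [h1]
      rfl
    have hgsurj : Function.Surjective g := by
      intro c
      obtain ⟨p, rfl⟩ := Ideal.Quotient.mk_surjective c
      exact ⟨piHom G p, hg p⟩
    have hkill : Ideal.ofList l ≤ RingHom.ker g := by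
      rw [← hmapI, Ideal.map_le_iff_le_comap]
      intro p hp
      rw [Ideal.mem_comap, RingHom.mem_ker, hg]
      exact Ideal.Quotient.eq_zero_iff_mem.mpr hp
    have hvan : ∀ a ∈ I, ((Ideal.Quotient.mk (Ideal.ofList ([C G * X - 1] ++ l₀))).comp C) a = 0 := by
      intro a ha
      rw [RingHom.comp_apply, ← hg, piHom_C]
      have h1 : algebraMap R (Localization.Away G) a ∈ Ideal.ofList l :=
        hI ▸ Ideal.mem_map_of_mem _ ha
      exact RingHom.mem_ker.mp (hkill h1)
    letI : Algebra (R ⧸ I) (R[X] ⧸ Ideal.ofList ([C G * X - 1] ++ l₀)) :=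
      (Ideal.Quotient.lift I
        ((Ideal.Quotient.mk (Ideal.ofList ([C G * X - 1] ++ l₀))).comp C) hvan).toAlgebra
    have H : g.comp (algebraMap R (Localization.Away G)) =
        (algebraMap (R ⧸ I) (R[X] ⧸ Ideal.ofList ([C G * X - 1] ++ l₀))).comp
          (Ideal.Quotient.mk I) := by
      ext r
      rw [RingHom.comp_apply, ← piHom_C, hg]
      rfl
    have H' : RingHom.ker g ≤
        (RingHom.ker (Ideal.Quotient.mk I)).map (algebraMap R (Localization.Away G)) := by
      rw [Ideal.mk_ker, hI, ← hmapI]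
      intro t ht
      obtain ⟨p, rfl⟩ := piHom_surjective G t
      rw [RingHom.mem_ker, hg] at ht
      exact Ideal.mem_map_of_mem _ (Ideal.Quotient.eq_zero_iff_mem.mp ht)
    have hloc : IsLocalization ((Submonoid.powers G).map (Ideal.Quotient.mk I))
        (R[X] ⧸ Ideal.ofList ([C G * X - 1] ++ l₀)) :=
      IsLocalization.of_surjective (Submonoid.powers G) (Localization.Away G)
        (Ideal.Quotient.mk I) Ideal.Quotient.mk_surjective g hgsurj H H'
    rw [Submonoid.map_powers] at hloc
    haveI : IsLocalization.Away (Ideal.Quotient.mk I G)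
        (R[X] ⧸ Ideal.ofList ([C G * X - 1] ++ l₀)) := hloc
    let ε := IsLocalization.algEquiv (Submonoid.powers (Ideal.Quotient.mk I G))
      (Localization.Away (Ideal.Quotient.mk I G)) (R[X] ⧸ Ideal.ofList ([C G * X - 1] ++ l₀))
    refine ⟨ε.toRingEquiv, fun r => ?_⟩
    exact (ε.commutes (Ideal.Quotient.mk I r)).trans rfl

/-- transport to the polynomial ring in one more variable -/
theorem step3 (A : Type u) [CommRing A] (n : ℕ) (I : Ideal (MvPolynomial (Fin n) A))
    (G : MvPolynomial (Fin n) A) (l : List (Localization.Away G))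
    (hl : IsRegular (Localization.Away G) l)
    (hI : I.map (algebraMap (MvPolynomial (Fin n) A) (Localization.Away G)) = Ideal.ofList l) :
    ∃ (d : ℕ) (P : Fin d → MvPolynomial (Fin (n + 1)) A),
      IsRegular (MvPolynomial (Fin (n + 1)) A) (List.ofFn P) ∧
      Nonempty (Localization.Away (Ideal.Quotient.mk I G) ≃ₐ[A]
        (MvPolynomial (Fin (n + 1)) A ⧸ Ideal.ofList (List.ofFn P))) := by
  obtain ⟨l', hl', ε, hε⟩ := step2 I G l hl hI
  let e : MvPolynomial (Fin (n + 1)) A ≃ₐ[A] (MvPolynomial (Fin n) A)[X] :=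
    MvPolynomial.finSuccEquiv A n
  have hreg : IsRegular (MvPolynomial (Fin (n + 1)) A) (l'.map e.symm.toRingEquiv) :=
    Groth.Agent.Lib.Helper91.RegIdealTransport.isRegular_map_equiv e.symm.toRingEquiv l' hl'
  refine ⟨(l'.map e.symm.toRingEquiv).length, (l'.map e.symm.toRingEquiv).get, ?_, ?_⟩
  · rw [List.ofFn_get]
    exact hreg
  · rw [List.ofFn_get]
    let δ : (MvPolynomial (Fin n) A)[X] ⧸ Ideal.ofList l' ≃+*
        MvPolynomial (Fin (n + 1)) A ⧸ Ideal.ofList (l'.map e.symm.toRingEquiv) :=
      Ideal.quotientEquiv _ _ e.symm.toRingEquiv (by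
        rw [Ideal.map_ofList]
        rfl)
    refine ⟨AlgEquiv.ofRingEquiv (f := ε.trans δ) ?_⟩
    intro a
    have h1 : algebraMap A (Localization.Away (Ideal.Quotient.mk I G)) a =
        algebraMap (MvPolynomial (Fin n) A ⧸ I) _
          (Ideal.Quotient.mk I (MvPolynomial.C a)) := by
      rw [IsScalarTower.algebraMap_apply A (MvPolynomial (Fin n) A ⧸ I)]
      rfl
    rw [h1, RingEquiv.trans_apply, hε]
    show δ (Ideal.Quotient.mk _ (C (MvPolynomial.C a))) = _
    rw [Ideal.quotientEquiv_mk]
    have h2 : (C (MvPolynomial.C a) : (MvPolynomial (Fin n) A)[X]) =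
        algebraMap A (MvPolynomial (Fin n) A)[X] a := rfl
    rw [h2]
    have h3 : e.symm.toRingEquiv (algebraMap A (MvPolynomial (Fin n) A)[X] a) =
        algebraMap A (MvPolynomial (Fin (n + 1)) A) a := e.symm.commutes a
    rw [h3]
    rfl

end Groth.Agent.Lib.Helper9.RegPoly
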