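import Mathlib
import Groth.Prelude.Def_RegImm
import Groth.Agent.Lib.Helper91.KRegIdeal1
import Groth.Agent.Lib.Helper91.RegIdealTransport

/-!
# From a regular closed immersion of affine schemes to a regular sequence on a basic open (helper9)

* `step1`
-/


set_option autoImplicit false
set_option linter.style.haveILetI false
universe u

open CategoryTheory CategoryTheory.Limits AlgebraicGeometry TopologicalSpace Opposite
open RingTheory.Sequence

namespace Groth.Agent.Lib.Helper9.RegPolySch

open Groth.Agent.Lib.Helper91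

/-- scheme-to-ring step: a regular closed immersion `Spec (R ⧸ I) ⟶ Spec R` gives, around each prime,
a basic open `D(G)` on which `I` is generated by a regular sequence -/
theorem step1 (R : Type u) [CommRing R] (I : Ideal R)
    (h : RegImm.IsRegularImmersion RegImm.Kind.regular
      (Spec.map (CommRingCat.ofHom (Ideal.Quotient.mk I))))
    (q : PrimeSpectrum (R ⧸ I)) :
    ∃ G : R, Ideal.Quotient.mk I G ∉ q.asIdeal ∧ ∃ l : List (Localization.Away G),
      IsRegular (Localization.Away G) l ∧
        I.map (algebraMap R (Localization.Away G)) = Ideal.ofList l := by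
  set i := Spec.map (CommRingCat.ofHom (Ideal.Quotient.mk I)) with hi
  haveI : IsClosedImmersion i :=
    IsClosedImmersion.spec_of_surjective _ Ideal.Quotient.mk_surjective
  obtain ⟨U, hzU, hcl, rs, hrs, hker⟩ := h.2 q
  obtain ⟨G', hG'U, hzG'⟩ := (isAffineOpen_top (Spec (CommRingCat.of R))).exists_basicOpen_le
    (V := U.1) ⟨i q, hzU⟩ trivial
  obtain ⟨hcl₁, hseq, hker₁⟩ := KRegComp.shrink i .regular U hcl rs hrs hker
    ⟨_, (isAffineOpen_top (Spec (CommRingCat.of R))).basicOpen G'⟩ hG'U q hzG'
  haveI : IsClosedImmersion (i ∣_ (⟨⊤, isAffineOpen_top _⟩ :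
      (Spec (CommRingCat.of R)).affineOpens).1) :=
    IsZariskiLocalAtTarget.restrict ‹IsClosedImmersion i› _
  obtain ⟨-, hkerb⟩ := KRegIdeal.chart_basicOpen i ⟨⊤, isAffineOpen_top _⟩ G'
  let θ : Γ(Spec (CommRingCat.of R), ⊤) ≃+* R :=
    (Scheme.ΓSpecIso (CommRingCat.of R)).commRingCatIsoToRingEquiv
  haveI hlocG' : IsLocalization.Away G'
      Γ(Spec (CommRingCat.of R), (Spec (CommRingCat.of R)).basicOpen G') :=
    (isAffineOpen_top (Spec (CommRingCat.of R))).isLocalization_basicOpen G'
  letI algRT : Algebra R Γ(Spec (CommRingCat.of R), (Spec (CommRingCat.of R)).basicOpen G') :=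
    ((algebraMap Γ(Spec (CommRingCat.of R), ⊤)
      Γ(Spec (CommRingCat.of R), (Spec (CommRingCat.of R)).basicOpen G')).comp
        θ.symm.toRingHom).toAlgebra
  haveI hlocG : IsLocalization.Away (θ G')
      Γ(Spec (CommRingCat.of R), (Spec (CommRingCat.of R)).basicOpen G') := by
    have h1 := IsLocalization.isLocalization_of_base_ringEquiv (Submonoid.powers G')
      Γ(Spec (CommRingCat.of R), (Spec (CommRingCat.of R)).basicOpen G') θ
    have h2 : Submonoid.map θ (Submonoid.powers G') = Submonoid.powers (θ G') :=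
      Submonoid.map_powers _ _
    rw [h2] at h1
    exact h1
  let e : Localization.Away (θ G') ≃ₐ[R]
      Γ(Spec (CommRingCat.of R), (Spec (CommRingCat.of R)).basicOpen G') :=
    IsLocalization.algEquiv (Submonoid.powers (θ G')) _ _
  have hreg := RegIdealTransport.isRegular_map_equiv e.symm.toRingEquiv _ hseq
  refine ⟨θ G', ?_, _, hreg, ?_⟩
  · have h1 : i q ∈ (Spec (CommRingCat.of R)).basicOpen G' := hzG'
    rw [basicOpen_eq_of_affine'] at h1
    intro hmem
    exact (PrimeSpectrum.mem_basicOpen _ _).mp h1 hmem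
  · have hk : RingHom.ker (i.app ⊤).hom = I.comap θ := by
      ext a
      rw [RingHom.mem_ker, Ideal.mem_comap]
      have hinj : Function.Injective (Scheme.ΓSpecIso (CommRingCat.of (R ⧸ I))).hom.hom :=
        (ConcreteCategory.bijective_of_isIso (Scheme.ΓSpecIso (CommRingCat.of (R ⧸ I))).hom).1
      have h2 : (Scheme.ΓSpecIso (CommRingCat.of (R ⧸ I))).hom.hom ((i.app ⊤).hom a) =
          Ideal.Quotient.mk I (θ a) := by
        have := congr($(Scheme.ΓSpecIso_naturality (CommRingCat.ofHom (Ideal.Quotient.mk I))) a)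
        exact this
      constructor
      · intro h3
        have h4 : Ideal.Quotient.mk I (θ a) = 0 := by
          rw [← h2, h3]
          exact map_zero _
        exact Ideal.Quotient.eq_zero_iff_mem.mp h4
      · intro h3
        apply hinj
        have h5 : Ideal.Quotient.mk I (θ a) = 0 := Ideal.Quotient.eq_zero_iff_mem.mpr h3
        rw [h2, h5]
        exact (map_zero _).symm
    have hlist : Ideal.ofList (List.map (⇑e.symm.toRingEquiv)
        (List.map (⇑((Spec (CommRingCat.of R)).presheaf.map (homOfLE hG'U).op).hom) rs)) =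
        (Ideal.ofList (List.map
          (⇑((Spec (CommRingCat.of R)).presheaf.map (homOfLE hG'U).op).hom) rs)).map
          (e.symm.toRingEquiv : _ →+* Localization.Away (θ G')) := by
      rw [Ideal.map_ofList]
      rfl
    rw [hlist, ← hker₁]
    show _ = Ideal.map _ (RingHom.ker (i.app ((Spec (CommRingCat.of R)).basicOpen G')).hom)
    rw [hkerb]
    show _ = Ideal.map _ (Ideal.map _ (RingHom.ker (i.app ⊤).hom))
    rw [hk, ← Ideal.map_symm, Ideal.map_map]
    have hsymm : Ideal.map θ.symm I =
        Ideal.map (θ.symm : R →+* Γ(Spec (CommRingCat.of R), ⊤)) I := rfl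
    rw [hsymm, Ideal.map_map]
    congr 1
    ext r
    exact (e.symm.commutes r).symm

end Groth.Agent.Lib.Helper9.RegPolySch
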