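import Mathlib
import Groth.Agent.Lib.Helper9.AdicComplEquiv

/-! Smooth algebra with a section: completion along the section is a power series ring
(helper9). -/

set_option autoImplicit false

namespace Groth.Agent.Lib.Helper9.SmoothSectionCompl

open MvPolynomial

section Graded

variable {R : Type*} [CommRing R] {ι : Type*} (N : ℕ)

/-- image of `J^k` in `P/J^N` -/
noncomputable def jj (R : Type*) [CommRing R] (ι : Type*) (N k : ℕ) :
    Ideal (MvPolynomial ι R ⧸ (idealOfVars ι R) ^ N) :=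
  ((idealOfVars ι R) ^ k).map (Ideal.Quotient.mk _)

lemma jj_mul (k l : ℕ) : jj R ι N k * jj R ι N l = jj R ι N (k + l) := by
  unfold jj
  rw [← Ideal.map_mul, ← pow_add]

lemma jj_anti {k l : ℕ} (h : k ≤ l) : jj R ι N l ≤ jj R ι N k :=
  Ideal.map_mono (Ideal.pow_le_pow_right h)

lemma jj_zero : jj R ι N 0 = ⊤ := by
  unfold jj
  rw [pow_zero, Ideal.one_eq_top, Ideal.map_top]

lemma mk_mem_jj (k : ℕ) {a : MvPolynomial ι R} (ha : a ∈ (idealOfVars ι R) ^ k) :
    Ideal.Quotient.mk ((idealOfVars ι R) ^ N) a ∈ jj R ι N k :=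
  Ideal.mem_map_of_mem _ ha

lemma mem_of_mk_mem_jj {k : ℕ} (hk : k ≤ N) {a : MvPolynomial ι R}
    (ha : Ideal.Quotient.mk ((idealOfVars ι R) ^ N) a ∈ jj R ι N k) :
    a ∈ (idealOfVars ι R) ^ k := by
  unfold jj at ha
  rw [Ideal.mem_quotient_iff_mem_sup] at ha
  have : (idealOfVars ι R) ^ k ⊔ (idealOfVars ι R) ^ N = (idealOfVars ι R) ^ k :=
    sup_eq_left.2 (Ideal.pow_le_pow_right hk)
  rwa [this] at ha

variable (θ : MvPolynomial ι R →ₐ[R] (MvPolynomial ι R ⧸ (idealOfVars ι R) ^ N))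
  (hθ : ∀ i, θ (X i) - Ideal.Quotient.mk _ (X i) ∈ jj R ι N 2)

include hθ

lemma diff_mul (a b : MvPolynomial ι R) :
    θ (a * b) - Ideal.Quotient.mk ((idealOfVars ι R) ^ N) (a * b) =
      θ a * (θ b - Ideal.Quotient.mk _ b) + (θ a - Ideal.Quotient.mk _ a) * Ideal.Quotient.mk _ b := by
  rw [map_mul, map_mul]; ring

omit hθ in
lemma X_mem (i : ι) : Ideal.Quotient.mk ((idealOfVars ι R) ^ N) (X i) ∈ jj R ι N 1 := by
  apply mk_mem_jj
  rw [pow_one]
  exact Ideal.subset_span ⟨i, rfl⟩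

lemma diff_mem_one (a : MvPolynomial ι R) :
    θ a - Ideal.Quotient.mk ((idealOfVars ι R) ^ N) a ∈ jj R ι N 1 := by
  induction a using MvPolynomial.induction_on with
  | C r =>
    have : θ (C r) = Ideal.Quotient.mk ((idealOfVars ι R) ^ N) (C r) := by
      rw [← MvPolynomial.algebraMap_eq, AlgHom.commutes]; rfl
    rw [this, sub_self]; exact Ideal.zero_mem _
  | add p q hp hq =>
    have : θ (p + q) - Ideal.Quotient.mk ((idealOfVars ι R) ^ N) (p + q) =
        (θ p - Ideal.Quotient.mk _ p) + (θ q - Ideal.Quotient.mk _ q) := by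
      rw [map_add, map_add]; ring
    rw [this]; exact Ideal.add_mem _ hp hq
  | mul_X p i hp =>
    rw [diff_mul N θ hθ]
    refine Ideal.add_mem _ (Ideal.mul_mem_left _ _ (jj_anti N (by norm_num) (hθ i))) ?_
    exact Ideal.mul_mem_left _ _ (X_mem N i)

lemma diff_mem_two {v : MvPolynomial ι R} (hv : v ∈ idealOfVars ι R) :
    θ v - Ideal.Quotient.mk ((idealOfVars ι R) ^ N) v ∈ jj R ι N 2 ∧ θ v ∈ jj R ι N 1 := by
  have key : ∀ v ∈ idealOfVars ι R,
      θ v - Ideal.Quotient.mk ((idealOfVars ι R) ^ N) v ∈ jj R ι N 2 := by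
    intro v hv
    refine Submodule.span_induction ?_ ?_ ?_ ?_ hv
    · rintro _ ⟨i, rfl⟩
      exact hθ i
    · simp
    · intro x y _ _ hx hy
      have : θ (x + y) - Ideal.Quotient.mk ((idealOfVars ι R) ^ N) (x + y) =
          (θ x - Ideal.Quotient.mk _ x) + (θ y - Ideal.Quotient.mk _ y) := by
        rw [map_add, map_add]; ring
      rw [this]; exact Ideal.add_mem _ hx hy
    · intro a x hx' hx
      rw [smul_eq_mul, diff_mul N θ hθ]
      refine Ideal.add_mem _ (Ideal.mul_mem_left _ _ hx) ?_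
      have h1 := diff_mem_one N θ hθ a
      have h2 : Ideal.Quotient.mk ((idealOfVars ι R) ^ N) x ∈ jj R ι N 1 :=
        mk_mem_jj N 1 (by rwa [pow_one])
      have := Ideal.mul_mem_mul h1 h2
      rwa [jj_mul] at this
  refine ⟨key v hv, ?_⟩
  have h2 : Ideal.Quotient.mk ((idealOfVars ι R) ^ N) v ∈ jj R ι N 1 :=
    mk_mem_jj N 1 (by rwa [pow_one])
  have : θ v = (θ v - Ideal.Quotient.mk ((idealOfVars ι R) ^ N) v) + Ideal.Quotient.mk _ v := by ring
  rw [this]
  exact Ideal.add_mem _ (jj_anti N (by norm_num) (key v hv)) h2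

lemma diff_mem_succ (k : ℕ) : ∀ a ∈ (idealOfVars ι R) ^ k,
    θ a - Ideal.Quotient.mk ((idealOfVars ι R) ^ N) a ∈ jj R ι N (k + 1) ∧ θ a ∈ jj R ι N k := by
  induction k with
  | zero =>
    intro a _
    refine ⟨diff_mem_one N θ hθ a, ?_⟩
    rw [jj_zero]; trivial
  | succ k ih =>
    intro a ha
    rw [pow_succ] at ha
    refine Submodule.mul_induction_on ha ?_ ?_
    · intro u hu v hv
      obtain ⟨hu1, hu2⟩ := ih u hu
      obtain ⟨hv1, hv2⟩ := diff_mem_two N θ hθ hv
      constructor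
      · rw [diff_mul N θ hθ]
        refine Ideal.add_mem _ ?_ ?_
        · have := Ideal.mul_mem_mul hu2 hv1
          rw [jj_mul] at this
          exact this
        · have h2 : Ideal.Quotient.mk ((idealOfVars ι R) ^ N) v ∈ jj R ι N 1 :=
            mk_mem_jj N 1 (by rwa [pow_one])
          have := Ideal.mul_mem_mul hu1 h2
          rw [jj_mul] at this
          exact this
      · rw [map_mul]
        have := Ideal.mul_mem_mul hu2 hv2
        rwa [jj_mul] at this
    · intro x y hx hy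
      constructor
      · have : θ (x + y) - Ideal.Quotient.mk ((idealOfVars ι R) ^ N) (x + y) =
            (θ x - Ideal.Quotient.mk _ x) + (θ y - Ideal.Quotient.mk _ y) := by
          rw [map_add, map_add]; ring
        rw [this]; exact Ideal.add_mem _ hx.1 hy.1
      · rw [map_add]; exact Ideal.add_mem _ hx.2 hy.2

/-- The graded argument: `θ a ∈ 𝔧_k` forces `a ∈ J^k` for `k ≤ N`. -/
theorem mem_pow_of_theta_mem {k : ℕ} (hk : k ≤ N) (a : MvPolynomial ι R)
    (ha : θ a ∈ jj R ι N k) : a ∈ (idealOfVars ι R) ^ k := by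
  have : ∀ j, j ≤ k → a ∈ (idealOfVars ι R) ^ j := by
    intro j
    induction j with
    | zero => intro _; simp
    | succ j ih =>
      intro hj
      have haj := ih (by omega)
      obtain ⟨h1, _⟩ := diff_mem_succ N θ hθ j a haj
      have h2 : θ a ∈ jj R ι N (j + 1) := jj_anti N hj ha
      have h3 : Ideal.Quotient.mk ((idealOfVars ι R) ^ N) a ∈ jj R ι N (j + 1) := by
        have : Ideal.Quotient.mk ((idealOfVars ι R) ^ N) a =
            θ a - (θ a - Ideal.Quotient.mk ((idealOfVars ι R) ^ N) a) := by ring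
        rw [this]
        exact Ideal.sub_mem _ h2 h1
      exact mem_of_mk_mem_jj N (by omega) h3
  exact this k le_rfl

end Graded

section Sec

variable {R S : Type*} [CommRing R] [CommRing S] [Algebra R S] (σ : S →ₐ[R] R)

/-- kernel of the section -/
abbrev kerI : Ideal S := RingHom.ker σ.toRingHom

lemma mem_kerI {b : S} : b ∈ kerI σ ↔ σ b = 0 := by
  rw [kerI, RingHom.mem_ker]; rfl

lemma sub_mem (b : S) : b - algebraMap R S (σ b) ∈ kerI σ := by
  rw [mem_kerI, map_sub, AlgHom.commutes]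
  simp

/-- the universal derivation `b ↦ [b - σ b]` into `I/I²` -/
noncomputable def dsec : S →ₗ[R] (kerI σ).Cotangent where
  toFun b := (kerI σ).toCotangent ⟨b - algebraMap R S (σ b), sub_mem σ b⟩
  map_add' a b := by
    rw [← map_add]; congr 1; ext
    simp only [map_add, Submodule.coe_add]
    ring
  map_smul' r b := by
    simp only [RingHom.id_apply]
    rw [← LinearMap.map_smul_of_tower]; congr 1; ext
    simp only [map_smul, smul_eq_mul, Submodule.coe_smul_of_tower, Algebra.smul_def, map_mul,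
      AlgHom.commutes, Algebra.algebraMap_self, RingHom.id_apply]
    ring

lemma dsec_apply (b : S) :
    dsec σ b = (kerI σ).toCotangent ⟨b - algebraMap R S (σ b), sub_mem σ b⟩ := rfl

lemma dsec_of_mem {y : S} (hy : y ∈ kerI σ) : dsec σ y = (kerI σ).toCotangent ⟨y, hy⟩ := by
  rw [dsec_apply]; congr 1; ext
  simp only
  rw [(mem_kerI σ).1 hy, map_zero, sub_zero]

lemma dsec_mul (a b : S) : dsec σ (a * b) = σ a • dsec σ b + σ b • dsec σ a := by
  simp only [dsec_apply]
  have h2 : (a - algebraMap R S (σ a)) * (b - algebraMap R S (σ b)) ∈ kerI σ ^ 2 := by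
    rw [pow_two]; exact Ideal.mul_mem_mul (sub_mem σ a) (sub_mem σ b)
  have h2' : (a - algebraMap R S (σ a)) * (b - algebraMap R S (σ b)) ∈ kerI σ :=
    Ideal.mul_mem_left _ _ (sub_mem σ b)
  have hz : (kerI σ).toCotangent ⟨_, h2'⟩ = 0 := by
    rw [Ideal.toCotangent_eq_zero]; exact h2
  rw [← LinearMap.map_smul_of_tower, ← LinearMap.map_smul_of_tower, ← map_add,
    ← add_zero ((kerI σ).toCotangent (_ + _)), ← hz, ← map_add]
  congr 1; ext
  simp only [map_mul, Submodule.coe_add, Submodule.coe_smul_of_tower, Algebra.smul_def]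
  ring

variable {d : ℕ} (e : (kerI σ).Cotangent ≃ₗ[R] (Fin d → R))

/-- the linear map `I/I² → P/J²`, `m ↦ Σ e(m)_i X_i` -/
noncomputable def lam : (kerI σ).Cotangent →ₗ[R]
    (MvPolynomial (Fin d) R ⧸ idealOfVars (Fin d) R ^ 2) :=
  (Fintype.linearCombination R
    (fun i : Fin d => Ideal.Quotient.mk (idealOfVars (Fin d) R ^ 2) (X i))) ∘ₗ e.toLinearMap

lemma lam_apply (m : (kerI σ).Cotangent) :
    lam σ e m = ∑ i, e m i • Ideal.Quotient.mk (idealOfVars (Fin d) R ^ 2) (X i) := by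
  simp [lam, Fintype.linearCombination_apply]

lemma lam_mul_lam (m m' : (kerI σ).Cotangent) : lam σ e m * lam σ e m' = 0 := by
  rw [lam_apply, lam_apply, Finset.sum_mul_sum]
  refine Finset.sum_eq_zero (fun i _ => Finset.sum_eq_zero (fun j _ => ?_))
  rw [smul_mul_smul_comm, ← map_mul]
  have : (X i * X j : MvPolynomial (Fin d) R) ∈ idealOfVars (Fin d) R ^ 2 := by
    rw [pow_two]
    exact Ideal.mul_mem_mul (Ideal.subset_span ⟨i, rfl⟩) (Ideal.subset_span ⟨j, rfl⟩)
  rw [Ideal.Quotient.eq_zero_iff_mem.2 this, smul_zero]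

lemma lam_mem (m : (kerI σ).Cotangent) : lam σ e m ∈ jj R (Fin d) 2 1 := by
  rw [lam_apply]
  refine Ideal.sum_mem _ (fun i _ => ?_)
  exact Submodule.smul_of_tower_mem _ _ (X_mem 2 i)

/-- the level-two retraction `S → P/J²` -/
noncomputable def psi2 : S →ₐ[R] (MvPolynomial (Fin d) R ⧸ idealOfVars (Fin d) R ^ 2) :=
  AlgHom.ofLinearMap
    ((Algebra.linearMap R _) ∘ₗ σ.toLinearMap + (lam σ e) ∘ₗ (dsec σ))
    (by
      simp only [LinearMap.add_apply, LinearMap.comp_apply, AlgHom.toLinearMap_apply, map_one,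
        Algebra.linearMap_apply]
      have : dsec σ 1 = 0 := by
        rw [dsec_apply]
        have : (⟨1 - algebraMap R S (σ 1), sub_mem σ 1⟩ : kerI σ) = 0 := by
          ext; simp
        rw [this, map_zero]
      rw [this, map_zero, add_zero])
    (by
      intro a b
      simp only [LinearMap.add_apply, LinearMap.comp_apply, AlgHom.toLinearMap_apply, map_mul,
        Algebra.linearMap_apply]
      rw [dsec_mul, map_add, map_smul, map_smul]
      have := lam_mul_lam σ e (dsec σ a) (dsec σ b)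
      simp only [Algebra.smul_def]
      linear_combination -this)

lemma psi2_apply (b : S) :
    psi2 σ e b = algebraMap R _ (σ b) + lam σ e (dsec σ b) := rfl

lemma psi2_of_mem {y : S} (hy : y ∈ kerI σ) : psi2 σ e y = lam σ e (dsec σ y) := by
  rw [psi2_apply, (mem_kerI σ).1 hy, map_zero, zero_add]

/-- chosen lifts of the basis of `I/I²` -/
noncomputable def sLift (i : Fin d) : kerI σ :=
  ((kerI σ).toCotangent_surjective (e.symm (Pi.single i 1))).choose

lemma sLift_spec (i : Fin d) : (kerI σ).toCotangent (sLift σ e i) = e.symm (Pi.single i 1) :=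
  ((kerI σ).toCotangent_surjective (e.symm (Pi.single i 1))).choose_spec

/-- the comparison map `P → S` -/
noncomputable def Phi : MvPolynomial (Fin d) R →ₐ[R] S :=
  MvPolynomial.aeval (fun i => (sLift σ e i : S))

lemma Phi_X (i : Fin d) : Phi σ e (X i) = (sLift σ e i : S) := by
  simp [Phi]

lemma Phi_le : idealOfVars (Fin d) R ≤ (kerI σ).comap (Phi σ e) := by
  rw [idealOfVars, Ideal.span_le]
  rintro _ ⟨i, rfl⟩
  simp only [SetLike.mem_coe, Ideal.mem_comap]
  rw [Phi_X]
  exact (sLift σ e i).2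

lemma Phi_mem_pow (n : ℕ) {a : MvPolynomial (Fin d) R} (ha : a ∈ idealOfVars (Fin d) R ^ n) :
    Phi σ e a ∈ kerI σ ^ n :=
  AdicComplEquiv.pow_le_comap _ _ (Phi σ e) (Phi_le σ e) n ha

lemma toCotangent_sum_smul (r : Fin d → R) :
    e ((kerI σ).toCotangent (∑ i, r i • sLift σ e i)) = r := by
  rw [map_sum]
  simp_rw [LinearMap.map_smul_of_tower, sLift_spec]
  rw [map_sum]
  simp_rw [map_smul, LinearEquiv.apply_symm_apply]
  ext j
  simp [Finset.sum_apply, Pi.single_apply]

lemma exists_sub_mem_sq {v : S} (hv : v ∈ kerI σ) :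
    ∃ a ∈ idealOfVars (Fin d) R, v - Phi σ e a ∈ kerI σ ^ 2 := by
  let r : Fin d → R := e ((kerI σ).toCotangent ⟨v, hv⟩)
  refine ⟨∑ i, C (r i) * X i, ?_, ?_⟩
  · refine Ideal.sum_mem _ (fun i _ => Ideal.mul_mem_left _ _ (Ideal.subset_span ⟨i, rfl⟩))
  · have h1 : Phi σ e (∑ i, C (r i) * X i) = ((∑ i, r i • sLift σ e i : kerI σ) : S) := by
      rw [map_sum]
      push_cast
      refine Finset.sum_congr rfl (fun i _ => ?_)
      rw [map_mul, Phi_X, Algebra.smul_def]
      congr 1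
      simp [Phi]
    have h2 : v - Phi σ e (∑ i, C (r i) * X i) =
        ((⟨v, hv⟩ - ∑ i, r i • sLift σ e i : kerI σ) : S) := by
      rw [h1]; rfl
    rw [h2, ← Ideal.toCotangent_eq_zero, map_sub, sub_eq_zero]
    apply e.injective
    rw [toCotangent_sum_smul]

lemma exists_sub_mem_succ (n : ℕ) : ∀ y ∈ kerI σ ^ n,
    ∃ a ∈ idealOfVars (Fin d) R ^ n, y - Phi σ e a ∈ kerI σ ^ (n + 1) := by
  induction n with
  | zero =>
    intro y _
    refine ⟨C (σ y), by simp, ?_⟩
    rw [zero_add, pow_one]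
    have : Phi σ e (C (σ y)) = algebraMap R S (σ y) := by simp [Phi]
    rw [this]
    exact sub_mem σ y
  | succ n ih =>
    intro y hy
    rw [pow_succ] at hy
    refine Submodule.mul_induction_on hy ?_ ?_
    · intro u hu v hv
      obtain ⟨au, hau, hu'⟩ := ih u hu
      obtain ⟨av, hav, hv'⟩ := exists_sub_mem_sq σ e hv
      refine ⟨au * av, ?_, ?_⟩
      · rw [pow_succ]; exact Ideal.mul_mem_mul hau hav
      · have : u * v - Phi σ e (au * av) =
            u * (v - Phi σ e av) + (u - Phi σ e au) * Phi σ e av := by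
          rw [map_mul]; ring
        rw [this]
        refine Ideal.add_mem _ ?_ ?_
        · have := Ideal.mul_mem_mul hu hv'
          rwa [← pow_add] at this
        · have h3 : Phi σ e av ∈ kerI σ := Phi_le σ e hav
          have := Ideal.mul_mem_mul hu' h3
          rwa [← pow_succ] at this
    · rintro x y ⟨ax, hax, hx⟩ ⟨ay, hay, hy⟩
      refine ⟨ax + ay, Ideal.add_mem _ hax hay, ?_⟩
      have : x + y - Phi σ e (ax + ay) = (x - Phi σ e ax) + (y - Phi σ e ay) := by
        rw [map_add]; ring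
      rw [this]; exact Ideal.add_mem _ hx hy

lemma Phi_surj (n : ℕ) (b : S) : ∃ a, b - Phi σ e a ∈ kerI σ ^ n := by
  induction n with
  | zero => exact ⟨0, by simp⟩
  | succ n ih =>
    obtain ⟨a, ha⟩ := ih
    obtain ⟨a', _, ha'⟩ := exists_sub_mem_succ σ e n _ ha
    refine ⟨a + a', ?_⟩
    have : b - Phi σ e (a + a') = b - Phi σ e a - Phi σ e a' := by rw [map_add]; ring
    rw [this]; exact ha'

/-- the transition `P/J^(k+2) → P/J²` -/
noncomputable def fac (R : Type*) [CommRing R] (d k : ℕ) :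
    (MvPolynomial (Fin d) R ⧸ idealOfVars (Fin d) R ^ (k + 2)) →ₐ[R]
      (MvPolynomial (Fin d) R ⧸ idealOfVars (Fin d) R ^ 2) :=
  Ideal.Quotient.factorₐ R (Ideal.pow_le_pow_right (by omega))

lemma fac_mk (k : ℕ) (a : MvPolynomial (Fin d) R) :
    fac R d k (Ideal.Quotient.mk _ a) = Ideal.Quotient.mk _ a := rfl

lemma fac_surj (k : ℕ) : Function.Surjective (fac R d k) := by
  intro y
  obtain ⟨a, rfl⟩ := Ideal.Quotient.mk_surjective y
  exact ⟨Ideal.Quotient.mk _ a, rfl⟩

lemma fac_ker (k : ℕ) : RingHom.ker (fac R d k).toRingHom = jj R (Fin d) (k + 2) 2 := by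
  ext x
  obtain ⟨a, rfl⟩ := Ideal.Quotient.mk_surjective x
  rw [RingHom.mem_ker]
  change Ideal.Quotient.mk _ a = 0 ↔ _
  rw [Ideal.Quotient.eq_zero_iff_mem]
  constructor
  · intro h; exact mk_mem_jj _ 2 h
  · intro h; exact mem_of_mk_mem_jj _ (by omega) h

lemma jj_self (N : ℕ) : jj R (Fin d) N N = ⊥ := by
  unfold jj
  exact Ideal.map_quotient_self _

lemma jj_one_pow (N k : ℕ) : (jj R (Fin d) N 1) ^ k = jj R (Fin d) N k := by
  unfold jj
  rw [← Ideal.map_pow, pow_one]

lemma fac_ker_nilp (k : ℕ) : IsNilpotent (RingHom.ker (fac R d k).toRingHom) := by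
  refine ⟨k + 2, ?_⟩
  rw [fac_ker, Ideal.zero_eq_bot, eq_bot_iff, ← jj_self (R := R) (d := d) (k + 2)]
  calc jj R (Fin d) (k + 2) 2 ^ (k + 2) ≤ jj R (Fin d) (k + 2) 1 ^ (k + 2) :=
        Ideal.pow_right_mono (jj_anti _ (by norm_num)) _
    _ = jj R (Fin d) (k + 2) (k + 2) := jj_one_pow _ _

variable [Algebra.FormallySmooth R S]

/-- the level-`k+2` retraction -/
noncomputable def psiN (k : ℕ) : S →ₐ[R] (MvPolynomial (Fin d) R ⧸ idealOfVars (Fin d) R ^ (k + 2)) :=
  Algebra.FormallySmooth.liftOfSurjective (psi2 σ e) (fac R d k) (fac_surj k) (fac_ker_nilp k)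

lemma fac_psiN (k : ℕ) (b : S) : fac R d k (psiN σ e k b) = psi2 σ e b :=
  Algebra.FormallySmooth.liftOfSurjective_apply _ _ _ _ b

omit [Algebra.FormallySmooth R S] in
lemma psi2_sLift (i : Fin d) :
    psi2 σ e (sLift σ e i : S) = Ideal.Quotient.mk _ (X i) := by
  rw [psi2_of_mem σ e (sLift σ e i).2, dsec_of_mem σ (sLift σ e i).2]
  have : (⟨(sLift σ e i : S), (sLift σ e i).2⟩ : kerI σ) = sLift σ e i := rfl
  rw [this, sLift_spec, lam_apply]
  simp [Pi.single_apply]

lemma psiN_theta (k : ℕ) (i : Fin d) :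
    ((psiN σ e k).comp (Phi σ e)) (X i) - Ideal.Quotient.mk _ (X i) ∈ jj R (Fin d) (k + 2) 2 := by
  rw [← fac_ker, RingHom.mem_ker]
  change fac R d k _ = 0
  rw [map_sub, AlgHom.comp_apply, fac_psiN, Phi_X, psi2_sLift, fac_mk, sub_self]

lemma psiN_mem_one (k : ℕ) {y : S} (hy : y ∈ kerI σ) : psiN σ e k y ∈ jj R (Fin d) (k + 2) 1 := by
  have h1 : fac R d k (psiN σ e k y) ∈ jj R (Fin d) 2 1 := by
    rw [fac_psiN, psi2_of_mem σ e hy]; exact lam_mem σ e _
  obtain ⟨a, ha⟩ := Ideal.Quotient.mk_surjective (psiN σ e k y)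
  rw [← ha] at h1 ⊢
  rw [fac_mk] at h1
  exact mk_mem_jj _ 1 (mem_of_mk_mem_jj 2 (by norm_num) h1)

lemma psiN_mem_pow (k n : ℕ) {y : S} (hy : y ∈ kerI σ ^ n) :
    psiN σ e k y ∈ jj R (Fin d) (k + 2) n := by
  have h1 : (kerI σ).map (psiN σ e k) ≤ jj R (Fin d) (k + 2) 1 := by
    rw [Ideal.map_le_iff_le_comap]
    intro y hy
    exact psiN_mem_one σ e k hy
  have h2 : (kerI σ ^ n).map (psiN σ e k) ≤ jj R (Fin d) (k + 2) n := by
    rw [Ideal.map_pow, ← jj_one_pow]
    exact Ideal.pow_right_mono h1 n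
  exact h2 (Ideal.mem_map_of_mem _ hy)

lemma Phi_inj (n : ℕ) (a : MvPolynomial (Fin d) R) (ha : Phi σ e a ∈ kerI σ ^ n) :
    a ∈ idealOfVars (Fin d) R ^ n := by
  refine mem_pow_of_theta_mem (n + 2) ((psiN σ e n).comp (Phi σ e)) (psiN_theta σ e n)
    (by omega) a ?_
  rw [AlgHom.comp_apply]
  exact psiN_mem_pow σ e n n ha

include e in
theorem nonempty_algEquiv :
    Nonempty (AdicCompletion (kerI σ) S ≃ₐ[R] MvPowerSeries (Fin d) R) := by
  obtain ⟨E⟩ := AdicComplEquiv.exists_algEquiv (idealOfVars (Fin d) R) (kerI σ) (Phi σ e)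
    (Phi_le σ e) (Phi_inj σ e) (Phi_surj σ e)
  exact ⟨E.symm.trans ((MvPowerSeries.toAdicCompletionAlgEquiv (Fin d) R).restrictScalars R).symm⟩

end Sec

end Groth.Agent.Lib.Helper9.SmoothSectionCompl
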