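import Mathlib

/-!
# Splitting covers for standard étale algebras

* `exists_splitting`: for a monic polynomial `f` over `R` there is a finite, finitely presented,
  faithfully flat `R`-algebra over which `f` splits into linear factors.
* `exists_cover`: Stacks-type lemma: for a standard étale `R`-algebra `S` the splitting algebra
  `S'` of `f` dominates `S` Zariski-locally, compatibly with prescribed primes.
-/

namespace Groth.Agent.Lib.Helper9.SplitCover

open Polynomial

universe u

theorem finitePresentation_adjoinRoot {R : Type u} [CommRing R] (f : R[X]) :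
    Algebra.FinitePresentation R (AdjoinRoot f) :=
  (inferInstance : Algebra.FinitePresentation R R[X]).quotient
    (Submodule.fg_span (Set.finite_singleton f))

/-- Splitting algebra of a monic polynomial. -/
theorem exists_splitting : ∀ (n : ℕ) (R : Type u) [CommRing R] (f : R[X]), f.Monic →
    f.natDegree = n →
    ∃ (S' : Type u) (_ : CommRing S') (_ : Algebra R S'),
      Module.Finite R S' ∧ Algebra.FinitePresentation R S' ∧ Module.FaithfullyFlat R S' ∧
        ∃ α : Fin n → S', f.map (algebraMap R S') = ∏ i, (X - C (α i)) := by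
  intro n
  induction n with
  | zero =>
    intro R _ f hf hdeg
    refine ⟨R, inferInstance, inferInstance, inferInstance, inferInstance, inferInstance,
      Fin.elim0, ?_⟩
    rw [eq_one_of_monic_natDegree_zero hf hdeg]
    simp
  | succ n ih =>
    intro R _ f hf hdeg
    rcases subsingleton_or_nontrivial R with hR | hR
    · exact ⟨R, inferInstance, inferInstance, inferInstance, inferInstance, inferInstance,
        fun _ => 0, Subsingleton.elim _ _⟩
    haveI := hf.finite_adjoinRoot
    haveI := hf.free_adjoinRoot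
    haveI := finitePresentation_adjoinRoot f
    have hpu : ¬ IsUnit f := fun h => by
      rw [hf.eq_one_of_isUnit h, natDegree_one] at hdeg
      exact Nat.succ_ne_zero n hdeg.symm
    haveI : Nontrivial (AdjoinRoot f) := Ideal.Quotient.nontrivial_iff.mpr (by simpa)
    haveI : Module.FaithfullyFlat R (AdjoinRoot f) := inferInstance
    set r₀ : AdjoinRoot f := AdjoinRoot.root f with hr₀
    set f' : (AdjoinRoot f)[X] := f.map (AdjoinRoot.of f) with hf'
    have hf'm : f'.Monic := hf.map _
    have hroot : f'.IsRoot r₀ := by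
      rw [IsRoot, hf', eval_map]
      exact AdjoinRoot.eval₂_root f
    set f₁ : (AdjoinRoot f)[X] := f' /ₘ (X - C r₀) with hf₁
    have hmul : (X - C r₀) * f₁ = f' := mul_divByMonic_eq_iff_isRoot.mpr hroot
    have hf₁m : f₁.Monic := (monic_X_sub_C r₀).of_mul_monic_left (hmul ▸ hf'm)
    have hf₁d : f₁.natDegree = n := by
      rw [hf₁, natDegree_divByMonic _ (monic_X_sub_C r₀), natDegree_X_sub_C, hf', hf.natDegree_map,
        hdeg, Nat.add_sub_cancel]
    obtain ⟨S', _, _, hfin, hfp, hff, α', hα'⟩ := ih (AdjoinRoot f) f₁ hf₁m hf₁d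
    letI : Algebra R S' := ((algebraMap (AdjoinRoot f) S').comp (algebraMap R (AdjoinRoot f))).toAlgebra
    haveI : IsScalarTower R (AdjoinRoot f) S' := IsScalarTower.of_algebraMap_eq (fun _ => rfl)
    refine ⟨S', inferInstance, inferInstance, Module.Finite.trans (AdjoinRoot f) S',
      Algebra.FinitePresentation.trans R (AdjoinRoot f) S',
      Module.FaithfullyFlat.trans R (AdjoinRoot f) S',
      Fin.cons (algebraMap (AdjoinRoot f) S' r₀) α', ?_⟩
    rw [Fin.prod_univ_succ]
    simp only [Fin.cons_zero, Fin.cons_succ]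
    rw [← hα', IsScalarTower.algebraMap_eq R (AdjoinRoot f) S', ← Polynomial.map_map]
    change f'.map _ = _
    rw [← hmul, Polynomial.map_mul, Polynomial.map_sub, map_X, map_C]

/-- The product of the values of `p` at the roots of a split monic `f` is the resultant. -/
theorem prod_aeval_eq_resultant {R S' : Type u} [CommRing R] [CommRing S'] [Nontrivial S']
    [Algebra R S'] (f p : R[X]) (hf : f.Monic) (α : Fin f.natDegree → S')
    (hα : f.map (algebraMap R S') = ∏ i, (X - C (α i))) :
    algebraMap R S' (resultant f p f.natDegree p.natDegree) = ∏ i, aeval (α i) p := by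
  rw [← resultant_map_map]
  have hdeg : (f.map (algebraMap R S')).natDegree = f.natDegree := hf.natDegree_map _
  have hlc : ∏ i ∈ (Finset.univ : Finset (Fin f.natDegree)), (X - C (α i)).leadingCoeff ≠ 0 := by
    simp
  have key := resultant_prod_left (Finset.univ : Finset (Fin f.natDegree))
    (fun i => (X - C (α i) : S'[X])) (p.map (algebraMap R S')) p.natDegree hlc natDegree_map_le
  rw [← hα, hdeg] at key
  rw [key]
  refine Finset.prod_congr rfl (fun i _ => ?_)
  rw [natDegree_X_sub_C, resultant_X_sub_C_left _ _ _ natDegree_map_le, eval_map, aeval_def]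

/-- Key lemma: some root `α i` of `f` in `S'` has the same vanishing ideal (mod `q'`) as the
generator `x` of the standard étale algebra `S` (mod `q`). -/
theorem exists_root_matching {R S S' : Type u} [CommRing R] [CommRing S] [CommRing S']
    [Algebra R S] [Algebra R S'] (f : R[X]) (hf : f.Monic) (x : S) (hfx : aeval x f = 0)
    (α : Fin f.natDegree → S')
    (hα : f.map (algebraMap R S') = ∏ i, (X - C (α i)))
    (q : Ideal S) [q.IsPrime] (q' : Ideal S') [q'.IsPrime] (hqq' : q'.under R = q.under R) :
    ∃ i, ∀ p : R[X], aeval x p ∈ q ↔ aeval (α i) p ∈ q' := by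
  classical
  haveI : Nontrivial S' := ⟨⟨0, 1, fun h => (inferInstance : q'.IsPrime).ne_top
    ((Ideal.eq_top_iff_one _).mpr (h ▸ q'.zero_mem))⟩⟩
  have hn : f.natDegree ≠ 0 := by
    intro h0
    rw [eq_one_of_monic_natDegree_zero hf h0, map_one] at hfx
    exact (inferInstance : q.IsPrime).ne_top ((Ideal.eq_top_iff_one _).mpr (hfx ▸ q.zero_mem))
  have hroot : ∀ i, aeval (α i) f = 0 := by
    intro i
    rw [aeval_def, ← eval_map, hα, eval_prod]
    exact Finset.prod_eq_zero (Finset.mem_univ i) (by simp)
  haveI := hf.finite_adjoinRoot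
  haveI : Algebra.IsIntegral R (AdjoinRoot f) := Algebra.IsIntegral.of_finite R _
  let a : AdjoinRoot f →ₐ[R] S := AdjoinRoot.liftAlgHom f (Algebra.ofId R S) x hfx
  let b : Fin f.natDegree → (AdjoinRoot f →ₐ[R] S') := fun i =>
    AdjoinRoot.liftAlgHom f (Algebra.ofId R S') (α i) (hroot i)
  have ha : ∀ p : R[X], a (AdjoinRoot.mk f p) = aeval x p := fun p =>
    AdjoinRoot.liftAlgHom_mk _ _ _ _ _
  have hb : ∀ i, ∀ p : R[X], b i (AdjoinRoot.mk f p) = aeval (α i) p := fun i p =>
    AdjoinRoot.liftAlgHom_mk _ _ _ _ _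
  let 𝔞 : Ideal (AdjoinRoot f) := q.comap a
  let 𝔟 : Fin f.natDegree → Ideal (AdjoinRoot f) := fun i => q'.comap (b i)
  haveI : 𝔞.IsPrime := Ideal.comap_isPrime a q
  haveI h𝔟 : ∀ i, (𝔟 i).IsPrime := fun i => Ideal.comap_isPrime (b i) q'
  have h𝔞R : 𝔞.comap (algebraMap R (AdjoinRoot f)) = q.under R := by
    ext r
    simp only [𝔞, Ideal.mem_comap, Ideal.under_def, AlgHom.commutes]
  have h𝔟R : ∀ i, (𝔟 i).comap (algebraMap R (AdjoinRoot f)) = q'.under R := by
    intro i
    ext r
    simp only [𝔟, Ideal.mem_comap, Ideal.under_def, AlgHom.commutes]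
  -- some `𝔟 i` contains `𝔞`
  have hle : ∃ i, 𝔞 ≤ 𝔟 i := by
    by_contra hcon
    push_neg at hcon
    have i₀ : Fin f.natDegree := ⟨0, Nat.pos_of_ne_zero hn⟩
    have hav := (Ideal.subset_union_prime (s := Finset.univ) (f := 𝔟) i₀ i₀
      (fun i _ _ _ => h𝔟 i) (I := 𝔞)).not.mpr (by
        rintro ⟨i, -, hi⟩; exact hcon i hi)
    rw [Set.not_subset] at hav
    obtain ⟨e, he𝔞, he⟩ := hav
    have he' : ∀ i, e ∉ 𝔟 i := fun i hi => he (Set.mem_biUnion (Finset.mem_coe.mpr (Finset.mem_univ i)) hi)
    obtain ⟨p, rfl⟩ := AdjoinRoot.mk_surjective e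
    have hpx : aeval x p ∈ q := by rw [← ha]; exact he𝔞
    have hpα : ∀ i, aeval (α i) p ∉ q' := fun i h => he' i (by
      change b i (AdjoinRoot.mk f p) ∈ q'
      rw [hb]; exact h)
    obtain ⟨u, v, -, -, huv⟩ := exists_mul_add_mul_eq_C_resultant (m := f.natDegree)
      (n := p.natDegree) f p le_rfl le_rfl (Or.inl hn)
    have hr : algebraMap R S (resultant f p f.natDegree p.natDegree) ∈ q := by
      have := congrArg (aeval x) huv
      rw [map_add, map_mul, map_mul, hfx, zero_mul, zero_add, aeval_C] at this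
      rw [← this]
      exact Ideal.mul_mem_right _ _ hpx
    have hr' : algebraMap R S' (resultant f p f.natDegree p.natDegree) ∈ q' := by
      have h1 : resultant f p f.natDegree p.natDegree ∈ q.under R := hr
      rw [← hqq'] at h1
      exact h1
    rw [prod_aeval_eq_resultant f p hf α hα] at hr'
    obtain ⟨i, -, hi⟩ := Ideal.IsPrime.prod_mem_iff.mp hr'
    exact hpα i hi
  obtain ⟨i, hi⟩ := hle
  have heq : 𝔞 = 𝔟 i := by
    by_contra hne
    have hlt : 𝔞 < 𝔟 i := lt_of_le_of_ne hi hne
    obtain ⟨y, hy𝔟, hy𝔞⟩ := Set.exists_of_ssubset hlt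
    have := Ideal.comap_lt_comap_of_integral_mem_sdiff (R := R) hi ⟨hy𝔟, hy𝔞⟩
      (Algebra.IsIntegral.isIntegral y)
    rw [h𝔞R, h𝔟R, hqq'] at this
    exact lt_irrefl _ this
  refine ⟨i, fun p => ?_⟩
  rw [← ha, ← hb]
  change AdjoinRoot.mk f p ∈ 𝔞 ↔ AdjoinRoot.mk f p ∈ 𝔟 i
  rw [heq]

theorem aeval_root_eq_zero {R S' : Type u} [CommRing R] [CommRing S'] [Algebra R S'] (f : R[X])
    (α : Fin f.natDegree → S') (hα : f.map (algebraMap R S') = ∏ i, (X - C (α i))) (i) :
    aeval (α i) f = 0 := by
  rw [aeval_def, ← eval_map, hα, eval_prod]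
  exact Finset.prod_eq_zero (Finset.mem_univ i) (by simp)

/-- Given a root `α i` matching `x` (as in `exists_root_matching`), the standard étale algebra `S`
maps to any localization `L` of `S'` at a submonoid disjoint from `q'` containing `g(α i)`,
and the extension of `q'` pulls back to `q`. -/
theorem cover_of_root {R S S' : Type u} [CommRing R] [CommRing S] [CommRing S']
    [Algebra R S] [Algebra R S'] (P : StandardEtalePresentation R S)
    (α : Fin P.f.natDegree → S')
    (hα : P.f.map (algebraMap R S') = ∏ i, (X - C (α i)))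
    (q : Ideal S) [q.IsPrime] (q' : Ideal S') [q'.IsPrime] (i : Fin P.f.natDegree)
    (hi : ∀ p : R[X], aeval P.x p ∈ q ↔ aeval (α i) p ∈ q')
    (M : Submonoid S') (L : Type u) [CommRing L] [Algebra S' L] [Algebra R L]
    [IsScalarTower R S' L] [IsLocalization M L] (hdisj : Disjoint (M : Set S') (q' : Set S'))
    (hgM : aeval (α i) P.g ∈ M) :
    ∃ φ : S →ₐ[R] L, (q'.map (algebraMap S' L)).comap φ = q := by
  have hgx : aeval P.x P.g ∉ q := fun h =>
    (inferInstance : q.IsPrime).ne_top (Ideal.eq_top_of_isUnit_mem _ h P.hasMap.2)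
  have hmap : P.P.HasMap (algebraMap S' L (α i)) := by
    refine ⟨?_, ?_⟩
    · rw [aeval_algebraMap_apply, aeval_root_eq_zero P.f α hα i, map_zero]
    · rw [aeval_algebraMap_apply]
      exact IsLocalization.map_units L ⟨_, hgM⟩
  let φ : S →ₐ[R] L := (P.P.lift _ hmap).comp P.equivRing.toAlgHom
  have hφx : φ P.x = algebraMap S' L (α i) := by
    change P.P.lift _ hmap (P.equivRing P.x) = _
    rw [P.equivRing_x, StandardEtalePair.lift_X]
  have hφp : ∀ p : R[X], φ (aeval P.x p) = algebraMap S' L (aeval (α i) p) := by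
    intro p
    rw [← aeval_algHom_apply, hφx, aeval_algebraMap_apply]
  haveI hQ' : (q'.map (algebraMap S' L)).IsPrime :=
    IsLocalization.isPrime_of_isPrime_disjoint M _ q' inferInstance hdisj
  have hcomap : (q'.map (algebraMap S' L)).comap (algebraMap S' L) = q' :=
    IsLocalization.comap_map_of_isPrime_disjoint M _ inferInstance hdisj
  have hmemiff : ∀ y : S', algebraMap S' L y ∈ q'.map (algebraMap S' L) ↔ y ∈ q' := by
    intro y
    rw [← Ideal.mem_comap, hcomap]
  have hunit : IsUnit (φ (aeval P.x P.g)) := P.hasMap.2.map φ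
  refine ⟨φ, ?_⟩
  ext s
  obtain ⟨p, N, hpN⟩ := P.exists_mul_aeval_x_g_pow_eq_aeval_x s
  rw [Ideal.mem_comap]
  constructor
  · intro hs
    have h1 : φ (aeval P.x p) ∈ q'.map (algebraMap S' L) := by
      rw [← hpN, map_mul]
      exact Ideal.mul_mem_right _ _ hs
    rw [hφp, hmemiff] at h1
    have h2 : aeval P.x p ∈ q := (hi p).mpr h1
    rw [← hpN] at h2
    rcases (inferInstance : q.IsPrime).mem_or_mem h2 with h | h
    · exact h
    · exact absurd ((inferInstance : q.IsPrime).mem_of_pow_mem _ h) hgx
  · intro hs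
    have h1 : aeval P.x p ∈ q := by rw [← hpN]; exact Ideal.mul_mem_right _ _ hs
    have h2 : aeval (α i) p ∈ q' := (hi p).mp h1
    rw [← hmemiff, ← hφp, ← hpN, map_mul] at h2
    rcases hQ'.mem_or_mem h2 with h | h
    · exact h
    · rw [map_pow] at h
      exact absurd (Ideal.eq_top_of_isUnit_mem _ (hQ'.mem_of_pow_mem _ h) hunit) hQ'.ne_top

/-- Zariski-locally on the splitting algebra `S'`, the standard étale algebra `S` maps to `S'`,
compatibly with given primes `q`, `q'` over the same prime of `R`. -/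
theorem exists_cover {R S S' : Type u} [CommRing R] [CommRing S] [CommRing S']
    [Algebra R S] [Algebra R S'] (P : StandardEtalePresentation R S)
    (α : Fin P.f.natDegree → S')
    (hα : P.f.map (algebraMap R S') = ∏ i, (X - C (α i)))
    (q : Ideal S) [q.IsPrime] (q' : Ideal S') [q'.IsPrime] (hqq' : q'.under R = q.under R) :
    ∃ (g' : S') (_ : g' ∉ q') (φ : S →ₐ[R] Localization.Away g'),
      (q'.map (algebraMap S' (Localization.Away g'))).comap φ = q := by
  obtain ⟨i, hi⟩ := exists_root_matching P.f P.monic_f P.x P.hasMap.1 α hα q q' hqq'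
  have hgx : aeval P.x P.g ∉ q := fun h =>
    (inferInstance : q.IsPrime).ne_top (Ideal.eq_top_of_isUnit_mem _ h P.hasMap.2)
  have hg' : aeval (α i) P.g ∉ q' := fun h => hgx ((hi P.g).mpr h)
  have hdisj : Disjoint (Submonoid.powers (aeval (α i) P.g) : Set S') (q' : Set S') :=
    (Ideal.disjoint_powers_iff_notMem_of_isPrime _).mpr hg'
  obtain ⟨φ, hφ⟩ := cover_of_root P α hα q q' i hi (Submonoid.powers (aeval (α i) P.g))
    (Localization.Away (aeval (α i) P.g)) hdisj (Submonoid.mem_powers _)
  exact ⟨_, hg', φ, hφ⟩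

/-- Local version: the standard étale algebra `S` maps to the localization of the splitting
algebra at `q'`, with the maximal ideal pulling back to `q`. -/
theorem exists_cover_atPrime {R S S' : Type u} [CommRing R] [CommRing S] [CommRing S']
    [Algebra R S] [Algebra R S'] (P : StandardEtalePresentation R S)
    (α : Fin P.f.natDegree → S')
    (hα : P.f.map (algebraMap R S') = ∏ i, (X - C (α i)))
    (q : Ideal S) [q.IsPrime] (q' : Ideal S') [q'.IsPrime] (hqq' : q'.under R = q.under R) :
    ∃ φ : S →ₐ[R] Localization.AtPrime q',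
      (IsLocalRing.maximalIdeal (Localization.AtPrime q')).comap φ = q := by
  obtain ⟨i, hi⟩ := exists_root_matching P.f P.monic_f P.x P.hasMap.1 α hα q q' hqq'
  have hgx : aeval P.x P.g ∉ q := fun h =>
    (inferInstance : q.IsPrime).ne_top (Ideal.eq_top_of_isUnit_mem _ h P.hasMap.2)
  have hg' : aeval (α i) P.g ∉ q' := fun h => hgx ((hi P.g).mpr h)
  have hdisj : Disjoint (q'.primeCompl : Set S') (q' : Set S') := by
    rw [Set.disjoint_left]
    exact fun y hy hy' => hy hy'
  obtain ⟨φ, hφ⟩ := cover_of_root P α hα q q' i hi q'.primeCompl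
    (Localization.AtPrime q') hdisj hg'
  refine ⟨φ, ?_⟩
  rw [← Localization.AtPrime.map_eq_maximalIdeal]
  exact hφ

open TensorProduct in
/-- Finite flat cover for a finite family of standard étale basic opens of `S`. -/
theorem exists_cover_finset {R S : Type u} [CommRing R] [CommRing S] [Algebra R S]
    (t : Finset S) (ht : ∀ f ∈ t, Algebra.IsStandardEtale R (Localization.Away f)) :
    ∃ (S' : Type u) (_ : CommRing S') (_ : Algebra R S'),
      Module.Finite R S' ∧ Algebra.FinitePresentation R S' ∧ Module.FaithfullyFlat R S' ∧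
        ∀ (q' : Ideal S') [q'.IsPrime],
          (∃ f ∈ t, ∃ q : Ideal S, q.IsPrime ∧ f ∉ q ∧ q.under R = q'.under R) →
          ∃ (g' : S') (_ : g' ∉ q'), Nonempty (S →ₐ[R] Localization.Away g') := by
  classical
  induction t using Finset.induction_on with
  | empty =>
    refine ⟨R, inferInstance, inferInstance, inferInstance, inferInstance, inferInstance, ?_⟩
    rintro q' _ ⟨f, hf, -⟩
    simp at hf
  | insert f₀ t₀ hf₀ ih =>
    obtain ⟨S₀, _, _, hfin₀, hfp₀, hff₀, hS₀⟩ := ih (fun f hf => ht f (Finset.mem_insert_of_mem hf))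
    haveI := ht f₀ (Finset.mem_insert_self _ _)
    obtain ⟨P⟩ := (inferInstance :
      Algebra.IsStandardEtale R (Localization.Away f₀)).nonempty_standardEtalePresentation
    obtain ⟨S₁, _, _, hfin₁, hfp₁, hff₁, α, hα⟩ := exists_splitting P.f.natDegree R P.f P.monic_f rfl
    refine ⟨S₁ ⊗[R] S₀, inferInstance, inferInstance, inferInstance, ?_, ?_, ?_⟩
    · haveI : Algebra.FinitePresentation S₁ (S₁ ⊗[R] S₀) := inferInstance
      exact Algebra.FinitePresentation.trans R S₁ (S₁ ⊗[R] S₀)
    · haveI : Module.FaithfullyFlat S₁ (S₁ ⊗[R] S₀) := inferInstance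
      exact Module.FaithfullyFlat.trans R S₁ (S₁ ⊗[R] S₀)
    · rintro q' _ ⟨f, hf, q, hqp, hfq, hqq'⟩
      rcases Finset.mem_insert.mp hf with rfl | hf
      · -- use the splitting algebra of the new piece
        let ι₁ : S₁ →ₐ[R] S₁ ⊗[R] S₀ := Algebra.TensorProduct.includeLeft
        let q₁ : Ideal S₁ := q'.comap ι₁
        haveI : q₁.IsPrime := Ideal.comap_isPrime ι₁ q'
        have hdisj : Disjoint (Submonoid.powers f : Set S) (q : Set S) :=
          (Ideal.disjoint_powers_iff_notMem_of_isPrime _).mpr hfq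
        haveI hqfp : (q.map (algebraMap S (Localization.Away f))).IsPrime :=
          IsLocalization.isPrime_of_isPrime_disjoint (Submonoid.powers f) _ q inferInstance hdisj
        have hqf : (q.map (algebraMap S (Localization.Away f))).comap
            (algebraMap S (Localization.Away f)) = q :=
          IsLocalization.comap_map_of_isPrime_disjoint (Submonoid.powers f) _ inferInstance hdisj
        have hqfR : (q.map (algebraMap S (Localization.Away f))).under R = q.under R := by
          conv_rhs => rw [← hqf]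
          ext r
          simp only [Ideal.under_def, Ideal.mem_comap, ← IsScalarTower.algebraMap_apply]
        have hq₁R : q₁.under R = q'.under R := by
          ext r
          simp only [q₁, Ideal.under_def, Ideal.mem_comap, AlgHom.commutes]
        obtain ⟨g₁, hg₁, φ, -⟩ := exists_cover P α hα
          (q.map (algebraMap S (Localization.Away f))) q₁ (by rw [hq₁R, hqfR, hqq'])
        refine ⟨ι₁ g₁, hg₁, ⟨?_⟩⟩
        exact ((Localization.awayMapₐ ι₁ g₁).comp φ).comp
          (IsScalarTower.toAlgHom R S (Localization.Away f))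
      · let ι₀ : S₀ →ₐ[R] S₁ ⊗[R] S₀ := Algebra.TensorProduct.includeRight
        let q₀ : Ideal S₀ := q'.comap ι₀
        haveI : q₀.IsPrime := Ideal.comap_isPrime ι₀ q'
        have hq₀R : q₀.under R = q'.under R := by
          ext r
          simp only [q₀, Ideal.under_def, Ideal.mem_comap, AlgHom.commutes]
        obtain ⟨g₀, hg₀, ⟨φ⟩⟩ := hS₀ q₀ ⟨f, hf, q, hqp, hfq, by rw [hq₀R, hqq']⟩
        refine ⟨ι₀ g₀, hg₀, ⟨?_⟩⟩
        exact (Localization.awayMapₐ ι₀ g₀).comp φ

end Groth.Agent.Lib.Helper9.SplitCover
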