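import Groth.Prelude.Def_ArtFun3
import Groth.Agent.Lib.Helper9.ArtPaste
import Groth.Agent.Lib.Helper9.ArtTangent

/-!
# Square-zero split extensions `k ⊕ V` and the condition `H_ε` (helper9)

If `F` satisfies `H_ε` then `F(A ×_k E) → F(A) ×_{F(k)} F(E)` is bijective for every split
square-zero extension `E` of `k`: induction on the number of generators of `m_E`, splitting off one
copy of `k[ε]` at a time.
-/

set_option autoImplicit false
universe u v
open CategoryTheory

namespace Groth.Agent.Lib.Helper9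

open ArtFun ArtFun.Art IsLocalRing

variable {Λ : Type u} {k : Type u} [CommRing Λ] [Field k] [Algebra Λ k]

/-- Base case: `E → k` bijective. -/
theorem cmp_bijective_of_toBase_bijective (F : Art Λ k ⥤ Type v) {E : Art Λ k}
    (hE : Function.Bijective (toBase E)) ⦃B A : Art Λ k⦄ (p' : B ⟶ A) (p'' : B ⟶ E)
    (h : IsFibreProd p' p'' (toBase A) (toBase E)) : Function.Bijective (cmp F h) := by
  haveI : IsIso (toBase E) := Groth.Agent.S12707.isIso_of_bijective _ hE
  obtain ⟨σ, hσ1, hσ2, hσ3⟩ := isFibreProd_iso_inverse h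
  refine ⟨?_, ?_⟩
  · intro z₁ z₂ hz
    have h1 : F.map p' z₁ = F.map p' z₂ := congrArg (fun t : FibProd F _ _ => t.1.1) hz
    have := congrArg (F.map σ) h1
    rwa [← Functor.map_comp_apply, ← Functor.map_comp_apply, hσ3, Functor.map_id_apply,
      Functor.map_id_apply] at this
  · rintro ⟨⟨x', x''⟩, hx⟩
    have hx' : F.map (toBase A) x' = F.map (toBase E) x'' := hx
    refine ⟨F.map σ x', Subtype.ext (Prod.ext ?_ ?_)⟩
    · change F.map p' (F.map σ x') = x'
      rw [← Functor.map_comp_apply, hσ1, Functor.map_id_apply]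
    · change F.map p'' (F.map σ x') = x''
      rw [← Functor.map_comp_apply, hσ2, Functor.map_comp_apply, hx', ← Functor.map_comp_apply,
        IsIso.hom_inv_id, Functor.map_id_apply]

/-- Pasting on the right: `A ×_k (E' ×_k D) = (A ×_k E') ×_k D`. -/
theorem isFibreProd_paste_base {B A E E' D B' : Art Λ k} {p' : B ⟶ A} {p'' : B ⟶ E}
    (h : IsFibreProd p' p'' (toBase A) (toBase E))
    {q : E ⟶ E'} {e₂ : E ⟶ D} (hE : IsFibreProd q e₂ (toBase E') (toBase D))
    {q' : B' ⟶ A} {q'' : B' ⟶ E'} (h₁ : IsFibreProd q' q'' (toBase A) (toBase E'))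
    (r : B ⟶ B') (hr1 : r ≫ q' = p') (hr2 : r ≫ q'' = p'' ≫ q) :
    IsFibreProd r (p'' ≫ e₂) (toBase B') (toBase D) := by
  have hr1' : ∀ b : B, q' (r b) = p' b := fun b => by
    change (r ≫ q') b = p' b
    rw [hr1]
  have hr2' : ∀ b : B, q'' (r b) = q (p'' b) := fun b => by
    change (r ≫ q'') b = (p'' ≫ q) b
    rw [hr2]
  refine ⟨?_, ?_, ?_⟩
  · rw [eq_toBase (r ≫ toBase B'), eq_toBase ((p'' ≫ e₂) ≫ toBase D)]
  · intro b₁ b₂ e1 e2
    apply h.inj
    · rw [← hr1', ← hr1', e1]
    · apply hE.inj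
      · rw [← hr2', ← hr2', e1]
      · exact e2
  · intro b' x hbx
    have hbx' : B'.res b' = D.res x := hbx
    have h1 : (toBase E') (q'' b') = (toBase D) x := by
      change E'.res (q'' b') = D.res x
      rw [res_app, hbx']
    obtain ⟨e, he1, he2⟩ := hE.surj (q'' b') x h1
    have h2 : (toBase A) (q' b') = (toBase E) e := by
      change A.res (q' b') = E.res e
      rw [res_app, hbx', ← res_app e₂ e, he2]
    obtain ⟨b, hb1, hb2⟩ := h.surj (q' b') e h2
    refine ⟨b, ?_, ?_⟩
    · apply h₁.inj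
      · rw [hr1', hb1]
      · rw [hr2', hb2, he1]
    · change e₂ (p'' b) = x
      rw [hb2, he2]

/-- Splitting off a copy of `k[ε]` from a split square-zero extension. -/
theorem exists_split_dual {E : Art Λ k} (σ : base Λ k ⟶ E) (hE : maximalIdeal E ^ 2 = ⊥)
    (v : E) (hv : v ∈ maximalIdeal E) (hv0 : v ≠ 0)
    (hle : Ideal.span {v} ≤ maximalIdeal E) :
    ∃ e₂ : E ⟶ dual Λ k,
      IsFibreProd (quotMk E (Ideal.span {v}) hle) e₂ (toBase _) (toBase (dual Λ k)) := by
  have hσ : ∀ c : k, E.res (σ.toAlgHom c) = c := fun c => by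
    have h := res_app σ (c : (base Λ k).carrier)
    exact h
  obtain ⟨ψ, hψ1, -, -, hψ4⟩ := exists_tangent_of_not_mem' E.res E.res_surjective σ.toAlgHom
    (fun c => ⟨c, hσ c⟩) ⊥ bot_le (by rw [hE])
    (fun c hc => by
      have h0 : c = 0 := by rw [← hσ c]; exact hc
      rw [h0]
      change σ.toAlgHom 0 ∈ (⊥ : Ideal E)
      rw [map_zero]
      exact Ideal.zero_mem _) v hv (by simpa using hv0)
  have hfst : ∀ a : E, (ψ a).fst = E.res a := fun a => AlgHom.congr_fun hψ1 a
  have hresv : E.res v = 0 := (E.mem_maximalIdeal_iff v).1 hv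
  have hsnd : ∀ a : E, (ψ (a * v)).snd = E.res a * (ψ v).snd := fun a => by
    rw [map_mul, TrivSqZeroExt.snd_mul, hfst, hfst, hresv, smul_eq_mul,
      MulOpposite.op_zero, zero_smul, add_zero]
  refine ⟨⟨ψ, hψ1⟩, ?_, ?_, ?_⟩
  · rw [eq_toBase (quotMk E _ hle ≫ toBase _), eq_toBase (_ ≫ toBase (dual Λ k))]
  · intro b₁ b₂ e1 e2
    have e1' : Ideal.Quotient.mk (Ideal.span {v}) b₁ = Ideal.Quotient.mk (Ideal.span {v}) b₂ := e1
    have e2' : ψ b₁ = ψ b₂ := e2
    rw [Ideal.Quotient.eq, Ideal.mem_span_singleton'] at e1'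
    obtain ⟨a, ha⟩ := e1'
    have h0 : (ψ (a * v)).snd = 0 := by
      rw [ha, map_sub, e2', sub_self]
      rfl
    rw [hsnd] at h0
    have ha0 : E.res a = 0 := (mul_eq_zero.1 h0).resolve_right hψ4
    have ham : a ∈ maximalIdeal E := (E.mem_maximalIdeal_iff a).2 ha0
    have hav : a * v ∈ maximalIdeal E ^ 2 := by
      rw [pow_two]
      exact Ideal.mul_mem_mul ham hv
    rw [hE, Ideal.mem_bot, ha] at hav
    exact sub_eq_zero.1 hav
  · intro e' x hx
    obtain ⟨e₀, rfl⟩ := quotMk_surjective E _ hle e'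
    have hx' : E.res e₀ = TrivSqZeroExt.fst x := by
      have : (quot E _ hle).res (quotMk E _ hle e₀) = TrivSqZeroExt.fst x := hx
      rwa [res_app] at this
    set c := (ψ v).snd with hc
    set d := (ψ e₀).snd - TrivSqZeroExt.snd x with hd
    refine ⟨e₀ - σ (d / c) * v, ?_, ?_⟩
    · change Ideal.Quotient.mk (Ideal.span {v}) (e₀ - σ (d / c) * v) =
        Ideal.Quotient.mk (Ideal.span {v}) e₀
      rw [Ideal.Quotient.eq, sub_sub_cancel_left, neg_mem_iff]
      exact Ideal.mul_mem_left _ _ (Ideal.subset_span rfl)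
    · change ψ (e₀ - σ (d / c) * v) = x
      apply TrivSqZeroExt.ext
      · rw [hfst, map_sub, map_mul, hresv, mul_zero, sub_zero, hx']
      · rw [map_sub, TrivSqZeroExt.snd_sub, hsnd, hσ, div_mul_cancel₀ _ hψ4, hd]
        ring

section Step

variable [IsNoetherianRing Λ] [Module.Finite Λ k]

/-- Inductive step: if the claim holds for `E'` and `E = E' ×_k k[ε]`, it holds for `E`. -/
theorem cmp_bijective_step (F : Art Λ k ⥤ Type v) (hF : Heps F) {E E' : Art Λ k}
    (q : E ⟶ E') (e₂ : E ⟶ dual Λ k)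
    (hE : IsFibreProd q e₂ (toBase E') (toBase (dual Λ k)))
    (ih : ∀ ⦃B A : Art Λ k⦄ (p' : B ⟶ A) (p'' : B ⟶ E')
      (h : IsFibreProd p' p'' (toBase A) (toBase E')), Function.Bijective (cmp F h))
    ⦃B A : Art Λ k⦄ (p' : B ⟶ A) (p'' : B ⟶ E)
    (h : IsFibreProd p' p'' (toBase A) (toBase E)) : Function.Bijective (cmp F h) := by
  obtain ⟨B', q', q'', h₁⟩ := Groth.Agent.S12710.result (toBase A) (toBase E')
    (fun c => E'.res_surjective c)
  obtain ⟨r, hr1, hr2⟩ := Groth.Agent.Lib.Helper65.isFibreProd_exists_lift h₁ p' (p'' ≫ q)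
    (by rw [eq_toBase (p' ≫ toBase A), eq_toBase ((p'' ≫ q) ≫ toBase E')])
  have hB := isFibreProd_paste_base h hE h₁ r hr1 hr2
  have bB := hF r (p'' ≫ e₂) hB
  have bE := hF q e₂ hE
  have bB' := ih q' q'' h₁
  refine ⟨?_, ?_⟩
  · intro z₁ z₂ hz
    have h1 : F.map p' z₁ = F.map p' z₂ := congrArg (fun t : FibProd F _ _ => t.1.1) hz
    have h2 : F.map p'' z₁ = F.map p'' z₂ := congrArg (fun t : FibProd F _ _ => t.1.2) hz
    apply bB.1
    apply FibProd.ext
    · change F.map r z₁ = F.map r z₂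
      apply bB'.1
      apply FibProd.ext
      · change F.map q' (F.map r z₁) = F.map q' (F.map r z₂)
        rw [← Functor.map_comp_apply, ← Functor.map_comp_apply, hr1, h1]
      · change F.map q'' (F.map r z₁) = F.map q'' (F.map r z₂)
        rw [← Functor.map_comp_apply, ← Functor.map_comp_apply, hr2, Functor.map_comp_apply,
          Functor.map_comp_apply, h2]
    · change F.map (p'' ≫ e₂) z₁ = F.map (p'' ≫ e₂) z₂
      rw [Functor.map_comp_apply, Functor.map_comp_apply, h2]
  · rintro ⟨⟨a, e⟩, hae⟩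
    have hae' : F.map (toBase A) a = F.map (toBase E) e := hae
    obtain ⟨b', hb'⟩ := bB'.2 ⟨(a, F.map q e), by
      change F.map (toBase A) a = F.map (toBase E') (F.map q e)
      rw [← Functor.map_comp_apply, eq_toBase (q ≫ toBase E'), hae']⟩
    have hb1 : F.map q' b' = a := congrArg (fun t : FibProd F _ _ => t.1.1) hb'
    have hb2 : F.map q'' b' = F.map q e := congrArg (fun t : FibProd F _ _ => t.1.2) hb'
    obtain ⟨b, hb⟩ := bB.2 ⟨(b', F.map e₂ e), by
      change F.map (toBase B') b' = F.map (toBase (dual Λ k)) (F.map e₂ e)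
      rw [← Functor.map_comp_apply, eq_toBase (e₂ ≫ toBase (dual Λ k)), ← hae',
        ← eq_toBase (q' ≫ toBase A), Functor.map_comp_apply, hb1]⟩
    have hb3 : F.map r b = b' := congrArg (fun t : FibProd F _ _ => t.1.1) hb
    have hb4 : F.map (p'' ≫ e₂) b = F.map e₂ e := congrArg (fun t : FibProd F _ _ => t.1.2) hb
    refine ⟨b, FibProd.ext ?_ ?_⟩
    · change F.map p' b = a
      rw [← hr1, Functor.map_comp_apply, hb3, hb1]
    · change F.map p'' b = e
      apply bE.1
      apply FibProd.ext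
      · change F.map q (F.map p'' b) = F.map q e
        rw [← Functor.map_comp_apply, ← hr2, Functor.map_comp_apply, hb3, hb2]
      · change F.map e₂ (F.map p'' b) = F.map e₂ e
        rw [← Functor.map_comp_apply, hb4]

end Step

/-- The maximal ideal of a quotient object. -/
lemma maximalIdeal_quot (E : Art Λ k) (K : Ideal E) (hK : K ≤ maximalIdeal E) :
    maximalIdeal (quot E K hK) = Ideal.map (quotMk E K hK).toAlgHom (maximalIdeal E) := by
  ext x
  obtain ⟨a, rfl⟩ := quotMk_surjective E K hK x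
  rw [Ideal.mem_map_iff_of_surjective _ (quotMk_surjective E K hK)]
  constructor
  · intro hx
    have h0 : (quot E K hK).res (quotMk E K hK a) = 0 :=
      ((quot E K hK).mem_maximalIdeal_iff _).1 hx
    rw [res_app] at h0
    exact ⟨a, (E.mem_maximalIdeal_iff a).2 h0, rfl⟩
  · rintro ⟨b, hb, hba⟩
    apply ((quot E K hK).mem_maximalIdeal_iff _).2
    have h0 : (quot E K hK).res (quotMk E K hK b) = 0 := by
      rw [res_app]
      exact (E.mem_maximalIdeal_iff b).1 hb
    rw [← hba]
    exact h0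

section Main

variable [IsNoetherianRing Λ] [Module.Finite Λ k]

theorem cmp_bijective_sqZero_aux (F : Art Λ k ⥤ Type v) (hF : Heps F) :
    ∀ (n : ℕ) (E : Art Λ k) (_ : base Λ k ⟶ E) (_ : maximalIdeal E ^ 2 = ⊥) (l : List E),
      l.length = n → Ideal.span {x | x ∈ l} = maximalIdeal E →
      ∀ ⦃B A : Art Λ k⦄ (p' : B ⟶ A) (p'' : B ⟶ E)
        (h : IsFibreProd p' p'' (toBase A) (toBase E)), Function.Bijective (cmp F h) := by
  intro n
  induction n with
  | zero =>
    intro E σ hE l hl hspan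
    have hl0 : l = [] := List.length_eq_zero_iff.1 hl
    subst hl0
    have hm : maximalIdeal E = ⊥ := by
      rw [← hspan]
      simp
    apply cmp_bijective_of_toBase_bijective
    refine ⟨?_, E.res_surjective⟩
    intro a b hab
    have hab' : E.res a = E.res b := hab
    have hmem : a - b ∈ maximalIdeal E := by
      rw [mem_maximalIdeal_iff, map_sub, sub_eq_zero]
      exact hab'
    rw [hm, Ideal.mem_bot, sub_eq_zero] at hmem
    exact hmem
  | succ n ih =>
    intro E σ hE l hl hspan
    match l, hl, hspan with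
    | [], hl, _ => exact absurd hl (by simp)
    | v :: t, hl, hspan =>
      have ht : t.length = n := by simpa using hl
      have hset : {x | x ∈ v :: t} = insert v {x | x ∈ t} := by
        ext x
        simp
      by_cases hv0 : v = 0
      · apply ih E σ hE t ht
        rw [← hspan, hset, hv0, Ideal.span_insert_zero]
      · have hv : v ∈ maximalIdeal E := by
          rw [← hspan]
          exact Ideal.subset_span (by simp)
        have hle : Ideal.span {v} ≤ maximalIdeal E := by
          rw [Ideal.span_le, Set.singleton_subset_iff]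
          exact hv
        obtain ⟨e₂, he₂⟩ := exists_split_dual σ hE v hv hv0 hle
        apply cmp_bijective_step F hF (quotMk E _ hle) e₂ he₂
        apply ih (quot E _ hle) (σ ≫ quotMk E _ hle) ?_ (t.map (quotMk E _ hle))
          (by rw [List.length_map]; exact ht) ?_
        · rw [maximalIdeal_quot, ← Ideal.map_pow, hE, Ideal.map_bot]
        · rw [maximalIdeal_quot, ← hspan, hset, Ideal.map_span, Set.image_insert_eq]
          have hv' : (quotMk E _ hle).toAlgHom v = 0 :=
            Ideal.Quotient.eq_zero_iff_mem.2 (Ideal.subset_span rfl)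
          rw [hv', Ideal.span_insert_zero]
          congr 1
          ext x
          simp only [List.mem_map, Set.mem_image]
          rfl

/-- `H_ε` implies bijectivity of `F(A ×_k E) → F(A) ×_{F(k)} F(E)` for every split square-zero
extension `E` of `k`. -/
theorem cmp_bijective_sqZero (F : Art Λ k ⥤ Type v) (hF : Heps F) {E : Art Λ k}
    (σ : base Λ k ⟶ E) (hE : maximalIdeal E ^ 2 = ⊥)
    ⦃B A : Art Λ k⦄ (p' : B ⟶ A) (p'' : B ⟶ E)
    (h : IsFibreProd p' p'' (toBase A) (toBase E)) : Function.Bijective (cmp F h) := by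
  have hfg : (maximalIdeal E).FG := (isNoetherianRing_iff_ideal_fg E).1 inferInstance _
  obtain ⟨s, hs⟩ := hfg
  refine cmp_bijective_sqZero_aux F hF s.toList.length E σ hE s.toList rfl ?_ p' p'' h
  rw [← hs]
  congr 1
  ext x
  simp

end Main

end Groth.Agent.Lib.Helper9
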