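import Groth.Agent.Lib.Helper9.SyntDesc
import Groth.Agent.Lib.Helper8.SyntLCI
import Groth.Agent.Lib.Helper24.FlatColim
import Groth.Agent.Lib.Helper25.ColimSys
import Groth.Agent.S9253

/-!
# Syntomicity descends through directed colimits of rings (helper9)

* `exists_away_isLCI_of_isPushout`, `isLCI_away_of_isPushout`: local descent / base change of
  "l.c.i. after inverting an element" along a pushout square of rings.
* `baseChangeRight`: helper25's colimit systems are stable under `- ⊗[k] C`.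
* `exists_stage_syntomic`: if `R = colim R' i` and `R ⊗[k] C` is syntomic over `R` (`C` finitely
  presented over `k`) then `R' i ⊗[k] C` is syntomic over `R' i` for some `i`.
-/

set_option autoImplicit false
universe u

namespace Groth.Agent.Lib.Helper9.SyntColim
open TensorProduct Groth.Agent.Lib.Helper9 Groth.Agent.Lib.Helper25

/-- type-level form: around the image of a prime of the pushout `B = A ⊗ B₁` (l.c.i. over `A`), the
flat finitely presented algebra `B₁` is l.c.i. over `A₁` -/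
theorem exists_away_isLCI_of_isPushout (A₁ B₁ A B : Type u) [CommRing A₁] [CommRing B₁] [CommRing A]
    [CommRing B] [Algebra A₁ B₁] [Algebra A₁ A] [Algebra A B] [Algebra B₁ B] [Algebra A₁ B]
    [IsScalarTower A₁ A B] [IsScalarTower A₁ B₁ B]
    (hP : Algebra.IsPushout A₁ A B₁ B) [Module.Flat A₁ B₁] [Algebra.FinitePresentation A₁ B₁]
    (hl : LCI.IsLCI A B) (𝔮 : Ideal B) [𝔮.IsPrime] :
    ∃ g : B₁, algebraMap B₁ B g ∉ 𝔮 ∧ LCI.IsLCI A₁ (Localization.Away g) := by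
  obtain ⟨p, hp⟩ : ∃ p : Ideal A, p = 𝔮.comap (algebraMap A B) := ⟨_, rfl⟩
  haveI : p.IsPrime := by rw [hp]; exact Ideal.comap_isPrime _ _
  obtain ⟨p₁, hp₁⟩ : ∃ p₁ : Ideal A₁, p₁ = p.comap (algebraMap A₁ A) := ⟨_, rfl⟩
  haveI : p₁.IsPrime := by rw [hp₁]; exact Ideal.comap_isPrime _ _
  obtain ⟨𝔮₁, h𝔮₁⟩ : ∃ 𝔮₁ : Ideal B₁, 𝔮₁ = 𝔮.comap (algebraMap B₁ B) := ⟨_, rfl⟩
  haveI : 𝔮₁.IsPrime := by rw [h𝔮₁]; exact Ideal.comap_isPrime _ _
  haveI : 𝔮₁.LiesOver p₁ := by
    constructor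
    rw [hp₁, hp, h𝔮₁, Ideal.under, Ideal.comap_comap, Ideal.comap_comap,
      ← IsScalarTower.algebraMap_eq, ← IsScalarTower.algebraMap_eq]
  let θ : p₁.ResidueField →ₐ[A₁] p.ResidueField :=
    Ideal.ResidueField.mapₐ p₁ p (Algebra.ofId A₁ A) hp₁
  letI : Algebra p₁.ResidueField p.ResidueField := θ.toRingHom.toAlgebra
  haveI : IsScalarTower A₁ p₁.ResidueField p.ResidueField :=
    IsScalarTower.of_algebraMap_eq (fun a => (θ.commutes a).symm)
  have hfib : LCI.IsLCI p₁.ResidueField (p₁.ResidueField ⊗[A₁] B₁) :=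
    SyntDesc.isLCI_fibre_of_isPushout A₁ B₁ A B hP hl p₁.ResidueField p.ResidueField
  obtain ⟨g, hg, hgl⟩ := SyntDesc.exists_away_isLCI A₁ B₁ p₁ 𝔮₁ hfib
  exact ⟨g, fun hc => hg (by rw [h𝔮₁]; exact hc), hgl⟩

/-- base change of "l.c.i. after inverting `g`" along a pushout square -/
theorem isLCI_away_of_isPushout (A₁ B₁ A B : Type u) [CommRing A₁] [CommRing B₁] [CommRing A]
    [CommRing B] [Algebra A₁ B₁] [Algebra A₁ A] [Algebra A B] [Algebra B₁ B] [Algebra A₁ B]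
    [IsScalarTower A₁ A B] [IsScalarTower A₁ B₁ B]
    (hP : Algebra.IsPushout A₁ A B₁ B) (g : B₁) [Module.Flat A₁ (Localization.Away g)]
    (hl : LCI.IsLCI A₁ (Localization.Away g)) :
    LCI.IsLCI A (Localization.Away (algebraMap B₁ B g)) := by
  let T₁ := Localization.Away g
  let T := Localization.Away (algebraMap B₁ B g)
  let φ : T₁ →+* T := Localization.awayMap (algebraMap B₁ B) g
  letI : Algebra T₁ T := φ.toAlgebra
  haveI : IsScalarTower B₁ T₁ T := IsScalarTower.of_algebraMap_eq' (by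
    ext x
    show algebraMap B₁ T x = φ (algebraMap B₁ T₁ x)
    show _ = IsLocalization.map T (algebraMap B₁ B) _ _
    rw [IsLocalization.map_eq, ← IsScalarTower.algebraMap_apply])
  haveI : IsLocalization (Algebra.algebraMapSubmonoid B (Submonoid.powers g)) T := by
    rw [Algebra.algebraMapSubmonoid_powers]
    infer_instance
  have h1 : Algebra.IsPushout B₁ B T₁ T :=
    Algebra.isPushout_of_isLocalization (Submonoid.powers g) T₁ B T
  haveI : Algebra.IsPushout A₁ B₁ A B := hP.symm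
  haveI : IsScalarTower A₁ T₁ T := IsScalarTower.of_algebraMap_eq' (by
    rw [IsScalarTower.algebraMap_eq A₁ B₁ T₁, ← RingHom.comp_assoc,
      ← IsScalarTower.algebraMap_eq B₁ T₁ T, IsScalarTower.algebraMap_eq A₁ B T,
      IsScalarTower.algebraMap_eq B₁ B T, RingHom.comp_assoc,
      ← IsScalarTower.algebraMap_eq A₁ B₁ B])
  haveI : IsScalarTower A₁ A T := IsScalarTower.of_algebraMap_eq' (by
    rw [IsScalarTower.algebraMap_eq A₁ B T, IsScalarTower.algebraMap_eq A B T,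
      RingHom.comp_assoc, ← IsScalarTower.algebraMap_eq A₁ A B])
  have h2 : Algebra.IsPushout A₁ T₁ A T := (Algebra.IsPushout.comp_iff A₁ B₁ A B).mpr h1.symm
  have h3 : Algebra.IsPushout A₁ A T₁ T := h2.symm
  let e : A ⊗[A₁] T₁ ≃ₐ[A] T := h3.equiv
  exact LCICover.isLCI_of_algEquiv e
    (Groth.Agent.Lib.Helper8.LCIFib.isLCI_baseChange A₁ T₁ hl A)

variable {k : Type u} [CommRing k] {ι : Type u} {G : ι → Type u}
  [∀ i, CommRing (G i)] [∀ i, Algebra k (G i)] {A : Type u} [CommRing A] [Algebra k A]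
  {g : ∀ i, G i →ₐ[k] A} {Φ : ∀ i j, Set (G i →ₐ[k] G j)}

/-- Colimit systems are stable under tensoring on the right with a fixed algebra. -/
theorem baseChangeRight (h : IsColimSys k G A g Φ) (C : Type u) [CommRing C] [Algebra k C] :
    IsColimSys k (fun i => G i ⊗[k] C) (A ⊗[k] C)
      (fun i => Algebra.TensorProduct.map (g i) (AlgHom.id k C))
      (fun i j => (fun φ => Algebra.TensorProduct.map φ (AlgHom.id k C)) '' Φ i j) where
  nonempty := h.nonempty
  id_mem i := ⟨AlgHom.id k _, h.id_mem i, by ext <;> simp⟩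
  comp_mem := by
    rintro i j l _ _ ⟨φ, hφ, rfl⟩ ⟨ψ, hψ, rfl⟩
    exact ⟨ψ.comp φ, h.comp_mem hφ hψ, by ext <;> simp⟩
  compat := by
    rintro i j _ ⟨φ, hφ, rfl⟩
    rw [← h.compat hφ]
    ext <;> simp
  directed i i' := by
    obtain ⟨j, φ, φ', hφ, hφ'⟩ := h.directed i i'
    exact ⟨j, _, _, ⟨φ, hφ, rfl⟩, ⟨φ', hφ', rfl⟩⟩
  surj a := by
    classical
    obtain ⟨n, x, c, rfl⟩ := TensorProduct.exists_sum_tmul_eq a
    obtain ⟨i₀⟩ := h.nonempty
    obtain ⟨j, -, x', -, hx'⟩ := h.exists_lift_family i₀ x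
    refine ⟨j, ∑ l, x' l ⊗ₜ[k] c l, ?_⟩
    simp [hx']
  ker i z hz := by
    have h1 : LinearMap.rTensor C (g i).toLinearMap z = 0 := by
      rw [← hz, map_id_apply_eq_rTensor]
    obtain ⟨j, φ, hφ, hφz⟩ := h.rTensor_ker C z h1
    exact ⟨j, _, ⟨φ, hφ, rfl⟩, by rw [← hφz, map_id_apply_eq_rTensor]⟩


variable {R' : ι → Type u} [∀ i, CommRing (R' i)] [∀ i, Algebra k (R' i)] {R : Type u} [CommRing R]
  [Algebra k R] {ρ : ∀ i, R' i →ₐ[k] R} {Ψ : ∀ i j, Set (R' i →ₐ[k] R' j)}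

/-- the pushout square `T → T'`, `T ⊗ C → T' ⊗ C` -/
theorem isPushout_map {T T' : Type u} [CommRing T] [CommRing T'] [Algebra k T] [Algebra k T']
    [Algebra T T'] [IsScalarTower k T T'] (C : Type u) [CommRing C] [Algebra k C]
    [Algebra (T ⊗[k] C) (T' ⊗[k] C)]
    (hmap : ∀ z, algebraMap (T ⊗[k] C) (T' ⊗[k] C) z =
      Algebra.TensorProduct.map (IsScalarTower.toAlgHom k T T') (AlgHom.id k C) z) :
    ∃ (_ : IsScalarTower T (T ⊗[k] C) (T' ⊗[k] C)),
      Algebra.IsPushout T T' (T ⊗[k] C) (T' ⊗[k] C) := by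
  have h2 : IsScalarTower T (T ⊗[k] C) (T' ⊗[k] C) := IsScalarTower.of_algebraMap_eq (by
    intro x
    rw [hmap]
    simp [Algebra.TensorProduct.algebraMap_apply])
  refine ⟨h2, ?_⟩
  exact Algebra.IsPushout.tensorProduct_tensorProduct k C T T' (by
    ext c
    show algebraMap (T ⊗[k] C) (T' ⊗[k] C) ((1 : T) ⊗ₜ[k] c) = (1 : T') ⊗ₜ[k] c
    rw [hmap]
    simp)

set_option maxHeartbeats 1600000 in
/-- **Syntomicity descends through colimit systems.** -/
theorem exists_stage_syntomic (h : IsColimSys k R' R ρ Ψ) (C : Type u) [CommRing C] [Algebra k C]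
    [Algebra.FinitePresentation k C] (hs : Synt.IsSyntomic R (R ⊗[k] C)) :
    ∃ i, Synt.IsSyntomic (R' i) (R' i ⊗[k] C) := by
  classical
  obtain ⟨hflat, hl⟩ := (Groth.Agent.Lib.Helper8.SyntLCI.isSyntomic_iff _ _).mp hs
  obtain ⟨i₁, hi₁⟩ := Groth.Agent.Lib.Helper24.FlatColim.exists_stage_flat h C hflat
  have h' := baseChangeRight h C
  -- the pushout square at the limit
  letI : Algebra (R' i₁) R := (ρ i₁).toRingHom.toAlgebra
  haveI : IsScalarTower k (R' i₁) R :=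
    IsScalarTower.of_algebraMap_eq (fun x => ((ρ i₁).commutes x).symm)
  letI : Algebra (R' i₁ ⊗[k] C) (R ⊗[k] C) :=
    (Algebra.TensorProduct.map (ρ i₁) (AlgHom.id k C)).toRingHom.toAlgebra
  obtain ⟨hT, hP⟩ := isPushout_map (k := k) (T := R' i₁) (T' := R) C (fun z => rfl)
  haveI := hT
  -- the good elements
  have hspan : Ideal.span (algebraMap (R' i₁ ⊗[k] C) (R ⊗[k] C) ''
      {g | LCI.IsLCI (R' i₁) (Localization.Away g)}) = ⊤ := by
    by_contra hne
    obtain ⟨𝔪, h𝔪, hle⟩ := Ideal.exists_le_maximal _ hne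
    haveI := h𝔪.isPrime
    obtain ⟨g, hg, hgl⟩ := exists_away_isLCI_of_isPushout (R' i₁) (R' i₁ ⊗[k] C) R (R ⊗[k] C)
      hP hl 𝔪
    exact hg (hle (Ideal.subset_span ⟨g, hgl, rfl⟩))
  have h1 : (1 : R ⊗[k] C) ∈ Ideal.span (algebraMap (R' i₁ ⊗[k] C) (R ⊗[k] C) ''
      {g | LCI.IsLCI (R' i₁) (Localization.Away g)}) := by rw [hspan]; trivial
  obtain ⟨l, hlsupp, hlsum⟩ := (Finsupp.mem_span_image_iff_linearCombination _).mp h1
  -- enumerate the support
  obtain ⟨n, e⟩ : ∃ n, Nonempty (↥l.support ≃ Fin n) := ⟨_, ⟨l.support.equivFin⟩⟩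
  obtain ⟨e⟩ := e
  let gg : Fin n → R' i₁ ⊗[k] C := fun m => ((e.symm m : ↥l.support) : R' i₁ ⊗[k] C)
  let aa : Fin n → R ⊗[k] C := fun m => l (gg m)
  have hgg : ∀ m, LCI.IsLCI (R' i₁) (Localization.Away (gg m)) := fun m =>
    hlsupp (e.symm m).2
  have hsum : ∑ m, aa m * algebraMap (R' i₁ ⊗[k] C) (R ⊗[k] C) (gg m) = 1 := by
    rw [← hlsum, Finsupp.linearCombination_apply, Finsupp.sum,
      ← Finset.sum_coe_sort l.support
        (fun a => l a • algebraMap (R' i₁ ⊗[k] C) (R ⊗[k] C) a),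
      ← Equiv.sum_comp e.symm
        (fun y : ↥l.support => l y • algebraMap (R' i₁ ⊗[k] C) (R ⊗[k] C) (y : R' i₁ ⊗[k] C))]
    rfl
  -- lift the coefficients to a stage
  obtain ⟨j, ψ, a', hψ, ha'⟩ := h'.exists_lift_family i₁ aa
  have hz : Algebra.TensorProduct.map (ρ j) (AlgHom.id k C) (∑ m, a' m * ψ (gg m) - 1) = 0 := by
    rw [map_sub, map_sum, map_one, sub_eq_zero, ← hsum]
    refine Finset.sum_congr rfl (fun m _ => ?_)
    rw [map_mul, ha', h'.compat_apply hψ]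
    rfl
  obtain ⟨j', ψ', hψ', hz'⟩ := h'.ker j _ hz
  obtain ⟨φ, hφ, hφψ⟩ := h'.comp_mem hψ hψ'
  have hsum' : ∑ m, ψ' (a' m) * Algebra.TensorProduct.map φ (AlgHom.id k C) (gg m) = 1 := by
    rw [map_sub, map_sum, map_one, sub_eq_zero] at hz'
    rw [← hz']
    refine Finset.sum_congr rfl (fun m _ => ?_)
    rw [map_mul]
    congr 1
    exact congrArg (fun χ => χ (gg m)) hφψ
  -- the pushout square at the stage `j'`
  refine ⟨j', ?_⟩
  letI : Algebra (R' i₁) (R' j') := φ.toRingHom.toAlgebra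
  haveI : IsScalarTower k (R' i₁) (R' j') :=
    IsScalarTower.of_algebraMap_eq (fun x => (φ.commutes x).symm)
  letI : Algebra (R' i₁ ⊗[k] C) (R' j' ⊗[k] C) :=
    (Algebra.TensorProduct.map φ (AlgHom.id k C)).toRingHom.toAlgebra
  obtain ⟨hT', hP'⟩ := isPushout_map (k := k) (T := R' i₁) (T' := R' j') C (fun z => rfl)
  haveI := hT'
  rw [Groth.Agent.Lib.Helper8.SyntLCI.isSyntomic_iff]
  refine ⟨?_, ?_⟩
  · let eq : R' j' ⊗[R' i₁] (R' i₁ ⊗[k] C) ≃ₐ[R' j'] R' j' ⊗[k] C := hP'.equiv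
    exact Module.Flat.of_linearEquiv eq.symm.toLinearEquiv
  · refine Groth.Agent.S9253.result (R' j') (R' j' ⊗[k] C) n
      (fun m => algebraMap (R' i₁ ⊗[k] C) (R' j' ⊗[k] C) (gg m)) ?_ (fun m => ?_)
    · rw [Ideal.eq_top_iff_one, ← hsum']
      refine Ideal.sum_mem _ (fun m _ => Ideal.mul_mem_left _ _ (Ideal.subset_span ⟨m, rfl⟩))
    · haveI : Module.Flat (R' i₁ ⊗[k] C) (Localization.Away (gg m)) :=
        IsLocalization.flat _ (Submonoid.powers (gg m))
      haveI : Module.Flat (R' i₁) (Localization.Away (gg m)) :=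
        Module.Flat.trans (R' i₁) (R' i₁ ⊗[k] C) _
      exact isLCI_away_of_isPushout (R' i₁) (R' i₁ ⊗[k] C) (R' j') (R' j' ⊗[k] C) hP' (gg m)
        (hgg m)

end Groth.Agent.Lib.Helper9.SyntColim
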