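import Groth.Agent.Lib.Helper9.LCIDescent0
import Groth.Agent.Lib.Helper8.LCIFib
import Groth.Agent.Lib.Helper8.HD
import Groth.Agent.Lib.Helper8.HDBase
import Groth.Agent.Lib.Helper9.LCICover
import Groth.Agent.Lib.Helper9.LCIComp
import Groth.Agent.Lib.Helper9.SmoothLCI
import Groth.Agent.Lib.Helper9.SmoothLCI0

/-!
# Descent of the l.c.i. property of fibres (helper9)

* `isLCI_fibre_of_isPushout`: for a pushout square `A₁ → B₁`, `A₁ → A`, `B = A ⊗ B₁` with `B₁` flat
  over `A₁` and `B` l.c.i. over `A`, every fibre ring `k ⊗ B₁` (`k` a field over `A₁` admitting an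
  extension which is an `A`-algebra) is l.c.i. over `k`.
* `exists_away_isLCI`: local form of the fibrewise criterion (helper8 `HD.local_main`): a flat
  finitely presented algebra whose fibre over `p` is l.c.i. is l.c.i. around each prime over `p`.
-/

set_option autoImplicit false
universe u

namespace Groth.Agent.Lib.Helper9.SyntDesc
open TensorProduct Groth.Agent.Lib.Helper9

/-- descent of the l.c.i. property of a fibre ring along a pushout square and a field extension -/
theorem isLCI_fibre_of_isPushout (A₁ B₁ A B : Type u) [CommRing A₁] [CommRing B₁] [CommRing A]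
    [CommRing B] [Algebra A₁ B₁] [Algebra A₁ A] [Algebra A B] [Algebra B₁ B] [Algebra A₁ B]
    [IsScalarTower A₁ A B] [IsScalarTower A₁ B₁ B]
    (hP : Algebra.IsPushout A₁ A B₁ B) [Module.Flat A₁ B₁] (hl : LCI.IsLCI A B)
    (k K : Type u) [Field k] [Field K] [Algebra A₁ k] [Algebra A K] [Algebra A₁ K] [Algebra k K]
    [IsScalarTower A₁ A K] [IsScalarTower A₁ k K] :
    LCI.IsLCI k (k ⊗[A₁] B₁) := by
  let e : A ⊗[A₁] B₁ ≃ₐ[A] B := hP.equiv
  haveI : Module.Flat A B := Module.Flat.of_linearEquiv e.symm.toLinearEquiv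
  have h1 : LCI.IsLCI K (K ⊗[A] B) := Groth.Agent.Lib.Helper8.LCIFib.isLCI_baseChange A B hl K
  let e1 : K ⊗[A] B ≃ₐ[K] K ⊗[A] (A ⊗[A₁] B₁) :=
    Algebra.TensorProduct.congr AlgEquiv.refl e.symm
  let e2 : K ⊗[A] (A ⊗[A₁] B₁) ≃ₐ[K] K ⊗[A₁] B₁ :=
    Algebra.TensorProduct.cancelBaseChange A₁ A K K B₁
  let e3 : K ⊗[k] (k ⊗[A₁] B₁) ≃ₐ[K] K ⊗[A₁] B₁ :=
    Algebra.TensorProduct.cancelBaseChange A₁ k K K B₁
  have h2 : LCI.IsLCI K (K ⊗[k] (k ⊗[A₁] B₁)) :=
    LCICover.isLCI_of_algEquiv ((e1.trans e2).trans e3.symm) h1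
  exact LCIDescent0.isLCI_of_faithfullyFlat k (k ⊗[A₁] B₁) K h2


/-- local form of the fibrewise criterion: a flat finitely presented algebra whose fibre ring over
`p` is a local complete intersection is a local complete intersection around every prime over `p` -/
theorem exists_away_isLCI (A B : Type u) [CommRing A] [CommRing B] [Algebra A B] [Module.Flat A B]
    [Algebra.FinitePresentation A B] (p : Ideal A) [p.IsPrime] (𝔮 : Ideal B) [𝔮.IsPrime]
    [𝔮.LiesOver p] (hfib : LCI.IsLCI p.ResidueField (p.ResidueField ⊗[A] B)) :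
    ∃ g : B, g ∉ 𝔮 ∧ LCI.IsLCI A (Localization.Away g) := by
  obtain ⟨n, f, hf, hfg⟩ := Algebra.FinitePresentation.out (R := A) (A := B)
  haveI : Module.Flat A (MvPolynomial (Fin n) A ⧸ RingHom.ker f.toRingHom) :=
    Module.Flat.of_linearEquiv (Ideal.quotientKerAlgEquivOfSurjective hf).toLinearEquiv
  have hfib' := Groth.Agent.Lib.Helper8.HD.isKoszulRegularIdeal_fibre (A := A) (B := B)
    p.ResidueField n f hf hfib
  obtain ⟨𝔔, h𝔔⟩ : ∃ 𝔔 : Ideal (MvPolynomial (Fin n) A), 𝔔 = 𝔮.comap f.toRingHom := ⟨_, rfl⟩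
  haveI : 𝔔.IsPrime := by rw [h𝔔]; exact Ideal.comap_isPrime _ _
  haveI : 𝔔.LiesOver p := by
    constructor
    rw [h𝔔, Ideal.under, Ideal.comap_comap, (‹𝔮.LiesOver p›).over, Ideal.under]
    congr 1
    exact f.comp_algebraMap.symm
  have hle : RingHom.ker f.toRingHom ≤ 𝔔 := by
    intro x hx
    rw [h𝔔, Ideal.mem_comap, RingHom.mem_ker.1 hx]
    exact zero_mem _
  obtain ⟨l, G, hG, -, hWR, hspan, -⟩ := Groth.Agent.Lib.Helper8.HD.local_main n
    (RingHom.ker f.toRingHom) hfg p 𝔔 hle hfib'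
  refine ⟨f G, fun h => hG (by rw [h𝔔]; exact h), ?_⟩
  -- the localized presentation
  let PG := Localization.Away G
  let T := Localization.Away (f G)
  let φ : PG →+* T := Localization.awayMap f.toRingHom G
  have hφs : Function.Surjective φ :=
    IsLocalization.Away.mapₐ_surjective_of_surjective (Aₚ := PG) (Bₚ := T) G hf
  have hφk : RingHom.ker φ = (RingHom.ker f.toRingHom).map (algebraMap _ PG) :=
    IsLocalization.ker_map (Localization.Away (f G)) f.toRingHom
      (Submonoid.map_powers f.toRingHom G)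
  letI : Algebra PG T := φ.toAlgebra
  haveI : IsScalarTower A PG T := IsScalarTower.of_algebraMap_eq' (by
    ext a
    show algebraMap A T a = φ (algebraMap A PG a)
    rw [IsScalarTower.algebraMap_apply A (MvPolynomial (Fin n) A) PG,
      IsScalarTower.algebraMap_apply A B T]
    show _ = IsLocalization.map T f.toRingHom _ _
    rw [IsLocalization.map_eq]
    congr 1
    exact (f.commutes a).symm)
  have h1 : LCI.IsLCI A (MvPolynomial (Fin n) A) := SmoothLCI.isLCI_mvPolynomial n
  have h2 : LCI.IsLCI (MvPolynomial (Fin n) A) PG := SmoothLCI.isLCI_of_isLocalizationAway G PG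
  have h3 : LCI.IsLCI A PG := LCIComp.isLCI_comp A (MvPolynomial (Fin n) A) PG h1 h2
  have h4 : LCI.IsLCI PG T := by
    rw [SmoothLCI0.isLCI_iff_ker hφs]
    show LCI.IsKoszulRegularIdeal (RingHom.ker φ)
    rw [hφk, hspan]
    exact SmoothLCI0.isKoszulRegularIdeal_ofList _ (Groth.Agent.S15821.result _ _ hWR).1
  exact LCIComp.isLCI_comp A PG T h3 h4

end Groth.Agent.Lib.Helper9.SyntDesc
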