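import Groth.Agent.Lib.Helper9.LCIDescent0
import Groth.Agent.Lib.Helper8.LCIFib
import Groth.Agent.Lib.Helper8.HD
import Groth.Agent.Lib.Helper8.HDBase
import Groth.Agent.Lib.Helper8.SyntLCI
import Groth.Agent.Lib.Helper9.LCICover
import Groth.Agent.Lib.Helper9.LCIComp
import Groth.Agent.Lib.Helper9.SmoothLCI
import Groth.Agent.Lib.Helper9.SmoothLCI0
import Groth.Agent.Lib.Helper9.SyntDesc
import Groth.Agent.Lib.Helper9.SyntBC
import Groth.Agent.Lib.Helper48.SyntMor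
import Groth.Agent.Lib.Helper8.LCIFieldSch

/-!
# Pointwise descent of syntomic morphisms along arbitrary base change (helper9)

* `exists_away_isSyntomic`: ring level (pushout square, `A₁ → B₁` flat of finite presentation,
  `A → A ⊗ B₁` syntomic): around the image of a prime of `A ⊗ B₁`, `B₁` is syntomic over `A₁`.
* `isSyntomicAt_of_isPullback`: pointwise base change.
* `isSyntomicAt_descent`: if a base change `f` of a flat l.f.p. morphism `f₁` is syntomic then `f₁`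
  is syntomic at the points of the image of the projection.
-/

set_option autoImplicit false
universe u

namespace Groth.Agent.Lib.Helper9.SyntDesc2
open TensorProduct Groth.Agent.Lib.Helper9 CategoryTheory Limits AlgebraicGeometry

/-- ring-level descent of syntomicity along a pushout square, around a prime -/
theorem exists_away_isSyntomic {A₁ B₁ A B : CommRingCat.{u}} (φ : A₁ ⟶ B₁) (ψ : A₁ ⟶ A)
    (inl : B₁ ⟶ B) (inr : A ⟶ B) (H : IsPushout φ ψ inl inr)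
    (hflat : φ.hom.Flat) (hfp : φ.hom.FinitePresentation)
    (h : @Synt.IsSyntomic A _ B _ inr.hom.toAlgebra) (𝔮 : Ideal B) [𝔮.IsPrime] :
    ∃ g : B₁, inl.hom g ∉ 𝔮 ∧ ∀ (T : CommRingCat.{u}) (ρ : B₁ ⟶ T) (σ : A₁ ⟶ T), φ ≫ ρ = σ →
      @IsLocalization.Away B₁ _ g T _ ρ.hom.toAlgebra →
      @Synt.IsSyntomic A₁ _ T _ σ.hom.toAlgebra := by
  letI : Algebra A₁ B₁ := φ.hom.toAlgebra
  letI : Algebra A₁ A := ψ.hom.toAlgebra
  letI : Algebra B₁ B := inl.hom.toAlgebra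
  letI : Algebra A B := inr.hom.toAlgebra
  letI : Algebra A₁ B := (inl.hom.comp φ.hom).toAlgebra
  haveI : IsScalarTower A₁ B₁ B := IsScalarTower.of_algebraMap_eq' rfl
  haveI : IsScalarTower A₁ A B := IsScalarTower.of_algebraMap_eq' (by
    show inl.hom.comp φ.hom = inr.hom.comp ψ.hom
    rw [← CommRingCat.hom_comp, ← CommRingCat.hom_comp, H.w])
  have hP : Algebra.IsPushout A₁ B₁ A B := CommRingCat.isPushout_iff_isPushout.mp H
  haveI : Module.Flat A₁ B₁ := hflat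
  haveI : Algebra.FinitePresentation A₁ B₁ := hfp
  obtain ⟨-, hl⟩ := (Groth.Agent.Lib.Helper8.SyntLCI.isSyntomic_iff A B).mp h
  -- the primes
  obtain ⟨p, hp⟩ : ∃ p : Ideal A, p = 𝔮.comap (algebraMap A B) := ⟨_, rfl⟩
  haveI : p.IsPrime := by rw [hp]; exact Ideal.comap_isPrime _ _
  obtain ⟨p₁, hp₁⟩ : ∃ p₁ : Ideal A₁, p₁ = p.comap (algebraMap A₁ A) := ⟨_, rfl⟩
  haveI : p₁.IsPrime := by rw [hp₁]; exact Ideal.comap_isPrime _ _
  obtain ⟨𝔮₁, h𝔮₁⟩ : ∃ 𝔮₁ : Ideal B₁, 𝔮₁ = 𝔮.comap (algebraMap B₁ B) := ⟨_, rfl⟩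
  haveI : 𝔮₁.IsPrime := by rw [h𝔮₁]; exact Ideal.comap_isPrime _ _
  haveI : 𝔮₁.LiesOver p₁ := by
    constructor
    rw [hp₁, hp, h𝔮₁, Ideal.under, Ideal.comap_comap, Ideal.comap_comap,
      ← IsScalarTower.algebraMap_eq, ← IsScalarTower.algebraMap_eq]
  -- residue fields
  let θ : p₁.ResidueField →ₐ[A₁] p.ResidueField :=
    Ideal.ResidueField.mapₐ p₁ p (Algebra.ofId A₁ A) hp₁
  letI : Algebra p₁.ResidueField p.ResidueField := θ.toRingHom.toAlgebra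
  haveI : IsScalarTower A₁ p₁.ResidueField p.ResidueField :=
    IsScalarTower.of_algebraMap_eq (fun a => (θ.commutes a).symm)
  have hfib : LCI.IsLCI p₁.ResidueField (p₁.ResidueField ⊗[A₁] B₁) :=
    SyntDesc.isLCI_fibre_of_isPushout A₁ B₁ A B hP.symm hl p₁.ResidueField p.ResidueField
  obtain ⟨g, hg, hgl⟩ := SyntDesc.exists_away_isLCI A₁ B₁ p₁ 𝔮₁ hfib
  refine ⟨g, fun hc => hg (by rw [h𝔮₁]; exact hc), ?_⟩
  intro T ρ σ hσ hloc
  letI : Algebra B₁ T := ρ.hom.toAlgebra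
  letI : Algebra A₁ T := σ.hom.toAlgebra
  haveI : IsScalarTower A₁ B₁ T := IsScalarTower.of_algebraMap_eq' (by
    show σ.hom = ρ.hom.comp φ.hom
    rw [← hσ, CommRingCat.hom_comp])
  haveI : IsLocalization.Away g T := hloc
  let e : Localization.Away g ≃ₐ[B₁] T :=
    IsLocalization.algEquiv (Submonoid.powers g) (Localization.Away g) T
  rw [Groth.Agent.Lib.Helper8.SyntLCI.isSyntomic_iff]
  refine ⟨?_, LCICover.isLCI_of_algEquiv (e.restrictScalars A₁) hgl⟩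
  haveI : Module.Flat B₁ T := IsLocalization.flat T (Submonoid.powers g)
  exact Module.Flat.trans A₁ B₁ T


/-- pointwise base change of syntomicity -/
theorem isSyntomicAt_of_isPullback {X Y X' Y' : Scheme.{u}} (f : X ⟶ Y) (g : Y' ⟶ Y)
    (g' : X' ⟶ X) (f' : X' ⟶ Y') (H : IsPullback g' f' f g) (x' : X')
    (hf : Synt.IsSyntomicAt f (g' x')) : Synt.IsSyntomicAt f' x' := by
  obtain ⟨U, V, e, hxU, hsyn⟩ := hf
  have hy : g (f' x') ∈ V.1 := by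
    have h0 : g (f' x') = f (g' x') := by
      rw [← Scheme.Hom.comp_apply, ← Scheme.Hom.comp_apply, H.w]
    rw [h0]
    exact e hxU
  obtain ⟨V', hV', hyV', hV'V⟩ :=
    exists_isAffineOpen_mem_and_subset (x := f' x') (U := g ⁻¹ᵁ V.1) hy
  obtain ⟨UY, hUY⟩ : ∃ UY : X'.Opens, UY = g' ⁻¹ᵁ U.1 ⊓ f' ⁻¹ᵁ V' := ⟨_, rfl⟩
  have hiso := isIso_pushoutSection_of_isAffineOpen H hV'V e hUY V.2 hV' U.2
  have hpo := (isIso_pushoutSection_iff H hV'V e hUY).mp hiso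
  haveI : IsAffine U.1 := U.2
  haveI : IsAffine V.1 := V.2
  haveI : IsAffine V' := hV'
  have hUYaff : IsAffineOpen UY :=
    .of_isIso (Scheme.Hom.isPullback_resLE H hV'V e hUY).isoPullback.hom
  have e' : UY ≤ f' ⁻¹ᵁ V' := by
    rw [hUY]
    exact inf_le_right
  refine ⟨⟨UY, hUYaff⟩, ⟨V', hV'⟩, e', ?_, ?_⟩
  · show x' ∈ UY
    rw [hUY]
    exact ⟨hxU, hyV'⟩
  · exact SyntBC.isSyntomic_of_isPushout _ _ _ _ hpo hsyn

/-- **Descent of syntomicity at a point**: if a base change `f` of a flat, locally finitely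
presented morphism `f₁` is syntomic, then `f₁` is syntomic at every point in the image of the
projection. -/
theorem isSyntomicAt_descent {X Y X₁ Y₁ : Scheme.{u}} (f₁ : X₁ ⟶ Y₁) [Flat f₁]
    [LocallyOfFinitePresentation f₁] (g : Y ⟶ Y₁) (q : X ⟶ X₁) (f : X ⟶ Y)
    (H : IsPullback q f f₁ g) (hf : Synt.IsSyntomicMor f) (x : X) :
    Synt.IsSyntomicAt f₁ (q x) := by
  obtain ⟨_, ⟨V₁, hV₁ : IsAffineOpen V₁, rfl⟩, hyV₁, -⟩ :=
    Y₁.isBasis_affineOpens.exists_subset_of_mem_open (Set.mem_univ (f₁ (q x))) isOpen_univ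
  obtain ⟨_, ⟨U₁, hU₁ : IsAffineOpen U₁, rfl⟩, hxU₁, hU₁V₁⟩ :=
    X₁.isBasis_affineOpens.exists_subset_of_mem_open
      (show q x ∈ (f₁ ⁻¹ᵁ V₁ : Set X₁) from hyV₁) (f₁ ⁻¹ᵁ V₁).isOpen
  have hy : g (f x) ∈ V₁ := by
    have h0 : g (f x) = f₁ (q x) := by
      rw [← Scheme.Hom.comp_apply, ← Scheme.Hom.comp_apply, H.w]
    rw [h0]
    exact hyV₁
  obtain ⟨V, hV, hyV, hVV₁⟩ :=
    exists_isAffineOpen_mem_and_subset (x := f x) (U := g ⁻¹ᵁ V₁) hy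
  obtain ⟨UY, hUY⟩ : ∃ UY : X.Opens, UY = q ⁻¹ᵁ U₁ ⊓ f ⁻¹ᵁ V := ⟨_, rfl⟩
  have hU₁V₁' : U₁ ≤ f₁ ⁻¹ᵁ V₁ := hU₁V₁
  have hiso := isIso_pushoutSection_of_isAffineOpen H hVV₁ hU₁V₁' hUY hV₁ hV hU₁
  have hpo := (isIso_pushoutSection_iff H hVV₁ hU₁V₁' hUY).mp hiso
  haveI : IsAffine U₁ := hU₁
  haveI : IsAffine V₁ := hV₁
  haveI : IsAffine V := hV
  have hUYaff : IsAffineOpen UY :=
    .of_isIso (Scheme.Hom.isPullback_resLE H hVV₁ hU₁V₁' hUY).isoPullback.hom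
  have e' : UY ≤ f ⁻¹ᵁ V := by
    rw [hUY]
    exact inf_le_right
  have hxUY : x ∈ UY := by
    rw [hUY]
    exact ⟨hxU₁, hyV⟩
  have hsyn := Groth.Agent.Lib.Helper48.SyntMor.isSyntomic_appLE f hf ⟨UY, hUYaff⟩ ⟨V, hV⟩ e'
  have hflat : (f₁.appLE V₁ U₁ hU₁V₁').hom.Flat := f₁.flat_appLE hV₁ hU₁ hU₁V₁'
  have hfp : (f₁.appLE V₁ U₁ hU₁V₁').hom.FinitePresentation :=
    HasRingHomProperty.appLE (P := @LocallyOfFinitePresentation) f₁ inferInstance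
      ⟨V₁, hV₁⟩ ⟨U₁, hU₁⟩ hU₁V₁'
  obtain ⟨gg, hgg, hT⟩ := exists_away_isSyntomic _ _ _ _ hpo hflat hfp hsyn
    (hUYaff.primeIdealOf ⟨x, hxUY⟩).asIdeal
  have hW : IsAffineOpen (X₁.basicOpen gg) := hU₁.basicOpen gg
  have hWV : X₁.basicOpen gg ≤ f₁ ⁻¹ᵁ V₁ := (X₁.basicOpen_le gg).trans hU₁V₁'
  refine ⟨⟨_, hW⟩, ⟨V₁, hV₁⟩, hWV, ?_, ?_⟩
  · have h1 := (Groth.Agent.Lib.Helper8.LCIFieldSch.mem_basicOpen_iff hUYaff hxUY _).2 hgg
    rw [Scheme.basicOpen_appLE] at h1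
    exact h1.2
  · exact hT _ (X₁.presheaf.map (homOfLE (X₁.basicOpen_le gg)).op) _
      (Scheme.Hom.appLE_map _ _ _) (hU₁.isLocalization_basicOpen gg)

end Groth.Agent.Lib.Helper9.SyntDesc2
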