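import Mathlib
import Groth.Prelude.Def_W4c5t1liftcy3defoArt
import Groth.Agent.Lib.Helper9.ArtSchlessinger

/-! The curvilinear test objects `k[t]/(t^(n+1))`, `k[t,y]/(t^(n+1),y^2)` and the key lemma of the
`T¹`-lifting theorem (helper9). -/

set_option autoImplicit false
universe u v
open CategoryTheory Polynomial
open scoped TensorProduct

namespace Groth.Agent.Lib.Helper9

open ArtFun ArtFun.Art T1Lift

section Tr

variable (k : Type u) [Field k]

lemma αAlg_mk (m : ℕ) (p : k[X]) :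
    αAlg k m (AdjoinRoot.mk _ p) = AdjoinRoot.mk _ p := by
  change AdjoinRoot.liftAlgHom _ (Algebra.ofId k _) (t k m) _ (AdjoinRoot.mk _ p) = _
  rw [AdjoinRoot.liftAlgHom_mk, ← AdjoinRoot.aeval_eq]
  rfl

lemma αAlg_surjective (m : ℕ) : Function.Surjective (αAlg k m) := by
  intro a
  obtain ⟨p, rfl⟩ := AdjoinRoot.mk_surjective a
  exact ⟨AdjoinRoot.mk _ p, αAlg_mk k m p⟩

/-- The kernel of `k[t]/(t^(m+2)) → k[t]/(t^(m+1))` is spanned over `k` by `t^(m+1)`. -/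
lemma exists_eq_smul_of_αAlg_eq_zero (m : ℕ) (a : Tr k (m + 1)) (ha : αAlg k m a = 0) :
    ∃ c : k, a = algebraMap k _ c * t k (m + 1) ^ (m + 1) := by
  obtain ⟨p, rfl⟩ := AdjoinRoot.mk_surjective a
  rw [αAlg_mk, AdjoinRoot.mk_eq_zero] at ha
  obtain ⟨q, rfl⟩ := ha
  obtain ⟨b, hb⟩ := eq_algebraMap_add_t_mul k (m + 1) (AdjoinRoot.mk _ q)
  refine ⟨resA k (m + 1) (AdjoinRoot.mk _ q), ?_⟩
  rw [map_mul, map_pow, AdjoinRoot.mk_X, hb, mul_add, mul_comm (t k (m + 1) ^ (m + 1)) (t k (m + 1) * b),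
    mul_assoc, mul_comm b, ← mul_assoc, ← pow_succ', t_pow, zero_mul, add_zero, mul_comm]
  congr 2
  rw [map_add, map_mul, resA_t, zero_mul, add_zero, AlgHom.commutes]
  rfl

lemma t_pow_ne_zero (m : ℕ) : t k m ^ m ≠ 0 := by
  intro h
  have h1 : AdjoinRoot.mk ((X : k[X]) ^ (m + 1)) ((X : k[X]) ^ m) = 0 := by
    rw [map_pow, AdjoinRoot.mk_X]; exact h
  rw [AdjoinRoot.mk_eq_zero, Polynomial.X_pow_dvd_iff] at h1
  have := h1 m (Nat.lt_succ_self m)
  rw [coeff_X_pow, if_pos rfl] at this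
  exact one_ne_zero this

end Tr

section Dual

variable (k : Type u) [Field k]

lemma εAlg_t_pow (m : ℕ) :
    εAlg k m (t k (m + 1) ^ (m + 1)) =
      TrivSqZeroExt.inr (((m + 1 : ℕ) : Tr k m) * t k m ^ m) := by
  rw [map_pow, εAlg_t]
  apply TrivSqZeroExt.ext
  · rw [TrivSqZeroExt.fst_pow, TrivSqZeroExt.fst_add, TrivSqZeroExt.fst_inl, DualNumber.fst_eps,
      add_zero, t_pow, TrivSqZeroExt.fst_inr]
  · rw [TrivSqZeroExt.snd_pow, TrivSqZeroExt.fst_add, TrivSqZeroExt.fst_inl, DualNumber.fst_eps,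
      add_zero, TrivSqZeroExt.snd_add, TrivSqZeroExt.snd_inl, DualNumber.snd_eps, zero_add,
      TrivSqZeroExt.snd_inr, Nat.pred_succ, smul_eq_mul, mul_one, nsmul_eq_mul]

/-- The ideal `(t^(n+1) y)` of `k[t,y]/(t^(n+2), y^2)`. -/
noncomputable def K₀' (n : ℕ) : Ideal (DualNumber (Tr k (n + 1))) :=
  Ideal.span {(TrivSqZeroExt.inr (t k (n + 1) ^ (n + 1)) : DualNumber (Tr k (n + 1)))}

lemma mem_K₀'_iff (n : ℕ) (x : DualNumber (Tr k (n + 1))) :
    x ∈ K₀' k n ↔ TrivSqZeroExt.fst x = 0 ∧ αAlg k n (TrivSqZeroExt.snd x) = 0 := by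
  constructor
  · intro hx
    obtain ⟨r, rfl⟩ := Ideal.mem_span_singleton'.1 hx
    constructor
    · rw [TrivSqZeroExt.fst_mul, TrivSqZeroExt.fst_inr, mul_zero]
    · rw [TrivSqZeroExt.snd_mul, TrivSqZeroExt.fst_inr, TrivSqZeroExt.snd_inr, MulOpposite.op_zero,
        zero_smul, add_zero, smul_eq_mul, map_mul, map_pow, αAlg_t, t_pow, mul_zero]
  · rintro ⟨h1, h2⟩
    obtain ⟨c, hc⟩ := exists_eq_smul_of_αAlg_eq_zero k n _ h2
    have hx : x = TrivSqZeroExt.inl (algebraMap k (Tr k (n + 1)) c) *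
        TrivSqZeroExt.inr (t k (n + 1) ^ (n + 1)) := by
      apply TrivSqZeroExt.ext
      · rw [h1, TrivSqZeroExt.fst_mul, TrivSqZeroExt.fst_inr, mul_zero]
      · rw [hc, TrivSqZeroExt.snd_mul, TrivSqZeroExt.fst_inr, TrivSqZeroExt.snd_inr,
          TrivSqZeroExt.fst_inl, MulOpposite.op_zero, zero_smul, add_zero, smul_eq_mul]
    rw [hx]
    exact Ideal.mul_mem_left _ _ (Ideal.subset_span rfl)

lemma mul_eq_zero_of_mem_K₀' (n : ℕ) (a x : DualNumber (Tr k (n + 1)))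
    (ha : resA k (n + 1) (TrivSqZeroExt.fst a) = 0) (hx : x ∈ K₀' k n) : a * x = 0 := by
  obtain ⟨b, hb⟩ := eq_algebraMap_add_t_mul k (n + 1) (TrivSqZeroExt.fst a)
  rw [ha, map_zero, zero_add] at hb
  obtain ⟨h1, h2⟩ := (mem_K₀'_iff k n x).1 hx
  obtain ⟨c, hc⟩ := exists_eq_smul_of_αAlg_eq_zero k n _ h2
  apply TrivSqZeroExt.ext
  · rw [TrivSqZeroExt.fst_mul, h1, mul_zero, TrivSqZeroExt.fst_zero]
  · rw [TrivSqZeroExt.snd_mul, h1, MulOpposite.op_zero, zero_smul, add_zero, smul_eq_mul, hb, hc,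
      TrivSqZeroExt.snd_zero]
    have : t k (n + 1) * b * (algebraMap k (Tr k (n + 1)) c * t k (n + 1) ^ (n + 1)) =
        b * algebraMap k (Tr k (n + 1)) c * t k (n + 1) ^ (n + 1 + 1) := by ring
    rw [this, t_pow, mul_zero]

lemma εAlg_of_αAlg_eq_zero (m : ℕ) (j : Tr k (m + 1)) (hj : αAlg k m j = 0) :
    ∃ c : k, j = algebraMap k _ c * t k (m + 1) ^ (m + 1) ∧
      εAlg k m j = TrivSqZeroExt.inr (algebraMap k (Tr k m) c * (((m + 1 : ℕ) : Tr k m) * t k m ^ m)) := by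
  obtain ⟨c, hc⟩ := exists_eq_smul_of_αAlg_eq_zero k m j hj
  refine ⟨c, hc, ?_⟩
  rw [hc, map_mul, AlgHom.commutes, εAlg_t_pow, TrivSqZeroExt.algebraMap_eq_inl',
    TrivSqZeroExt.inl_mul_inr, smul_eq_mul]

lemma εAlg_mem_K₀' (n : ℕ) (j : Tr k (n + 1 + 1)) (hj : αAlg k (n + 1) j = 0) :
    εAlg k (n + 1) j ∈ K₀' k n := by
  obtain ⟨c, -, hc⟩ := εAlg_of_αAlg_eq_zero k (n + 1) j hj
  rw [hc, mem_K₀'_iff]
  constructor
  · rw [TrivSqZeroExt.fst_inr]
  · rw [TrivSqZeroExt.snd_inr, map_mul, map_mul, map_pow, αAlg_t, t_pow, mul_zero, mul_zero]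

lemma eq_zero_of_εAlg_eq_zero [CharZero k] (m : ℕ) (j : Tr k (m + 1)) (hj : αAlg k m j = 0)
    (h : εAlg k m j = 0) : j = 0 := by
  obtain ⟨c, hjc, hc⟩ := εAlg_of_αAlg_eq_zero k m j hj
  rw [hc] at h
  have h1 : algebraMap k (Tr k m) c * (((m + 1 : ℕ) : Tr k m) * t k m ^ m) = 0 := by
    have := congrArg TrivSqZeroExt.snd h
    rwa [TrivSqZeroExt.snd_inr, TrivSqZeroExt.snd_zero] at this
  have h2 : algebraMap k (Tr k m) (c * ((m + 1 : ℕ) : k)) * t k m ^ m = 0 := by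
    rw [map_mul, map_natCast, mul_assoc]
    exact h1
  have h3 : c * ((m + 1 : ℕ) : k) = 0 := by
    by_contra hne
    have hu : IsUnit (algebraMap k (Tr k m) (c * ((m + 1 : ℕ) : k))) :=
      (isUnit_iff_ne_zero.2 hne).map _
    exact t_pow_ne_zero k m ((hu.mul_right_eq_zero).1 h2)
  have h4 : c = 0 := by
    rcases mul_eq_zero.1 h3 with h | h
    · exact h
    · exact absurd h (Nat.cast_ne_zero.2 (Nat.succ_ne_zero m))
  rw [hjc, h4, map_zero, zero_mul]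

/-- The ideal `(t^(n+1) y)` of `B_(n+1)`. -/
noncomputable def K₀ (n : ℕ) : Ideal (B k (n + 1)) := K₀' k n

lemma mem_K₀_iff (n : ℕ) (x : B k (n + 1)) :
    x ∈ K₀ k n ↔ TrivSqZeroExt.fst (x : DualNumber (Tr k (n + 1))) = 0 ∧
      αAlg k n (TrivSqZeroExt.snd (x : DualNumber (Tr k (n + 1)))) = 0 :=
  mem_K₀'_iff k n x

lemma K₀_le (n : ℕ) : K₀ k n ≤ IsLocalRing.maximalIdeal (B k (n + 1)) := by
  intro x hx
  rw [Art.mem_maximalIdeal_iff]
  change resA k (n + 1) (TrivSqZeroExt.fst (x : DualNumber (Tr k (n + 1)))) = 0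
  rw [((mem_K₀_iff k n x).1 hx).1, map_zero]

/-- `C_(n+1) = B_(n+1)/(t^(n+1) y)`. -/
noncomputable def Cobj (n : ℕ) : Art k k := Art.quot (B k (n + 1)) (K₀ k n) (K₀_le k n)

/-- The projection `B_(n+1) ⟶ C_(n+1)`. -/
noncomputable def ψC (n : ℕ) : B k (n + 1) ⟶ Cobj k n := Art.quotMk (B k (n + 1)) (K₀ k n) (K₀_le k n)

lemma ψC_surjective (n : ℕ) : Function.Surjective (ψC k n) := Art.quotMk_surjective _ _ _

lemma ψC_eq_zero_iff (n : ℕ) (x : B k (n + 1)) : ψC k n x = 0 ↔ x ∈ K₀ k n :=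
  Ideal.Quotient.eq_zero_iff_mem

lemma ker_ψC (n : ℕ) : RingHom.ker (ψC k n).toAlgHom = K₀ k n := by
  ext x
  rw [RingHom.mem_ker]
  exact ψC_eq_zero_iff k n x

lemma isSemismallExt_ψC (n : ℕ) : IsSemismallExt (ψC k n) := by
  refine ⟨ψC_surjective k n, ?_⟩
  rw [ker_ψC, ← le_bot_iff]
  apply Ideal.mul_le.2
  intro a ha x hx
  rw [Art.mem_maximalIdeal_iff] at ha
  rw [Ideal.mem_bot]
  exact mul_eq_zero_of_mem_K₀' k n a x ha hx

end Dual

section Key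

variable (k : Type u) [Field k]

lemma ε_β (n : ℕ) : ε k n ≫ β k n = α k n := by
  apply Art.hom_ext
  apply AdjoinRoot.algHom_ext
  change TrivSqZeroExt.fst (εAlg k n (t k (n + 1))) = αAlg k n (t k (n + 1))
  rw [εAlg_t, αAlg_t, TrivSqZeroExt.fst_add, TrivSqZeroExt.fst_inl, DualNumber.fst_eps, add_zero]

lemma ε_ξ (n : ℕ) : ε k (n + 1) ≫ ξ k n = α k (n + 1) ≫ ε k n := by
  apply Art.hom_ext
  apply AdjoinRoot.algHom_ext
  change dualMap k (αAlg k n) (εAlg k (n + 1) (t k (n + 1 + 1))) =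
    εAlg k n (αAlg k (n + 1) (t k (n + 1 + 1)))
  rw [εAlg_t, αAlg_t, εAlg_t]
  apply TrivSqZeroExt.ext
  · change αAlg k n (TrivSqZeroExt.fst (TrivSqZeroExt.inl (t k (n + 1)) + DualNumber.eps)) = _
    rw [TrivSqZeroExt.fst_add, TrivSqZeroExt.fst_inl, DualNumber.fst_eps, add_zero, αAlg_t,
      TrivSqZeroExt.fst_add, TrivSqZeroExt.fst_inl, DualNumber.fst_eps, add_zero]
  · change αAlg k n (TrivSqZeroExt.snd (TrivSqZeroExt.inl (t k (n + 1)) + DualNumber.eps)) = _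
    rw [TrivSqZeroExt.snd_add, TrivSqZeroExt.snd_inl, DualNumber.snd_eps, zero_add, map_one,
      TrivSqZeroExt.snd_add, TrivSqZeroExt.snd_inl, DualNumber.snd_eps, zero_add]

lemma ξ_β (n : ℕ) : ξ k n ≫ β k n = β k (n + 1) ≫ α k n :=
  Art.hom_ext (AlgHom.ext fun _ => rfl)

lemma K₀_le_ker_ξ (n : ℕ) : K₀ k n ≤ RingHom.ker (ξ k n).toAlgHom := by
  intro x hx
  obtain ⟨h1, h2⟩ := (mem_K₀_iff k n x).1 hx
  rw [RingHom.mem_ker]
  apply TrivSqZeroExt.ext
  · change αAlg k n (TrivSqZeroExt.fst (x : DualNumber (Tr k (n + 1)))) = 0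
    rw [h1, map_zero]
  · exact h2

lemma K₀_le_ker_β (n : ℕ) : K₀ k n ≤ RingHom.ker (β k (n + 1)).toAlgHom := by
  intro x hx
  rw [RingHom.mem_ker]
  exact ((mem_K₀_iff k n x).1 hx).1

/-- `C_(n+1) ⟶ B_n`. -/
noncomputable def pC' (n : ℕ) : Cobj k n ⟶ B k n :=
  Art.quotFactor (K₀_le k n) (ξ k n) (K₀_le_ker_ξ k n)

/-- `C_(n+1) ⟶ A_(n+1)`. -/
noncomputable def pC'' (n : ℕ) : Cobj k n ⟶ A k (n + 1) :=
  Art.quotFactor (K₀_le k n) (β k (n + 1)) (K₀_le_ker_β k n)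

lemma ψC_pC' (n : ℕ) : ψC k n ≫ pC' k n = ξ k n := Art.quotMk_quotFactor _ _ _

lemma ψC_pC'' (n : ℕ) : ψC k n ≫ pC'' k n = β k (n + 1) := Art.quotMk_quotFactor _ _ _

lemma α_surjective (n : ℕ) : Function.Surjective (α k n) := αAlg_surjective k n

/-- `C_(n+1) = B_n ×_{A_n} A_(n+1)`. -/
theorem isFibreProd_Cobj (n : ℕ) : IsFibreProd (pC' k n) (pC'' k n) (β k n) (α k n) where
  w := by
    apply Art.hom_ext
    apply AlgHom.ext
    intro c
    obtain ⟨x, rfl⟩ := ψC_surjective k n c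
    change (ψC k n ≫ pC' k n ≫ β k n) x = (ψC k n ≫ pC'' k n ≫ α k n) x
    rw [← Category.assoc, ← Category.assoc, ψC_pC', ψC_pC'', ξ_β]
  inj := by
    intro c₁ c₂ h1 h2
    obtain ⟨x₁, rfl⟩ := ψC_surjective k n c₁
    obtain ⟨x₂, rfl⟩ := ψC_surjective k n c₂
    have h1' : ξ k n x₁ = ξ k n x₂ := h1
    have h2' : β k (n + 1) x₁ = β k (n + 1) x₂ := h2
    have hmem : x₁ - x₂ ∈ K₀ k n := by
      rw [mem_K₀_iff]
      constructor
      · have : β k (n + 1) (x₁ - x₂) = 0 := by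
          change (β k (n + 1)).toAlgHom (x₁ - x₂) = 0
          rw [map_sub]
          exact sub_eq_zero.2 h2'
        exact this
      · have : ξ k n (x₁ - x₂) = 0 := by
          change (ξ k n).toAlgHom (x₁ - x₂) = 0
          rw [map_sub]
          exact sub_eq_zero.2 h1'
        exact congrArg TrivSqZeroExt.snd this
    have : ψC k n (x₁ - x₂) = 0 := (ψC_eq_zero_iff k n _).2 hmem
    have h3 : (ψC k n).toAlgHom (x₁ - x₂) = 0 := this
    rw [map_sub] at h3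
    exact sub_eq_zero.1 h3
  surj := by
    intro b a hba
    obtain ⟨b₂, hb₂⟩ := αAlg_surjective k n (TrivSqZeroExt.snd (b : DualNumber (Tr k n)))
    let x : DualNumber (Tr k (n + 1)) := (a, b₂)
    refine ⟨ψC k n x, ?_, rfl⟩
    change ξ k n x = b
    apply TrivSqZeroExt.ext
    · exact hba.symm
    · exact hb₂

end Key

section Main

variable (k : Type u) [Field k]

lemma mul_eq_zero_of_αAlg_eq_zero (m : ℕ) (a j : Tr k (m + 1)) (ha : resA k (m + 1) a = 0)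
    (hj : αAlg k m j = 0) : a * j = 0 := by
  obtain ⟨b, hb⟩ := eq_algebraMap_add_t_mul k (m + 1) a
  rw [ha, map_zero, zero_add] at hb
  obtain ⟨c, hc⟩ := exists_eq_smul_of_αAlg_eq_zero k m j hj
  rw [hb, hc]
  have : t k (m + 1) * b * (algebraMap k (Tr k (m + 1)) c * t k (m + 1) ^ (m + 1)) =
      b * algebraMap k (Tr k (m + 1)) c * t k (m + 1) ^ (m + 1 + 1) := by ring
  rw [this, t_pow, mul_zero]

lemma isSemismallExt_α (m : ℕ) : IsSemismallExt (α k m) := by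
  refine ⟨α_surjective k m, ?_⟩
  rw [← le_bot_iff]
  apply Ideal.mul_le.2
  intro a ha j hj
  rw [Art.mem_maximalIdeal_iff] at ha
  rw [Ideal.mem_bot]
  exact mul_eq_zero_of_αAlg_eq_zero k m a j ha hj

lemma hom_cancel_of_surjective {A B C : Art k k} (f : A ⟶ B) (hf : Function.Surjective f)
    (s₁ s₂ : B ⟶ C) (h : f ≫ s₁ = f ≫ s₂) : s₁ = s₂ := by
  apply Art.hom_ext
  apply AlgHom.ext
  intro b
  obtain ⟨a, rfl⟩ := hf b
  change (f ≫ s₁) a = (f ≫ s₂) a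
  rw [h]

/-- The linear map `ker α_(n+1) → ker ψ` induced by `ε_(n+1)`. -/
noncomputable def ℓmap (n : ℕ) :
    ↥(RingHom.ker (α k (n + 1)).toAlgHom) →ₗ[k] ↥(RingHom.ker (ψC k n).toAlgHom) where
  toFun j := ⟨ε k (n + 1) (j : A k (n + 1 + 1)), by
    rw [ker_ψC]
    exact εAlg_mem_K₀' k n _ j.2⟩
  map_add' x y := Subtype.ext (map_add (ε k (n + 1)).toAlgHom _ _)
  map_smul' c x := Subtype.ext (map_smul (ε k (n + 1)).toAlgHom c _)

lemma ℓmap_injective [CharZero k] (n : ℕ) : Function.Injective (ℓmap k n) := by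
  rw [← LinearMap.ker_eq_bot, LinearMap.ker_eq_bot']
  intro j hj
  apply Subtype.ext
  have h1 : (ε k (n + 1)) (j : A k (n + 1 + 1)) = 0 := congrArg Subtype.val hj
  exact eq_zero_of_εAlg_eq_zero k (n + 1) _ j.2 h1

/-- The key lemma of the `T¹`-lifting theorem. -/
theorem exists_lift_iff_exists_tangent_lift' [CharZero k]
    (F : Art k k ⥤ Type v)
    (hRS : ∀ ⦃P A A' A'' : Art k k⦄ (p' : P ⟶ A') (p'' : P ⟶ A'') (f' : A' ⟶ A) (f'' : A'' ⟶ A)
      (h : IsFibreProd p' p'' f' f''), Function.Surjective f'' → Function.Bijective (cmp F h))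
    (V : Type u) [AddCommGroup V] [Module k V] (O : ObsTheory F V)
    (hnat : ∀ ⦃A' A C' C : Art k k⦄ (φ : A' ⟶ A) (hφ : IsSemismallExt φ)
      (ψ : C' ⟶ C) (hψ : IsSemismallExt ψ) (g' : A' ⟶ C') (g : A ⟶ C), φ ≫ g = g' ≫ ψ →
      ∀ (ℓ : ↥(RingHom.ker φ.toAlgHom) →ₗ[k] ↥(RingHom.ker ψ.toAlgHom)),
        (∀ j : ↥(RingHom.ker φ.toAlgHom), ((ℓ j : ↥(RingHom.ker ψ.toAlgHom)) : C') = g' (j : A')) →
        ∀ u : F.obj A, O.obs ψ hψ (F.map g u) = LinearMap.lTensor V ℓ (O.obs φ hφ u))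
    (n : ℕ) (X : F.obj (A k (n + 1))) :
    (∃ X' : F.obj (A k (n + 2)), F.map (α k (n + 1)) X' = X) ↔
      ∃ Y : F.obj (B k (n + 1)), F.map (β k (n + 1)) Y = X ∧
        F.map (ξ k n) Y = F.map (ε k n) X := by
  constructor
  · rintro ⟨X', rfl⟩
    refine ⟨F.map (ε k (n + 1)) X', ?_, ?_⟩
    · rw [← Functor.map_comp_apply, ε_β]
    · rw [← Functor.map_comp_apply, ← Functor.map_comp_apply, ε_ξ]
  · rintro ⟨Y, hY1, hY2⟩
    have hker : RingHom.ker (α k (n + 1)).toAlgHom ≤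
        RingHom.ker (ε k (n + 1) ≫ ψC k n).toAlgHom := by
      intro j hj
      rw [RingHom.mem_ker]
      change ψC k n (ε k (n + 1) j) = 0
      rw [ψC_eq_zero_iff]
      exact εAlg_mem_K₀' k n _ hj
    obtain ⟨g, hg⟩ := exists_descend (α k (n + 1)) (α_surjective k (n + 1))
      (ε k (n + 1) ≫ ψC k n) hker
    have hα := isSemismallExt_α k (n + 1)
    have hψ := isSemismallExt_ψC k n
    have hob := hnat (α k (n + 1)) hα (ψC k n) hψ (ε k (n + 1)) g hg (ℓmap k n) (fun _ => rfl) X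
    -- the image of `Y` in `F(C)` is `F(g) X`
    have hg' : g ≫ pC' k n = ε k n := by
      apply hom_cancel_of_surjective k (α k (n + 1)) (α_surjective k (n + 1))
      rw [← Category.assoc, hg, Category.assoc, ψC_pC', ε_ξ]
    have hg'' : g ≫ pC'' k n = 𝟙 _ := by
      apply hom_cancel_of_surjective k (α k (n + 1)) (α_surjective k (n + 1))
      rw [← Category.assoc, hg, Category.assoc, ψC_pC'', ε_β, Category.comp_id]
    have hYX : F.map (ψC k n) Y = F.map g X := by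
      apply (hRS _ _ _ _ (isFibreProd_Cobj k n) (α_surjective k n)).1
      apply FibProd.ext
      · change F.map (pC' k n) (F.map (ψC k n) Y) = F.map (pC' k n) (F.map g X)
        rw [← Functor.map_comp_apply, ← Functor.map_comp_apply, ψC_pC', hg', hY2]
      · change F.map (pC'' k n) (F.map (ψC k n) Y) = F.map (pC'' k n) (F.map g X)
        rw [← Functor.map_comp_apply, ← Functor.map_comp_apply, ψC_pC'', hg'', hY1,
          Functor.map_id_apply]
    have h0 : O.obs (ψC k n) hψ (F.map g X) = 0 :=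
      (O.obs_eq_zero_iff (ψC k n) hψ _).2 ⟨Y, hYX⟩
    rw [hob] at h0
    have hinj : Function.Injective (LinearMap.lTensor V (ℓmap k n)) :=
      Module.Flat.lTensor_preserves_injective_linearMap _ (ℓmap_injective k n)
    have h1 : O.obs (α k (n + 1)) hα X = 0 := by
      apply hinj
      rw [h0, map_zero]
    exact (O.obs_eq_zero_iff (α k (n + 1)) hα X).1 h1

end Main

end Groth.Agent.Lib.Helper9
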