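import Groth.Agent.Lib.Helper9.ArtObs
import Groth.Agent.Lib.Helper9.ArtObsDim
import Groth.Agent.Lib.Helper9.T1LiftLemma
import Groth.Agent.Lib.Helper9.ArtVersal
import Groth.Agent.Lib.Helper76.PSDim

/-!
# The `T¹`-lifting theorem for `h_R` (helper9)

A complete local Noetherian `k`-algebra `R` with residue field `k` (char 0) all of whose curvilinear
tangent lifting problems are solvable is a power series ring.
-/

set_option autoImplicit false
universe u v
open CategoryTheory
open scoped TensorProduct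

namespace Groth.Agent.Lib.Helper9

open ArtFun ArtFun.Art IsLocalRing

section NatObs

variable {k : Type u} [Field k] {S : Type u} [CommRing S] [IsLocalRing S] [Algebra k S]

/-- The obstruction theory of `h_R` for `R = S/J`, `S` formally smooth, `J ≤ n²`, together with its
functoriality for commutative squares. -/
theorem exists_natural_obsTheory_of_presentation (hS : LiftsAlong k S) {R : Type u} [CommRing R]
    [Algebra k R] (res : R →ₐ[k] k) (π : S →ₐ[k] R) (hπ : Function.Surjective π) (J : Ideal S)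
    (hJ : ∀ s, π s = 0 ↔ s ∈ J) (hJ2 : J ≤ IsLocalRing.maximalIdeal S ^ 2) :
    ∃ O : ObsTheory (hR R res) (Module.Dual k (relQuot J)),
      ∀ ⦃A' A C' C : Art k k⦄ (φ : A' ⟶ A) (hφ : IsSemismallExt φ)
        (ψ : C' ⟶ C) (hψ : IsSemismallExt ψ) (g' : A' ⟶ C') (g : A ⟶ C), φ ≫ g = g' ≫ ψ →
        ∀ (ℓ : ↥(RingHom.ker φ.toAlgHom) →ₗ[k] ↥(RingHom.ker ψ.toAlgHom)),
          (∀ j : ↥(RingHom.ker φ.toAlgHom),
            ((ℓ j : ↥(RingHom.ker ψ.toAlgHom)) : C') = g' (j : A')) →
          ∀ u : (hR R res).obj A, O.obs ψ hψ ((hR R res).map g u) =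
            LinearMap.lTensor (Module.Dual k (relQuot J)) ℓ (O.obs φ hφ u) := by
  classical
  obtain ⟨L, hL⟩ : ∃ L : ∀ {C' C : Art k k} (p : C' ⟶ C) (_ : IsSemismallExt p)
      (_ : HomSet R res C), S →ₐ[k] C',
      ∀ {C' C : Art k k} (p : C' ⟶ C) (hp : IsSemismallExt p) (u : HomSet R res C),
        p.toAlgHom.comp (L p hp u) = u.1.comp π :=
    ⟨fun p hp u => Classical.choose (hS p hp.1 (u.1.comp π)),
      fun p hp u => Classical.choose_spec (hS p hp.1 (u.1.comp π))⟩
  have hL' : ∀ {C' C : Art k k} (p : C' ⟶ C) (hp : IsSemismallExt p) (u : HomSet R res C) (s : S),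
      p (L p hp u s) = u.1 (π s) :=
    fun p hp u s => congrArg (fun t : S →ₐ[k] _ => t s) (hL p hp u)
  have hLJ : ∀ {C' C : Art k k} (p : C' ⟶ C) (hp : IsSemismallExt p) (u : HomSet R res C),
      ∀ j ∈ J, p (L p hp u j) = 0 := by
    intro C' C p hp u j hj
    rw [hL' p hp u, (hJ j).2 hj, map_zero]
  obtain ⟨O, hO⟩ : ∃ O : ObsTheory (hR R res) (Module.Dual k (relQuot J)),
      ∀ {C' C : Art k k} (p : C' ⟶ C) (hp : IsSemismallExt p) (u : HomSet R res C),
        O.obs p hp u = (obsEquiv J p).symm (obsMap J p hp (L p hp u) (hLJ p hp u)) := by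
    refine ⟨{ obs := fun {C' C} p hp u =>
                (obsEquiv J p).symm (obsMap J p hp (L p hp u) (hLJ p hp u))
              obs_eq_zero_iff := ?_
              obs_quot := ?_ }, fun _ _ _ => rfl⟩
    · intro C' C p hp u₀
      obtain ⟨u, rfl⟩ : ∃ u : HomSet R res C, u = u₀ := ⟨u₀, rfl⟩
      rw [LinearEquiv.map_eq_zero_iff, obsMap_eq_zero_iff]
      constructor
      · intro h0
        have H : RingHom.ker π.toRingHom ≤ RingHom.ker (L p hp u).toRingHom := by
          intro s hs
          have hs' : π s = 0 := hs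
          exact h0 s ((hJ s).1 hs')
        refine ⟨⟨AlgHom.liftOfSurjective π hπ (L p hp u) H, ?_⟩, ?_⟩
        · apply AlgHom.ext
          intro r
          obtain ⟨s, rfl⟩ := hπ r
          change C'.res (AlgHom.liftOfSurjective π hπ (L p hp u) H (π s)) = res (π s)
          rw [AlgHom.liftOfSurjective_apply, ← Art.res_app p, hL']
          exact congrArg (fun t : R →ₐ[k] k => t (π s)) u.2
        · apply Subtype.ext
          apply AlgHom.ext
          intro r
          obtain ⟨s, rfl⟩ := hπ r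
          change p (AlgHom.liftOfSurjective π hπ (L p hp u) H (π s)) = u.1 (π s)
          rw [AlgHom.liftOfSurjective_apply, hL']
      · rintro ⟨u', rfl⟩ j hj
        have hcomp : p.toAlgHom.comp (L p hp ((hR R res).map p u')) =
            p.toAlgHom.comp (u'.1.comp π) := hL p hp _
        rw [lift_eq_on_sq p hp _ _ hcomp (hJ2 hj)]
        change u'.1 (π j) = 0
        rw [(hJ j).2 hj, map_zero]
    · intro C' C p hp K hK hKJ hq u₀
      obtain ⟨u, rfl⟩ : ∃ u : HomSet R res C, u = u₀ := ⟨u₀, rfl⟩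
      apply (obsEquiv J (Art.quotFactor hK p hKJ)).injective
      rw [LinearEquiv.apply_symm_apply, obsEquiv_apply]
      have h1 := congrArg (fun t => t ((obsEquiv J p).symm
          (obsMap J p hp (L p hp u) (hLJ p hp u))))
        (dualTensorHom_comp_lTensor (R := k) (M := relQuot J)
          ((Art.kerToQuot hK p hKJ).restrictScalars k))
      simp only [LinearMap.comp_apply] at h1
      rw [h1, ← obsEquiv_apply, LinearEquiv.apply_symm_apply]
      apply LinearMap.ext
      intro x
      obtain ⟨j, rfl⟩ := Submodule.Quotient.mk_surjective _ x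
      apply Subtype.ext
      change L (Art.quotFactor hK p hKJ) hq u j = Ideal.Quotient.mk K (L p hp u j)
      have hcomp : (Art.quotFactor hK p hKJ).toAlgHom.comp (L (Art.quotFactor hK p hKJ) hq u) =
          (Art.quotFactor hK p hKJ).toAlgHom.comp
            ((Art.quotMk C' K hK).toAlgHom.comp (L p hp u)) := by
        rw [hL, ← AlgHom.comp_assoc]
        have : (Art.quotFactor hK p hKJ).toAlgHom.comp (Art.quotMk C' K hK).toAlgHom =
            p.toAlgHom := congrArg Art.Hom.toAlgHom (Art.quotMk_quotFactor hK p hKJ)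
        rw [this, hL]
      exact lift_eq_on_sq _ hq _ _ hcomp (hJ2 j.2)
  refine ⟨O, ?_⟩
  intro A' A C' C φ hφ ψ hψ g' g hsq ℓ hℓ u₀
  obtain ⟨u, rfl⟩ : ∃ u : HomSet R res A, u = u₀ := ⟨u₀, rfl⟩
  have e0 : (hR R res).map g u = HomSet.map g u := rfl
  rw [e0, hO ψ hψ (HomSet.map g u), hO φ hφ u]
  apply (obsEquiv J ψ).injective
  rw [LinearEquiv.apply_symm_apply, obsEquiv_apply]
  have h1 := congrArg (fun t => t ((obsEquiv J φ).symm (obsMap J φ hφ (L φ hφ u) (hLJ φ hφ u))))
    (dualTensorHom_comp_lTensor (R := k) (M := relQuot J) ℓ)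
  simp only [LinearMap.comp_apply] at h1
  rw [h1, ← obsEquiv_apply, LinearEquiv.apply_symm_apply]
  apply LinearMap.ext
  intro x
  obtain ⟨j, rfl⟩ := Submodule.Quotient.mk_surjective _ x
  apply Subtype.ext
  change L ψ hψ (HomSet.map g u) j = ((ℓ (kerMap J φ (L φ hφ u) (hLJ φ hφ u) j) :
    ↥(RingHom.ker ψ.toAlgHom)) : C')
  rw [hℓ]
  change _ = g' (L φ hφ u j)
  have hcomp : ψ.toAlgHom.comp (L ψ hψ (HomSet.map g u)) =
      ψ.toAlgHom.comp (g'.toAlgHom.comp (L φ hφ u)) := by
    rw [hL, ← AlgHom.comp_assoc]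
    have e : ψ.toAlgHom.comp g'.toAlgHom = g.toAlgHom.comp φ.toAlgHom :=
      congrArg Art.Hom.toAlgHom hsq.symm
    rw [e, AlgHom.comp_assoc, hL]
    rfl
  exact lift_eq_on_sq ψ hψ _ _ hcomp (hJ2 j.2)

end NatObs

section Curv

open T1Lift MvPowerSeries
open Groth.Agent.Lib.Helper76.PSComplete Groth.Agent.Lib.Helper76.LT

variable {k : Type u} [Field k]

/-- Solvability of all curvilinear tangent lifting problems for `h_R`. -/
def TangentLifts (R : Type u) [CommRing R] [Algebra k R] (res : R →ₐ[k] k) : Prop :=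
  ∀ (n : ℕ) (X : HomSet R res (T1Lift.A k (n + 1))), ∃ Y : HomSet R res (T1Lift.B k (n + 1)),
    HomSet.map (T1Lift.β k (n + 1)) Y = X ∧
      HomSet.map (T1Lift.ξ k n) Y = HomSet.map (T1Lift.ε k n) X

/-- Curvilinear lifting from tangent lifting (the key lemma applied to `h_R`). -/
theorem exists_curv_lift [CharZero k] {S : Type u} [CommRing S] [IsLocalRing S] [Algebra k S]
    (hS : LiftsAlong k S) {R : Type u} [CommRing R]
    [Algebra k R] (res : R →ₐ[k] k) (π : S →ₐ[k] R) (hπ : Function.Surjective π) (J : Ideal S)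
    (hJ : ∀ s, π s = 0 ↔ s ∈ J) (hJ2 : J ≤ IsLocalRing.maximalIdeal S ^ 2)
    (hT : TangentLifts R res) (n : ℕ) (X : HomSet R res (T1Lift.A k (n + 1))) :
    ∃ X' : HomSet R res (T1Lift.A k (n + 2)), HomSet.map (T1Lift.α k (n + 1)) X' = X := by
  obtain ⟨O, hnat⟩ := exists_natural_obsTheory_of_presentation hS res π hπ J hJ hJ2
  have key := exists_lift_iff_exists_tangent_lift' k (hR R res)
    (fun _ _ _ _ _ _ _ _ h _ => hR_cmp_bijective h) _ O hnat n X
  exact key.2 (hT n X)

/-- The span of `t` in `k[t]/(t^(m+1))` is nilpotent. -/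
lemma span_t_pow (m : ℕ) : (Ideal.span {t k m}) ^ (m + 1) = ⊥ := by
  rw [Ideal.span_singleton_pow, t_pow, Ideal.span_singleton_eq_bot]

/-- The value of a homogeneous polynomial on the line `a t`. -/
lemma aeval_smul_t {d : ℕ} (m : ℕ) (p : MvPolynomial (Fin d) k) (hp : p.IsHomogeneous m)
    (a : Fin d → k) :
    MvPolynomial.aeval (fun i => a i • t k m) p = MvPolynomial.eval a p • t k m ^ m := by
  rw [MvPolynomial.aeval_def, MvPolynomial.eval₂_eq', MvPolynomial.eval_eq', Finset.sum_smul]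
  apply Finset.sum_congr rfl
  intro v hv
  have hdeg : ∑ i, v i = m := by
    have := hp (MvPolynomial.mem_support_iff.1 hv)
    rw [← this, Finsupp.weight_apply, Finsupp.sum_fintype]
    · simp
    · intro i
      simp
  have h1 : ∏ i, (a i • t k m) ^ v i = (∏ i, a i ^ v i) • t k m ^ m := by
    simp only [smul_pow]
    rw [Finset.prod_smul, Finset.prod_pow_eq_pow_sum, hdeg]
  rw [h1, Algebra.algebraMap_eq_smul_one, smul_mul_assoc, one_mul, smul_smul]

/-- Curvilinear obstructions are complete over an infinite field: an ideal `J ≤ m²` of a power series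
ring such that every arc `S/J → k[t]/(t^(n+2))` lifts to `k[t]/(t^(n+3))` is zero. -/
theorem eq_bot_of_curv_lifts [Infinite k] {d : ℕ} (J : Ideal (MvPowerSeries (Fin d) k))
    (hJ2 : J ≤ IsLocalRing.maximalIdeal (MvPowerSeries (Fin d) k) ^ 2)
    (hlift : ∀ (n : ℕ) (c : MvPowerSeries (Fin d) k →ₐ[k] Tr k (n + 1)), (∀ j ∈ J, c j = 0) →
      ∃ c' : MvPowerSeries (Fin d) k →ₐ[k] Tr k (n + 2), (∀ j ∈ J, c' j = 0) ∧
        (αAlg k (n + 1)).comp c' = c) : J = ⊥ := by
  classical
  by_contra hne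
  set 𝔪 := IsLocalRing.maximalIdeal (MvPowerSeries (Fin d) k) with h𝔪
  have h𝔪v : 𝔪 = varIdeal (Fin d) k :=
    maximalIdeal_eq_varIdeal k (Fin d)
  -- a nonzero element
  obtain ⟨f₀, hf₀J, hf₀⟩ : ∃ f ∈ J, f ≠ 0 := by
    by_contra h
    push Not at h
    exact hne ((Submodule.eq_bot_iff J).2 h)
  have hex : ∃ N, ¬ J ≤ 𝔪 ^ N := by
    by_contra h
    push Not at h
    apply hf₀
    apply eq_zero_of_forall_ord
    intro N
    have := h N hf₀J
    rw [h𝔪v] at this
    exact ord_of_mem_varIdeal_pow this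
  set N₀ := Nat.find hex with hN₀
  have hN₀spec : ¬ J ≤ 𝔪 ^ N₀ := Nat.find_spec hex
  have hN₀min : ∀ N, N < N₀ → J ≤ 𝔪 ^ N := fun N hN => not_not.1 (Nat.find_min hex hN)
  have hN₀3 : 3 ≤ N₀ := by
    by_contra h
    push Not at h
    apply hN₀spec
    exact hJ2.trans (Ideal.pow_le_pow_right (by omega))
  obtain ⟨n, hn⟩ : ∃ n, N₀ = n + 3 := ⟨N₀ - 3, by omega⟩
  have hJm : J ≤ 𝔪 ^ (n + 2) := hN₀min (n + 2) (by omega)
  obtain ⟨f, hfJ, hf⟩ : ∃ f ∈ J, f ∉ 𝔪 ^ (n + 3) := by
    rw [hn] at hN₀spec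
    exact Set.not_subset.1 hN₀spec
  have hford : Ord (n + 2) f := by
    have := hJm hfJ
    rw [h𝔪v] at this
    exact ord_of_mem_varIdeal_pow this
  have hford' : ¬ Ord (n + 3) f := by
    intro h
    apply hf
    rw [h𝔪v]
    exact mem_varIdeal_pow_of_ord h
  -- the leading form
  set p : MvPolynomial (Fin d) k := truncTotal (n + 3) f with hp
  have hp_hom : p.IsHomogeneous (n + 2) := by
    intro v hv
    have h1 : v.degree < n + 3 := by
      by_contra h
      exact hv (coeff_truncTotal_eq_zero f (not_lt.1 h))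
    have h2 : ¬ v.degree < n + 2 := by
      intro h
      apply hv
      rw [hp, coeff_truncTotal f h1]
      exact hford v h
    have hw : Finsupp.weight (1 : Fin d → ℕ) v = v.degree := by
      rw [Finsupp.degree_eq_weight_one]
      rfl
    rw [hw]
    omega
  have hp0 : p ≠ 0 := by
    intro h0
    apply hford'
    intro v hv
    rw [← coeff_truncTotal f hv, ← hp, h0, MvPolynomial.coeff_zero]
  obtain ⟨a, ha⟩ : ∃ a : Fin d → k, MvPolynomial.eval a p ≠ 0 := by
    by_contra h
    push Not at h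
    apply hp0
    apply MvPolynomial.funext
    intro x
    rw [h x, map_zero]
  -- the arc
  set I : Ideal (Tr k (n + 2)) := Ideal.span {t k (n + 2)} with hI
  have hIpow : I ^ (n + 2 + 1) = ⊥ := span_t_pow (n + 2)
  haveI : IsAdicComplete I (Tr k (n + 2)) :=
    isAdicComplete_of_pow_eq_bot hIpow
  have hb : ∀ i, a i • t k (n + 2) ∈ I := fun i =>
    Submodule.smul_of_tower_mem _ _ (Ideal.subset_span rfl)
  set c₂ : MvPowerSeries (Fin d) k →ₐ[k] Tr k (n + 2) :=
    evC I (fun i => a i • t k (n + 2)) hb with hc₂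
  have hc₂val : ∀ g : MvPowerSeries (Fin d) k, c₂ g =
      MvPolynomial.aeval (fun i => a i • t k (n + 2)) (truncTotal (n + 3) g) := by
    intro g
    have := evC_sub_mem I (fun i => a i • t k (n + 2)) hb (n + 3) g
    rw [hIpow, Ideal.mem_bot, sub_eq_zero] at this
    exact this
  have hc₂f : c₂ f ≠ 0 := by
    rw [hc₂val, ← hp, aeval_smul_t (n + 2) p hp_hom a]
    exact smul_ne_zero ha (t_pow_ne_zero k (n + 2))
  have hc₂J : ∀ j ∈ J, αAlg k (n + 1) (c₂ j) = 0 := by
    intro j hj
    have hjord : Ord (n + 2) j := by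
      have := hJm hj
      rw [h𝔪v] at this
      exact ord_of_mem_varIdeal_pow this
    have hmem := evC_sub_mem I (fun i => a i • t k (n + 2)) hb (n + 2) j
    have htr : truncTotal (n + 2) j = 0 := by
      ext v
      rw [MvPolynomial.coeff_zero]
      by_cases hv : v.degree < n + 2
      · rw [coeff_truncTotal j hv]
        exact hjord v hv
      · exact coeff_truncTotal_eq_zero j (not_lt.1 hv)
    rw [htr, map_zero, sub_zero] at hmem
    have hmem' : c₂ j ∈ I ^ (n + 2) := hmem
    have hIpow' : I ^ (n + 2) = Ideal.span {t k (n + 2) ^ (n + 2)} := by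
      rw [hI, Ideal.span_singleton_pow]
    rw [hIpow', Ideal.mem_span_singleton'] at hmem'
    obtain ⟨x, hx⟩ := hmem'
    rw [← hx, map_mul, map_pow, αAlg_t, t_pow, mul_zero]
  obtain ⟨c', hc'J, hc'⟩ := hlift n ((αAlg k (n + 1)).comp c₂) (fun j hj => hc₂J j hj)
  have heq : c' f = c₂ f :=
    lift_eq_on_sq (T1Lift.α k (n + 1)) (isSemismallExt_α k (n + 1)) c' c₂ hc' (hJ2 hfJ)
  exact hc₂f (heq ▸ hc'J f hfJ)

/-- Every `k`-algebra map from a complete local ring with residue field `k` to `k` is the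
augmentation. -/
lemma cring_algHom_eq_res (R : CRing k k) (χ : R.carrier →ₐ[k] k) : χ = R.res := by
  apply AlgHom.ext
  intro r
  have h := algHom_eq_zero_of_mem_maximalIdeal χ (cring_sub_algebraMap_mem R r)
  rw [map_sub, AlgHom.commutes, sub_eq_zero] at h
  exact h

/-- **The `T¹`-lifting theorem for `h_R`**: over a field of characteristic zero, a complete local
Noetherian `k`-algebra with residue field `k` all of whose curvilinear tangent lifting problems are
solvable is a power series ring. -/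
theorem exists_algEquiv_of_tangentLifts [CharZero k] (R : CRing k k)
    (hT : TangentLifts R.carrier R.res) :
    Nonempty (R.carrier ≃ₐ[k] MvPowerSeries
      (Fin (Module.finrank (ResidueField R.carrier) (CotangentSpace R.carrier))) k) := by
  obtain ⟨d, π, hπ, hker, hd⟩ := exists_presentation R
  subst hd
  set J : Ideal (MvPowerSeries (Fin (Module.finrank (ResidueField R.carrier)
    (CotangentSpace R.carrier))) k) := RingHom.ker π.toRingHom with hJdef
  have hJ : ∀ s, π s = 0 ↔ s ∈ J := fun s => Iff.rfl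
  have hJ2 : J ≤ IsLocalRing.maximalIdeal _ ^ 2 := fun s hs => hker s hs
  have hbot : J = ⊥ := by
    apply eq_bot_of_curv_lifts J hJ2
    intro n c hc
    have H : RingHom.ker π.toRingHom ≤ RingHom.ker c.toRingHom := fun s hs => hc s hs
    have hc₀ : (T1Lift.A k (n + 1)).res.comp (AlgHom.liftOfSurjective π hπ c H) = R.res :=
      cring_algHom_eq_res R _
    obtain ⟨⟨x', hx'⟩, hX'⟩ := exists_curv_lift (liftsAlong_mvPowerSeries _) R.res π hπ J hJ hJ2
      hT n ⟨AlgHom.liftOfSurjective π hπ c H, hc₀⟩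
    obtain ⟨x'', hx''⟩ : ∃ x'' : R.carrier →ₐ[k] Tr k (n + 2), x'' = x' := ⟨x', rfl⟩
    refine ⟨x''.comp π, ?_, ?_⟩
    · intro j hj
      rw [AlgHom.comp_apply, (hJ j).2 hj, map_zero]
    · apply AlgHom.ext
      intro s
      have h1 := congrArg (fun Z : HomSet R.carrier R.res (T1Lift.A k (n + 1)) =>
        (Subtype.val Z : R.carrier →ₐ[k] Tr k (n + 1)) (π s)) hX'
      change αAlg k (n + 1) (x' (π s)) = AlgHom.liftOfSurjective π hπ c H (π s) at h1
      rw [AlgHom.liftOfSurjective_apply, ← hx''] at h1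
      exact h1
  have hinj : Function.Injective π := by
    rw [injective_iff_map_eq_zero]
    intro s hs
    have : s ∈ J := (hJ s).1 hs
    rwa [hbot, Ideal.mem_bot] at this
  exact ⟨(AlgEquiv.ofBijective π ⟨hinj, hπ⟩).symm⟩

end Curv

end Groth.Agent.Lib.Helper9
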