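import Groth.Agent.Lib.Helper9.T1Core
import Groth.Agent.Lib.Helper76.PSCRing

/-!
# The module form of the `T¹`-lifting criterion (helper9)

`R ≅ k[[x₁..x_d]]` iff every `R → A ⊕ M` lifts along `A ⊕ M' → A ⊕ M` for surjective `M' → M`.
-/

set_option autoImplicit false
universe u v
open CategoryTheory

namespace Groth.Agent.Lib.Helper9

open ArtFun ArtFun.Art IsLocalRing MvPowerSeries T1Lift
open Groth.Agent.Lib.Helper76.PSComplete Groth.Agent.Lib.Helper76.PSCRing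

section Fwd

variable {k : Type u} [Field k] (A : Art k k) (M : Type u) [AddCommGroup M] [Module (↥A) M]
  [Module (↥A)ᵐᵒᵖ M] [IsCentralScalar (↥A) M] [Module k M] [IsScalarTower k (↥A) M]
  [IsScalarTower k (↥A)ᵐᵒᵖ M]

/-- The augmentation ideal of `A ⊕ M`. -/
def augIdeal : Ideal (TrivSqZeroExt (↥A) M) :=
  Ideal.comap (TrivSqZeroExt.fstHom k (↥A) M).toRingHom (maximalIdeal (↥A))

lemma mem_augIdeal_iff (x : TrivSqZeroExt (↥A) M) : x ∈ augIdeal A M ↔ x.fst ∈ maximalIdeal (↥A) :=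
  Iff.rfl

lemma exists_augIdeal_pow_eq_bot : ∃ N, augIdeal A M ^ N = ⊥ := by
  obtain ⟨N, hN⟩ := art_exists_pow_maximalIdeal_eq_bot A
  refine ⟨(N + 1) + (N + 1), ?_⟩
  have h1 : augIdeal A M ^ (N + 1) ≤ RingHom.ker (TrivSqZeroExt.fstHom k (↥A) M).toRingHom := by
    intro x hx
    have h2 := Ideal.mem_map_of_mem (TrivSqZeroExt.fstHom k (↥A) M).toRingHom hx
    rw [Ideal.map_pow] at h2
    have h3 : Ideal.map (TrivSqZeroExt.fstHom k (↥A) M).toRingHom (augIdeal A M) ≤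
        maximalIdeal (↥A) := Ideal.map_comap_le
    have h4 := Ideal.pow_right_mono h3 (N + 1) h2
    rw [hN] at h4
    exact h4
  have h2 : RingHom.ker (TrivSqZeroExt.fstHom k (↥A) M).toRingHom *
      RingHom.ker (TrivSqZeroExt.fstHom k (↥A) M).toRingHom = ⊥ := by
    rw [← le_bot_iff, Ideal.mul_le]
    intro x hx y hy
    have hx' : x.fst = 0 := hx
    have hy' : y.fst = 0 := hy
    rw [Ideal.mem_bot]
    apply TrivSqZeroExt.ext
    · rw [TrivSqZeroExt.fst_mul, hx', zero_mul, TrivSqZeroExt.fst_zero]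
    · rw [TrivSqZeroExt.snd_mul, hx', hy', zero_smul, MulOpposite.op_zero, zero_smul, add_zero,
        TrivSqZeroExt.snd_zero]
  rw [pow_add, ← le_bot_iff, ← h2]
  exact Ideal.mul_mono h1 h1

variable {A M}
variable {M' : Type u} [AddCommGroup M'] [Module (↥A) M'] [Module (↥A)ᵐᵒᵖ M']
  [IsCentralScalar (↥A) M'] [Module k M'] [IsScalarTower k (↥A) M'] [IsScalarTower k (↥A)ᵐᵒᵖ M']

/-- Maps from a power series ring to `A ⊕ M` lift along `A ⊕ M' → A ⊕ M`. -/
theorem exists_lift_trivSqZeroExt (d : ℕ) (f : M' →ₗ[↥A] M) (hf : Function.Surjective f)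
    (φ : MvPowerSeries (Fin d) k →ₐ[k] TrivSqZeroExt (↥A) M) :
    ∃ ψ : MvPowerSeries (Fin d) k →ₐ[k] TrivSqZeroExt (↥A) M',
      ∀ r, (ψ r).fst = (φ r).fst ∧ f (ψ r).snd = (φ r).snd := by
  obtain ⟨N', hN'⟩ := exists_augIdeal_pow_eq_bot A M'
  haveI : IsAdicComplete (augIdeal A M') (TrivSqZeroExt (↥A) M') := isAdicComplete_of_pow_eq_bot hN'
  obtain ⟨N, hN⟩ := exists_augIdeal_pow_eq_bot A M
  haveI : IsAdicComplete (augIdeal A M) (TrivSqZeroExt (↥A) M) := isAdicComplete_of_pow_eq_bot hN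
  choose m' hm' using fun i : Fin d => hf (φ (X i)).snd
  have hXmem : ∀ i : Fin d, (X i : MvPowerSeries (Fin d) k) ∈
      maximalIdeal (MvPowerSeries (Fin d) k) := by
    intro i
    rw [maximalIdeal_eq_varIdeal k (Fin d)]
    exact Ideal.subset_span ⟨i, rfl⟩
  have hφmem : ∀ i : Fin d, (φ (X i)).fst ∈ maximalIdeal (↥A) := fun i =>
    algHom_mem_maximalIdeal A ((TrivSqZeroExt.fstHom k (↥A) M).comp φ) (hXmem i)
  set b' : Fin d → TrivSqZeroExt (↥A) M' := fun i =>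
    TrivSqZeroExt.inl (φ (X i)).fst + TrivSqZeroExt.inr (m' i) with hb'def
  have hb' : ∀ i, b' i ∈ augIdeal A M' := by
    intro i
    rw [mem_augIdeal_iff, hb'def]
    simp only [TrivSqZeroExt.fst_add, TrivSqZeroExt.fst_inl, TrivSqZeroExt.fst_inr, add_zero]
    exact hφmem i
  set ψ : MvPowerSeries (Fin d) k →ₐ[k] TrivSqZeroExt (↥A) M' := evC (augIdeal A M') b' hb' with hψ
  set χ : MvPowerSeries (Fin d) k →ₐ[k] TrivSqZeroExt (↥A) M :=
    ((TrivSqZeroExt.map f).restrictScalars k).comp ψ with hχ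
  have hχX : ∀ i, χ (X i) = φ (X i) := by
    intro i
    rw [hχ, AlgHom.comp_apply, hψ, evC_X]
    change TrivSqZeroExt.map f (b' i) = _
    rw [hb'def]
    simp only [map_add, TrivSqZeroExt.map_inl, TrivSqZeroExt.map_inr, hm']
    exact TrivSqZeroExt.inl_fst_add_inr_snd_eq _
  have hφI : ∀ i, φ (X i) ∈ augIdeal A M := fun i => (mem_augIdeal_iff A M _).2 (hφmem i)
  have hχI : ∀ i, χ (X i) ∈ augIdeal A M := fun i => by rw [hχX]; exact hφI i
  have hχφ : χ = φ := by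
    rw [evC_unique (augIdeal A M) χ hχI, evC_unique (augIdeal A M) φ hφI]
    exact evC_congr (augIdeal A M) (funext hχX) _
  refine ⟨ψ, fun r => ?_⟩
  have h1 : χ r = φ r := congrArg (fun g : MvPowerSeries (Fin d) k →ₐ[k] _ => g r) hχφ
  rw [← h1]
  constructor
  · exact (TrivSqZeroExt.fst_map f (ψ r)).symm
  · exact (TrivSqZeroExt.snd_map f (ψ r)).symm

/-- Transport of the lifting property along an isomorphism with a power series ring. -/
theorem exists_lift_trivSqZeroExt_of_algEquiv {R : Type u} [CommRing R] [Algebra k R] (d : ℕ)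
    (e : R ≃ₐ[k] MvPowerSeries (Fin d) k) (f : M' →ₗ[↥A] M) (hf : Function.Surjective f)
    (φ : R →ₐ[k] TrivSqZeroExt (↥A) M) :
    ∃ ψ : R →ₐ[k] TrivSqZeroExt (↥A) M',
      ∀ r, (ψ r).fst = (φ r).fst ∧ f (ψ r).snd = (φ r).snd := by
  obtain ⟨ψ', hψ'⟩ := exists_lift_trivSqZeroExt d f hf (φ.comp e.symm.toAlgHom)
  refine ⟨ψ'.comp e.toAlgHom, fun r => ?_⟩
  have h := hψ' (e r)
  have h2 : (φ.comp e.symm.toAlgHom) (e r) = φ r := by
    change φ (e.symm (e r)) = φ r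
    rw [AlgEquiv.symm_apply_apply]
  rw [h2] at h
  exact h

end Fwd

noncomputable section Syn

variable (k : Type u) [Field k] (n : ℕ)

/-- `k[t]/(t^(n+1))` as a module over `k[t]/(t^(n+2))` via `t ↦ t`. -/
def Mα : Type u := Tr k n

instance : AddCommGroup (Mα k n) := inferInstanceAs (AddCommGroup (Tr k n))
instance : Module k (Mα k n) := inferInstanceAs (Module k (Tr k n))
instance : Module (↥(T1Lift.A k (n + 1))) (Mα k n) :=
  Module.compHom (Tr k n) (αAlg k n).toRingHom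
instance : Module (↥(T1Lift.A k (n + 1)))ᵐᵒᵖ (Mα k n) :=
  Module.compHom (Tr k n) ((αAlg k n).toRingHom.fromOpposite fun _ _ => Commute.all _ _)
instance : IsCentralScalar (↥(T1Lift.A k (n + 1))) (Mα k n) := ⟨fun _ _ => rfl⟩

instance : IsScalarTower k (↥(T1Lift.A k (n + 1))) (Mα k n) :=
  ⟨fun c a m => by
    obtain ⟨a', rfl⟩ : ∃ a' : Tr k (n + 1), a' = a := ⟨a, rfl⟩
    obtain ⟨m', rfl⟩ : ∃ m' : Tr k n, m' = m := ⟨m, rfl⟩
    change αAlg k n (c • a') * m' = c • (αAlg k n a' * m')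
    rw [map_smul, smul_mul_assoc]⟩
instance : IsScalarTower k (↥(T1Lift.A k (n + 1)))ᵐᵒᵖ (Mα k n) :=
  ⟨fun c a m => by
    obtain ⟨a', rfl⟩ : ∃ a' : Tr k (n + 1), MulOpposite.op a' = a := ⟨a.unop, rfl⟩
    obtain ⟨m', rfl⟩ : ∃ m' : Tr k n, m' = m := ⟨m, rfl⟩
    change αAlg k n (c • a') * m' = c • (αAlg k n a' * m')
    rw [map_smul, smul_mul_assoc]⟩

/-- `k[t]/(t^(n+2))` as a module over itself. -/
def Mself : Type u := Tr k (n + 1)

instance : AddCommGroup (Mself k n) := inferInstanceAs (AddCommGroup (Tr k (n + 1)))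
instance : Module k (Mself k n) := inferInstanceAs (Module k (Tr k (n + 1)))
instance : Module (↥(T1Lift.A k (n + 1))) (Mself k n) :=
  inferInstanceAs (Module (Tr k (n + 1)) (Tr k (n + 1)))
instance : Module (↥(T1Lift.A k (n + 1)))ᵐᵒᵖ (Mself k n) :=
  inferInstanceAs (Module (Tr k (n + 1))ᵐᵒᵖ (Tr k (n + 1)))
instance : IsCentralScalar (↥(T1Lift.A k (n + 1))) (Mself k n) :=
  inferInstanceAs (IsCentralScalar (Tr k (n + 1)) (Tr k (n + 1)))
instance : IsScalarTower k (↥(T1Lift.A k (n + 1))) (Mself k n) :=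
  inferInstanceAs (IsScalarTower k (Tr k (n + 1)) (Tr k (n + 1)))
instance : IsScalarTower k (↥(T1Lift.A k (n + 1)))ᵐᵒᵖ (Mself k n) :=
  inferInstanceAs (IsScalarTower k (Tr k (n + 1))ᵐᵒᵖ (Tr k (n + 1)))

/-- The truncation `t ↦ t` as a linear map. -/
def fα : Mself k n →ₗ[↥(T1Lift.A k (n + 1))] Mα k n where
  toFun m := αAlg k n (show Tr k (n + 1) from m)
  map_add' x y := map_add (αAlg k n) _ _
  map_smul' a m := map_mul (αAlg k n) a _

lemma fα_surjective : Function.Surjective (fα k n) := αAlg_surjective k n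

lemma fst_εAlg (a : Tr k (n + 1)) : (εAlg k n a).fst = αAlg k n a :=
  congrArg (fun g : T1Lift.A k (n + 1) ⟶ T1Lift.A k n => g a) (ε_β k n)

/-- The derivation part of `ε`. -/
def dε (a : ↥(T1Lift.A k (n + 1))) : Mα k n := (εAlg k n a).snd

lemma dε_one : dε k n 1 = 0 := by
  change (εAlg k n 1).snd = 0
  rw [map_one, TrivSqZeroExt.snd_one]

lemma dε_zero : dε k n 0 = 0 := by
  change (εAlg k n 0).snd = 0
  rw [map_zero, TrivSqZeroExt.snd_zero]

lemma dε_add (a b : ↥(T1Lift.A k (n + 1))) : dε k n (a + b) = dε k n a + dε k n b := by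
  obtain ⟨a', rfl⟩ : ∃ a' : Tr k (n + 1), a' = a := ⟨a, rfl⟩
  obtain ⟨b', rfl⟩ : ∃ b' : Tr k (n + 1), b' = b := ⟨b, rfl⟩
  change (εAlg k n (a' + b')).snd = (εAlg k n a').snd + (εAlg k n b').snd
  rw [map_add, TrivSqZeroExt.snd_add]

lemma dε_algebraMap (c : k) : dε k n (algebraMap k _ c) = 0 := by
  change (εAlg k n (algebraMap k (Tr k (n + 1)) c)).snd = 0
  rw [AlgHom.commutes, TrivSqZeroExt.algebraMap_eq_inl', TrivSqZeroExt.snd_inl]

lemma dε_mul (a b : ↥(T1Lift.A k (n + 1))) :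
    dε k n (a * b) = a • dε k n b + b • dε k n a := by
  obtain ⟨a', rfl⟩ : ∃ a' : Tr k (n + 1), a' = a := ⟨a, rfl⟩
  obtain ⟨b', rfl⟩ : ∃ b' : Tr k (n + 1), b' = b := ⟨b, rfl⟩
  change (εAlg k n (a' * b')).snd =
    αAlg k n a' * (εAlg k n b').snd + αAlg k n b' * (εAlg k n a').snd
  rw [map_mul, TrivSqZeroExt.snd_mul, fst_εAlg, fst_εAlg, op_smul_eq_smul, smul_eq_mul,
    smul_eq_mul]

/-- `a ↦ (a, ∂a)` where `ε a = (a mod t^(n+1), ∂a)`. -/
def εhat : ↥(T1Lift.A k (n + 1)) →ₐ[k] TrivSqZeroExt (↥(T1Lift.A k (n + 1))) (Mα k n) where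
  toFun a := TrivSqZeroExt.inl a + TrivSqZeroExt.inr (dε k n a)
  map_one' := by
    rw [dε_one, TrivSqZeroExt.inr_zero, add_zero, TrivSqZeroExt.inl_one]
  map_mul' a b := by
    rw [dε_mul]
    apply TrivSqZeroExt.ext
    · simp only [TrivSqZeroExt.fst_add, TrivSqZeroExt.fst_inl, TrivSqZeroExt.fst_inr, add_zero,
        TrivSqZeroExt.fst_mul]
    · simp only [TrivSqZeroExt.snd_add, TrivSqZeroExt.snd_inl, TrivSqZeroExt.snd_inr, zero_add,
        TrivSqZeroExt.snd_mul, TrivSqZeroExt.fst_add, TrivSqZeroExt.fst_inl,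
        TrivSqZeroExt.fst_inr, add_zero, op_smul_eq_smul]
  map_zero' := by
    rw [dε_zero, TrivSqZeroExt.inr_zero, add_zero, TrivSqZeroExt.inl_zero]
  map_add' a b := by
    rw [dε_add, TrivSqZeroExt.inl_add, TrivSqZeroExt.inr_add]
    abel
  commutes' c := by
    rw [dε_algebraMap, TrivSqZeroExt.inr_zero, add_zero, TrivSqZeroExt.algebraMap_eq_inl']

lemma εhat_fst (a : ↥(T1Lift.A k (n + 1))) : (εhat k n a).fst = a := by
  change (TrivSqZeroExt.inl a + TrivSqZeroExt.inr (dε k n a)).fst = a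
  rw [TrivSqZeroExt.fst_add, TrivSqZeroExt.fst_inl, TrivSqZeroExt.fst_inr, add_zero]

lemma εhat_snd (a : ↥(T1Lift.A k (n + 1))) : (εhat k n a).snd = dε k n a := by
  change (TrivSqZeroExt.inl a + TrivSqZeroExt.inr (dε k n a)).snd = _
  rw [TrivSqZeroExt.snd_add, TrivSqZeroExt.snd_inl, TrivSqZeroExt.snd_inr, zero_add]

end Syn

section Bwd

variable {k : Type u} [Field k]

/-- The module form of the lifting criterion gives the curvilinear tangent lifting property. -/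
theorem tangentLifts_of_trivSqZeroExt_lifting (R : CRing k k)
    (h : ∀ (A : ArtFun.Art k k) (M M' : Type u) [AddCommGroup M] [Module (↥A) M]
        [Module (↥A)ᵐᵒᵖ M] [IsCentralScalar (↥A) M] [Module k M] [IsScalarTower k (↥A) M]
        [IsScalarTower k (↥A)ᵐᵒᵖ M] [AddCommGroup M'] [Module (↥A) M'] [Module (↥A)ᵐᵒᵖ M']
        [IsCentralScalar (↥A) M'] [Module k M'] [IsScalarTower k (↥A) M']
        [IsScalarTower k (↥A)ᵐᵒᵖ M'] (f : M' →ₗ[↥A] M),
        Function.Surjective f →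
          ∀ φ : R.carrier →ₐ[k] TrivSqZeroExt (↥A) M,
            ∃ ψ : R.carrier →ₐ[k] TrivSqZeroExt (↥A) M',
              ∀ r : R.carrier, (ψ r).fst = (φ r).fst ∧ f (ψ r).snd = (φ r).snd) :
    TangentLifts R.carrier R.res := by
  intro n X
  obtain ⟨x, hx⟩ := X
  obtain ⟨ψ, hψ⟩ := h (T1Lift.A k (n + 1)) (Mα k n) (Mself k n) (fα k n) (fα_surjective k n)
    ((εhat k n).comp x)
  obtain ⟨y, hy⟩ : ∃ y : R.carrier →ₐ[k] ↥(T1Lift.B k (n + 1)),
      ∀ r, (y r : DualNumber (Tr k (n + 1))) = ψ r := ⟨ψ, fun _ => rfl⟩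
  refine ⟨⟨y, cring_algHom_eq_res R _⟩, ?_, ?_⟩
  · apply Subtype.ext
    apply AlgHom.ext
    intro r
    change TrivSqZeroExt.fst (y r : DualNumber (Tr k (n + 1))) = x r
    rw [hy]
    exact ((hψ r).1).trans (εhat_fst k n (x r))
  · apply Subtype.ext
    apply AlgHom.ext
    intro r
    change dualMap k (αAlg k n) (y r : DualNumber (Tr k (n + 1))) = εAlg k n (x r)
    rw [hy]
    apply TrivSqZeroExt.ext
    · have h1 : TrivSqZeroExt.fst (ψ r) = x r := ((hψ r).1).trans (εhat_fst k n (x r))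
      exact (congrArg (αAlg k n) h1).trans (fst_εAlg k n (x r)).symm
    · exact ((hψ r).2).trans (εhat_snd k n (x r))

end Bwd

end Groth.Agent.Lib.Helper9
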