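import Groth.Agent.Lib.Helper9.T1Core
import Groth.Agent.Lib.Helper63.ArtFun

/-!
# The `T¹`-lifting theorem for functors with a hull (helper9)
-/

set_option autoImplicit false
universe u v
open CategoryTheory

namespace Groth.Agent.Lib.Helper9

open ArtFun ArtFun.Art IsLocalRing T1Lift
open Groth.Agent.Lib.Helper63.ArtFunLib

section

variable {k : Type u} [Field k]

/-- The section `a ↦ (a, 0)` of `β`. -/
noncomputable def ιB (n : ℕ) : T1Lift.A k n ⟶ T1Lift.B k n :=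
  Art.homMk (TrivSqZeroExt.inlAlgHom k (Tr k n) (Tr k n)) (AlgHom.ext fun _ => rfl)

lemma ιB_β (n : ℕ) : ιB (k := k) n ≫ β k n = 𝟙 _ :=
  Art.hom_ext (AlgHom.ext fun _ => rfl)

lemma ker_β_sq (n : ℕ) :
    RingHom.ker (β k n).toAlgHom * RingHom.ker (β k n).toAlgHom = ⊥ := by
  rw [← le_bot_iff, Ideal.mul_le]
  intro x hx y hy
  have hx' : TrivSqZeroExt.fst (x : DualNumber (Tr k n)) = 0 := hx
  have hy' : TrivSqZeroExt.fst (y : DualNumber (Tr k n)) = 0 := hy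
  rw [Ideal.mem_bot]
  obtain ⟨x', rfl⟩ : ∃ x' : DualNumber (Tr k n), x' = x := ⟨x, rfl⟩
  obtain ⟨y', rfl⟩ : ∃ y' : DualNumber (Tr k n), y' = y := ⟨y, rfl⟩
  change x' * y' = 0
  apply TrivSqZeroExt.ext
  · rw [TrivSqZeroExt.fst_mul, hx', zero_mul, TrivSqZeroExt.fst_zero]
  · rw [TrivSqZeroExt.snd_mul, hx', hy', zero_smul, MulOpposite.op_zero, zero_smul, add_zero,
      TrivSqZeroExt.snd_zero]

lemma ker_pC''_sq (n : ℕ) :
    RingHom.ker (pC'' k n).toAlgHom * RingHom.ker (pC'' k n).toAlgHom = ⊥ := by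
  rw [← le_bot_iff, Ideal.mul_le]
  intro x hx y hy
  obtain ⟨x', rfl⟩ := ψC_surjective k n x
  obtain ⟨y', rfl⟩ := ψC_surjective k n y
  have hx' : x' ∈ RingHom.ker (β k (n + 1)).toAlgHom := by
    have : (ψC k n ≫ pC'' k n) x' = 0 := hx
    rw [ψC_pC''] at this
    exact this
  have hy' : y' ∈ RingHom.ker (β k (n + 1)).toAlgHom := by
    have : (ψC k n ≫ pC'' k n) y' = 0 := hy
    rw [ψC_pC''] at this
    exact this
  have h0 : x' * y' = 0 := by
    have := Ideal.mul_mem_mul hx' hy'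
    rw [ker_β_sq, Ideal.mem_bot] at this
    exact this
  rw [Ideal.mem_bot]
  change (ψC k n).toAlgHom x' * (ψC k n).toAlgHom y' = 0
  rw [← map_mul, h0, map_zero]

/-- The `T¹`-lifting hypothesis on a functor with a versal family gives the curvilinear tangent
lifting property of the base ring. -/
theorem tangentLifts_of_isVersal {F : Art k k ⥤ Type v} (R : CRing k k)
    (ξ : Family R.carrier R.res F) (hξ : IsVersal ξ)
    (hT1 : ∀ ⦃A A' A'' : Art k k⦄ (π' : A' ⟶ A) (i' : A ⟶ A') (π'' : A'' ⟶ A) (i'' : A ⟶ A'')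
        (q : A'' ⟶ A'), i' ≫ π' = 𝟙 A → i'' ≫ π'' = 𝟙 A →
        RingHom.ker π'.toAlgHom * RingHom.ker π'.toAlgHom = ⊥ →
        RingHom.ker π''.toAlgHom * RingHom.ker π''.toAlgHom = ⊥ →
        q ≫ π' = π'' → i'' ≫ q = i' → Function.Surjective q → Function.Surjective (F.map q)) :
    TangentLifts R.carrier R.res := by
  intro n X
  have hq : Function.Surjective (F.map (ψC k n)) :=
    hT1 (pC'' k n) (ιB (n + 1) ≫ ψC k n) (β k (n + 1)) (ιB (n + 1)) (ψC k n)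
      (by rw [Category.assoc, ψC_pC'', ιB_β]) (ιB_β (n + 1)) (ker_pC''_sq n) (ker_β_sq (n + 1))
      (ψC_pC'' k n) rfl (ψC_surjective k n)
  obtain ⟨Z, hZ1, hZ2⟩ := exists_homSet_lift_of_isFibreProd (isFibreProd_Cobj k n)
    (HomSet.map (ε k n) X) X (by rw [← homSet_map_comp, ε_β])
  obtain ⟨y, hy⟩ := hq (ξ.app _ Z)
  obtain ⟨Y, hY1, -⟩ := hξ (ψC k n) (ψC_surjective k n) Z y hy
  refine ⟨Y, ?_, ?_⟩
  · rw [← ψC_pC'', homSet_map_comp, hY1, hZ2]
  · rw [← ψC_pC', homSet_map_comp, hY1, hZ1]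

/-- `h_R` is smooth when `R` is a power series ring. -/
theorem isSmoothFunctor_hR_of_algEquiv (R : CRing k k) (d : ℕ)
    (e : R.carrier ≃ₐ[k] MvPowerSeries (Fin d) k) : IsSmoothFunctor (hR R.carrier R.res) := by
  intro B A μ hμ φ₀
  obtain ⟨φ, rfl⟩ : ∃ φ : HomSet R.carrier R.res A, φ = φ₀ := ⟨φ₀, rfl⟩
  obtain ⟨ψ₀, hψ₀⟩ := liftsAlong_mvPowerSeries (k := k) d μ hμ (φ.1.comp e.symm.toAlgHom)
  refine ⟨(⟨ψ₀.comp e.toAlgHom, cring_algHom_eq_res R _⟩ : HomSet R.carrier R.res B), ?_⟩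
  apply Subtype.ext
  apply AlgHom.ext
  intro r
  have h1 := congrArg (fun g : MvPowerSeries (Fin d) k →ₐ[k] A => g (e r)) hψ₀
  change μ (ψ₀ (e r)) = φ.1 (e.symm (e r)) at h1
  rw [AlgEquiv.symm_apply_apply] at h1
  exact h1

/-- **`T¹`-lifting theorem**: over a field of characteristic zero, a functor with a versal family
over a complete local Noetherian ring satisfying the `T¹`-lifting hypothesis is smooth. -/
theorem isSmoothFunctor_of_isVersal_of_T1 [CharZero k] {F : Art k k ⥤ Type v} (h0 : H0 F)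
    (R : CRing k k) (ξ : Family R.carrier R.res F) (hξ : IsVersal ξ)
    (hT1 : ∀ ⦃A A' A'' : Art k k⦄ (π' : A' ⟶ A) (i' : A ⟶ A') (π'' : A'' ⟶ A) (i'' : A ⟶ A'')
        (q : A'' ⟶ A'), i' ≫ π' = 𝟙 A → i'' ≫ π'' = 𝟙 A →
        RingHom.ker π'.toAlgHom * RingHom.ker π'.toAlgHom = ⊥ →
        RingHom.ker π''.toAlgHom * RingHom.ker π''.toAlgHom = ⊥ →
        q ≫ π' = π'' → i'' ≫ q = i' → Function.Surjective q → Function.Surjective (F.map q)) :
    IsSmoothFunctor F := by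
  obtain ⟨e⟩ := exists_algEquiv_of_tangentLifts R (tangentLifts_of_isVersal R ξ hξ hT1)
  have hR := isSmoothFunctor_hR_of_algEquiv R _ e
  obtain ⟨hne, hsub⟩ := h0
  have hξsurj : ∀ A : Art k k, Function.Surjective (ξ.app A) := by
    intro A a
    let φ₀ : HomSet R.carrier R.res (Art.base k k) := ⟨R.res, AlgHom.id_comp _⟩
    obtain ⟨ψ, -, hψ⟩ := hξ (Art.toBase A) A.res_surjective φ₀ a (Subsingleton.elim _ _)
    exact ⟨ψ, hψ⟩
  intro B A μ hμ a
  obtain ⟨φ, rfl⟩ := hξsurj A a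
  obtain ⟨ψ₀, hψ₀⟩ := hR μ hμ φ
  obtain ⟨ψ, rfl⟩ : ∃ ψ : HomSet R.carrier R.res B, ψ = ψ₀ := ⟨ψ₀, rfl⟩
  have hψ : HomSet.map μ ψ = φ := hψ₀
  refine ⟨ξ.app B ψ, ?_⟩
  rw [← ξ.natural, hψ]

end

end Groth.Agent.Lib.Helper9
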