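import Mathlib
import Groth.Prelude.Def_RegImm
import Groth.Agent.Lib.Helper24.FlatColim
import Groth.Agent.Lib.Helper54.FpKer2

/-!
# Transversally regular sequences: base change, localization, descent through colimits (helper9)

Algebra behind EGA IV 11.3 / 19.8 in the limit setting: `tr_baseChange` / `tr_of_isPushout`
(stability of `RegImm.IsTransRegularSeq` under arbitrary base change), `tr_congr`,
`flat_quot_localization` / `flat_localizedModule_quot` (localization of flat quotients),
`colon_map` (colon ideals commute with base change when the cokernel is flat), `colonI_fg`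
(finite generation of colon ideals, via helper54's `fp_ker_of_flat`), and `exists_stage_tr`
(a transversally regular sequence on a colimit of base changes of a finitely presented algebra is
already transversally regular at a finite stage).
-/

set_option autoImplicit false
universe u
open TensorProduct RingTheory.Sequence

namespace Groth.Agent.Lib.Helper9.TRSeq

section elem
variable {B : Type u} [CommRing B]

theorem wr_iff_elem (rs : List B) :
    IsWeaklyRegular B rs ↔ ∀ (i : ℕ) (h : i < rs.length) (b : B),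
      rs[i] * b ∈ Ideal.ofList (rs.take i) → b ∈ Ideal.ofList (rs.take i) := by
  rw [isWeaklyRegular_iff]
  refine forall_congr' fun i => forall_congr' fun h => ?_
  rw [isSMulRegular_quotient_iff_mem_of_smul_mem]
  have e : (Ideal.ofList (rs.take i) • ⊤ : Submodule B B) = Ideal.ofList (rs.take i) := by
    rw [smul_eq_mul, Ideal.mul_top]
  rw [e]
  simp only [smul_eq_mul]

theorem ofList_take_succ (rs : List B) (i : ℕ) (h : i < rs.length) :
    Ideal.ofList (rs.take (i+1)) = Ideal.ofList (rs.take i) ⊔ Ideal.span {rs[i]} := by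
  rw [List.take_succ_eq_append_getElem h, Ideal.ofList_append, Ideal.ofList_singleton]

end elem

section ker
variable {A : Type u} [CommRing A] {M P : Type u} [AddCommGroup M] [Module A M]
  [AddCommGroup P] [Module A P]

theorem ker_lTensor_le [Module.Flat A P]
    (f : M →ₗ[A] M) (g : M →ₗ[A] P) (hg : Function.Surjective g) (H : Function.Exact f g)
    (X : Type u) [AddCommGroup X] [Module A X] (t : X ⊗[A] M) (ht : f.lTensor X t = 0) :
    t ∈ LinearMap.range ((LinearMap.ker f).subtype.lTensor X) := by
  have hι : Function.Exact (LinearMap.range f).subtype g := by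
    intro y
    rw [H y]
    simp
  have hinj : Function.Injective ((LinearMap.range f).subtype.lTensor X) :=
    LinearMap.lTensor_injective_of_exact_of_flat g hg (LinearMap.range f).subtype
      (Submodule.subtype_injective _) hι X
  have hcomp : f.lTensor X = ((LinearMap.range f).subtype.lTensor X) ∘ₗ (f.rangeRestrict.lTensor X) := by
    rw [← LinearMap.lTensor_comp]
    rfl
  have h1 : f.rangeRestrict.lTensor X t = 0 := by
    apply hinj
    rw [map_zero, ← LinearMap.comp_apply, ← hcomp]
    exact ht
  have hex : Function.Exact ((LinearMap.ker f.rangeRestrict).subtype.lTensor X)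
      (f.rangeRestrict.lTensor X) :=
    lTensor_exact X (LinearMap.exact_subtype_ker_map f.rangeRestrict)
      (LinearMap.surjective_rangeRestrict f)
  obtain ⟨s, hs⟩ := (hex t).mp h1
  have hk : LinearMap.ker f.rangeRestrict = LinearMap.ker f := LinearMap.ker_rangeRestrict f
  rw [← hk]
  exact ⟨s, hs⟩

theorem lTensor_injective_of_flat_coker [Module.Flat A P]
    (f : M →ₗ[A] M) (g : M →ₗ[A] P) (hg : Function.Surjective g) (H : Function.Exact f g)
    (hf : Function.Injective f)
    (X : Type u) [AddCommGroup X] [Module A X] : Function.Injective (f.lTensor X) := by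
  rw [injective_iff_map_eq_zero]
  intro t ht
  obtain ⟨s, rfl⟩ := ker_lTensor_le f g hg H X t ht
  have hk : LinearMap.ker f = ⊥ := LinearMap.ker_eq_bot.mpr hf
  clear ht
  have : s = 0 := by
    induction s with
    | zero => rfl
    | tmul x m =>
      have hm : m = 0 := by
        apply Subtype.ext
        have h2 := m.2
        rw [LinearMap.mem_ker] at h2
        exact hf (by rw [h2]; simp)
      rw [hm, tmul_zero]
    | add a b ha hb => rw [ha, hb, add_zero]
  rw [this, map_zero]

end ker

section exact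
variable (A : Type u) [CommRing A] {B : Type u} [CommRing B] [Algebra A B]

theorem exact_mul_factor (I I' : Ideal B) (r : B) (hI : I' = I ⊔ Ideal.span {r}) (hle : I ≤ I') :
    Function.Exact (LinearMap.mulLeft A (Ideal.Quotient.mk I r))
      (Ideal.Quotient.factorₐ A hle).toLinearMap := by
  intro y
  obtain ⟨b, rfl⟩ := Ideal.Quotient.mk_surjective y
  constructor
  · intro h
    have h1 : (Ideal.Quotient.mk I') b = 0 := h
    rw [Ideal.Quotient.eq_zero_iff_mem, hI, Submodule.mem_sup] at h1
    obtain ⟨c, hc, d, hd, rfl⟩ := h1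
    obtain ⟨a, rfl⟩ := Ideal.mem_span_singleton'.mp hd
    refine ⟨Ideal.Quotient.mk I a, ?_⟩
    rw [LinearMap.mulLeft_apply, ← map_mul, eq_comm, Ideal.Quotient.mk_eq_mk_iff_sub_mem]
    have : c + a * r - r * a = c := by ring
    rw [this]
    exact hc
  · rintro ⟨z, hz⟩
    obtain ⟨a, rfl⟩ := Ideal.Quotient.mk_surjective z
    rw [← hz, LinearMap.mulLeft_apply, ← map_mul]
    change (Ideal.Quotient.mk I') (r * a) = 0
    rw [Ideal.Quotient.eq_zero_iff_mem, hI]
    exact Ideal.mul_mem_right _ _ (Ideal.mem_sup_right (Ideal.subset_span rfl))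

end exact

section BaseChange
variable (A : Type u) [CommRing A] (B : Type u) [CommRing B] [Algebra A B]
  (A' : Type u) [CommRing A'] [Algebra A A']

/-- the ring map `A' ⊗ B → A' ⊗ B/I` -/
noncomputable def piI (I : Ideal B) : A' ⊗[A] B →ₐ[A] A' ⊗[A] (B ⧸ I) :=
  Algebra.TensorProduct.map (AlgHom.id A A') (Ideal.Quotient.mkₐ A I)

theorem ker_piI (I : Ideal B) : RingHom.ker (piI A B A' I) =
    I.map (Algebra.TensorProduct.includeRight : B →ₐ[A] A' ⊗[A] B) := by
  unfold piI
  rw [Algebra.TensorProduct.lTensor_ker _ (Ideal.Quotient.mkₐ_surjective A I)]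
  congr 1
  ext x
  simp [RingHom.mem_ker, Ideal.Quotient.eq_zero_iff_mem]

theorem piI_mul (I : Ideal B) (r : B) (t : A' ⊗[A] B) :
    piI A B A' I ((Algebra.TensorProduct.includeRight : B →ₐ[A] A' ⊗[A] B) r * t) =
      (LinearMap.mulLeft A (Ideal.Quotient.mk I r)).lTensor A' (piI A B A' I t) := by
  induction t with
  | zero => simp
  | tmul a b =>
    simp [piI, Algebra.TensorProduct.tmul_mul_tmul]
  | add x y hx hy => rw [mul_add, map_add, map_add, map_add, hx, hy]

theorem ofList_take_map (rs : List B) (j : ℕ) :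
    Ideal.ofList ((rs.map (Algebra.TensorProduct.includeRight : B →ₐ[A] A' ⊗[A] B)).take j) =
      (Ideal.ofList (rs.take j)).map (Algebra.TensorProduct.includeRight : B →ₐ[A] A' ⊗[A] B) := by
  rw [← List.map_take]
  exact (Ideal.map_ofList ((Algebra.TensorProduct.includeRight : B →ₐ[A] A' ⊗[A] B) :
    B →+* A' ⊗[A] B) _).symm

theorem tr_baseChange (rs : List B) (h : RegImm.IsTransRegularSeq A B rs) :
    RegImm.IsTransRegularSeq A' (A' ⊗[A] B)
      (rs.map (Algebra.TensorProduct.includeRight : B →ₐ[A] A' ⊗[A] B)) := by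
  obtain ⟨hwr, hflat⟩ := h
  have hwr' := (wr_iff_elem rs).mp hwr
  constructor
  · rw [wr_iff_elem]
    intro i hi t ht
    have hi' : i < rs.length := by simpa using hi
    rw [ofList_take_map] at ht ⊢
    rw [← ker_piI, RingHom.mem_ker] at ht ⊢
    have hget : (rs.map (Algebra.TensorProduct.includeRight : B →ₐ[A] A' ⊗[A] B))[i] =
        (Algebra.TensorProduct.includeRight : B →ₐ[A] A' ⊗[A] B) rs[i] := by simp
    rw [hget, piI_mul] at ht
    have hinj : Function.Injective ((LinearMap.mulLeft A
        (Ideal.Quotient.mk (Ideal.ofList (rs.take i)) rs[i])).lTensor A') := by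
      haveI : Module.Flat A (B ⧸ Ideal.ofList (rs.take (i+1))) := hflat (i+1) hi'
      have hle : Ideal.ofList (rs.take i) ≤ Ideal.ofList (rs.take (i+1)) := by
        rw [ofList_take_succ rs i hi']; exact le_sup_left
      refine lTensor_injective_of_flat_coker _ (Ideal.Quotient.factorₐ A hle).toLinearMap ?_
        (exact_mul_factor A _ _ rs[i] (ofList_take_succ rs i hi') hle) ?_ A'
      · exact Ideal.Quotient.factor_surjective hle
      · rw [injective_iff_map_eq_zero]
        intro y hy
        obtain ⟨b, rfl⟩ := Ideal.Quotient.mk_surjective y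
        rw [LinearMap.mulLeft_apply, ← map_mul, Ideal.Quotient.eq_zero_iff_mem] at hy
        rw [Ideal.Quotient.eq_zero_iff_mem]
        exact hwr' i hi' b hy
    exact hinj (by rw [ht, map_zero])
  · intro j hj
    have hj' : j ≤ rs.length := by simpa using hj
    rw [ofList_take_map]
    haveI := hflat j hj'
    exact Module.Flat.of_linearEquiv (Algebra.TensorProduct.tensorQuotientEquiv (R := A) A' B A'
      (Ideal.ofList (rs.take j))).symm.toLinearEquiv

end BaseChange

section Congr

theorem tr_congr {A B B' : Type u} [CommRing A] [CommRing B] [CommRing B'] [Algebra A B]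
    [Algebra A B'] (e : B ≃ₐ[A] B') (rs : List B) (h : RegImm.IsTransRegularSeq A B rs) :
    RegImm.IsTransRegularSeq A B' (rs.map e) := by
  obtain ⟨hwr, hflat⟩ := h
  constructor
  · exact (AddEquiv.isWeaklyRegular_congr (e := e.toAddEquiv)
      (List.forall₂_map_right_iff.mpr (List.forall₂_same.mpr fun r _ x => map_mul e r x))).mp hwr
  · intro j hj
    have hj' : j ≤ rs.length := by simpa using hj
    haveI := hflat j hj'
    have hI : Ideal.ofList ((rs.map e).take j) =
        (Ideal.ofList (rs.take j)).map (e : B →+* B') := by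
      rw [← List.map_take]
      exact (Ideal.map_ofList (e : B →+* B') _).symm
    exact Module.Flat.of_linearEquiv (Ideal.quotientEquivAlg _ _ e hI).symm.toLinearEquiv

theorem tr_of_isPushout (A A' B B' : Type u) [CommRing A] [CommRing A'] [CommRing B] [CommRing B']
    [Algebra A A'] [Algebra A B] [Algebra A' B'] [Algebra B B'] [Algebra A B']
    [IsScalarTower A A' B'] [IsScalarTower A B B'] [Algebra.IsPushout A A' B B']
    (rs : List B) (h : RegImm.IsTransRegularSeq A B rs) :
    RegImm.IsTransRegularSeq A' B' (rs.map (algebraMap B B')) := by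
  have h1 := tr_baseChange A B A' rs h
  have h2 := tr_congr (Algebra.IsPushout.equiv A A' B B') _ h1
  rw [List.map_map] at h2
  have : (⇑(Algebra.IsPushout.equiv A A' B B') ∘
      ⇑(Algebra.TensorProduct.includeRight : B →ₐ[A] A' ⊗[A] B)) = ⇑(algebraMap B B') := by
    funext b
    simp [Algebra.IsPushout.equiv_tmul]
  rw [this] at h2
  exact h2

end Congr

section Loc
open Groth.Agent.Lib.Helper54

variable (A : Type u) [CommRing A] {B : Type u} [CommRing B] [Algebra A B]
  (B₁ : Type u) [CommRing B₁] [Algebra B B₁] [Algebra A B₁] [IsScalarTower A B B₁]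
  (W : Submonoid B) [IsLocalization W B₁] (I : Ideal B)

include W in
theorem flat_quot_localization [Module.Flat A (B ⧸ I)] :
    Module.Flat A (B₁ ⧸ I.map (algebraMap B B₁)) := by
  have h := FlatOpenA.flat_of_isLocalizedModule (A := A) B W
    (Submodule.toLocalizedQuotient' B₁ W (Algebra.linearMap B B₁) I)
  rwa [Ideal.localized'_eq_map] at h

theorem flat_localizedModule_quot [Module.Flat A (B₁ ⧸ I.map (algebraMap B B₁))] :
    Module.Flat A (LocalizedModule W (B ⧸ I)) := by
  let ℓ := Submodule.toLocalizedQuotient' B₁ W (Algebra.linearMap B B₁) I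
  let e : LocalizedModule W (B ⧸ I) ≃ₗ[B] B₁ ⧸ I.localized' B₁ W (Algebra.linearMap B B₁) :=
    IsLocalizedModule.iso W ℓ
  have : Module.Flat A (B₁ ⧸ I.localized' B₁ W (Algebra.linearMap B B₁)) := by
    rw [Ideal.localized'_eq_map]; infer_instance
  exact Module.Flat.of_linearEquiv (e.restrictScalars A)

end Loc

section Colon

/-- the colon ideal `(J : r)` -/
def colonI {B : Type u} [CommRing B] (J : Ideal B) (r : B) : Ideal B :=
  Submodule.comap (LinearMap.mulLeft B r) J

theorem mem_colonI {B : Type u} [CommRing B] (J : Ideal B) (r b : B) :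
    b ∈ colonI J r ↔ r * b ∈ J := Iff.rfl

theorem le_colonI {B : Type u} [CommRing B] (J : Ideal B) (r : B) : J ≤ colonI J r :=
  fun _ hb => J.mul_mem_left r hb

variable (A : Type u) [CommRing A] (B : Type u) [CommRing B] [Algebra A B]
  (A' : Type u) [CommRing A'] [Algebra A A']

/-- the colon ideal commutes with base change when the cokernel is flat -/
theorem colon_map (J : Ideal B) (r : B) [Module.Flat A (B ⧸ (J ⊔ Ideal.span {r}))]
    (t : A' ⊗[A] B)
    (ht : (Algebra.TensorProduct.includeRight : B →ₐ[A] A' ⊗[A] B) r * t ∈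
      J.map (Algebra.TensorProduct.includeRight : B →ₐ[A] A' ⊗[A] B)) :
    t ∈ (colonI J r).map (Algebra.TensorProduct.includeRight : B →ₐ[A] A' ⊗[A] B) := by
  rw [← ker_piI, RingHom.mem_ker, piI_mul] at ht
  have hle : J ≤ J ⊔ Ideal.span {r} := le_sup_left
  obtain ⟨s, hs⟩ := ker_lTensor_le (LinearMap.mulLeft A (Ideal.Quotient.mk J r))
    (Ideal.Quotient.factorₐ A hle).toLinearMap (Ideal.Quotient.factor_surjective hle)
    (exact_mul_factor A J _ r rfl hle) A' _ ht
  -- `s` is a sum of `a ⊗ mk b` with `b` in the colon ideal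
  have key : ∀ s : A' ⊗[A] ↥(LinearMap.ker (LinearMap.mulLeft A (Ideal.Quotient.mk J r))),
      ∃ t' ∈ (colonI J r).map (Algebra.TensorProduct.includeRight : B →ₐ[A] A' ⊗[A] B),
        piI A B A' J t' = (LinearMap.ker (LinearMap.mulLeft A
          (Ideal.Quotient.mk J r))).subtype.lTensor A' s := by
    intro s
    induction s with
    | zero => exact ⟨0, Ideal.zero_mem _, by simp⟩
    | tmul a m =>
      obtain ⟨b, hb⟩ := Ideal.Quotient.mk_surjective m.1
      have hbc : b ∈ colonI J r := by
        have h2 := m.2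
        rw [LinearMap.mem_ker, LinearMap.mulLeft_apply, ← hb, ← map_mul,
          Ideal.Quotient.eq_zero_iff_mem] at h2
        exact h2
      refine ⟨a ⊗ₜ[A] b, ?_, ?_⟩
      · have : a ⊗ₜ[A] b = (a ⊗ₜ[A] (1 : B)) *
            (Algebra.TensorProduct.includeRight : B →ₐ[A] A' ⊗[A] B) b := by
          simp [Algebra.TensorProduct.tmul_mul_tmul]
        rw [this]
        exact Ideal.mul_mem_left _ _ (Ideal.mem_map_of_mem _ hbc)
      · simp [piI, hb]
    | add x y hx hy =>
      obtain ⟨tx, htx, hx'⟩ := hx
      obtain ⟨ty, hty, hy'⟩ := hy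
      exact ⟨tx + ty, Ideal.add_mem _ htx hty, by rw [map_add, map_add, hx', hy']⟩
  obtain ⟨t', ht', ht'2⟩ := key s
  have hd : t - t' ∈ J.map (Algebra.TensorProduct.includeRight : B →ₐ[A] A' ⊗[A] B) := by
    rw [← ker_piI, RingHom.mem_ker, map_sub, ht'2, hs, sub_self]
  have hd' : t - t' ∈ (colonI J r).map
      (Algebra.TensorProduct.includeRight : B →ₐ[A] A' ⊗[A] B) :=
    Ideal.map_mono (le_colonI J r) hd
  have := Ideal.add_mem _ hd' ht'
  rwa [sub_add_cancel] at this

/-- the colon ideal is finitely generated (non-Noetherian finiteness via flatness) -/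
theorem colonI_fg [Algebra.FinitePresentation A B] (J : Ideal B) (hJ : J.FG) (r : B)
    [Module.Flat A (B ⧸ (J ⊔ Ideal.span {r}))] : (colonI J r).FG := by
  have hle : J ≤ J ⊔ Ideal.span {r} := le_sup_left
  have hJ' : (J ⊔ Ideal.span {r}).FG := Submodule.FG.sup hJ ⟨{r}, by simp⟩
  haveI : Module.FinitePresentation B (B ⧸ J) :=
    Module.finitePresentation_of_surjective (Submodule.mkQ J) (Submodule.mkQ_surjective J)
      (by rw [Submodule.ker_mkQ]; exact hJ)
  haveI : Module.FinitePresentation B (B ⧸ (J ⊔ Ideal.span {r})) :=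
    Module.finitePresentation_of_surjective (Submodule.mkQ _) (Submodule.mkQ_surjective _)
      (by rw [Submodule.ker_mkQ]; exact hJ')
  let p : (B ⧸ J) →ₗ[B] (B ⧸ (J ⊔ Ideal.span {r})) := (Ideal.Quotient.factorₐ B hle).toLinearMap
  have hp : Function.Surjective p := Ideal.Quotient.factor_surjective hle
  haveI hfp : Module.FinitePresentation B (LinearMap.ker p) :=
    Groth.Agent.Lib.Helper54.FpKer2.fp_ker_of_flat A B (B ⧸ J) (B ⧸ (J ⊔ Ideal.span {r})) p hp
  have hex := exact_mul_factor B J _ r rfl hle
  let μ : (B ⧸ J) →ₗ[B] LinearMap.ker p :=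
    (LinearMap.mulLeft B (Ideal.Quotient.mk J r)).codRestrict (LinearMap.ker p) (by
      intro q
      rw [LinearMap.mem_ker]
      exact (hex _).mpr ⟨q, rfl⟩)
  have hμ : Function.Surjective μ := by
    rintro ⟨y, hy⟩
    obtain ⟨z, hz⟩ := (hex y).mp hy
    exact ⟨z, Subtype.ext hz⟩
  have hfg : (LinearMap.ker μ).FG := Module.FinitePresentation.fg_ker μ hμ
  have hmap : Submodule.map (Submodule.mkQ J) (colonI J r) = LinearMap.ker μ := by
    ext y
    obtain ⟨b, rfl⟩ := Submodule.mkQ_surjective J y
    constructor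
    · rintro ⟨b', hb', hbb⟩
      rw [← hbb, LinearMap.mem_ker]
      apply Subtype.ext
      change Ideal.Quotient.mk J r * Ideal.Quotient.mk J b' = 0
      rw [← map_mul, Ideal.Quotient.eq_zero_iff_mem]
      exact hb'
    · intro hb
      rw [LinearMap.mem_ker] at hb
      have h2 : Ideal.Quotient.mk J r * Ideal.Quotient.mk J b = 0 := congrArg Subtype.val hb
      rw [← map_mul, Ideal.Quotient.eq_zero_iff_mem] at h2
      exact ⟨b, h2, rfl⟩
  apply Submodule.fg_of_fg_map_of_fg_inf_ker (Submodule.mkQ J)
  · rw [hmap]; exact hfg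
  · rw [Submodule.ker_mkQ, inf_eq_right.mpr (le_colonI J r)]
    exact hJ

end Colon

section RT
open Groth.Agent.Lib.Helper25 Groth.Agent.Lib.Helper24.FlatColim

variable {k : Type u} [CommRing k] (C : Type u) [CommRing C] [Algebra k C]

variable (k) in
/-- `c ↦ 1 ⊗ c` -/
noncomputable abbrev incl (T : Type u) [CommRing T] [Algebra k T] : C →ₐ[k] T ⊗[k] C :=
  Algebra.TensorProduct.includeRight

theorem map_map_of_eq {X Y Z : Type u} [CommRing X] [CommRing Y] [CommRing Z]
    {F G H : Type*} [FunLike F X Y] [RingHomClass F X Y] [FunLike G Y Z] [RingHomClass G Y Z]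
    [FunLike H X Z] [RingHomClass H X Z] (f : F) (g : G) (hc : H) (heq : ∀ x, g (f x) = hc x)
    (K : Ideal X) : (K.map f).map g = K.map hc := by
  apply le_antisymm
  · rw [Ideal.map_le_iff_le_comap, Ideal.map_le_iff_le_comap]
    intro x hx
    rw [Ideal.mem_comap, Ideal.mem_comap, heq]
    exact Ideal.mem_map_of_mem _ hx
  · rw [Ideal.map_le_iff_le_comap]
    intro x hx
    rw [Ideal.mem_comap, ← heq]
    exact Ideal.mem_map_of_mem g (Ideal.mem_map_of_mem f hx)

/-- the map `T ⊗ C → T' ⊗ C` induced by `φ : T → T'` -/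
noncomputable abbrev psi {T T' : Type u} [CommRing T] [Algebra k T] [CommRing T'] [Algebra k T']
    (φ : T →ₐ[k] T') : T ⊗[k] C →ₐ[k] T' ⊗[k] C :=
  Algebra.TensorProduct.map φ (AlgHom.id k C)

section basics
variable {T T' T'' : Type u} [CommRing T] [Algebra k T] [CommRing T'] [Algebra k T']
  [CommRing T''] [Algebra k T'']

theorem psi_incl (φ : T →ₐ[k] T') (c : C) : psi C φ (incl k C T c) = incl k C T' c := by
  simp [psi, incl]

theorem psi_comp (φ : T →ₐ[k] T') (φ' : T' →ₐ[k] T'') (t : T ⊗[k] C) :
    psi C (φ'.comp φ) t = psi C φ' (psi C φ t) := by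
  induction t with
  | zero => simp
  | tmul a c => simp [psi]
  | add x y hx hy => simp only [map_add, hx, hy]

theorem map_psi_incl (φ : T →ₐ[k] T') (I : Ideal C) :
    (I.map (incl k C T)).map (psi C φ) = I.map (incl k C T') :=
  map_map_of_eq _ _ _ (psi_incl C φ) I

theorem map_psi_comp (φ : T →ₐ[k] T') (φ' : T' →ₐ[k] T'') (K : Ideal (T ⊗[k] C)) :
    K.map (psi C (φ'.comp φ)) = (K.map (psi C φ)).map (psi C φ') :=
  (map_map_of_eq _ _ _ (fun t => (psi_comp C φ φ' t).symm) K).symm

theorem piI_psi (φ : T →ₐ[k] T') (I : Ideal C) (t : T ⊗[k] C) :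
    piI k C T' I (psi C φ t) = LinearMap.rTensor (C ⧸ I) φ.toLinearMap (piI k C T I t) := by
  induction t with
  | zero => simp
  | tmul a c => simp [psi, piI]
  | add x y hx hy => simp only [map_add, hx, hy]

theorem flat_stage_of_flat (φ : T →ₐ[k] T') (M : Type u) [AddCommGroup M] [Module k M]
    [Module.Flat T (T ⊗[k] M)] : Module.Flat T' (T' ⊗[k] M) := by
  letI : Algebra T T' := φ.toRingHom.toAlgebra
  haveI : IsScalarTower k T T' := IsScalarTower.of_algebraMap_eq fun x ↦ (φ.commutes x).symm
  exact Module.Flat.of_linearEquiv (AlgebraTensorModule.cancelBaseChange k T T' T' M).symm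

theorem flat_quot_iff (T : Type u) [CommRing T] [Algebra k T] (I : Ideal C) :
    Module.Flat T ((T ⊗[k] C) ⧸ I.map (incl k C T)) ↔ Module.Flat T (T ⊗[k] (C ⧸ I)) :=
  ⟨fun _ => Module.Flat.of_linearEquiv
      (Algebra.TensorProduct.tensorQuotientEquiv (R := k) T C T I).toLinearEquiv,
    fun _ => Module.Flat.of_linearEquiv
      (Algebra.TensorProduct.tensorQuotientEquiv (R := k) T C T I).symm.toLinearEquiv⟩

theorem wr_map_iff (T : Type u) [CommRing T] [Algebra k T] (cs : List C) :
    IsWeaklyRegular (T ⊗[k] C) (cs.map (incl k C T)) ↔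
      ∀ (m : ℕ) (hm : m < cs.length) (b : T ⊗[k] C),
        incl k C T cs[m] * b ∈ (Ideal.ofList (cs.take m)).map (incl k C T) →
          b ∈ (Ideal.ofList (cs.take m)).map (incl k C T) := by
  rw [wr_iff_elem]
  constructor
  · intro H m hm b hb
    have := H m (by simpa using hm) b
    rw [ofList_take_map] at this
    simp only [List.getElem_map] at this
    exact this hb
  · intro H m hm b hb
    have hm' : m < cs.length := by simpa using hm
    rw [ofList_take_map] at hb ⊢
    simp only [List.getElem_map] at hb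
    exact H m hm' b hb

theorem map_sup_span (T : Type u) [CommRing T] [Algebra k T] (I : Ideal C) (r : C) :
    (I ⊔ Ideal.span {r}).map (incl k C T) = I.map (incl k C T) ⊔ Ideal.span {incl k C T r} := by
  rw [Ideal.map_sup, Ideal.map_span, Set.image_singleton]

theorem colon_stage_fg (T : Type u) [CommRing T] [Algebra k T] [Algebra.FinitePresentation k C]
    (I : Ideal C) (hI : I.FG) (r : C)
    [Module.Flat T (T ⊗[k] (C ⧸ (I ⊔ Ideal.span {r})))] :
    (colonI (I.map (incl k C T)) (incl k C T r)).FG := by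
  haveI : Module.Flat T ((T ⊗[k] C) ⧸ (I.map (incl k C T) ⊔ Ideal.span {incl k C T r})) := by
    rw [← map_sup_span]
    exact (flat_quot_iff C T _).mpr inferInstance
  exact colonI_fg T (T ⊗[k] C) (I.map (incl k C T))
    (by have := hI.map (incl k C T).toRingHom; exact this) (incl k C T r)

theorem colon_stage (φ : T →ₐ[k] T') (I : Ideal C) (r : C)
    [Module.Flat T (T ⊗[k] (C ⧸ (I ⊔ Ideal.span {r})))] (t' : T' ⊗[k] C)
    (ht' : incl k C T' r * t' ∈ I.map (incl k C T')) :
    t' ∈ (colonI (I.map (incl k C T)) (incl k C T r)).map (psi C φ) := by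
  letI : Algebra T T' := φ.toRingHom.toAlgebra
  haveI : IsScalarTower k T T' := IsScalarTower.of_algebraMap_eq fun x ↦ (φ.commutes x).symm
  haveI : Module.Flat T ((T ⊗[k] C) ⧸ (I.map (incl k C T) ⊔ Ideal.span {incl k C T r})) := by
    rw [← map_sup_span]
    exact (flat_quot_iff C T _).mpr inferInstance
  let e := Algebra.TensorProduct.cancelBaseChange k T T' T' C
  let ιT : (T ⊗[k] C) →ₐ[T] T' ⊗[T] (T ⊗[k] C) := Algebra.TensorProduct.includeRight
  have heq : ∀ b : T ⊗[k] C, e (ιT b) = psi C φ b := by
    intro b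
    induction b with
    | zero => simp
    | tmul a c =>
      simp only [ιT, e, Algebra.TensorProduct.includeRight_apply,
        Algebra.TensorProduct.cancelBaseChange_tmul, psi, Algebra.TensorProduct.map_tmul,
        AlgHom.coe_id, id_eq]
      rw [Algebra.smul_def, mul_one]
      rfl
    | add x y hx hy => simp only [map_add, hx, hy]
  have hmapI : ∀ K : Ideal (T ⊗[k] C), (K.map ιT).map e = K.map (psi C φ) :=
    fun K => map_map_of_eq _ _ _ heq K
  have h0 : ιT (incl k C T r) * e.symm t' ∈ (I.map (incl k C T)).map ιT := by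
    have h1 : e (ιT (incl k C T r) * e.symm t') ∈ ((I.map (incl k C T)).map ιT).map e := by
      rw [hmapI, map_psi_incl, map_mul, heq, psi_incl, AlgEquiv.apply_symm_apply]
      exact ht'
    obtain ⟨x, hx, hxe⟩ := (Ideal.mem_map_of_equiv e _).mp h1
    have : x = ιT (incl k C T r) * e.symm t' := e.injective hxe
    rw [← this]
    exact hx
  have h2 := colon_map T (T ⊗[k] C) T' (I.map (incl k C T)) (incl k C T r) (e.symm t') h0
  have h3 := Ideal.mem_map_of_mem e h2
  rw [hmapI, AlgEquiv.apply_symm_apply] at h3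
  exact h3

end basics

variable {ι : Type u} {R' : ι → Type u} [∀ i, CommRing (R' i)]
  [∀ i, Algebra k (R' i)] {R : Type u} [CommRing R] [Algebra k R] {ρ : ∀ i, R' i →ₐ[k] R}
  {Φ : ∀ i j, Set (R' i →ₐ[k] R' j)}

theorem exists_stage_map_le (h : IsColimSys k R' R ρ Φ) (I : Ideal C) (i : ι)
    (K : Ideal (R' i ⊗[k] C)) (hK : K.FG) (hle : K.map (psi C (ρ i)) ≤ I.map (incl k C R)) :
    ∃ (i' : ι) (φ' : R' i →ₐ[k] R' i'), φ' ∈ Φ i i' ∧ K.map (psi C φ') ≤ I.map (incl k C (R' i')) := by
  obtain ⟨S, rfl⟩ := hK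
  obtain ⟨i', φ', hφ', hkill⟩ := h.exists_kill_rTensor_family (C ⧸ I)
    (fun x : S => piI k C (R' i) I x.1) (by
      intro x
      rw [← piI_psi, ← RingHom.mem_ker, ker_piI]
      exact hle (Ideal.mem_map_of_mem _ (Ideal.subset_span x.2)))
  refine ⟨i', φ', hφ', ?_⟩
  rw [Ideal.map_span, Ideal.span_le]
  rintro _ ⟨x, hx, rfl⟩
  have := hkill ⟨x, hx⟩
  rw [← piI_psi, ← RingHom.mem_ker, ker_piI] at this
  exact this

theorem ofList_fg {B : Type u} [CommRing B] (rs : List B) : (Ideal.ofList rs).FG := by
  classical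
  exact ⟨rs.toFinset, by simp [Ideal.ofList]⟩

/-- **transversal regularity descends through colimit systems** -/
theorem exists_stage_tr (h : IsColimSys k R' R ρ Φ) [Algebra.FinitePresentation k C] (cs : List C)
    (hTR : RegImm.IsTransRegularSeq R (R ⊗[k] C) (cs.map (incl k C R))) :
    ∃ i, RegImm.IsTransRegularSeq (R' i) (R' i ⊗[k] C) (cs.map (incl k C (R' i))) := by
  classical
  obtain ⟨hwr, hflat⟩ := hTR
  have hwrR := (wr_map_iff C R cs).mp hwr
  let I : ℕ → Ideal C := fun j => Ideal.ofList (cs.take j)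
  have hIfg : ∀ j, (I j).FG := fun j => ofList_fg _
  have hflatR : ∀ j, j ≤ cs.length → Module.Flat R (R ⊗[k] (C ⧸ I j)) := by
    intro j hj
    have := hflat j (by simpa using hj)
    rw [ofList_take_map] at this
    exact (flat_quot_iff C R _).mp this
  -- Step 1: a stage where all quotients are flat
  have step1 : ∀ m, ∃ o, ∀ j, j < m → j ≤ cs.length →
      Module.Flat (R' o) (R' o ⊗[k] (C ⧸ I j)) := by
    intro m
    induction m with
    | zero =>
      obtain ⟨i⟩ := h.nonempty
      exact ⟨i, fun j hj => absurd hj (Nat.not_lt_zero _)⟩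
    | succ m ih =>
      obtain ⟨o, ho⟩ := ih
      by_cases hm : m ≤ cs.length
      · haveI : Algebra.FinitePresentation k (C ⧸ I m) :=
          Algebra.FinitePresentation.quotient (hIfg m)
        obtain ⟨i, hi⟩ := exists_stage_flat h (C ⧸ I m) (hflatR m hm)
        obtain ⟨l, φ, φ', -, -⟩ := h.directed o i
        refine ⟨l, fun j hj hjn => ?_⟩
        rcases Nat.lt_succ_iff_lt_or_eq.mp hj with hj' | rfl
        · haveI := ho j hj' hjn
          exact flat_stage_of_flat φ _
        · haveI := hi
          exact flat_stage_of_flat φ' _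
      · exact ⟨o, fun j hj hjn => ho j (by omega) hjn⟩
  obtain ⟨o, ho⟩ := step1 (cs.length + 1)
  have hoflat : ∀ j, j ≤ cs.length → Module.Flat (R' o) (R' o ⊗[k] (C ⧸ I j)) :=
    fun j hj => ho j (by omega) hj
  let r : ℕ → C := fun m => cs.getD m 0
  have hr : ∀ m (hm : m < cs.length), r m = cs[m] := fun m hm => List.getD_eq_getElem _ _ hm
  have hIsucc : ∀ m, m < cs.length → I (m+1) = I m ⊔ Ideal.span {r m} := by
    intro m hm
    rw [hr m hm]
    exact ofList_take_succ cs m hm
  have hoflat' : ∀ m, m < cs.length →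
      Module.Flat (R' o) (R' o ⊗[k] (C ⧸ (I m ⊔ Ideal.span {r m}))) := by
    intro m hm
    rw [← hIsucc m hm]
    exact hoflat (m+1) hm
  -- Step 2: a later stage where the colon ideals die
  have step2 : ∀ m, ∃ (i : ι) (φ : R' o →ₐ[k] R' i), φ ∈ Φ o i ∧ ∀ m', m' < m → m' < cs.length →
      (colonI ((I m').map (incl k C (R' o))) (incl k C (R' o) (r m'))).map (psi C φ) ≤
        (I m').map (incl k C (R' i)) := by
    intro m
    induction m with
    | zero => exact ⟨o, AlgHom.id k _, h.id_mem o, fun m' hm' => absurd hm' (Nat.not_lt_zero _)⟩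
    | succ m ih =>
      obtain ⟨i, φ, hφ, hi⟩ := ih
      by_cases hm : m < cs.length
      · haveI := hoflat' m hm
        have hfg := colon_stage_fg (k := k) C (R' o) (I m) (hIfg m) (r m)
        have hlim : ∀ x ∈ colonI ((I m).map (incl k C (R' o))) (incl k C (R' o) (r m)),
            psi C (ρ o) x ∈ (I m).map (incl k C R) := by
          intro x hx
          rw [mem_colonI] at hx
          have h1 : psi C (ρ o) (incl k C (R' o) (r m) * x) ∈ (I m).map (incl k C R) := by
            have := Ideal.mem_map_of_mem (psi C (ρ o)) hx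
            rwa [map_psi_incl] at this
          rw [map_mul, psi_incl, hr m hm] at h1
          exact hwrR m hm _ h1
        have hKfg : ((colonI ((I m).map (incl k C (R' o))) (incl k C (R' o) (r m))).map
            (psi C φ)).FG := by
          have := hfg.map (psi C φ).toRingHom
          exact this
        have hKle : ((colonI ((I m).map (incl k C (R' o))) (incl k C (R' o) (r m))).map
            (psi C φ)).map (psi C (ρ i)) ≤ (I m).map (incl k C R) := by
          rw [← map_psi_comp, h.compat hφ, Ideal.map_le_iff_le_comap]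
          intro x hx
          exact hlim x hx
        obtain ⟨i', φ', hφ', hkill⟩ := exists_stage_map_le C h (I m) i _ hKfg hKle
        refine ⟨i', φ'.comp φ, h.comp_mem hφ hφ', fun m' hm' hm'n => ?_⟩
        rw [map_psi_comp]
        rcases Nat.lt_succ_iff_lt_or_eq.mp hm' with hlt | rfl
        · calc _ ≤ ((I m').map (incl k C (R' i))).map (psi C φ') := Ideal.map_mono (hi m' hlt hm'n)
            _ = _ := map_psi_incl C φ' _
        · exact hkill
      · exact ⟨i, φ, hφ, fun m' hm' hm'n => hi m' (by omega) hm'n⟩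
  obtain ⟨i, φ, hφ, hreg⟩ := step2 cs.length
  refine ⟨i, ?_, ?_⟩
  · rw [wr_map_iff]
    intro m hm t ht
    haveI := hoflat' m hm
    rw [← hr m hm] at ht
    exact hreg m hm hm (colon_stage C φ (I m) (r m) t ht)
  · intro j hj
    have hj' : j ≤ cs.length := by simpa using hj
    rw [ofList_take_map]
    haveI := hoflat j hj'
    haveI : Module.Flat (R' i) (R' i ⊗[k] (C ⧸ I j)) := flat_stage_of_flat φ _
    exact (flat_quot_iff C (R' i) _).mpr inferInstance

end RT

end Groth.Agent.Lib.Helper9.TRSeq
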