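import Mathlib
import Groth.Prelude.Def_RegImm
import Groth.Agent.Lib.Helper9.TRSeq
import Groth.Agent.Lib.Helper9.LimReg
import Groth.Agent.Lib.Helper9.LimReg2
import Groth.Agent.Lib.Helper9.LimSec

/-!
# Transversally regular sequences on schemes and cofiltered limits (helper9)

`TRAt g fs x`: the germs of the global sections `fs` of `X` form a sequence transversally regular
relative to the base of `g : X ⟶ T` in the stalk at `x`.  `all_iff_trAt`: the affine-chart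
formulation is equivalent to the stalkwise one.  `trAt_of_isPullback`: stability under arbitrary base
change.  `isColimSys_sections`: sections over the preimages of an affine open of a stage of a
cofiltered system with affine transition maps form a colimit system.  `main_iff`: EGA IV 11.3.x at
the limit -- transversal regularity of a sequence on `X₀ ×_{S_{i₀}} lim S_i` holds iff it holds
at some stage (`X₀` quasi-compact, locally of finite presentation over `S_{i₀}`).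
-/

set_option autoImplicit false
set_option linter.unusedSectionVars false
set_option maxHeartbeats 800000
universe u
open RingTheory.Sequence AlgebraicGeometry CategoryTheory CategoryTheory.Limits TopologicalSpace

namespace Groth.Agent.Lib.Helper9.TRSch

open Groth.Agent.Lib.Helper9.LimReg Groth.Agent.Lib.Helper9.LimReg2 Groth.Agent.Lib.Helper9.LimSec
open Groth.Agent.Lib.Helper9

/-- transversal regularity at a point, stalkwise -/
def TRAt {X T : Scheme.{u}} (g : X ⟶ T) (fs : List Γ(X, ⊤)) (x : X) : Prop :=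
  @RegImm.IsTransRegularSeq (T.presheaf.stalk (g x)) (X.presheaf.stalk x) _ _
    (g.stalkMap x).hom.toAlgebra (fs.map (X.presheaf.germ ⊤ x trivial).hom)

/-- restricted list -/
abbrev resList {X : Scheme.{u}} (fs : List Γ(X, ⊤)) (U : X.Opens) : List Γ(X, U) :=
  fs.map (X.presheaf.map (homOfLE (le_top : U ≤ ⊤)).op).hom

theorem map_ofList_res {X : Scheme.{u}} (fs : List Γ(X, ⊤)) (U : X.Opens) (x : X) (hx : x ∈ U)
    (j : ℕ) :
    (Ideal.ofList ((resList fs U).take j)).map (X.presheaf.germ U x hx).hom =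
      Ideal.ofList ((fs.map (X.presheaf.germ ⊤ x trivial).hom).take j) := by
  rw [Ideal.map_ofList, ← List.map_take, ← List.map_take, map_germ_res (fs.take j) U x hx]

theorem trAt_of_tr {X T : Scheme.{u}} (g : X ⟶ T) (fs : List Γ(X, ⊤)) (U : X.affineOpens)
    (V : T.affineOpens) (e : U.1 ≤ g ⁻¹ᵁ V.1)
    (h : @RegImm.IsTransRegularSeq Γ(T, V.1) Γ(X, U.1) _ _ (g.appLE V.1 U.1 e).hom.toAlgebra
      (resList fs U.1)) (x : X) (hx : x ∈ U.1) : TRAt g fs x := by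
  letI algAB : Algebra Γ(T, V.1) Γ(X, U.1) := (g.appLE V.1 U.1 e).hom.toAlgebra
  letI algBB₁ : Algebra Γ(X, U.1) (X.presheaf.stalk x) :=
    TopCat.Presheaf.algebra_section_stalk X.presheaf ⟨x, hx⟩
  haveI locB := U.2.isLocalization_stalk ⟨x, hx⟩
  letI algAA₁ : Algebra Γ(T, V.1) (T.presheaf.stalk (g x)) :=
    TopCat.Presheaf.algebra_section_stalk T.presheaf ⟨g x, e hx⟩
  haveI locA := V.2.isLocalization_stalk ⟨g x, e hx⟩
  letI algA₁B₁ : Algebra (T.presheaf.stalk (g x)) (X.presheaf.stalk x) :=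
    (g.stalkMap x).hom.toAlgebra
  letI algAB₁ : Algebra Γ(T, V.1) (X.presheaf.stalk x) :=
    ((algebraMap Γ(X, U.1) (X.presheaf.stalk x)).comp
      (algebraMap Γ(T, V.1) Γ(X, U.1))).toAlgebra
  haveI tw1 : IsScalarTower Γ(T, V.1) Γ(X, U.1) (X.presheaf.stalk x) :=
    IsScalarTower.of_algebraMap_eq fun a => rfl
  haveI tw2 : IsScalarTower Γ(T, V.1) (T.presheaf.stalk (g x)) (X.presheaf.stalk x) :=
    IsScalarTower.of_algebraMap_eq fun a => germ_appLE g V.1 U.1 e x hx a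
  obtain ⟨hwr, hflat⟩ := h
  refine ⟨wrAt_of_isWeaklyRegular fs U hwr x hx, ?_⟩
  intro j hj
  have hj' : j ≤ (resList fs U.1).length := by simpa [resList] using hj
  haveI := hflat j hj'
  have h1 : Module.Flat Γ(T, V.1) (X.presheaf.stalk x ⧸
      (Ideal.ofList ((resList fs U.1).take j)).map
        (algebraMap Γ(X, U.1) (X.presheaf.stalk x))) :=
    TRSeq.flat_quot_localization Γ(T, V.1) (X.presheaf.stalk x)
      (U.2.primeIdealOf ⟨x, hx⟩).asIdeal.primeCompl _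
  have hI := map_ofList_res fs U.1 x hx j
  change (Ideal.ofList ((resList fs U.1).take j)).map
    (algebraMap Γ(X, U.1) (X.presheaf.stalk x)) = _ at hI
  rw [hI] at h1
  exact (Module.flat_iff_of_isLocalization (T.presheaf.stalk (g x))
    (V.2.primeIdealOf ⟨g x, e hx⟩).asIdeal.primeCompl _).mpr h1

theorem tr_of_trAt {X T : Scheme.{u}} (g : X ⟶ T) (fs : List Γ(X, ⊤)) (U : X.affineOpens)
    (V : T.affineOpens) (e : U.1 ≤ g ⁻¹ᵁ V.1) (h : ∀ x ∈ U.1, TRAt g fs x) :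
    @RegImm.IsTransRegularSeq Γ(T, V.1) Γ(X, U.1) _ _ (g.appLE V.1 U.1 e).hom.toAlgebra
      (resList fs U.1) := by
  letI algAB : Algebra Γ(T, V.1) Γ(X, U.1) := (g.appLE V.1 U.1 e).hom.toAlgebra
  refine ⟨isWeaklyRegular_of_wrAt fs U (fun x hx => (h x hx).1), ?_⟩
  intro j hj
  apply Groth.Agent.Lib.Helper24.FlatColim.flat_of_forall_localized (A := Γ(T, V.1)) Γ(X, U.1)
  intro q
  have hmem : U.2.fromSpec q ∈ U.1 := by
    rw [← SetLike.mem_coe, ← U.2.range_fromSpec]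
    exact Set.mem_range_self _
  have hp : U.2.primeIdealOf ⟨U.2.fromSpec q, hmem⟩ = q :=
    Groth.Agent.Lib.Helper91.KRegDesc.primeIdealOf_fromSpec U.2 q hmem
  generalize hxdef : U.2.fromSpec q = x at hmem hp
  have hx := hmem
  letI algBB₁ : Algebra Γ(X, U.1) (X.presheaf.stalk x) :=
    TopCat.Presheaf.algebra_section_stalk X.presheaf ⟨x, hx⟩
  haveI locB : IsLocalization q.asIdeal.primeCompl (X.presheaf.stalk x) := by
    have := U.2.isLocalization_stalk ⟨x, hx⟩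
    rw [hp] at this
    exact this
  letI algAA₁ : Algebra Γ(T, V.1) (T.presheaf.stalk (g x)) :=
    TopCat.Presheaf.algebra_section_stalk T.presheaf ⟨g x, e hx⟩
  haveI locA := V.2.isLocalization_stalk ⟨g x, e hx⟩
  letI algA₁B₁ : Algebra (T.presheaf.stalk (g x)) (X.presheaf.stalk x) :=
    (g.stalkMap x).hom.toAlgebra
  letI algAB₁ : Algebra Γ(T, V.1) (X.presheaf.stalk x) :=
    ((algebraMap Γ(X, U.1) (X.presheaf.stalk x)).comp
      (algebraMap Γ(T, V.1) Γ(X, U.1))).toAlgebra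
  haveI tw1 : IsScalarTower Γ(T, V.1) Γ(X, U.1) (X.presheaf.stalk x) :=
    IsScalarTower.of_algebraMap_eq fun a => rfl
  haveI tw2 : IsScalarTower Γ(T, V.1) (T.presheaf.stalk (g x)) (X.presheaf.stalk x) :=
    IsScalarTower.of_algebraMap_eq fun a => germ_appLE g V.1 U.1 e x hx a
  obtain ⟨-, hflat⟩ := h x hx
  have h1 := hflat j (by simpa [resList] using hj)
  have h2 : Module.Flat Γ(T, V.1) (X.presheaf.stalk x ⧸
      Ideal.ofList ((fs.map (X.presheaf.germ ⊤ x trivial).hom).take j)) :=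
    (Module.flat_iff_of_isLocalization (T.presheaf.stalk (g x))
      (V.2.primeIdealOf ⟨g x, e hx⟩).asIdeal.primeCompl _).mp h1
  have hI := map_ofList_res fs U.1 x hx j
  change (Ideal.ofList ((resList fs U.1).take j)).map
    (algebraMap Γ(X, U.1) (X.presheaf.stalk x)) = _ at hI
  rw [← hI] at h2
  haveI := h2
  exact TRSeq.flat_localizedModule_quot Γ(T, V.1) (X.presheaf.stalk x) q.asIdeal.primeCompl _

theorem appLE_res {X Y : Scheme.{u}} (f : X ⟶ Y) (U : Y.Opens) (V : X.Opens) (e : V ≤ f ⁻¹ᵁ U)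
    (s : Γ(Y, ⊤)) :
    (f.appLE U V e).hom ((Y.presheaf.map (homOfLE (le_top : U ≤ ⊤)).op).hom s) =
      (X.presheaf.map (homOfLE (le_top : V ≤ ⊤)).op).hom (f.appTop.hom s) := by
  have h1 : Y.presheaf.map (homOfLE (le_top : U ≤ ⊤)).op ≫ f.appLE U V e =
      f.appLE ⊤ V le_top := Scheme.Hom.map_appLE f e _
  have h2 : f.appTop ≫ X.presheaf.map (homOfLE (le_top : V ≤ ⊤)).op = f.appLE ⊤ V le_top := by
    rw [Scheme.Hom.appTop, Scheme.Hom.app_eq_appLE]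
    exact Scheme.Hom.appLE_map f _ _
  calc _ = (Y.presheaf.map (homOfLE (le_top : U ≤ ⊤)).op ≫ f.appLE U V e).hom s := rfl
    _ = (f.appLE ⊤ V le_top).hom s := by rw [h1]
    _ = (f.appTop ≫ X.presheaf.map (homOfLE (le_top : V ≤ ⊤)).op).hom s := by rw [h2]
    _ = _ := rfl

theorem resList_map_appLE {X Y : Scheme.{u}} (f : X ⟶ Y) (U : Y.Opens) (V : X.Opens)
    (e : V ≤ f ⁻¹ᵁ U) (fs : List Γ(Y, ⊤)) :
    (resList fs U).map (f.appLE U V e).hom = resList (fs.map f.appTop.hom) V := by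
  simp only [resList, List.map_map]
  apply List.map_congr_left
  intro s _
  exact appLE_res f U V e s

/-- base change of transversal regularity along a pullback square, pointwise on an open -/
theorem trAt_of_isPullback {X T X' T' : Scheme.{u}} {g : X ⟶ T} {h : T' ⟶ T} {fst' : X' ⟶ X}
    {snd' : X' ⟶ T'} (H : IsPullback fst' snd' g h) (fs : List Γ(X, ⊤)) (W : X.Opens)
    (hW : ∀ x ∈ W, TRAt g fs x) (x' : X') (hx' : fst' x' ∈ W) :
    TRAt snd' (fs.map fst'.appTop.hom) x' := by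
  obtain ⟨V, hV, hgV, -⟩ :=
    exists_isAffineOpen_mem_and_subset (x := g (fst' x')) (U := ⊤) trivial
  have hmem' : snd' x' ∈ h ⁻¹ᵁ V := by
    show h (snd' x') ∈ V
    rw [← Scheme.Hom.comp_apply, ← H.w, Scheme.Hom.comp_apply]
    exact hgV
  obtain ⟨V', hV', hxV', hV'le⟩ :=
    exists_isAffineOpen_mem_and_subset (x := snd' x') (U := h ⁻¹ᵁ V) hmem'
  obtain ⟨U, hU, hxU, hUle⟩ :=
    exists_isAffineOpen_mem_and_subset (x := fst' x') (U := W ⊓ g ⁻¹ᵁ V) ⟨hx', hgV⟩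
  have hUW : U ≤ W := hUle.trans inf_le_left
  have hUV : U ≤ g ⁻¹ᵁ V := hUle.trans inf_le_right
  obtain ⟨U', hU'def⟩ : ∃ U' : X'.Opens, U' = fst' ⁻¹ᵁ U ⊓ snd' ⁻¹ᵁ V' := ⟨_, rfl⟩
  have hx'U' : x' ∈ U' := by rw [hU'def]; exact ⟨hxU, hxV'⟩
  have hU'U : U' ≤ fst' ⁻¹ᵁ U := by rw [hU'def]; exact inf_le_left
  have hU'V' : U' ≤ snd' ⁻¹ᵁ V' := by rw [hU'def]; exact inf_le_right
  have hiso := isIso_pushoutSection_of_isAffineOpen H hV'le hUV hU'def hV hV' hU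
  have hpo := (isIso_pushoutSection_iff H hV'le hUV hU'def).mp hiso
  have hU'aff : IsAffineOpen U' := by
    have : IsAffine V := hV
    have : IsAffine V' := hV'
    have : IsAffine U := hU
    exact .of_isIso (Scheme.Hom.isPullback_resLE H hV'le hUV hU'def).isoPullback.hom
  have hTR := tr_of_trAt g fs ⟨U, hU⟩ ⟨V, hV⟩ hUV (fun x hx => hW x (hUW hx))
  letI algAB : Algebra Γ(T, V) Γ(X, U) := (g.appLE V U hUV).hom.toAlgebra
  letI algAA' : Algebra Γ(T, V) Γ(T', V') := (h.appLE V V' hV'le).hom.toAlgebra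
  letI algBB' : Algebra Γ(X, U) Γ(X', U') := (fst'.appLE U U' hU'U).hom.toAlgebra
  letI algA'B' : Algebra Γ(T', V') Γ(X', U') := (snd'.appLE V' U' hU'V').hom.toAlgebra
  letI algAB' : Algebra Γ(T, V) Γ(X', U') :=
    ((algebraMap Γ(X, U) Γ(X', U')).comp (algebraMap Γ(T, V) Γ(X, U))).toAlgebra
  haveI tw1 : IsScalarTower Γ(T, V) Γ(X, U) Γ(X', U') :=
    IsScalarTower.of_algebraMap_eq fun a => rfl
  haveI tw2 : IsScalarTower Γ(T, V) Γ(T', V') Γ(X', U') :=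
    IsScalarTower.of_algebraMap_eq fun a => by
      have := congrArg (fun φ => φ.hom a) hpo.w
      exact this
  haveI hAP : Algebra.IsPushout Γ(T, V) Γ(T', V') Γ(X, U) Γ(X', U') :=
    (CommRingCat.isPushout_iff_isPushout.mp hpo).symm
  have h2 := TRSeq.tr_of_isPushout Γ(T, V) Γ(T', V') Γ(X, U) Γ(X', U') _ hTR
  have h3 : (resList fs U).map (algebraMap Γ(X, U) Γ(X', U')) =
      resList (fs.map fst'.appTop.hom) U' := resList_map_appLE fst' U U' hU'U fs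
  rw [h3] at h2
  exact trAt_of_tr snd' (fs.map fst'.appTop.hom) ⟨U', hU'aff⟩ ⟨V', hV'⟩ hU'V' h2 x' hx'U'

theorem isPullback_lift {X₀ S₀ S₁ T' : Scheme.{u}} (g₀ : X₀ ⟶ S₀) (p : S₁ ⟶ S₀) (t : T' ⟶ S₁)
    (ψ : T' ⟶ S₀) (hψ : t ≫ p = ψ) :
    IsPullback (pullback.lift (pullback.fst g₀ ψ) (pullback.snd g₀ ψ ≫ t)
        (by rw [pullback.condition, Category.assoc, hψ]))
      (pullback.snd g₀ ψ) (pullback.snd g₀ p) t := by
  subst hψ
  refine IsPullback.of_right ?_ (pullback.lift_snd _ _ _) (IsPullback.of_hasPullback g₀ p)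
  rw [pullback.lift_fst]
  exact IsPullback.of_hasPullback g₀ (t ≫ p)

section colimsys

variable {I : Type u} [SmallCategory I] [IsCofiltered I]
    (D : I ⥤ Scheme.{u}) (c : Limits.Cone D) (hc : Limits.IsLimit c)
    [∀ {i j : I} (f : i ⟶ j), IsAffineHom (D.map f)] (i₀ : I) (V₀ : (D.obj i₀).Opens)

/-- sections over the preimage at a stage, as an algebra over the sections over `V₀` -/
noncomputable abbrev stageAlg (j : Over i₀) :
    Algebra Γ(D.obj i₀, V₀) Γ(D.obj j.left, D.map j.hom ⁻¹ᵁ V₀) :=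
  ((D.map j.hom).app V₀).hom.toAlgebra

/-- sections over the preimage in the limit, as an algebra over the sections over `V₀` -/
noncomputable abbrev limAlg : Algebra Γ(D.obj i₀, V₀) Γ(c.pt, c.π.app i₀ ⁻¹ᵁ V₀) :=
  ((c.π.app i₀).app V₀).hom.toAlgebra

attribute [local instance] stageAlg limAlg

theorem le_pre (j : Over i₀) :
    c.π.app i₀ ⁻¹ᵁ V₀ ≤ c.π.app j.left ⁻¹ᵁ (D.map j.hom ⁻¹ᵁ V₀) := by
  rw [← Scheme.Hom.comp_preimage, c.w]

theorem le_pre' {l j : Over i₀} (θ : l ⟶ j) :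
    D.map l.hom ⁻¹ᵁ V₀ ≤ D.map θ.left ⁻¹ᵁ (D.map j.hom ⁻¹ᵁ V₀) := by
  rw [← Scheme.Hom.comp_preimage, ← D.map_comp, Over.w θ]

/-- the map to the limit -/
noncomputable def toLim (j : Over i₀) :
    Γ(D.obj j.left, D.map j.hom ⁻¹ᵁ V₀) →ₐ[Γ(D.obj i₀, V₀)] Γ(c.pt, c.π.app i₀ ⁻¹ᵁ V₀) :=
  { ((c.π.app j.left).appLE (D.map j.hom ⁻¹ᵁ V₀) (c.π.app i₀ ⁻¹ᵁ V₀) (le_pre D c i₀ V₀ j)).hom with
    commutes' := fun r => by
      show ((c.π.app j.left).appLE _ _ _).hom (((D.map j.hom).app V₀).hom r) =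
        ((c.π.app i₀).app V₀).hom r
      rw [Scheme.Hom.app_eq_appLE, Scheme.Hom.app_eq_appLE, ← CommRingCat.comp_apply,
        Scheme.Hom.appLE_comp_appLE]
      exact DFunLike.congr_fun (congrArg CommRingCat.Hom.hom
        (appLE_congr_hom (c.w j.hom) _ _ _)) r }

/-- the transition maps -/
noncomputable def trans {l j : Over i₀} (θ : l ⟶ j) :
    Γ(D.obj j.left, D.map j.hom ⁻¹ᵁ V₀) →ₐ[Γ(D.obj i₀, V₀)]
      Γ(D.obj l.left, D.map l.hom ⁻¹ᵁ V₀) :=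
  { ((D.map θ.left).appLE _ _ (le_pre' D i₀ V₀ θ)).hom with
    commutes' := fun r => by
      show ((D.map θ.left).appLE _ _ _).hom (((D.map j.hom).app V₀).hom r) =
        ((D.map l.hom).app V₀).hom r
      rw [Scheme.Hom.app_eq_appLE, Scheme.Hom.app_eq_appLE, ← CommRingCat.comp_apply,
        Scheme.Hom.appLE_comp_appLE]
      exact DFunLike.congr_fun (congrArg CommRingCat.Hom.hom
        (appLE_congr_hom (show D.map θ.left ≫ D.map j.hom = D.map l.hom by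
          rw [← D.map_comp, Over.w θ]) _ _ _)) r }

theorem toLim_comp_trans {l j : Over i₀} (θ : l ⟶ j) :
    (toLim D c i₀ V₀ l).comp (trans D i₀ V₀ θ) = toLim D c i₀ V₀ j := by
  ext x
  show ((c.π.app l.left).appLE _ _ _).hom (((D.map θ.left).appLE _ _ _).hom x) =
    ((c.π.app j.left).appLE _ _ _).hom x
  rw [← CommRingCat.comp_apply, Scheme.Hom.appLE_comp_appLE]
  exact DFunLike.congr_fun (congrArg CommRingCat.Hom.hom
    (appLE_congr_hom (c.w θ.left) _ _ _)) x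

include hc in
theorem isColimSys_sections (hV₀ : IsAffineOpen V₀) :
    Groth.Agent.Lib.Helper25.IsColimSys Γ(D.obj i₀, V₀)
      (fun j : Over i₀ => Γ(D.obj j.left, D.map j.hom ⁻¹ᵁ V₀))
      Γ(c.pt, c.π.app i₀ ⁻¹ᵁ V₀) (toLim D c i₀ V₀)
      (fun j l => {φ | (toLim D c i₀ V₀ l).comp φ = toLim D c i₀ V₀ j}) where
  nonempty := ⟨Over.mk (𝟙 i₀)⟩
  id_mem j := AlgHom.comp_id _
  comp_mem {i j l φ ψ} hφ hψ := by
    change (toLim D c i₀ V₀ l).comp (ψ.comp φ) = toLim D c i₀ V₀ i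
    have hφ' : (toLim D c i₀ V₀ j).comp φ = toLim D c i₀ V₀ i := hφ
    have hψ' : (toLim D c i₀ V₀ l).comp ψ = toLim D c i₀ V₀ j := hψ
    rw [← AlgHom.comp_assoc, hψ', hφ']
  compat hφ := hφ
  directed j j' := by
    obtain ⟨l, a, a', -⟩ := IsCofilteredOrEmpty.cone_objs j j'
    exact ⟨l, trans D i₀ V₀ a, trans D i₀ V₀ a', toLim_comp_trans D c i₀ V₀ a,
      toLim_comp_trans D c i₀ V₀ a'⟩
  surj a := by
    obtain ⟨j, f, t, ht⟩ := exists_appLE_π_eq D c hc i₀ V₀ hV₀ _ rfl a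
    exact ⟨Over.mk f, t, ht⟩
  ker j x hx := by
    have hcomp : IsCompact (X := D.obj j.left) (D.map j.hom ⁻¹ᵁ V₀ : Set _) :=
      (hV₀.preimage (D.map j.hom)).isCompact
    have hx' : ((c.π.app j.left).app (D.map j.hom ⁻¹ᵁ V₀)).hom x = 0 := by
      change ((c.π.app j.left).appLE _ _ (le_pre D c i₀ V₀ j)).hom x = 0 at hx
      have e2 : c.π.app j.left ⁻¹ᵁ (D.map j.hom ⁻¹ᵁ V₀) ≤ c.π.app i₀ ⁻¹ᵁ V₀ := by
        rw [← Scheme.Hom.comp_preimage, c.w]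
      have hid : (homOfLE (le_pre D c i₀ V₀ j)).op ≫ (homOfLE e2).op = 𝟙 _ :=
        Subsingleton.elim _ _
      have key : ∀ y : Γ(c.pt, c.π.app j.left ⁻¹ᵁ (D.map j.hom ⁻¹ᵁ V₀)),
          (c.pt.presheaf.map (homOfLE (le_pre D c i₀ V₀ j)).op).hom y = 0 → y = 0 := by
        intro y hy
        have := congrArg (c.pt.presheaf.map (homOfLE e2).op).hom hy
        rw [map_zero, ← CommRingCat.comp_apply, ← Functor.map_comp, hid,
          CategoryTheory.Functor.map_id] at this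
        exact this
      exact key _ hx
    obtain ⟨j', f, hf⟩ := exists_app_map_eq_zero_of_isLimit D c hc hcomp x hx'
    let θ : Over.mk (f ≫ j.hom) ⟶ j := Over.homMk f
    refine ⟨Over.mk (f ≫ j.hom), trans D i₀ V₀ θ, toLim_comp_trans D c i₀ V₀ θ, ?_⟩
    show ((D.map f).appLE _ _ _).hom x = 0
    rw [Scheme.Hom.appLE, CommRingCat.comp_apply, hf, map_zero]

end colimsys

section chart
open TensorProduct

variable {X₀ S₀ T' : Scheme.{u}} (g₀ : X₀ ⟶ S₀) (ψ : T' ⟶ S₀) (fs : List Γ(X₀, ⊤))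
  (U₀ : X₀.Opens) (V₀ : S₀.Opens)

/-- the chart open of the pullback -/
noncomputable def chartOpen : (pullback g₀ ψ).Opens :=
  pullback.fst g₀ ψ ⁻¹ᵁ U₀ ⊓ pullback.snd g₀ ψ ⁻¹ᵁ (ψ ⁻¹ᵁ V₀)

theorem mem_chartOpen (e₀ : U₀ ≤ g₀ ⁻¹ᵁ V₀) (x : ↥(pullback g₀ ψ))
    (hx : pullback.fst g₀ ψ x ∈ U₀) : x ∈ chartOpen g₀ ψ U₀ V₀ := by
  refine ⟨hx, ?_⟩
  show ψ (pullback.snd g₀ ψ x) ∈ V₀
  rw [← Scheme.Hom.comp_apply, ← pullback.condition, Scheme.Hom.comp_apply]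
  exact e₀ hx

variable (hU₀ : IsAffineOpen U₀) (hV₀ : IsAffineOpen V₀) (e₀ : U₀ ≤ g₀ ⁻¹ᵁ V₀)
  (hW : IsAffineOpen (ψ ⁻¹ᵁ V₀))

include hU₀ hV₀ e₀ hW in
theorem isAffineOpen_chartOpen : IsAffineOpen (chartOpen g₀ ψ U₀ V₀) := by
  have : IsAffine V₀ := hV₀
  have : IsAffine (ψ ⁻¹ᵁ V₀) := hW
  have : IsAffine U₀ := hU₀
  exact .of_isIso (Scheme.Hom.isPullback_resLE (IsPullback.of_hasPullback g₀ ψ)
    (le_refl (ψ ⁻¹ᵁ V₀)) e₀ (rfl : chartOpen g₀ ψ U₀ V₀ = _)).isoPullback.hom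

include hU₀ hV₀ hW in
theorem chart_tr_iff :
    (@RegImm.IsTransRegularSeq Γ(T', ψ ⁻¹ᵁ V₀) Γ(pullback g₀ ψ, chartOpen g₀ ψ U₀ V₀) _ _
      ((pullback.snd g₀ ψ).appLE (ψ ⁻¹ᵁ V₀) (chartOpen g₀ ψ U₀ V₀) inf_le_right).hom.toAlgebra
      (resList (fs.map (pullback.fst g₀ ψ).appTop.hom) (chartOpen g₀ ψ U₀ V₀))) ↔
    (letI := (g₀.appLE V₀ U₀ e₀).hom.toAlgebra
     letI := (ψ.app V₀).hom.toAlgebra
     RegImm.IsTransRegularSeq Γ(T', ψ ⁻¹ᵁ V₀) (Γ(T', ψ ⁻¹ᵁ V₀) ⊗[Γ(S₀, V₀)] Γ(X₀, U₀))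
      ((resList fs U₀).map (TRSeq.incl Γ(S₀, V₀) Γ(X₀, U₀) Γ(T', ψ ⁻¹ᵁ V₀)))) := by
  have H := IsPullback.of_hasPullback g₀ ψ
  have hiso := isIso_pushoutSection_of_isAffineOpen H (le_refl (ψ ⁻¹ᵁ V₀)) e₀
    (rfl : chartOpen g₀ ψ U₀ V₀ = _) hV₀ hW hU₀
  have hpo := (isIso_pushoutSection_iff H (le_refl (ψ ⁻¹ᵁ V₀)) e₀
    (rfl : chartOpen g₀ ψ U₀ V₀ = _)).mp hiso
  rw [Scheme.Hom.appLE_eq_app] at hpo
  letI algkC : Algebra Γ(S₀, V₀) Γ(X₀, U₀) := (g₀.appLE V₀ U₀ e₀).hom.toAlgebra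
  letI algkR : Algebra Γ(S₀, V₀) Γ(T', ψ ⁻¹ᵁ V₀) := (ψ.app V₀).hom.toAlgebra
  letI algCB : Algebra Γ(X₀, U₀) Γ(pullback g₀ ψ, chartOpen g₀ ψ U₀ V₀) :=
    ((pullback.fst g₀ ψ).appLE U₀ (chartOpen g₀ ψ U₀ V₀) inf_le_left).hom.toAlgebra
  letI algRB : Algebra Γ(T', ψ ⁻¹ᵁ V₀) Γ(pullback g₀ ψ, chartOpen g₀ ψ U₀ V₀) :=
    ((pullback.snd g₀ ψ).appLE (ψ ⁻¹ᵁ V₀) (chartOpen g₀ ψ U₀ V₀) inf_le_right).hom.toAlgebra
  letI algkB : Algebra Γ(S₀, V₀) Γ(pullback g₀ ψ, chartOpen g₀ ψ U₀ V₀) :=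
    ((algebraMap Γ(X₀, U₀) Γ(pullback g₀ ψ, chartOpen g₀ ψ U₀ V₀)).comp
      (algebraMap Γ(S₀, V₀) Γ(X₀, U₀))).toAlgebra
  haveI tw1 : IsScalarTower Γ(S₀, V₀) Γ(X₀, U₀) Γ(pullback g₀ ψ, chartOpen g₀ ψ U₀ V₀) :=
    IsScalarTower.of_algebraMap_eq fun a => rfl
  haveI tw2 : IsScalarTower Γ(S₀, V₀) Γ(T', ψ ⁻¹ᵁ V₀)
      Γ(pullback g₀ ψ, chartOpen g₀ ψ U₀ V₀) :=
    IsScalarTower.of_algebraMap_eq fun a => by
      have := congrArg (fun φ => φ.hom a) hpo.w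
      exact this
  haveI hAP : Algebra.IsPushout Γ(S₀, V₀) Γ(T', ψ ⁻¹ᵁ V₀) Γ(X₀, U₀)
      Γ(pullback g₀ ψ, chartOpen g₀ ψ U₀ V₀) :=
    (CommRingCat.isPushout_iff_isPushout.mp hpo).symm
  let eq := Algebra.IsPushout.equiv Γ(S₀, V₀) Γ(T', ψ ⁻¹ᵁ V₀) Γ(X₀, U₀)
    Γ(pullback g₀ ψ, chartOpen g₀ ψ U₀ V₀)
  have hL : resList (fs.map (pullback.fst g₀ ψ).appTop.hom) (chartOpen g₀ ψ U₀ V₀) =
      (resList fs U₀).map (algebraMap Γ(X₀, U₀) Γ(pullback g₀ ψ, chartOpen g₀ ψ U₀ V₀)) :=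
    (resList_map_appLE (pullback.fst g₀ ψ) U₀ (chartOpen g₀ ψ U₀ V₀) inf_le_left fs).symm
  have h1 : ((resList fs U₀).map (TRSeq.incl Γ(S₀, V₀) Γ(X₀, U₀) Γ(T', ψ ⁻¹ᵁ V₀))).map eq =
      (resList fs U₀).map (algebraMap Γ(X₀, U₀) Γ(pullback g₀ ψ, chartOpen g₀ ψ U₀ V₀)) := by
    rw [List.map_map]
    apply List.map_congr_left
    intro s _
    simp [eq, TRSeq.incl, Algebra.IsPushout.equiv_tmul]
  have h2 : ((resList fs U₀).map
      (algebraMap Γ(X₀, U₀) Γ(pullback g₀ ψ, chartOpen g₀ ψ U₀ V₀))).map eq.symm =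
      (resList fs U₀).map (TRSeq.incl Γ(S₀, V₀) Γ(X₀, U₀) Γ(T', ψ ⁻¹ᵁ V₀)) := by
    rw [← h1, List.map_map]
    conv_rhs => rw [← List.map_id ((resList fs U₀).map
      (TRSeq.incl Γ(S₀, V₀) Γ(X₀, U₀) Γ(T', ψ ⁻¹ᵁ V₀)))]
    apply List.map_congr_left
    intro s _
    simp
  rw [hL]
  constructor
  · intro h
    have := TRSeq.tr_congr eq.symm _ h
    rwa [h2] at this
  · intro h
    have := TRSeq.tr_congr eq _ h
    rwa [h1] at this

end chart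

theorem all_iff_trAt {X T : Scheme.{u}} (g : X ⟶ T) (fs : List Γ(X, ⊤)) :
    (∀ (U : X.affineOpens) (V : T.affineOpens) (e : U.1 ≤ g ⁻¹ᵁ V.1),
      @RegImm.IsTransRegularSeq Γ(T, V.1) Γ(X, U.1) _ _ (g.appLE V.1 U.1 e).hom.toAlgebra
        (resList fs U.1)) ↔ ∀ x, TRAt g fs x := by
  constructor
  · intro h x
    obtain ⟨V, hV, hgV, -⟩ := exists_isAffineOpen_mem_and_subset (x := g x) (U := ⊤) trivial
    obtain ⟨U, hU, hxU, hUle⟩ :=
      exists_isAffineOpen_mem_and_subset (x := x) (U := g ⁻¹ᵁ V) hgV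
    exact trAt_of_tr g fs ⟨U, hU⟩ ⟨V, hV⟩ hUle (h _ _ _) x hxU
  · intro h U V e
    exact tr_of_trAt g fs U V e fun x _ => h x

theorem trAt_lift {X₀ S₀ S₁ T' : Scheme.{u}} (g₀ : X₀ ⟶ S₀) (p : S₁ ⟶ S₀) (t : T' ⟶ S₁)
    (ψ : T' ⟶ S₀) (hψ : t ≫ p = ψ) (fs : List Γ(X₀, ⊤)) (U : X₀.Opens)
    (hW : ∀ y : ↥(pullback g₀ p), pullback.fst g₀ p y ∈ U →
      TRAt (pullback.snd g₀ p) (fs.map (pullback.fst g₀ p).appTop.hom) y)
    (x : ↥(pullback g₀ ψ)) (hx : pullback.fst g₀ ψ x ∈ U) :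
    TRAt (pullback.snd g₀ ψ) (fs.map (pullback.fst g₀ ψ).appTop.hom) x := by
  have H := isPullback_lift g₀ p t ψ hψ
  have hu : pullback.lift (pullback.fst g₀ ψ) (pullback.snd g₀ ψ ≫ t)
      (by rw [pullback.condition, Category.assoc, hψ]) ≫ pullback.fst g₀ p =
      pullback.fst g₀ ψ := pullback.lift_fst _ _ _
  have hmem : pullback.lift (pullback.fst g₀ ψ) (pullback.snd g₀ ψ ≫ t)
      (by rw [pullback.condition, Category.assoc, hψ]) x ∈ pullback.fst g₀ p ⁻¹ᵁ U := by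
    show pullback.fst g₀ p (pullback.lift (pullback.fst g₀ ψ) (pullback.snd g₀ ψ ≫ t) _ x) ∈ U
    rw [← Scheme.Hom.comp_apply, hu]
    exact hx
  have h1 := trAt_of_isPullback H (fs.map (pullback.fst g₀ p).appTop.hom)
    (pullback.fst g₀ p ⁻¹ᵁ U) (fun y hy => hW y hy) x hmem
  have hlist : (fs.map (pullback.fst g₀ p).appTop.hom).map
      (pullback.lift (pullback.fst g₀ ψ) (pullback.snd g₀ ψ ≫ t)
        (by rw [pullback.condition, Category.assoc, hψ])).appTop.hom =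
      fs.map (pullback.fst g₀ ψ).appTop.hom := by
    rw [List.map_map]
    apply List.map_congr_left
    intro s _
    have := congrArg (fun f : pullback g₀ ψ ⟶ X₀ => f.appTop.hom s) hu
    simp only [Scheme.Hom.comp_appTop] at this
    exact this
  rw [hlist] at h1
  exact h1

section main

variable {I : Type u} [SmallCategory I] [IsCofiltered I]
    (D : I ⥤ Scheme.{u}) (c : Limits.Cone D) (hc : Limits.IsLimit c)
    [∀ {i j : I} (f : i ⟶ j), IsAffineHom (D.map f)] (i₀ : I)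
    {X₀ : Scheme.{u}} (g₀ : X₀ ⟶ D.obj i₀) [LocallyOfFinitePresentation g₀] (fs : List Γ(X₀, ⊤))

attribute [local instance] stageAlg limAlg

include hc in
theorem exists_stage_chart (U₀ : X₀.affineOpens) (V₀ : (D.obj i₀).affineOpens)
    (e₀ : U₀.1 ≤ g₀ ⁻¹ᵁ V₀.1)
    (hlim : ∀ x : ↥(pullback g₀ (c.π.app i₀)), TRAt (pullback.snd g₀ (c.π.app i₀))
      (fs.map (pullback.fst g₀ (c.π.app i₀)).appTop.hom) x) :
    ∃ j : Over i₀, ∀ x : ↥(pullback g₀ (D.map j.hom)),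
      pullback.fst g₀ (D.map j.hom) x ∈ U₀.1 →
        TRAt (pullback.snd g₀ (D.map j.hom))
          (fs.map (pullback.fst g₀ (D.map j.hom)).appTop.hom) x := by
  haveI := isAffineHom_π_app D c hc i₀
  have hWlim : IsAffineOpen (c.π.app i₀ ⁻¹ᵁ V₀.1) := V₀.2.preimage (c.π.app i₀)
  have haff := isAffineOpen_chartOpen g₀ (c.π.app i₀) U₀.1 V₀.1 U₀.2 V₀.2 e₀ hWlim
  have h1 := tr_of_trAt (pullback.snd g₀ (c.π.app i₀))
    (fs.map (pullback.fst g₀ (c.π.app i₀)).appTop.hom)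
    ⟨chartOpen g₀ (c.π.app i₀) U₀.1 V₀.1, haff⟩ ⟨c.π.app i₀ ⁻¹ᵁ V₀.1, hWlim⟩ inf_le_right
    (fun x _ => hlim x)
  have h2 := (chart_tr_iff g₀ (c.π.app i₀) fs U₀.1 V₀.1 U₀.2 V₀.2 e₀ hWlim).mp h1
  letI algkC : Algebra Γ(D.obj i₀, V₀.1) Γ(X₀, U₀.1) := (g₀.appLE V₀.1 U₀.1 e₀).hom.toAlgebra
  haveI : Algebra.FinitePresentation Γ(D.obj i₀, V₀.1) Γ(X₀, U₀.1) :=
    g₀.finitePresentation_appLE V₀.2 U₀.2 e₀
  obtain ⟨j, hj⟩ := TRSeq.exists_stage_tr Γ(X₀, U₀.1)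
    (isColimSys_sections D c hc i₀ V₀.1 V₀.2) (resList fs U₀.1) h2
  refine ⟨j, fun x hx => ?_⟩
  have hWj : IsAffineOpen (D.map j.hom ⁻¹ᵁ V₀.1) := V₀.2.preimage (D.map j.hom)
  have haffj := isAffineOpen_chartOpen g₀ (D.map j.hom) U₀.1 V₀.1 U₀.2 V₀.2 e₀ hWj
  have h3 := (chart_tr_iff g₀ (D.map j.hom) fs U₀.1 V₀.1 U₀.2 V₀.2 e₀ hWj).mpr hj
  exact trAt_of_tr (pullback.snd g₀ (D.map j.hom)) _
    ⟨chartOpen g₀ (D.map j.hom) U₀.1 V₀.1, haffj⟩ ⟨_, hWj⟩ inf_le_right h3 x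
    (mem_chartOpen g₀ (D.map j.hom) U₀.1 V₀.1 e₀ x hx)

include hc in
theorem main_iff [CompactSpace X₀] :
    (∀ x : ↥(pullback g₀ (c.π.app i₀)), TRAt (pullback.snd g₀ (c.π.app i₀))
      (fs.map (pullback.fst g₀ (c.π.app i₀)).appTop.hom) x) ↔
    ∃ (j : I) (φ : j ⟶ i₀), ∀ x : ↥(pullback g₀ (D.map φ)),
      TRAt (pullback.snd g₀ (D.map φ)) (fs.map (pullback.fst g₀ (D.map φ)).appTop.hom) x := by
  classical
  constructor
  · intro hlim
    -- charts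
    have hch : ∀ x₀ : X₀, ∃ (U : X₀.Opens) (V : (D.obj i₀).Opens), IsAffineOpen U ∧
        IsAffineOpen V ∧ x₀ ∈ U ∧ U ≤ g₀ ⁻¹ᵁ V := by
      intro x₀
      obtain ⟨V, hV, hgV, -⟩ :=
        exists_isAffineOpen_mem_and_subset (x := g₀ x₀) (U := ⊤) trivial
      obtain ⟨U, hU, hxU, hUle⟩ :=
        exists_isAffineOpen_mem_and_subset (x := x₀) (U := g₀ ⁻¹ᵁ V) hgV
      exact ⟨U, V, hU, hV, hxU, hUle⟩
    choose U V hU hV hxU hUV using hch
    obtain ⟨t, ht⟩ := isCompact_univ.elim_finite_subcover (fun x₀ => ((U x₀ : X₀.Opens) : Set X₀))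
      (fun x₀ => (U x₀).isOpen) (fun x₀ _ => Set.mem_iUnion.mpr ⟨x₀, hxU x₀⟩)
    have hst : ∀ x₀ : X₀, ∃ j : Over i₀, ∀ x : ↥(pullback g₀ (D.map j.hom)),
        pullback.fst g₀ (D.map j.hom) x ∈ U x₀ →
          TRAt (pullback.snd g₀ (D.map j.hom))
            (fs.map (pullback.fst g₀ (D.map j.hom)).appTop.hom) x := fun x₀ =>
      exists_stage_chart D c hc i₀ g₀ fs ⟨U x₀, hU x₀⟩ ⟨V x₀, hV x₀⟩ (hUV x₀) hlim
    choose J hJ using hst
    obtain ⟨S, hS⟩ := IsCofiltered.inf_objs_exists (t.image J)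
    refine ⟨S.left, S.hom, fun x => ?_⟩
    have hx : pullback.fst g₀ (D.map S.hom) x ∈ ⋃ x₀ ∈ t, ((U x₀ : X₀.Opens) : Set X₀) :=
      ht (Set.mem_univ _)
    simp only [Set.mem_iUnion] at hx
    obtain ⟨x₀, hx₀t, hx₀⟩ := hx
    obtain ⟨θ⟩ := hS (Finset.mem_image_of_mem J hx₀t)
    exact trAt_lift g₀ (D.map (J x₀).hom) (D.map θ.left) (D.map S.hom)
      (by rw [← D.map_comp, Over.w θ]) fs (U x₀) (hJ x₀) x hx₀
  · rintro ⟨j, φ, hj⟩ x
    exact trAt_lift g₀ (D.map φ) (c.π.app j) (c.π.app i₀) (c.w φ) fs ⊤ (fun y _ => hj y) x trivial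

end main

end Groth.Agent.Lib.Helper9.TRSch
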