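import Groth.Prelude.Def_ArtFun2
import Mathlib.Algebra.Group.MinimalAxioms
import Mathlib.Algebra.Module.MinimalAxioms

/-!
# The vector-space structure on the tangent space `F(k[ε])` under `H0` and `H_ε` (helper9)
-/

set_option autoImplicit false
universe u v
open CategoryTheory

namespace Groth.Agent.Lib.Helper9.TanStr

open ArtFun ArtFun.Art

variable {Λ : Type u} {k : Type u} [CommRing Λ] [Field k] [Algebra Λ k]

section Obj

variable (Λ k)
variable (M : Type u) [AddCommGroup M] [Module k M] [Module kᵐᵒᵖ M] [SMulCommClass k kᵐᵒᵖ M]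
  [IsCentralScalar k M] [Module Λ M] [IsScalarTower Λ k M] [IsScalarTower Λ kᵐᵒᵖ M]
  [Module.Finite k M]

/-- The object `k ⊕ M`. -/
def tO : Art Λ k :=
  { carrier := TrivSqZeroExt k M
    isLocalRing := isLocalRing_tsze k M
    isArtinianRing := isArtinianRing_tsze k M
    res := TrivSqZeroExt.fstHom Λ k M
    res_surjective := fun a => ⟨TrivSqZeroExt.inl a, rfl⟩ }

end Obj

section Hom

variable {M N P : Type u}
  [AddCommGroup M] [Module k M] [Module kᵐᵒᵖ M] [SMulCommClass k kᵐᵒᵖ M]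
  [IsCentralScalar k M] [Module Λ M] [IsScalarTower Λ k M] [IsScalarTower Λ kᵐᵒᵖ M]
  [Module.Finite k M]
  [AddCommGroup N] [Module k N] [Module kᵐᵒᵖ N] [SMulCommClass k kᵐᵒᵖ N]
  [IsCentralScalar k N] [Module Λ N] [IsScalarTower Λ k N] [IsScalarTower Λ kᵐᵒᵖ N]
  [Module.Finite k N]
  [AddCommGroup P] [Module k P] [Module kᵐᵒᵖ P] [SMulCommClass k kᵐᵒᵖ P]
  [IsCentralScalar k P] [Module Λ P] [IsScalarTower Λ k P] [IsScalarTower Λ kᵐᵒᵖ P]
  [Module.Finite k P]

/-- The morphism `k ⊕ M → k ⊕ N` induced by a linear map. -/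
def tH (f : M →ₗ[k] N) : tO Λ k M ⟶ tO Λ k N := ⟨tszeMap f, AlgHom.ext fun _ => rfl⟩

lemma tH_comp (f : M →ₗ[k] N) (g : N →ₗ[k] P) :
    (tH f : tO Λ k M ⟶ _) ≫ tH g = tH (g ∘ₗ f) :=
  hom_ext (AlgHom.ext fun _ => rfl)

lemma tH_id : (tH (LinearMap.id : M →ₗ[k] M) : tO Λ k M ⟶ _) = 𝟙 _ :=
  hom_ext (AlgHom.ext fun _ => rfl)

end Hom

section Main

variable {M : Type u}
  [AddCommGroup M] [Module k M] [Module kᵐᵒᵖ M] [SMulCommClass k kᵐᵒᵖ M]
  [IsCentralScalar k M] [Module Λ M] [IsScalarTower Λ k M] [IsScalarTower Λ kᵐᵒᵖ M]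
  [Module.Finite k M]

lemma map_tH_comp {N P : Type u}
    [AddCommGroup N] [Module k N] [Module kᵐᵒᵖ N] [SMulCommClass k kᵐᵒᵖ N]
    [IsCentralScalar k N] [Module Λ N] [IsScalarTower Λ k N] [IsScalarTower Λ kᵐᵒᵖ N]
    [Module.Finite k N]
    [AddCommGroup P] [Module k P] [Module kᵐᵒᵖ P] [SMulCommClass k kᵐᵒᵖ P]
    [IsCentralScalar k P] [Module Λ P] [IsScalarTower Λ k P] [IsScalarTower Λ kᵐᵒᵖ P]
    [Module.Finite k P]
    (F : Art Λ k ⥤ Type v) (f : M →ₗ[k] N) (g : N →ₗ[k] P) (u : F.obj (tO Λ k M)) :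
    F.map (tH g) (F.map (tH f) u) = F.map (tH (g ∘ₗ f)) u := by
  rw [← Functor.map_comp_apply, tH_comp]

lemma map_tH_id (F : Art Λ k ⥤ Type v) (u : F.obj (tO Λ k M)) :
    F.map (tH (LinearMap.id : M →ₗ[k] M)) u = u := by
  rw [tH_id, Functor.map_id_apply]

/-- `k[ε₁, ε₂] = k[ε] ×_k k[ε]` (restated). -/
theorem isFibreProd_dual2' :
    IsFibreProd (tH (LinearMap.fst k k k) : tO Λ k (k × k) ⟶ tO Λ k k)
      (tH (LinearMap.snd k k k) : tO Λ k (k × k) ⟶ tO Λ k k)
      (toBase _) (toBase _) :=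
  isFibreProd_dual2

/-- `k[ε₁, ε₂, ε₃] = k[ε₁, ε₂] ×_k k[ε]`. -/
theorem isFibreProd_dual3 :
    IsFibreProd (tH (LinearMap.fst k (k × k) k) : tO Λ k ((k × k) × k) ⟶ tO Λ k (k × k))
      (tH (LinearMap.snd k (k × k) k) : tO Λ k ((k × k) × k) ⟶ tO Λ k k)
      (toBase _) (toBase _) where
  w := by rw [eq_toBase (tH _ ≫ toBase _), eq_toBase (tH _ ≫ toBase _)]
  inj b₁ b₂ h₁ h₂ := by
    have e₁ : b₁.fst = b₂.fst := by have e := congrArg TrivSqZeroExt.fst h₁; exact e
    have e₂ : b₁.snd.1 = b₂.snd.1 := by have e := congrArg TrivSqZeroExt.snd h₁; exact e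
    have e₃ : b₁.snd.2 = b₂.snd.2 := by have e := congrArg TrivSqZeroExt.snd h₂; exact e
    exact TrivSqZeroExt.ext e₁ (Prod.ext e₂ e₃)
  surj a' a'' h := by
    have h' : a'.fst = a''.fst := h
    exact ⟨(a'.fst, (a'.snd, a''.snd)), TrivSqZeroExt.ext rfl rfl, TrivSqZeroExt.ext h' rfl⟩

variable {F : Art Λ k ⥤ Type v}

/-- `H_ε`, restated with `tO Λ k k` in place of `dual Λ k`. -/
def Heps' (F : Art Λ k ⥤ Type v) : Prop :=
  ∀ ⦃B A' : Art Λ k⦄ (p' : B ⟶ A') (p'' : B ⟶ tO Λ k k)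
    (h : IsFibreProd p' p'' (toBase A') (toBase (tO Λ k k))), Function.Bijective (cmp F h)

lemma heps'_of_heps (h : Heps F) : Heps' F := h

section WithH

variable (h0 : H0 F) (h2 : Heps' F)

include h0 in
lemma fibProd_mem {A B : Art Λ k} (x : F.obj A) (y : F.obj B) :
    F.map (toBase A) x = F.map (toBase B) y :=
  h0.2.elim _ _

include h0 h2 in
lemma exists_pair (x y : F.obj (tO Λ k k)) :
    ∃ z : F.obj (tO Λ k (k × k)), F.map (tH (LinearMap.fst k k k)) z = x ∧
      F.map (tH (LinearMap.snd k k k)) z = y := by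
  obtain ⟨z, hz⟩ := (h2 _ _ isFibreProd_dual2').2 ⟨(x, y), fibProd_mem h0 x y⟩
  exact ⟨z, congrArg (fun t : FibProd F _ _ => t.1.1) hz,
    congrArg (fun t : FibProd F _ _ => t.1.2) hz⟩

include h2 in
lemma pair_ext (z z' : F.obj (tO Λ k (k × k)))
    (e1 : F.map (tH (LinearMap.fst k k k)) z = F.map (tH (LinearMap.fst k k k)) z')
    (e2 : F.map (tH (LinearMap.snd k k k)) z = F.map (tH (LinearMap.snd k k k)) z') : z = z' :=
  (h2 _ _ isFibreProd_dual2').1 (FibProd.ext e1 e2)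

include h0 h2 in
lemma exists_triple (x y w : F.obj (tO Λ k k)) :
    ∃ t : F.obj (tO Λ k ((k × k) × k)),
      F.map (tH (LinearMap.fst k k k ∘ₗ LinearMap.fst k (k × k) k)) t = x ∧
      F.map (tH (LinearMap.snd k k k ∘ₗ LinearMap.fst k (k × k) k)) t = y ∧
      F.map (tH (LinearMap.snd k (k × k) k)) t = w := by
  obtain ⟨z, hz1, hz2⟩ := exists_pair h0 h2 x y
  obtain ⟨t, ht⟩ := (h2 _ _ isFibreProd_dual3).2 ⟨(z, w), fibProd_mem h0 z w⟩
  have ht1 : F.map (tH (LinearMap.fst k (k × k) k)) t = z :=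
    congrArg (fun t : FibProd F _ _ => t.1.1) ht
  have ht2 : F.map (tH (LinearMap.snd k (k × k) k)) t = w :=
    congrArg (fun t : FibProd F _ _ => t.1.2) ht
  refine ⟨t, ?_, ?_, ht2⟩
  · rw [← hz1, ← ht1, map_tH_comp]
  · rw [← hz2, ← ht1, map_tH_comp]

/-- The sum of two tangent vectors. -/
noncomputable def add (x y : F.obj (tO Λ k k)) : F.obj (tO Λ k k) :=
  F.map (tH (LinearMap.fst k k k + LinearMap.snd k k k)) (Classical.choose (exists_pair h0 h2 x y))

lemma add_eq_of {x y : F.obj (tO Λ k k)} (z : F.obj (tO Λ k (k × k)))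
    (hx : F.map (tH (LinearMap.fst k k k)) z = x)
    (hy : F.map (tH (LinearMap.snd k k k)) z = y) :
    add h0 h2 x y = F.map (tH (LinearMap.fst k k k + LinearMap.snd k k k)) z := by
  have hc := Classical.choose_spec (exists_pair h0 h2 x y)
  unfold add
  congr 1
  apply pair_ext h2
  · rw [hc.1, hx]
  · rw [hc.2, hy]

/-- The master formula: sums of images of one element. -/
lemma add_master (g₁ g₂ : M →ₗ[k] k) (u : F.obj (tO Λ k M)) :
    add h0 h2 (F.map (tH g₁) u) (F.map (tH g₂) u) = F.map (tH (g₁ + g₂)) u := by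
  rw [add_eq_of h0 h2 (F.map (tH (g₁.prod g₂)) u)
    (by rw [map_tH_comp, LinearMap.fst_prod]) (by rw [map_tH_comp, LinearMap.snd_prod]),
    map_tH_comp]
  have e : (LinearMap.fst k k k + LinearMap.snd k k k) ∘ₗ g₁.prod g₂ = g₁ + g₂ := by
    ext m
    simp
  rw [e]

/-- The inclusion `k → k[ε]`, restated. -/
def bD : base Λ k ⟶ tO Λ k k := baseToDual

/-- The zero tangent vector. -/
noncomputable def zero : F.obj (tO Λ k k) := F.map bD (Classical.choice h0.1)

lemma map_tH_zero (u : F.obj (tO Λ k M)) :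
    F.map (tH (0 : M →ₗ[k] k)) u = zero h0 := by
  have e : (tH (0 : M →ₗ[k] k) : tO Λ k M ⟶ tO Λ k k) = toBase (tO Λ k M) ≫ bD := by
    apply hom_ext
    apply AlgHom.ext
    intro x
    exact TrivSqZeroExt.ext rfl rfl
  rw [e, Functor.map_comp_apply]
  unfold zero
  congr 1
  exact h0.2.elim _ _

end WithH

section Structure

variable (h0 : H0 F) (h2 : Heps' F)

/-- Scalar multiplication on tangent vectors. -/
def smul (c : k) (x : F.obj (tO Λ k k)) : F.obj (tO Λ k k) :=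
  F.map (tH (c • (LinearMap.id : k →ₗ[k] k))) x

lemma add_comm' (x y : F.obj (tO Λ k k)) : add h0 h2 x y = add h0 h2 y x := by
  obtain ⟨z, rfl, rfl⟩ := exists_pair h0 h2 x y
  rw [add_master, add_master, add_comm]

lemma zero_add' (x : F.obj (tO Λ k k)) : add h0 h2 (zero h0) x = x := by
  have h := add_master h0 h2 (0 : k →ₗ[k] k) LinearMap.id x
  rw [map_tH_zero, zero_add, map_tH_id] at h
  exact h

lemma neg_add_cancel' (x : F.obj (tO Λ k k)) : add h0 h2 (smul (-1) x) x = zero h0 := by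
  have h := add_master h0 h2 ((-1 : k) • (LinearMap.id : k →ₗ[k] k)) LinearMap.id x
  have e : ((-1 : k) • (LinearMap.id : k →ₗ[k] k) + LinearMap.id) = 0 := by
    ext
    simp
  rw [e, map_tH_zero, map_tH_id] at h
  exact h

lemma add_assoc' (x y w : F.obj (tO Λ k k)) :
    add h0 h2 (add h0 h2 x y) w = add h0 h2 x (add h0 h2 y w) := by
  obtain ⟨t, rfl, rfl, rfl⟩ := exists_triple h0 h2 x y w
  rw [add_master, add_master, add_master, add_master, add_assoc]

lemma smul_add' (c : k) (x y : F.obj (tO Λ k k)) :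
    smul c (add h0 h2 x y) = add h0 h2 (smul c x) (smul c y) := by
  obtain ⟨z, rfl, rfl⟩ := exists_pair h0 h2 x y
  unfold smul
  rw [add_master, map_tH_comp, map_tH_comp, map_tH_comp, add_master, LinearMap.comp_add]

lemma add_smul' (a b : k) (x : F.obj (tO Λ k k)) :
    smul (a + b) x = add h0 h2 (smul a x) (smul b x) := by
  unfold smul
  rw [add_master, add_smul]

lemma mul_smul' (a b : k) (x : F.obj (tO Λ k k)) : smul (a * b) x = smul a (smul b x) := by
  unfold smul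
  rw [map_tH_comp]
  have e : (a • (LinearMap.id : k →ₗ[k] k)) ∘ₗ (b • (LinearMap.id : k →ₗ[k] k)) =
      (a * b) • (LinearMap.id : k →ₗ[k] k) := by
    ext
    simp
  rw [e]

lemma one_smul' (x : F.obj (tO Λ k k)) : smul (1 : k) x = x := by
  unfold smul
  rw [one_smul, map_tH_id]

/-- The additive group structure on the tangent space. -/
noncomputable def addCommGroup : AddCommGroup (F.obj (tO Λ k k)) :=
  letI : Add (F.obj (tO Λ k k)) := ⟨add h0 h2⟩
  letI : Zero (F.obj (tO Λ k k)) := ⟨zero h0⟩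
  letI : Neg (F.obj (tO Λ k k)) := ⟨smul (-1)⟩
  { AddGroup.ofLeftAxioms (add_assoc' h0 h2) (zero_add' h0 h2) (neg_add_cancel' h0 h2) with
    add_comm := add_comm' h0 h2 }

/-- The module structure on the tangent space. -/
noncomputable def module :
    letI := addCommGroup h0 h2
    Module k (F.obj (tO Λ k k)) :=
  letI := addCommGroup h0 h2
  letI : SMul k (F.obj (tO Λ k k)) := ⟨smul⟩
  Module.ofMinimalAxioms (smul_add' h0 h2) (add_smul' h0 h2) mul_smul' one_smul'

/-- The tangent-space structure. -/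
noncomputable def tangentStr (h0 : H0 F) (h2 : Heps F) : TangentStr F where
  addCommGroup := addCommGroup h0 (heps'_of_heps h2)
  module := module h0 (heps'_of_heps h2)
  smul_eq := fun _ _ => rfl
  add_eq := fun z => add_eq_of h0 (heps'_of_heps h2) z rfl rfl

end Structure

end Main

end Groth.Agent.Lib.Helper9.TanStr
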